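import Mathlib

/-!
# A Frobenius-type fixed point lemma

If `⟨ξ⟩` of prime order `r` acts on a group `P` without non-trivial fixed points, and `P ⋊ ⟨ξ⟩` acts
on an abelian group `N` of order prime to `|P|` with `ξ` fixed-point-free on `N`, then `P` acts
trivially on `N`.
-/

set_option autoImplicit false
set_option linter.unusedSectionVars false
set_option linter.style.haveILetI false

namespace Cfsg.Agent.Lib.Helper56.HH

section Frob

variable {N : Type*} [CommGroup N] [Finite N]
variable {P : Type*} [Group P] [Finite P]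

theorem twist_pow (φ : P →* MulAut N) (ξ : MulAut N) (τ : MulAut P)
    (hτ : ∀ e, ξ * φ e = φ (τ e) * ξ) (i : ℕ) (e : P) :
    ξ ^ i * φ e = φ ((τ ^ i) e) * ξ ^ i := by
  induction i generalizing e with
  | zero => simp
  | succ i ih =>
    rw [pow_succ, mul_assoc, hτ, ← mul_assoc, ih, mul_assoc, pow_succ, MulAut.mul_apply]

theorem norm_eq_one (ξ : MulAut N) (r : ℕ) (hξr : ξ ^ r = 1)
    (hfix : ∀ v : N, ξ v = v → v = 1) (v : N) :
    ∏ i ∈ Finset.range r, (ξ ^ i) v = 1 := by
  apply hfix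
  rw [map_prod]
  have h1 : ∀ i, ξ ((ξ ^ i) v) = (ξ ^ (i + 1)) v := by
    intro i
    rw [pow_succ', MulAut.mul_apply]
  simp_rw [h1]
  have h2 := Finset.prod_range_succ' (fun i => (ξ ^ i) v) r
  have h3 := Finset.prod_range_succ (fun i => (ξ ^ i) v) r
  rw [h3] at h2
  simp only [hξr, pow_zero, MulAut.one_apply] at h2
  exact (mul_right_cancel h2).symm

theorem fix_of_pow_fix (τ : MulAut P) (r : ℕ) (hr : r.Prime) (hτr : τ ^ r = 1)
    (i : ℕ) (hi0 : 0 < i) (hir : i < r) (a : P) (ha : (τ ^ i) a = a) : τ a = a := by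
  have hcop : Nat.Coprime i r := by
    rw [Nat.coprime_comm]
    exact (Nat.Prime.coprime_iff_not_dvd hr).2 (fun h => by
      have := Nat.le_of_dvd hi0 h
      omega)
  -- `τ ∈ zpowers (τ ^ i)`
  have hord : orderOf τ ∣ r := orderOf_dvd_of_pow_eq_one hτr
  have hcop' : Nat.Coprime (orderOf τ) i := (Nat.Coprime.coprime_dvd_left hord hcop.symm)
  have hmem : τ ∈ Subgroup.zpowers (τ ^ i) := by
    have : Subgroup.zpowers (τ ^ i) = Subgroup.zpowers τ := by
      apply le_antisymm
      · rw [Subgroup.zpowers_le]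
        exact Subgroup.pow_mem _ (Subgroup.mem_zpowers τ) i
      · haveI : Finite (Subgroup.zpowers τ) := by
          have : IsOfFinOrder τ := isOfFinOrder_iff_pow_eq_one.2 ⟨r, hr.pos, hτr⟩
          exact this.finite_zpowers
        have h1 : orderOf (τ ^ i) = orderOf τ := hcop'.orderOf_pow
        have hle : Subgroup.zpowers (τ ^ i) ≤ Subgroup.zpowers τ := by
          rw [Subgroup.zpowers_le]
          exact Subgroup.pow_mem _ (Subgroup.mem_zpowers τ) i
        have hcard : Nat.card (Subgroup.zpowers τ) ≤ Nat.card (Subgroup.zpowers (τ ^ i)) := by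
          rw [Nat.card_zpowers, Nat.card_zpowers, h1]
        exact (Subgroup.eq_of_le_of_card_ge hle hcard).ge
    rw [this]
    exact Subgroup.mem_zpowers τ
  obtain ⟨k, hk⟩ := Subgroup.mem_zpowers_iff.1 hmem
  have hstab : (τ ^ i) ∈ MulAction.stabilizer (MulAut P) a := ha
  have := Subgroup.zpow_mem _ hstab k
  rw [hk] at this
  exact this

theorem frobenius_fixed_point (φ : P →* MulAut N) (ξ : MulAut N) (τ : MulAut P)
    (hτ : ∀ e, ξ * φ e = φ (τ e) * ξ) (r : ℕ) (hr : r.Prime) (hξr : ξ ^ r = 1)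
    (hτr : τ ^ r = 1)
    (hτfix : ∀ a : P, τ a = a → a = 1) (hfix : ∀ v : N, ξ v = v → v = 1)
    (hcop : (Nat.card P).Coprime (Nat.card N)) (c : P) : φ c = 1 := by
  classical
  haveI : Fintype P := Fintype.ofFinite P
  -- the averaging operator
  set T : N → N := fun w => ∏ b : P, φ b w with hT
  have hTfix : ∀ (c : P) (w : N), φ c (T w) = T w := by
    intro c w
    simp only [hT, map_prod]
    have : ∀ b : P, φ c (φ b w) = φ (c * b) w := by
      intro b
      rw [map_mul, MulAut.mul_apply]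
    simp_rw [this]
    exact Fintype.prod_bijective (fun b => c * b) (Group.mulLeft_bijective c) _ _ (fun _ => rfl)
  -- conjugate norms vanish
  have hconj : ∀ (a : P) (v : N),
      ∏ i ∈ Finset.range r, φ (a * ((τ ^ i) a)⁻¹) ((ξ ^ i) v) = 1 := by
    intro a v
    have h1 : ∀ i, φ (a * ((τ ^ i) a)⁻¹) ((ξ ^ i) v) = φ a ((ξ ^ i) (φ a⁻¹ v)) := by
      intro i
      have h2 := twist_pow φ ξ τ hτ i a⁻¹
      have h3 := congrArg (fun f : MulAut N => f v) h2
      simp only [MulAut.mul_apply] at h3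
      rw [h3, map_mul, MulAut.mul_apply, map_inv, map_inv, map_inv]
    simp_rw [h1]
    rw [← map_prod, norm_eq_one ξ r hξr hfix, map_one]
  have hbij : ∀ i, 0 < i → i < r → Function.Bijective (fun a : P => a * ((τ ^ i) a)⁻¹) := by
    intro i hi0 hir
    apply Function.Injective.bijective_of_finite
    intro a b hab
    simp only at hab
    have h1 : (τ ^ i) (b⁻¹ * a) = b⁻¹ * a := by
      rw [map_mul, map_inv]
      have : ((τ ^ i) b)⁻¹ * (τ ^ i) a = b⁻¹ * a := by
        have h2 : a = b * ((τ ^ i) b)⁻¹ * (τ ^ i) a := by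
          rw [← hab]
          group
        calc ((τ ^ i) b)⁻¹ * (τ ^ i) a = b⁻¹ * (b * ((τ ^ i) b)⁻¹ * (τ ^ i) a) := by group
          _ = b⁻¹ * a := by rw [← h2]
      exact this
    have h2 := hτfix _ (fix_of_pow_fix τ r hr hτr i hi0 hir _ h1)
    have : a = b * (b⁻¹ * a) := by group
    rw [this, h2, mul_one]
  -- the main identity
  have hmain : ∀ v : N, v ^ Nat.card P * ∏ i ∈ Finset.range (r - 1), T ((ξ ^ (i + 1)) v) = 1 := by
    intro v
    have h1 : ∏ a : P, ∏ i ∈ Finset.range r, φ (a * ((τ ^ i) a)⁻¹) ((ξ ^ i) v) = 1 := by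
      apply Finset.prod_eq_one
      intro a _
      exact hconj a v
    rw [Finset.prod_comm] at h1
    obtain ⟨r', rfl⟩ : ∃ r', r = r' + 1 := ⟨r - 1, by have := hr.pos; omega⟩
    rw [Finset.prod_range_succ'] at h1
    simp only [pow_zero, MulAut.one_apply, mul_inv_cancel, map_one, Finset.prod_const,
      Finset.card_univ] at h1
    rw [Nat.add_sub_cancel, mul_comm, Nat.card_eq_fintype_card]
    rw [← h1]
    congr 1
    apply Finset.prod_congr rfl
    intro i hi
    rw [Finset.mem_range] at hi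
    simp only [hT]
    exact (Fintype.prod_bijective _ (hbij (i + 1) (by omega) (by omega)) _ _ (fun _ => rfl)).symm
  -- conclude
  have hpowfix : ∀ (c : P) (v : N), φ c (v ^ Nat.card P) = v ^ Nat.card P := by
    intro c v
    have h1 : v ^ Nat.card P = (∏ i ∈ Finset.range (r - 1), T ((ξ ^ (i + 1)) v))⁻¹ :=
      eq_inv_of_mul_eq_one_left (hmain v)
    rw [h1, map_inv, map_prod]
    congr 1
    apply Finset.prod_congr rfl
    intro i _
    exact hTfix c _
  ext v
  rw [MulAut.one_apply]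
  set u := φ c v * v⁻¹ with hu
  have hu1 : u ^ Nat.card P = 1 := by
    rw [hu, mul_pow, ← map_pow, hpowfix c v, inv_pow, mul_inv_cancel]
  have hu2 : u ^ Nat.card N = 1 := pow_card_eq_one'
  have h3 : orderOf u ∣ 1 := by
    have := Nat.dvd_gcd (orderOf_dvd_of_pow_eq_one hu1) (orderOf_dvd_of_pow_eq_one hu2)
    rwa [hcop.gcd_eq_one] at this
  have h4 : u = 1 := orderOf_eq_one_iff.1 (Nat.dvd_one.1 h3)
  rw [hu] at h4
  exact mul_inv_eq_one.1 h4

end Frob

end Cfsg.Agent.Lib.Helper56.HH
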