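import Cfsg.Agent.Lib.Helper56.HHExtra
import Cfsg.Agent.Lib.Helper56.HHFrob
import Cfsg.Agent.Lib.Helper29.HyperplaneInt
import Cfsg.Agent.Lib.Helper03.PGroupFrattini
import Cfsg.Agent.Lib.Helper72.Frattini
import Cfsg.Agent.S0094

/-!
# Sixth layer: a special group with an irreducible action, inside a finite group
-/

set_option autoImplicit false
set_option linter.unusedSectionVars false
set_option linter.style.haveILetI false

namespace Cfsg.Agent.Lib.Helper56.HH

open scoped commutatorElement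

section Helpers

variable {G : Type*} [Group G]

theorem le_normalizer_of_conj_mem (K H : Subgroup G)
    (h : ∀ k ∈ K, ∀ a ∈ H, k * a * k⁻¹ ∈ H) : K ≤ Subgroup.normalizer (H : Set G) := by
  intro k hk
  rw [Subgroup.mem_normalizer_iff]
  intro a
  constructor
  · exact h k hk a
  · intro ha
    have := h k⁻¹ (inv_mem hk) _ ha
    simpa [mul_assoc] using this

theorem mem_normalizer_of_conj_mem (g : G) (H : Subgroup G)
    (h1 : ∀ a ∈ H, g * a * g⁻¹ ∈ H) (h2 : ∀ a ∈ H, g⁻¹ * a * g ∈ H) :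
    g ∈ Subgroup.normalizer (H : Set G) := by
  rw [Subgroup.mem_normalizer_iff]
  intro a
  constructor
  · exact h1 a
  · intro ha
    have := h2 _ ha
    simpa [mul_assoc] using this

/-- If `g` normalizes `V` and centralizes `B` then it normalizes `C_V(B)`. -/
theorem mem_normalizer_inf_centralizer (V B : Subgroup G) (g : G)
    (hgV : g ∈ Subgroup.normalizer (V : Set G)) (hgB : ∀ b ∈ B, g * b = b * g) :
    g ∈ Subgroup.normalizer ((V ⊓ Subgroup.centralizer (B : Set G) : Subgroup G) : Set G) := by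
  rw [Subgroup.mem_normalizer_iff]
  intro a
  rw [Subgroup.mem_inf, Subgroup.mem_inf, Subgroup.mem_centralizer_iff,
    Subgroup.mem_centralizer_iff]
  have h1 := Subgroup.mem_normalizer_iff.1 hgV a
  have e3 : ∀ b ∈ B, g⁻¹ * b = b * g⁻¹ := by
    intro b hb
    have e2 := hgB b hb
    calc g⁻¹ * b = g⁻¹ * (b * g) * g⁻¹ := by group
      _ = g⁻¹ * (g * b) * g⁻¹ := by rw [e2]
      _ = b * g⁻¹ := by group
  constructor
  · rintro ⟨haV, haB⟩
    refine ⟨h1.1 haV, ?_⟩
    intro b hb
    have e1 := haB b hb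
    have e2 := hgB b hb
    calc b * (g * a * g⁻¹) = (b * g) * a * g⁻¹ := by group
      _ = (g * b) * a * g⁻¹ := by rw [e2]
      _ = g * (b * a) * g⁻¹ := by group
      _ = g * (a * b) * g⁻¹ := by rw [e1]
      _ = g * a * (b * g⁻¹) := by group
      _ = g * a * (g⁻¹ * b) := by rw [e3 b hb]
      _ = g * a * g⁻¹ * b := by group
  · rintro ⟨haV, haB⟩
    refine ⟨h1.2 haV, ?_⟩
    intro b hb
    have e1 := haB b hb
    have e2 := hgB b hb
    calc b * a = g⁻¹ * (g * b) * a := by group
      _ = g⁻¹ * (b * g) * a := by rw [e2]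
      _ = g⁻¹ * (b * (g * a * g⁻¹)) * g := by group
      _ = g⁻¹ * ((g * a * g⁻¹) * b) * g := by rw [e1]
      _ = a * (g⁻¹ * b) * g := by group
      _ = a * (b * g⁻¹) * g := by rw [e3 b hb]
      _ = a * b := by group

/-- A twisted fixed point has `r`-torsion twist. -/
theorem twist_pow_eq_one (x e c : G) (r : ℕ) (hxr : x ^ r = 1) (hcx : x * c = c * x)
    (hconj : x * e * x⁻¹ = e * c⁻¹) : c ^ r = 1 := by
  have hpow : ∀ k : ℕ, x ^ k * e * (x ^ k)⁻¹ = e * (c ^ k)⁻¹ := by
    intro k
    induction k with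
    | zero => simp
    | succ k ih =>
      have hcx' : x * (c ^ k)⁻¹ * x⁻¹ = (c ^ k)⁻¹ := by
        have hcm : Commute x c := hcx
        have := (hcm.pow_right k).inv_right
        rw [this.eq]
        group
      calc x ^ (k + 1) * e * (x ^ (k + 1))⁻¹
          = x * (x ^ k * e * (x ^ k)⁻¹) * x⁻¹ := by
            rw [pow_succ']
            group
        _ = x * (e * (c ^ k)⁻¹) * x⁻¹ := by rw [ih]
        _ = (x * e * x⁻¹) * (x * (c ^ k)⁻¹ * x⁻¹) := by group
        _ = e * c⁻¹ * (c ^ k)⁻¹ := by rw [hconj, hcx']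
        _ = e * (c ^ (k + 1))⁻¹ := by
            rw [pow_succ, mul_inv_rev, mul_assoc]
  have := hpow r
  rw [hxr] at this
  simp only [one_mul, inv_one, mul_one] at this
  have h2 : (c ^ r)⁻¹ = 1 := by
    have h3 : e * 1 = e * (c ^ r)⁻¹ := by rw [mul_one]; exact this
    exact (mul_left_cancel h3).symm
  exact inv_eq_one.1 h2

theorem eq_one_of_pow_coprime {H : Type*} [Group H] (c : H) (m n : ℕ) (hm : c ^ m = 1)
    (hn : c ^ n = 1) (hcop : Nat.Coprime m n) : c = 1 := by
  have h3 : orderOf c ∣ 1 := by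
    have := Nat.dvd_gcd (orderOf_dvd_of_pow_eq_one hm) (orderOf_dvd_of_pow_eq_one hn)
    rwa [hcop.gcd_eq_one] at this
  exact orderOf_eq_one_iff.1 (Nat.dvd_one.1 h3)

theorem card_comap_mk' [Finite G] (N : Subgroup G) [N.Normal] (H : Subgroup (G ⧸ N)) :
    Nat.card (H.comap (QuotientGroup.mk' N)) = Nat.card N * Nat.card H := by
  have h1 : (H.comap (QuotientGroup.mk' N)).index = H.index :=
    Subgroup.index_comap_of_surjective H (QuotientGroup.mk'_surjective N)
  have h2 := Subgroup.card_mul_index (H.comap (QuotientGroup.mk' N))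
  have h3 := Subgroup.card_mul_index H
  have h4 : Nat.card G = Nat.card (G ⧸ N) * Nat.card N :=
    Subgroup.card_eq_card_quotient_mul_card_subgroup N
  have hpos : 0 < H.index := Nat.pos_of_ne_zero Subgroup.index_ne_zero_of_finite
  rw [h1, h4, ← h3] at h2
  apply Nat.eq_of_mul_eq_mul_right hpos
  rw [h2]; ring

end Helpers

section Special

variable {G : Type*} [Group G] [Finite G]

/-- **Sixth layer.** `P` is a special `q`-subgroup of `G`, `x` of order dividing the prime `r`
normalizes `P`, centralizes `Z(P)` and acts irreducibly and nontrivially on `P / Z(P)`;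
`V` is an elementary abelian `p`-subgroup normalized by `P` and `x`, faithful for `P`.
If `C_V(x) = 1` then `q = 2` and `r` is a Fermat prime. -/
theorem special_fixed_point_free (p q r : ℕ) [Fact p.Prime] [Fact q.Prime]
    (hr : r.Prime) (hqp : q ≠ p) (hrp : r ≠ p) (hqr : q ≠ r)
    (P V : Subgroup G) (x : G)
    (hsp : Cfsg.IsSpecial q ↥P) (hP1 : P ≠ ⊥)
    (hxP : x ∈ Subgroup.normalizer (P : Set G)) (hxr : x ^ r = 1)
    (hxZ : ∀ z : P, z ∈ Subgroup.center ↥P → x * z = z * x)
    (hirr : ∀ U : Subgroup G, (Subgroup.center ↥P).map P.subtype ≤ U → U ≤ P →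
      x ∈ Subgroup.normalizer (U : Set G) → U = (Subgroup.center ↥P).map P.subtype ∨ U = P)
    (hPX : ∃ e ∈ P, x * e ≠ e * x)
    (hVc : ∀ a ∈ V, ∀ b ∈ V, a * b = b * a) (hVp : ∀ a ∈ V, a ^ p = 1)
    (hPV : P ≤ Subgroup.normalizer (V : Set G)) (hxV : x ∈ Subgroup.normalizer (V : Set G))
    (hfaith : P ⊓ Subgroup.centralizer (V : Set G) = ⊥)
    (hCV : ∀ v ∈ V, x * v = v * x → v = 1) :
    q = 2 ∧ ∃ n : ℕ, r = 2 ^ n + 1 := by
  classical
  have hq : q.Prime := Fact.out
  have hp : p.Prime := Fact.out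
  have hPq : IsPGroup q ↥P := hsp.1
  set Z : Subgroup G := (Subgroup.center ↥P).map P.subtype with hZ
  have hZP : Z ≤ P := Subgroup.map_subtype_le _
  have hmemZ : ∀ g : G, g ∈ Z ↔ ∃ h : g ∈ P, (⟨g, h⟩ : P) ∈ Subgroup.center ↥P := by
    intro g
    constructor
    · rintro ⟨z, hz, rfl⟩
      exact ⟨z.2, hz⟩
    · rintro ⟨h, hz⟩
      exact ⟨⟨g, h⟩, hz, rfl⟩
  have hZcent : ∀ z ∈ Z, ∀ a ∈ P, z * a = a * z := by
    intro z hz a ha
    obtain ⟨h, hz'⟩ := (hmemZ z).1 hz
    have := Subgroup.mem_center_iff.1 hz' ⟨a, ha⟩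
    exact (congrArg Subtype.val this).symm
  have hZx : ∀ z ∈ Z, x * z = z * x := by
    intro z hz
    obtain ⟨h, hz'⟩ := (hmemZ z).1 hz
    exact hxZ ⟨z, h⟩ hz'
  have hZq : ∀ z ∈ Z, z ^ q = 1 := by
    intro z hz
    obtain ⟨h, hz'⟩ := (hmemZ z).1 hz
    have := Cfsg.Agent.S0094.result hsp ⟨z, h⟩ hz'
    simpa using congrArg Subtype.val this
  haveI hPnt : Nontrivial ↥P := (Subgroup.nontrivial_iff_ne_bot P).2 hP1
  have hcen_ne_bot : Subgroup.center ↥P ≠ ⊥ := by
    haveI := hPq.center_nontrivial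
    exact (Subgroup.nontrivial_iff_ne_bot _).1 inferInstance
  have hcen_ne_top : Subgroup.center ↥P ≠ ⊤ := by
    intro htop
    have h1 : commutator ↥P = ⊥ := (commutator_eq_bot_iff_center_eq_top ↥P).2 htop
    rw [hsp.2.2] at h1
    exact hcen_ne_bot h1
  have hZ1 : Z ≠ ⊥ := by
    intro h
    apply hcen_ne_bot
    rw [hZ] at h
    exact (Subgroup.map_eq_bot_iff_of_injective _ (Subgroup.subtype_injective P)).1 h
  have hZneP : Z ≠ P := by
    intro h
    apply hcen_ne_top
    rw [eq_top_iff]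
    intro a _
    have : (a : G) ∈ Z := by rw [h]; exact a.2
    obtain ⟨_, h2⟩ := (hmemZ a).1 this
    exact h2
  -- the hyperplane
  have hZc : ∀ a ∈ Z, ∀ b ∈ Z, a * b = b * a := fun a ha b hb => hZcent a ha b (hZP hb)
  have hVpg : IsPGroup p V := by
    intro v
    refine ⟨1, ?_⟩
    rw [pow_one]
    exact Subtype.ext (by simpa using hVp v v.2)
  have hZV : Z ≤ Subgroup.normalizer (V : Set G) := hZP.trans hPV
  set D : Subgroup G := V ⊓ Subgroup.centralizer (Z : Set G) with hD
  have hND : V ≤ Subgroup.normalizer (D : Set G) := by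
    apply le_normalizer_of_conj_mem
    intro v hv a ha
    have : v * a * v⁻¹ = a := by
      rw [hVc v hv a ha.1]
      group
    rw [this]
    exact ha
  have hZD : Z ≤ Subgroup.normalizer (D : Set G) := by
    apply le_normalizer_of_conj_mem
    intro z hz a ha
    have h1 := Subgroup.mem_centralizer_iff.1 ha.2 z hz
    have : z * a * z⁻¹ = a := by
      rw [h1]
      group
    rw [this]
    exact ha
  have hne : D ≠ V := by
    intro h
    apply hZ1
    rw [eq_bot_iff, ← hfaith]
    intro z hz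
    refine Subgroup.mem_inf.2 ⟨hZP hz, ?_⟩
    rw [Subgroup.mem_centralizer_iff]
    intro v hv
    have hvD : v ∈ D := by rw [h]; exact hv
    exact (Subgroup.mem_centralizer_iff.1 hvD.2 z hz).symm
  obtain ⟨B, hBZ, hBcard, v₀, hv₀V, hv₀D, hBv₀⟩ :=
    Cfsg.Agent.Lib.Helper29.exists_hyperplane_fixed_section q p hqp Z V D hZc hZq hVpg
      inf_le_left hND hne hZV hZD
  have hBcent : ∀ b ∈ B, b * v₀ = v₀ * b := by
    intro b hb
    have := hBv₀ b hb
    calc b * v₀ = (b * v₀ * b⁻¹) * b := by group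
      _ = v₀ * b := by rw [this]
  obtain ⟨z₀, hz₀Z, hz₀v₀⟩ : ∃ z₀ ∈ Z, z₀ * v₀ ≠ v₀ * z₀ := by
    by_contra hcon
    push Not at hcon
    apply hv₀D
    refine Subgroup.mem_inf.2 ⟨hv₀V, ?_⟩
    rw [Subgroup.mem_centralizer_iff]
    exact hcon
  have hz₀B : z₀ ∉ B := fun h => hz₀v₀ (hBcent z₀ h)
  have hBP : B ≤ P := hBZ.trans hZP
  have hcardZB : Nat.card Z = q * Nat.card B := by
    have hZq' : IsPGroup q Z := hPq.to_le hZP
    have hBq' : IsPGroup q B := hPq.to_le hBP
    obtain ⟨a, ha⟩ := (IsPGroup.iff_card).1 hZq'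
    obtain ⟨b, hb⟩ := (IsPGroup.iff_card).1 hBq'
    have hlt : Nat.card B < Nat.card Z := by
      by_contra hge
      push Not at hge
      have := Subgroup.eq_of_le_of_card_ge hBZ hge
      rw [this] at hz₀B
      exact hz₀B hz₀Z
    rw [ha, hb] at hlt hBcard ⊢
    have h1 : b < a := (Nat.pow_lt_pow_iff_right hq.one_lt).1 hlt
    have h2 : a ≤ b + 1 := by
      rw [← pow_succ'] at hBcard
      exact (Nat.pow_le_pow_iff_right hq.one_lt).1 hBcard
    have : a = b + 1 := by omega
    rw [this, pow_succ']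
  have hBcentral : ∀ b ∈ B, ∀ a ∈ P, b * a = a * b := fun b hb a ha => hZcent b (hBZ hb) a ha
  have hBx : ∀ b ∈ B, x * b = b * x := fun b hb => hZx b (hBZ hb)
  have hxinvP : ∀ a ∈ P, x⁻¹ * a * x ∈ P := by
    intro a ha
    have := (Subgroup.mem_normalizer_iff.1 (inv_mem hxP) a).1 ha
    simpa using this
  have hxconjP : ∀ a ∈ P, x * a * x⁻¹ ∈ P := fun a ha =>
    (Subgroup.mem_normalizer_iff.1 hxP a).1 ha
  -- fixed points of `x` on `P` are central
  have hfixZ : ∀ e ∈ P, x * e = e * x → e ∈ Z := by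
    intro e he hxe
    set U₀ : Subgroup G := P ⊓ Subgroup.centralizer ({x} : Set G) with hU₀
    have hmemU₀ : ∀ g, g ∈ U₀ ↔ g ∈ P ∧ x * g = g * x := by
      intro g
      rw [hU₀, Subgroup.mem_inf, Subgroup.mem_centralizer_singleton_iff]
      constructor
      · rintro ⟨h1, h2⟩
        exact ⟨h1, h2.symm⟩
      · rintro ⟨h1, h2⟩
        exact ⟨h1, h2.symm⟩
    have h1 : Z ≤ U₀ := fun z hz => (hmemU₀ z).2 ⟨hZP hz, hZx z hz⟩
    have h2 : U₀ ≤ P := inf_le_left
    have h3 : x ∈ Subgroup.normalizer (U₀ : Set G) := by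
      apply mem_normalizer_of_conj_mem
      · intro a ha
        have ha' := (hmemU₀ a).1 ha
        have : x * a * x⁻¹ = a := by rw [ha'.2]; group
        rw [this]; exact ha
      · intro a ha
        have ha' := (hmemU₀ a).1 ha
        have : x⁻¹ * a * x = a := by rw [mul_assoc, ← ha'.2]; group
        rw [this]; exact ha
    rcases hirr U₀ h1 h2 h3 with h | h
    · rw [← h]
      exact (hmemU₀ e).2 ⟨he, hxe⟩
    · exfalso
      obtain ⟨e', he', hne'⟩ := hPX
      have : e' ∈ U₀ := by rw [h]; exact he'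
      exact hne' ((hmemU₀ e').1 this).2
  -- elements of `P` central modulo `B` are central
  have hcenB : ∀ e ∈ P, (∀ f ∈ P, e * f * e⁻¹ * f⁻¹ ∈ B) → e ∈ Z := by
    intro e he hef
    let A : Subgroup G :=
      { carrier := {g | g ∈ P ∧ ∀ f ∈ P, g * f * g⁻¹ * f⁻¹ ∈ B}
        one_mem' := by
          refine ⟨P.one_mem, ?_⟩
          intro f _
          simp
        mul_mem' := by
          rintro g₁ g₂ ⟨h1, h1'⟩ ⟨h2, h2'⟩
          refine ⟨P.mul_mem h1 h2, ?_⟩
          intro f hf
          have hb2 := h2' f hf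
          have hb1 := h1' f hf
          have hc := hBcentral _ hb2 g₁⁻¹ (P.inv_mem h1)
          have : g₁ * g₂ * f * (g₁ * g₂)⁻¹ * f⁻¹
              = (g₂ * f * g₂⁻¹ * f⁻¹) * (g₁ * f * g₁⁻¹ * f⁻¹) := by
            calc g₁ * g₂ * f * (g₁ * g₂)⁻¹ * f⁻¹
                = g₁ * ((g₂ * f * g₂⁻¹ * f⁻¹) * g₁⁻¹) * (g₁ * f * g₁⁻¹ * f⁻¹) := by group
              _ = g₁ * (g₁⁻¹ * (g₂ * f * g₂⁻¹ * f⁻¹)) * (g₁ * f * g₁⁻¹ * f⁻¹) := by rw [hc]
              _ = (g₂ * f * g₂⁻¹ * f⁻¹) * (g₁ * f * g₁⁻¹ * f⁻¹) := by group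
          rw [this]
          exact B.mul_mem hb2 hb1
        inv_mem' := by
          rintro g ⟨h1, h1'⟩
          refine ⟨P.inv_mem h1, ?_⟩
          intro f hf
          have hb1 := h1' f hf
          have hc := hBcentral _ hb1 g h1
          have hc' : Commute (g * f * g⁻¹ * f⁻¹) g := hc
          have hc'' := hc'.inv_left.eq
          have : g⁻¹ * f * g⁻¹⁻¹ * f⁻¹ = (g * f * g⁻¹ * f⁻¹)⁻¹ := by
            calc g⁻¹ * f * g⁻¹⁻¹ * f⁻¹ = g⁻¹ * ((g * f * g⁻¹ * f⁻¹)⁻¹ * g)  := by group
              _ = g⁻¹ * (g * (g * f * g⁻¹ * f⁻¹)⁻¹) := by rw [hc'']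
              _ = (g * f * g⁻¹ * f⁻¹)⁻¹ := by group
          rw [this]
          exact B.inv_mem hb1 }
    have hmemA : ∀ g, g ∈ A ↔ g ∈ P ∧ ∀ f ∈ P, g * f * g⁻¹ * f⁻¹ ∈ B := fun g => Iff.rfl
    have h1 : Z ≤ A := by
      intro z hz
      refine (hmemA z).2 ⟨hZP hz, ?_⟩
      intro f hf
      have : z * f * z⁻¹ * f⁻¹ = 1 := by
        rw [hZcent z hz f hf]; group
      rw [this]
      exact B.one_mem
    have h2 : A ≤ P := fun g hg => ((hmemA g).1 hg).1
    have h3 : x ∈ Subgroup.normalizer (A : Set G) := by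
      apply mem_normalizer_of_conj_mem
      · intro a ha
        obtain ⟨haP, haB⟩ := (hmemA a).1 ha
        refine (hmemA _).2 ⟨hxconjP a haP, ?_⟩
        intro f hf
        have hb := haB (x⁻¹ * f * x) (hxinvP f hf)
        have hbx := hBx _ hb
        have : x * a * x⁻¹ * f * (x * a * x⁻¹)⁻¹ * f⁻¹
            = a * (x⁻¹ * f * x) * a⁻¹ * (x⁻¹ * f * x)⁻¹ := by
          calc x * a * x⁻¹ * f * (x * a * x⁻¹)⁻¹ * f⁻¹
              = (x * (a * (x⁻¹ * f * x) * a⁻¹ * (x⁻¹ * f * x)⁻¹)) * x⁻¹ := by group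
            _ = ((a * (x⁻¹ * f * x) * a⁻¹ * (x⁻¹ * f * x)⁻¹) * x) * x⁻¹ := by rw [hbx]
            _ = a * (x⁻¹ * f * x) * a⁻¹ * (x⁻¹ * f * x)⁻¹ := by group
        rw [this]
        exact hb
      · intro a ha
        obtain ⟨haP, haB⟩ := (hmemA a).1 ha
        refine (hmemA _).2 ⟨hxinvP a haP, ?_⟩
        intro f hf
        have hb := haB (x * f * x⁻¹) (hxconjP f hf)
        have hbx := hBx _ hb
        have : x⁻¹ * a * x * f * (x⁻¹ * a * x)⁻¹ * f⁻¹
            = a * (x * f * x⁻¹) * a⁻¹ * (x * f * x⁻¹)⁻¹ := by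
          calc x⁻¹ * a * x * f * (x⁻¹ * a * x)⁻¹ * f⁻¹
              = x⁻¹ * ((a * (x * f * x⁻¹) * a⁻¹ * (x * f * x⁻¹)⁻¹) * x) := by group
            _ = x⁻¹ * (x * (a * (x * f * x⁻¹) * a⁻¹ * (x * f * x⁻¹)⁻¹)) := by rw [hbx]
            _ = a * (x * f * x⁻¹) * a⁻¹ * (x * f * x⁻¹)⁻¹ := by group
        rw [this]
        exact hb
    rcases hirr A h1 h2 h3 with h | h
    · rw [← h]
      exact (hmemA e).2 ⟨he, hef⟩
    · exfalso
      -- all commutators of `P` lie in `B`, so `Z ≤ B`
      apply hz₀B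
      have hcomm_le : commutator ↥P ≤ B.subgroupOf P := by
        rw [commutator_eq_closure, Subgroup.closure_le]
        rintro _ ⟨g₁, g₂, rfl⟩
        have hg₁ : (g₁ : G) ∈ A := by rw [h]; exact g₁.2
        have := ((hmemA _).1 hg₁).2 g₂ g₂.2
        show ⁅g₁, g₂⁆ ∈ B.subgroupOf P
        rw [Subgroup.mem_subgroupOf, commutatorElement_def]
        simpa using this
      obtain ⟨h0, hz0⟩ := (hmemZ z₀).1 hz₀Z
      rw [← hsp.2.2] at hz0
      have := hcomm_le hz0
      rwa [Subgroup.mem_subgroupOf] at this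
  -- the module `V₁ = C_V(B)`
  set V₁ : Subgroup G := V ⊓ Subgroup.centralizer (B : Set G) with hV₁
  have hPV₁ : P ≤ Subgroup.normalizer (V₁ : Set G) := by
    intro a ha
    exact mem_normalizer_inf_centralizer V B a (hPV ha) (fun b hb => (hBcentral b hb a ha).symm)
  have hxV₁ : x ∈ Subgroup.normalizer (V₁ : Set G) :=
    mem_normalizer_inf_centralizer V B x hxV hBx
  have hv₀V₁ : v₀ ∈ V₁ := by
    refine Subgroup.mem_inf.2 ⟨hv₀V, ?_⟩
    rw [Subgroup.mem_centralizer_iff]
    intro b hb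
    exact hBcent b hb
  -- the quotient `E = P / B`
  haveI hBn : (B.subgroupOf P).Normal := by
    refine ⟨fun n hn g => ?_⟩
    rw [Subgroup.mem_subgroupOf] at hn ⊢
    have := hBcentral _ hn g g.2
    have h2 : ((g * n * g⁻¹ : ↥P) : G) = n := by
      simp only [Subgroup.coe_mul, Subgroup.coe_inv]
      rw [← this]
      group
    rw [h2]
    exact hn
  have hcenE : ∀ e : ↥P, (QuotientGroup.mk e : ↥P ⧸ B.subgroupOf P) ∈
      Subgroup.center (↥P ⧸ B.subgroupOf P) ↔ e ∈ Subgroup.center ↥P := by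
    intro e
    constructor
    · intro he
      have hZe : (e : G) ∈ Z := by
        apply hcenB e e.2
        intro f hf
        have h1 := Subgroup.mem_center_iff.1 he (QuotientGroup.mk ⟨f, hf⟩)
        have h2 : (QuotientGroup.mk (e * ⟨f, hf⟩ * e⁻¹ * (⟨f, hf⟩ : ↥P)⁻¹) : ↥P ⧸ B.subgroupOf P)
            = 1 := by
          rw [QuotientGroup.mk_mul, QuotientGroup.mk_mul, QuotientGroup.mk_mul, ← h1,
            QuotientGroup.mk_inv, QuotientGroup.mk_inv]
          group
        rw [QuotientGroup.eq_one_iff, Subgroup.mem_subgroupOf] at h2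
        simpa using h2
      obtain ⟨_, h2⟩ := (hmemZ e).1 hZe
      exact h2
    · intro he
      rw [Subgroup.mem_center_iff]
      intro g
      induction g using QuotientGroup.induction_on with
      | H g =>
        rw [← QuotientGroup.mk_mul, ← QuotientGroup.mk_mul, Subgroup.mem_center_iff.1 he g]
  have hcomap : (Subgroup.center (↥P ⧸ B.subgroupOf P)).comap (QuotientGroup.mk' (B.subgroupOf P))
      = Subgroup.center ↥P := by
    ext e
    rw [Subgroup.mem_comap]
    exact hcenE e
  have hmapcen : (Subgroup.center ↥P).map (QuotientGroup.mk' (B.subgroupOf P))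
      = Subgroup.center (↥P ⧸ B.subgroupOf P) := by
    rw [← hcomap, Subgroup.map_comap_eq_self_of_surjective (QuotientGroup.mk'_surjective _)]
  have hE : Cfsg.IsExtraspecial q (↥P ⧸ B.subgroupOf P) := by
    have hEq : IsPGroup q (↥P ⧸ B.subgroupOf P) := hPq.to_quotient _
    have hcommE : commutator (↥P ⧸ B.subgroupOf P) = Subgroup.center (↥P ⧸ B.subgroupOf P) := by
      rw [← hmapcen, ← hsp.2.2, commutator_def, commutator_def, Subgroup.map_commutator,
        ← MonoidHom.range_eq_map, MonoidHom.range_eq_top.2 (QuotientGroup.mk'_surjective _)]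
    refine ⟨⟨hEq, ?_, hcommE⟩, ?_⟩
    · apply le_antisymm
      · apply Cfsg.Agent.Lib.Helper72.frattini_le_of_elementary_quotient q
        · intro g
          induction g using QuotientGroup.induction_on with
          | H g =>
            rw [← QuotientGroup.mk_pow, hcenE, ← hsp.2.1]
            exact Cfsg.Agent.Lib.Helper03.pow_mem_frattini_of_isPGroup hPq g
        · intro g₁ g₂
          rw [← hcommE, commutator_def]
          exact Subgroup.commutator_mem_commutator (Subgroup.mem_top _) (Subgroup.mem_top _)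
      · rw [← hcommE]
        exact Cfsg.Agent.Lib.Helper03.commutator_le_frattini_of_isPGroup hEq
    · have h1 := card_comap_mk' (B.subgroupOf P) (Subgroup.center (↥P ⧸ B.subgroupOf P))
      rw [hcomap] at h1
      have h2 : Nat.card (Subgroup.center ↥P) = Nat.card Z := by
        rw [hZ]
        exact (Subgroup.card_map_of_injective (Subgroup.subtype_injective P)).symm
      have h3 : Nat.card (B.subgroupOf P) = Nat.card B :=
        Nat.card_congr (Subgroup.subgroupOfEquivOfLe hBP).toEquiv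
      rw [h2, h3, hcardZB, mul_comm] at h1
      have hBpos : 0 < Nat.card B := Nat.card_pos
      exact (Nat.eq_of_mul_eq_mul_left hBpos h1).symm
  -- the action of `E` on `V₁`
  let φ₀ : ↥P →* MulAut ↥V₁ := conjHom V₁ P hPV₁
  have hker : B.subgroupOf P ≤ φ₀.ker := by
    intro b hb
    rw [Subgroup.mem_subgroupOf] at hb
    rw [MonoidHom.mem_ker]
    ext v
    rw [MulAut.one_apply]
    show ((conjHom V₁ P hPV₁ b v : ↥V₁) : G) = v
    rw [conjHom_coe]
    have hvB : (v : G) ∈ Subgroup.centralizer (B : Set G) := v.2.2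
    have := Subgroup.mem_centralizer_iff.1 hvB b hb
    rw [this]
    group
  let φ : (↥P ⧸ B.subgroupOf P) →* MulAut ↥V₁ := QuotientGroup.lift (B.subgroupOf P) φ₀ hker
  let τ₀ : MulAut ↥P := conjAut P x hxP
  have hτ₀B : (B.subgroupOf P).map (τ₀ : ↥P →* ↥P) = B.subgroupOf P := by
    ext b
    rw [Subgroup.mem_map]
    have hfixb : ∀ b : ↥P, b ∈ B.subgroupOf P → τ₀ b = b := by
      intro b hb
      rw [Subgroup.mem_subgroupOf] at hb
      apply Subtype.ext
      show ((conjAut P x hxP b : ↥P) : G) = b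
      rw [conjAut_coe, hBx _ hb]
      group
    constructor
    · rintro ⟨b', hb', rfl⟩
      have := hfixb b' hb'
      show τ₀ b' ∈ B.subgroupOf P
      rw [this]
      exact hb'
    · intro hb
      exact ⟨b, hb, hfixb b hb⟩
  let τ : (↥P ⧸ B.subgroupOf P) ≃* (↥P ⧸ B.subgroupOf P) :=
    QuotientGroup.congr (B.subgroupOf P) (B.subgroupOf P) τ₀ hτ₀B
  have hτmk : ∀ e : ↥P, τ (QuotientGroup.mk e) = QuotientGroup.mk (τ₀ e) := fun e => rfl
  have hφmk : ∀ e : ↥P, φ (QuotientGroup.mk e) = φ₀ e := fun e => rfl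
  have hres := extraspecial_fixed_point_free' (N := ↥V₁) (E := ↥P ⧸ B.subgroupOf P) p q r
    (by
      intro a b
      exact Subtype.ext (hVc a a.2.1 b b.2.1))
    (by
      intro a
      exact Subtype.ext (by simpa using hVp a a.2.1))
    hE φ (conjAut V₁ x hxV₁) τ
    (by
      intro e
      induction e using QuotientGroup.induction_on with
      | H e =>
        rw [hτmk, hφmk, hφmk]
        ext v
        simp only [MulAut.mul_apply]
        show ((conjAut V₁ x hxV₁ (conjHom V₁ P hPV₁ e v) : ↥V₁) : G)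
          = ((conjHom V₁ P hPV₁ (conjAut P x hxP e) (conjAut V₁ x hxV₁ v) : ↥V₁) : G)
        simp only [conjAut_coe, conjHom_coe]
        group)
    (by
      obtain ⟨h0, hz0⟩ := (hmemZ z₀).1 hz₀Z
      refine ⟨QuotientGroup.mk ⟨z₀, h0⟩, (hcenE _).2 hz0, ?_⟩
      intro h1
      rw [hφmk] at h1
      have h2 := congrArg (fun f : MulAut ↥V₁ => ((f ⟨v₀, hv₀V₁⟩ : ↥V₁) : G)) h1
      simp only [MulAut.one_apply] at h2
      have h3 : z₀ * v₀ * z₀⁻¹ = v₀ := h2
      apply hz₀v₀
      calc z₀ * v₀ = (z₀ * v₀ * z₀⁻¹) * z₀ := by group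
        _ = v₀ * z₀ := by rw [h3])
    (by
      intro z hz
      induction z using QuotientGroup.induction_on with
      | H z =>
        rw [hτmk]
        congr 1
        have hzc := (hcenE z).1 hz
        apply Subtype.ext
        show ((conjAut P x hxP z : ↥P) : G) = z
        rw [conjAut_coe, hxZ z hzc]
        group)
    (by
      intro e he
      induction e using QuotientGroup.induction_on with
      | H e =>
        rw [hτmk, ← QuotientGroup.mk_inv, ← QuotientGroup.mk_mul, hcenE] at he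
        rw [hcenE]
        set c : ↥P := (τ₀ e)⁻¹ * e with hc
        have hcx : x * (c : G) = c * x := hxZ c he
        have hconj : x * (e : G) * x⁻¹ = e * (c : G)⁻¹ := by
          have h1 : (c : G) = (x * (e : G) * x⁻¹)⁻¹ * e := by
            rw [hc]
            rfl
          rw [h1]
          group
        have hcr : (c : G) ^ r = 1 := twist_pow_eq_one x e c r hxr hcx hconj
        have hc1 : c = 1 := by
          obtain ⟨j, hj⟩ := hPq c
          have hcr' : c ^ r = 1 := Subtype.ext (by simpa using hcr)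
          exact eq_one_of_pow_coprime c r (q ^ j) hcr' hj
            (Nat.Coprime.pow_right j ((Nat.coprime_primes hr hq).2 hqr.symm))
        have hfixe : x * (e : G) = e * x := by
          have h1 := hconj
          rw [hc1] at h1
          simp only [Subgroup.coe_one, inv_one, mul_one] at h1
          calc x * (e : G) = (x * e * x⁻¹) * x := by group
            _ = e * x := by rw [h1]
        obtain ⟨_, h2⟩ := (hmemZ e).1 (hfixZ e e.2 hfixe)
        exact h2)
    hr hrp hqp (conjAut_pow V₁ x hxV₁ r hxr)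
    (by
      intro a ha
      have h1 : x * (a : G) * x⁻¹ = a := by
        have := congrArg Subtype.val ha
        rwa [conjAut_coe] at this
      have hfixa : x * (a : G) = a * x := by
        calc x * (a : G) = (x * a * x⁻¹) * x := by group
          _ = a * x := by rw [h1]
      exact Subtype.ext (hCV a a.2.1 hfixa))
  exact ⟨hres.1, hres.2.imp (fun n hn => hn.1)⟩

end Special

section FrobSub

variable {G : Type*} [Group G] [Finite G]

/-- In-group form of `frobenius_fixed_point`: if `x` of prime order `r` normalizes `P` and the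
abelian subgroup `V`, `P` normalizes `V`, `|P|` and `|V|` are coprime, `C_P(x) = 1` and
`C_V(x) = 1`, then `P` centralizes `V`. -/
theorem frobenius_sub (P V : Subgroup G) (x : G) (r : ℕ) (hr : r.Prime) (hxr : x ^ r = 1)
    (hxP : x ∈ Subgroup.normalizer (P : Set G)) (hxV : x ∈ Subgroup.normalizer (V : Set G))
    (hPV : P ≤ Subgroup.normalizer (V : Set G))
    (hVc : ∀ a ∈ V, ∀ b ∈ V, a * b = b * a)
    (hcop : (Nat.card P).Coprime (Nat.card V))
    (hCP : ∀ a ∈ P, x * a = a * x → a = 1) (hCV : ∀ v ∈ V, x * v = v * x → v = 1) :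
    P ≤ Subgroup.centralizer (V : Set G) := by
  letI : CommGroup ↥V :=
    { (inferInstance : Group ↥V) with mul_comm := fun a b => Subtype.ext (hVc a a.2 b b.2) }
  have key := frobenius_fixed_point (N := ↥V) (P := ↥P) (conjHom V P hPV) (conjAut V x hxV)
    (conjAut P x hxP)
    (by
      intro e
      ext v
      simp only [MulAut.mul_apply, conjAut_coe, conjHom_coe]
      group)
    r hr (conjAut_pow V x hxV r hxr) (conjAut_pow P x hxP r hxr)
    (by
      intro a ha
      have h1 : x * (a : G) * x⁻¹ = a := by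
        have := congrArg Subtype.val ha
        rwa [conjAut_coe] at this
      have hfixa : x * (a : G) = a * x := by
        calc x * (a : G) = (x * a * x⁻¹) * x := by group
          _ = a * x := by rw [h1]
      exact Subtype.ext (hCP a a.2 hfixa))
    (by
      intro a ha
      have h1 : x * (a : G) * x⁻¹ = a := by
        have := congrArg Subtype.val ha
        rwa [conjAut_coe] at this
      have hfixa : x * (a : G) = a * x := by
        calc x * (a : G) = (x * a * x⁻¹) * x := by group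
          _ = a * x := by rw [h1]
      exact Subtype.ext (hCV a a.2 hfixa))
    hcop
  intro c hc
  rw [Subgroup.mem_centralizer_iff]
  intro v hv
  have h1 := congrArg (fun f : MulAut ↥V => ((f ⟨v, hv⟩ : ↥V) : G)) (key ⟨c, hc⟩)
  simp only [conjHom_coe, MulAut.one_apply] at h1
  calc v * c = (c * v * c⁻¹) * c := by rw [h1]
    _ = c * v := by group

end FrobSub

end Cfsg.Agent.Lib.Helper56.HH
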