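import Mathlib
import Cfsg.Agent.Lib.Helper11.BG144Defs
import Cfsg.Agent.S1350

/-!
# K-144 pack, leaf C (137404, helper56): `N_σ = N_F` as soon as `N_σ` is nilpotent
-/

set_option autoImplicit false

namespace Cfsg.Agent.Lib.Helper56.BG144

open Cfsg Subgroup Cfsg.Agent.Lib.Helper11.BG144

variable {G : Type*} [Group G] [Finite G]

/-- a normal nilpotent Hall subgroup of a maximal subgroup `N` of a simple group is a `σ(N)`-group. -/
theorem mem_sigma_of_normal_nilpotent_hall (hs : IsSimpleGroup G) (N : Subgroup G) (hN : IsCoatom N)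
    (K : Subgroup ↥N) (hKn : K.Normal) (hKnil : Group.IsNilpotent ↥K)
    (hKco : (Nat.card ↥K).Coprime K.index) (p : ℕ) (hp : p.Prime) (hpK : p ∣ Nat.card ↥K) :
    p ∈ sigma N := by
  have : Fact p.Prime := ⟨hp⟩
  -- the Sylow `p`-subgroup of `K`
  obtain ⟨P⟩ : Nonempty (Sylow p ↥K) := inferInstance
  have hPn : (P : Subgroup ↥K).Normal :=
    Sylow.normal_of_normalizerCondition Group.normalizerCondition_of_isNilpotent P
  have hPc : (P : Subgroup ↥K).Characteristic := Sylow.characteristic_of_normal P hPn
  set Q : Subgroup ↥N := (P : Subgroup ↥K).map K.subtype with hQ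
  have hQn : Q.Normal := ConjAct.normal_of_characteristic_of_normal
  have hQp : IsPGroup p ↥Q := P.2.map K.subtype
  have hpKidx : ¬ p ∣ K.index := by
    intro h
    exact Nat.not_coprime_of_dvd_of_dvd hp.one_lt hpK h hKco
  have hQidx : ¬ p ∣ Q.index := by
    rw [hQ, Subgroup.index_map_subtype]
    intro h
    rcases (Nat.Prime.dvd_mul hp).mp h with h | h
    · exact P.not_dvd_index h
    · exact hpKidx h
  set S : Sylow p ↥N := hQp.toSylow hQidx with hS
  have hSQ : (S : Subgroup ↥N) = Q := rfl
  have hQne : Q ≠ ⊥ := by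
    intro h
    have h1 : Nat.card ↥Q = 1 := by rw [h]; exact Subgroup.card_bot
    have h2 : Nat.card ↥Q = Nat.card ↥(P : Subgroup ↥K) := Subgroup.card_subtype K _
    have h3 : ¬ p ∣ (P : Subgroup ↥K).index := P.not_dvd_index
    have h4 : Nat.card ↥(P : Subgroup ↥K) * (P : Subgroup ↥K).index = Nat.card ↥K :=
      Subgroup.card_mul_index _
    rw [← h2, h1, one_mul] at h4
    rw [h4] at h3
    exact h3 hpK
  refine ⟨hp, dvd_trans hpK (Subgroup.card_subgroup_dvd_card K), S, ?_⟩
  rw [hSQ]
  -- the normalizer of `Q` in `G` contains `N`, and is not `⊤`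
  have hle : N ≤ normalizer ((Q.map N.subtype : Subgroup G) : Set G) := by
    have h := Subgroup.le_normalizer_map (H := Q) N.subtype
    rw [Subgroup.normalizer_eq_top_iff.2 hQn, ← MonoidHom.range_eq_map, Subgroup.range_subtype] at h
    exact h
  have hne : normalizer ((Q.map N.subtype : Subgroup G) : Set G) ≠ ⊤ := by
    intro h
    have hnorm : (Q.map N.subtype).Normal := Subgroup.normalizer_eq_top_iff.1 h
    rcases hnorm.eq_bot_or_eq_top with h1 | h1
    · apply hQne
      rw [← Subgroup.comap_map_eq_self_of_injective N.subtype_injective Q, h1]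
      exact (MonoidHom.ker_eq_bot_iff N.subtype).2 N.subtype_injective
    · apply hN.1
      rw [eq_top_iff, ← h1]
      exact Subgroup.map_subtype_le Q
  rcases eq_or_lt_of_le hle with h | h
  · exact le_of_eq h.symm
  · exact absurd (hN.2 _ h) hne

/-- **K-144-C.** `N_σ = N_F` as soon as `N_σ` is nilpotent. -/
theorem sigmaCore_eq_fittingHallOf (hG : IsMinSimpleOddOrder G) : HC G := by
  intro N hN hnil
  have hs : IsSimpleGroup G := hG.2.1
  unfold sigmaCore fittingHallOf
  congr 1
  apply le_antisymm
  · -- `N_σ` is a normal nilpotent Hall subgroup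
    have hHall := (Cfsg.Agent.S1350.result hG N hN).1
    obtain ⟨-, hpi, hidx⟩ := hHall
    apply le_sSup
    refine ⟨inferInstance, ?_, ?_⟩
    · exact @Group.nilpotent_of_mulEquiv ↥(sigmaCore N) _ _ _ hnil
        (Subgroup.equivMapOfInjective (piCore (sigma N) ↥N) N.subtype N.subtype_injective).symm
    · apply Nat.coprime_of_dvd
      intro p hp h1 h2
      have hcard : Nat.card ↥(sigmaCore N) = Nat.card ↥(piCore (sigma N) ↥N) :=
        Subgroup.card_subtype N _
      have hrel : (sigmaCore N).relIndex N = (piCore (sigma N) ↥N).index := by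
        unfold Subgroup.relIndex Subgroup.subgroupOf sigmaCore
        rw [Subgroup.comap_map_eq_self_of_injective N.subtype_injective]
      have hmem : p ∈ sigma N := hpi p hp (by rw [hcard]; exact h1)
      exact hidx p hp hmem (by rw [hrel]; exact h2)
  · apply sSup_le
    intro K hK
    obtain ⟨hKn, hKnil, hKco⟩ := hK
    apply le_sSup
    refine ⟨hKn, ?_⟩
    intro p hp hpK
    exact mem_sigma_of_normal_nilpotent_hall hs N hN K hKn hKnil hKco p hp hpK

end Cfsg.Agent.Lib.Helper56.BG144
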