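import Mathlib
import Cfsg.Agent.Lib.Helper71.BG1366Defs
import Cfsg.Agent.Lib.Helper15.BG142Defs
import Cfsg.Agent.Lib.Helper55.Basic
import Cfsg.Agent.Lib.Helper57.BG142D4

/-!
# K-1366 pack, leaf M (136614, helper56): an abelian `κ(M)`-subgroup of `M` is cyclic
-/

set_option autoImplicit false

namespace Cfsg.Agent.Lib.Helper56.BG1366

open Cfsg Subgroup Cfsg.Agent.Lib.Helper55 Cfsg.Agent.Lib.Helper11.BG14D Cfsg.Agent.Lib.Helper11.BG144
  Cfsg.Agent.Lib.Helper31.BG147 Cfsg.Agent.Lib.Helper71.BG1366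

variable {G : Type*} [Group G] [Finite G]

/-- KEYSTONE 136614  K-1366-M. -/
theorem isCyclic_of_comm_kappa {M K : Subgroup G} (hM : IsCoatom M) (hKM : K ≤ M)
    (hκ : ∀ p : ℕ, p.Prime → p ∣ Nat.card K → p ∈ kappa M)
    (hc : ∀ a ∈ K, ∀ b ∈ K, a * b = b * a) : IsCyclic K := by
  have hZ : IsZGroup ↥K := by
    refine ⟨fun p hp P => ?_⟩
    haveI : Fact p.Prime := ⟨hp⟩
    by_cases hpK : p ∣ Nat.card K
    · exact (Cfsg.Agent.Lib.Helper57.BG142.kappa_facts hM (hκ p hp hpK)).2.2 K hKM P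
    · have h1 : Nat.card ↥(P : Subgroup ↥K) = 1 := by
        obtain ⟨k, hk⟩ := IsPGroup.iff_card.mp P.2
        have hdvd : Nat.card ↥(P : Subgroup ↥K) ∣ Nat.card ↥K := Subgroup.card_subgroup_dvd_card _
        rcases Nat.eq_zero_or_pos k with h0 | h0
        · rw [hk, h0, pow_zero]
        · exfalso
          apply hpK
          refine dvd_trans ?_ hdvd
          rw [hk]
          exact dvd_pow_self p (by omega)
      haveI : Subsingleton ↥(P : Subgroup ↥K) := (Nat.card_eq_one_iff_unique.mp h1).1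
      exact isCyclic_of_subsingleton
  haveI := hZ
  haveI : Group.IsNilpotent ↥K := by
    letI : CommGroup ↥K :=
      { (inferInstance : Group ↥K) with mul_comm := fun a b => Subtype.ext (hc a a.2 b b.2) }
    exact CommGroup.isNilpotent
  infer_instance

end Cfsg.Agent.Lib.Helper56.BG1366
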