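import Mathlib
import Cfsg.Agent.Lib.Helper41.InvBDefs

/-!
# K-IB pack (S3928), LEAF 3 (392803, helper56): lifting members of `TG` from a quotient.
-/

set_option autoImplicit false

namespace Cfsg.Agent.Lib.Helper56.InvB

open Cfsg.Agent.Lib.Helper41.InvB

variable {Γ : Type*} [Group Γ] [Finite Γ]

/-- LEAF 3 -/
theorem exists_lift (a : Γ) (ha : a * a = 1) (N : Subgroup Γ) [N.Normal] (y : Γ ⧸ N)
    (hy : y ∈ TG (QuotientGroup.mk a : Γ ⧸ N)) : ∃ g ∈ TG a, (QuotientGroup.mk g : Γ ⧸ N) = y := by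
  have hainv : a⁻¹ = a := inv_eq_of_mul_eq_one_left ha
  have hodd : Odd (orderOf y) := hy.1
  obtain ⟨k, hk⟩ := hodd
  have hb : y ^ (k + 1) ∈ TG (QuotientGroup.mk a : Γ ⧸ N) := pow_mem_TG hy (k + 1)
  have hb2 : y ^ (k + 1) * y ^ (k + 1) = y := by
    rw [← pow_add]
    have : k + 1 + (k + 1) = orderOf y + 1 := by omega
    rw [this, pow_succ, pow_orderOf_eq_one, one_mul]
  obtain ⟨h, hh⟩ := QuotientGroup.mk_surjective (y ^ (k + 1))
  have hx1 : (QuotientGroup.mk (h * a * h⁻¹ * a⁻¹) : Γ ⧸ N) = y := by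
    have h1 : (QuotientGroup.mk a : Γ ⧸ N) * (QuotientGroup.mk h : Γ ⧸ N) *
        (QuotientGroup.mk a : Γ ⧸ N)⁻¹ = (QuotientGroup.mk h : Γ ⧸ N)⁻¹ := by
      rw [hh]; exact hb.2
    have h2 : (QuotientGroup.mk (h * a * h⁻¹ * a⁻¹) : Γ ⧸ N) =
        (QuotientGroup.mk h : Γ ⧸ N) * ((QuotientGroup.mk a : Γ ⧸ N) * (QuotientGroup.mk h : Γ ⧸ N) *
        (QuotientGroup.mk a : Γ ⧸ N)⁻¹)⁻¹ := by
      rw [QuotientGroup.mk_mul, QuotientGroup.mk_mul, QuotientGroup.mk_mul, QuotientGroup.mk_inv,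
        QuotientGroup.mk_inv]
      group
    rw [h2, h1, inv_inv, hh, hb2]
  have hx2 : a * (h * a * h⁻¹ * a⁻¹) * a⁻¹ = (h * a * h⁻¹ * a⁻¹)⁻¹ := by
    have e1 : a * (h * a * h⁻¹ * a⁻¹) * a⁻¹ = a * h * a * h⁻¹ * (a⁻¹ * a⁻¹) := by group
    have e2 : (h * a * h⁻¹ * a⁻¹)⁻¹ = a * h * a⁻¹ * h⁻¹ := by group
    rw [e1, e2, hainv, ha, mul_one]
  generalize h * a * h⁻¹ * a⁻¹ = x at hx1 hx2
  obtain ⟨e, r, hr, hn⟩ := Nat.exists_eq_two_pow_mul_odd (orderOf_pos x).ne'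
  have hphi : 0 < Nat.totient (orderOf y) := Nat.totient_pos.mpr (orderOf_pos y)
  refine ⟨x ^ ((2 ^ e) ^ Nat.totient (orderOf y)), ⟨?_, ?_⟩, ?_⟩
  · apply Odd.of_dvd_nat hr
    apply orderOf_dvd_of_pow_eq_one
    rw [← pow_mul]
    obtain ⟨t, ht⟩ := Nat.exists_eq_succ_of_ne_zero hphi.ne'
    have : (2 ^ e) ^ Nat.totient (orderOf y) * r = orderOf x * (2 ^ e) ^ t := by
      rw [ht, pow_succ, hn]; ring
    rw [this, pow_mul, pow_orderOf_eq_one, one_pow]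
  · rw [← conj_pow, hx2, inv_pow]
  · rw [QuotientGroup.mk_pow, hx1]
    have hcop : Nat.Coprime (2 ^ e) (orderOf y) :=
      Nat.Coprime.pow_left e (Nat.coprime_two_left.mpr ⟨k, hk⟩)
    have hmod : (2 ^ e) ^ Nat.totient (orderOf y) ≡ 1 [MOD orderOf y] := Nat.ModEq.pow_totient hcop
    have := (pow_eq_pow_iff_modEq (x := y)).mpr hmod
    rw [this, pow_one]

end Cfsg.Agent.Lib.Helper56.InvB

section check

open Cfsg.Agent.Lib.Helper41.InvB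

variable {Γ : Type*} [Group Γ] [Finite Γ]

/-- verbatim copy of the spec statement -/
theorem Cfsg.Agent.Lib.Helper56.InvB.lift_spec_check (a : Γ) (ha : a * a = 1) (N : Subgroup Γ) [N.Normal] (y : Γ ⧸ N)
    (hy : y ∈ TG (QuotientGroup.mk a : Γ ⧸ N)) : ∃ g ∈ TG a, (QuotientGroup.mk g : Γ ⧸ N) = y :=
  Cfsg.Agent.Lib.Helper56.InvB.exists_lift a ha N y hy

example : @Cfsg.Agent.Lib.Helper56.InvB.lift_spec_check = @Cfsg.Agent.Lib.Helper56.InvB.exists_lift := rfl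

end check

#print axioms Cfsg.Agent.Lib.Helper56.InvB.exists_lift
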