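import Mathlib
import Cfsg.Agent.S3995
import Cfsg.Agent.S3994
import Cfsg.Agent.S0144

/-!
Shared definitions for the pack K-NSE3 (statement S3996: a finite group whose same-order
class sizes take exactly three values is solvable).  `Cfsg.Agent.S3995.s G k` is the number
of elements of order `k`.
-/

set_option autoImplicit false

namespace Cfsg.Agent.Lib.Helper56.NSE3

/-- every same-order class size is `0`, `1`, `μ` or `ν`. -/
def Hyp (G : Type*) [Group G] (μ ν : ℕ) : Prop :=
  ∀ k : ℕ, Cfsg.Agent.S3995.s G k = 0 ∨ Cfsg.Agent.S3995.s G k = 1 ∨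
    Cfsg.Agent.S3995.s G k = μ ∨ Cfsg.Agent.S3995.s G k = ν

theorem Hyp.symm {G : Type*} [Group G] {μ ν : ℕ} (H : Hyp G μ ν) : Hyp G ν μ := by
  intro k
  rcases H k with h | h | h | h
  · exact Or.inl h
  · exact Or.inr (Or.inl h)
  · exact Or.inr (Or.inr (Or.inr h))
  · exact Or.inr (Or.inr (Or.inl h))

end Cfsg.Agent.Lib.Helper56.NSE3
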