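import Cfsg.Agent.Lib.Helper54.Coprime
import Cfsg.Agent.Lib.Helper54.Conj
import Cfsg.Agent.Lib.Helper21.SylowAux

set_option autoImplicit false

namespace Cfsg.Agent.Lib.Helper56

open Cfsg
open Cfsg.Agent.Lib.Helper54 Cfsg.Agent.Lib.Helper21
open scoped commutatorElement

/-- **Thompson's `A × B` lemma**, elementwise form. Let `Q` be a `p`-subgroup of a finite group,
normalized by a `p`-subgroup `B` and by an element `x` of order prime to `p` that commutes with `B`.
If `x` centralizes `C_Q(B)`, then `x` centralizes `Q`. -/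
theorem axb_lemma {G : Type*} [Group G] [Finite G] {p : ℕ} [Fact p.Prime] (Q B : Subgroup G) (x : G)
    (hQ : IsPGroup p ↥Q) (hB : IsPGroup p ↥B) (hBQ : B ≤ Subgroup.normalizer (Q : Set G))
    (hxQ : x ∈ Subgroup.normalizer (Q : Set G)) (hxB : ∀ b ∈ B, b * x = x * b)
    (hxo : (orderOf x).Coprime p)
    (hcent : ∀ a ∈ Q, (∀ b ∈ B, b * a = a * b) → a * x = x * a) :
    ∀ a ∈ Q, a * x = x * a := by
  classical
  -- C = C_Q(x)
  set C : Subgroup G := Q ⊓ Subgroup.centralizer ({x} : Set G) with hC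
  have hCmem : ∀ a, a ∈ C ↔ a ∈ Q ∧ a * x = x * a := by
    intro a
    rw [hC, Subgroup.mem_inf, Subgroup.mem_centralizer_singleton_iff]
  by_contra hcon
  have hCQ : C < Q := by
    refine lt_of_le_of_ne inf_le_left ?_
    intro h
    apply hcon
    intro a ha
    rw [← h] at ha
    exact ((hCmem a).mp ha).2
  -- B normalizes C
  have hBC : B ≤ Subgroup.normalizer (C : Set G) := by
    have key : ∀ b ∈ B, ∀ c ∈ C, b * c * b⁻¹ ∈ C := by
      intro b hb c hc
      rw [hCmem] at hc ⊢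
      refine ⟨(Subgroup.mem_normalizer_iff.mp (hBQ hb) c).mp hc.1, ?_⟩
      have h1 := hxB b hb
      have h2 := hxB b⁻¹ (B.inv_mem hb)
      calc b * c * b⁻¹ * x = b * c * (b⁻¹ * x) := by group
        _ = b * c * (x * b⁻¹) := by rw [h2]
        _ = b * (c * x) * b⁻¹ := by group
        _ = b * (x * c) * b⁻¹ := by rw [hc.2]
        _ = (b * x) * c * b⁻¹ := by group
        _ = (x * b) * c * b⁻¹ := by rw [h1]
        _ = x * (b * c * b⁻¹) := by group
    intro b hb
    rw [Subgroup.mem_normalizer_iff]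
    intro c
    constructor
    · exact key b hb c
    · intro h
      have := key b⁻¹ (B.inv_mem hb) _ h
      have h3 : b⁻¹ * (b * c * b⁻¹) * b⁻¹⁻¹ = c := by group
      rwa [h3] at this
  set W : Subgroup G := Q ⊔ B with hW
  set U : Subgroup G := C ⊔ B with hU
  have hWp : IsPGroup p ↥W := IsPGroup.to_sup_of_normal_left' hQ hB hBQ
  have hUW : U ≤ W := sup_le (le_sup_of_le_left hCQ.le) le_sup_right
  -- U ⊓ Q = C
  have hUQ : ∀ u ∈ U, u ∈ Q → u ∈ C := by
    intro u hu huQ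
    obtain ⟨c, hc, b, hb, rfl⟩ := exists_mul_of_mem_sup_of_le_normalizer hBC hu
    have hcQ : c ∈ Q := ((hCmem c).mp hc).1
    have hbQ : b ∈ Q := by
      have : b = c⁻¹ * (c * b) := by group
      rw [this]
      exact Q.mul_mem (Q.inv_mem hcQ) huQ
    have hbC : b ∈ C := (hCmem b).mpr ⟨hbQ, hxB b hb⟩
    exact C.mul_mem hc hbC
  have hUltW : U < W := by
    refine lt_of_le_of_ne hUW ?_
    intro h
    apply hCQ.ne
    apply le_antisymm hCQ.le
    intro a ha
    exact hUQ a (h ▸ (le_sup_left : Q ≤ W) ha) ha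
  obtain ⟨w, hwW, hwU, hwN⟩ := exists_mem_normalizer_not_mem_of_lt hWp hUltW
  obtain ⟨a, haQ, b, hbB, rfl⟩ := exists_mul_of_mem_sup_of_le_normalizer hBQ hwW
  have hbU : b ∈ U := (le_sup_right : B ≤ U) hbB
  have haN : a ∈ Subgroup.normalizer (U : Set G) := by
    have : a = (a * b) * b⁻¹ := by group
    rw [this]
    exact Subgroup.mul_mem _ hwN (Subgroup.inv_mem _ (Subgroup.le_normalizer hbU))
  have haU : a ∉ U := by
    intro h
    exact hwU (U.mul_mem h hbU)
  -- A₁ = N_Q(U) centralizes x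
  set A₁ : Subgroup G := Q ⊓ Subgroup.normalizer (U : Set G) with hA₁
  have h1 : ⁅⁅A₁, B⁆, Subgroup.zpowers x⁆ = ⊥ := by
    rw [Subgroup.commutator_eq_bot_iff_le_centralizer, Subgroup.commutator_le]
    intro a' ha' b' hb'
    have hcomQ : ⁅a', b'⁆ ∈ Q := by
      rw [commutatorElement_def]
      have : a' * b' * a'⁻¹ * b'⁻¹ = a' * (b' * a'⁻¹ * b'⁻¹) := by group
      rw [this]
      exact Q.mul_mem ha'.1 ((Subgroup.mem_normalizer_iff.mp (hBQ hb') _).mp (Q.inv_mem ha'.1))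
    have hcomU : ⁅a', b'⁆ ∈ U := by
      rw [commutatorElement_def]
      have hb'U : b' ∈ U := (le_sup_right : B ≤ U) hb'
      exact U.mul_mem ((Subgroup.mem_normalizer_iff.mp ha'.2 _).mp hb'U) (U.inv_mem hb'U)
    have hcomC : ⁅a', b'⁆ ∈ C := hUQ _ hcomU hcomQ
    rw [Subgroup.mem_centralizer_iff]
    intro z hz
    obtain ⟨k, rfl⟩ := Subgroup.mem_zpowers_iff.mp hz
    have hcx : Commute ⁅a', b'⁆ x := ((hCmem _).mp hcomC).2
    exact ((hcx.zpow_right k).eq).symm
  have h2 : ⁅⁅B, Subgroup.zpowers x⁆, A₁⁆ = ⊥ := by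
    have : ⁅B, Subgroup.zpowers x⁆ = ⊥ := by
      rw [Subgroup.commutator_eq_bot_iff_le_centralizer]
      intro b' hb'
      rw [Subgroup.mem_centralizer_iff]
      intro z hz
      obtain ⟨k, rfl⟩ := Subgroup.mem_zpowers_iff.mp hz
      have hcx : Commute b' x := hxB b' hb'
      exact ((hcx.zpow_right k).eq).symm
    rw [this, Subgroup.commutator_eq_bot_iff_le_centralizer]
    exact bot_le
  have h3 : ⁅⁅Subgroup.zpowers x, A₁⁆, B⁆ = ⊥ :=
    Subgroup.commutator_commutator_eq_bot_of_rotate h1 h2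
  rw [Subgroup.commutator_eq_bot_iff_le_centralizer] at h3
  have hA₁C : ∀ a' ∈ A₁, a' ∈ C := by
    intro a' ha'
    rw [hCmem]
    refine ⟨ha'.1, ?_⟩
    have hmem : ⁅x, a'⁆ ∈ Subgroup.centralizer (B : Set G) :=
      h3 (Subgroup.commutator_mem_commutator (Subgroup.mem_zpowers x) ha')
    have hxaQ : ⁅x, a'⁆ ∈ Q := by
      rw [commutatorElement_def]
      exact Q.mul_mem ((Subgroup.mem_normalizer_iff.mp hxQ _).mp ha'.1) (Q.inv_mem ha'.1)
    have hcx : ⁅x, a'⁆ * x = x * ⁅x, a'⁆ := by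
      apply hcent _ hxaQ
      intro b' hb'
      exact (Subgroup.mem_centralizer_iff.mp hmem) b' hb'
    -- ⁅a', x⁆ = ⁅x, a'⁆⁻¹ commutes with x
    have hinv : ⁅a', x⁆ = ⁅x, a'⁆⁻¹ := by
      simp only [commutatorElement_def]; group
    have hcx' : Commute ⁅a', x⁆ x := by
      rw [hinv]
      exact (Commute.inv_left (show Commute ⁅x, a'⁆ x from hcx))
    have hpk : ∃ k : ℕ, ⁅a', x⁆ ^ (p ^ k) = 1 := by
      have hQm : ⁅a', x⁆ ∈ Q := by
        rw [hinv]; exact Q.inv_mem hxaQ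
      obtain ⟨k, hk⟩ := hQ ⟨_, hQm⟩
      exact ⟨k, by simpa using congrArg Subtype.val hk⟩
    have := commutatorElement_eq_one_of_coprime (p := p) a' x hcx' hpk hxo
    rw [commutatorElement_eq_one_iff_commute] at this
    exact this
  exact haU ((le_sup_left : C ≤ U) (hA₁C a ⟨haQ, haN⟩))

end Cfsg.Agent.Lib.Helper56
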