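import Mathlib
import Cfsg.Agent.Lib.Helper49.StOpDefs

/-!
# K-StOp pack (S2548), leaf R0c (254803, helper56): `mat_xP`, `mat_yP`

The root elements `x_{±(ε_i + ε_j)}(t)` are isometries of `quadFormPlus`, so the `ofMat` elements have
the expected matrices.
-/

set_option autoImplicit false
set_option linter.unusedSectionVars false
set_option linter.unusedSimpArgs false

namespace Cfsg.Agent.Lib.Helper56.StOp

open Cfsg Cfsg.Agent.Lib.Helper49.StOp Matrix

variable {m : ℕ} {F : Type*} [Field F]

theorem xPMat_mulVec (i j : Fin m) (t : F) (u : OI m → F) :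
    xPMat m F i j t *ᵥ u = fun a => u a + (if a = eI i then t * u (fI j) else 0)
        - (if a = eI j then t * u (fI i) else 0) := by
  funext a
  unfold xPMat
  simp only [Matrix.add_mulVec, Matrix.sub_mulVec, Matrix.one_mulVec, Matrix.single_mulVec,
    Pi.add_apply, Pi.sub_apply, Function.update_apply, Pi.zero_apply]

theorem yPMat_mulVec (i j : Fin m) (t : F) (u : OI m → F) :
    yPMat m F i j t *ᵥ u = fun a => u a + (if a = fI j then t * u (eI i) else 0)
        - (if a = fI i then t * u (eI j) else 0) := by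
  funext a
  unfold yPMat
  simp only [Matrix.add_mulVec, Matrix.sub_mulVec, Matrix.one_mulVec, Matrix.single_mulVec,
    Pi.add_apply, Pi.sub_apply, Function.update_apply, Pi.zero_apply]

theorem xPMat_mul_neg (i j : Fin m) (hij : i ≠ j) (t : F) :
    xPMat m F i j t * xPMat m F i j (-t) = 1 := by
  rw [Matrix.ext_iff_mulVec]
  intro u
  rw [← Matrix.mulVec_mulVec, Matrix.one_mulVec, xPMat_mulVec, xPMat_mulVec]
  funext a
  have hji : j ≠ i := hij.symm
  rcases a with a | a
  · by_cases h : a = i
    · subst h; simp [hij]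
    · by_cases h' : a = j
      · subst h'; simp [h]
      · simp [h, h']
  · simp

theorem yPMat_mul_neg (i j : Fin m) (hij : i ≠ j) (t : F) :
    yPMat m F i j t * yPMat m F i j (-t) = 1 := by
  rw [Matrix.ext_iff_mulVec]
  intro u
  rw [← Matrix.mulVec_mulVec, Matrix.one_mulVec, yPMat_mulVec, yPMat_mulVec]
  funext a
  have hji : j ≠ i := hij.symm
  rcases a with a | a
  · simp
  · by_cases h : a = i
    · subst h; simp [hij]
    · by_cases h' : a = j
      · subst h'; simp [h]
      · simp [h, h']

theorem quad_xPMat (i j : Fin m) (t : F) (u : OI m → F) :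
    Cfsg.quadFormPlus m F (xPMat m F i j t *ᵥ u) = Cfsg.quadFormPlus m F u := by
  rw [xPMat_mulVec]
  unfold Cfsg.quadFormPlus
  have h1 : ∀ k : Fin m,
      ((u (Sum.inl k) + (if (Sum.inl k : OI m) = eI i then t * u (fI j) else 0)
        - (if (Sum.inl k : OI m) = eI j then t * u (fI i) else 0)) *
      (u (Sum.inr k) + (if (Sum.inr k : OI m) = eI i then t * u (fI j) else 0)
        - (if (Sum.inr k : OI m) = eI j then t * u (fI i) else 0)))
      = u (Sum.inl k) * u (Sum.inr k)
        + (if k = i then t * u (fI j) * u (fI i) else 0)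
        - (if k = j then t * u (fI i) * u (fI j) else 0) := by
    intro k
    by_cases h : k = i <;> by_cases h' : k = j
    · subst h; subst h'; simp
    · subst h; simp [h']; ring
    · subst h'; simp [h]; ring
    · simp [h, h']
  simp only [h1, Finset.sum_sub_distrib, Finset.sum_add_distrib, Finset.sum_ite_eq',
    Finset.mem_univ, if_true]
  ring

theorem quad_yPMat (i j : Fin m) (t : F) (u : OI m → F) :
    Cfsg.quadFormPlus m F (yPMat m F i j t *ᵥ u) = Cfsg.quadFormPlus m F u := by
  rw [yPMat_mulVec]
  unfold Cfsg.quadFormPlus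
  have h1 : ∀ k : Fin m,
      ((u (Sum.inl k) + (if (Sum.inl k : OI m) = fI j then t * u (eI i) else 0)
        - (if (Sum.inl k : OI m) = fI i then t * u (eI j) else 0)) *
      (u (Sum.inr k) + (if (Sum.inr k : OI m) = fI j then t * u (eI i) else 0)
        - (if (Sum.inr k : OI m) = fI i then t * u (eI j) else 0)))
      = u (Sum.inl k) * u (Sum.inr k)
        + (if k = j then u (eI j) * (t * u (eI i)) else 0)
        - (if k = i then u (eI i) * (t * u (eI j)) else 0) := by
    intro k
    by_cases h : k = i <;> by_cases h' : k = j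
    · subst h; subst h'; simp
    · subst h; simp [h']; ring
    · subst h'; simp [h]; ring
    · simp [h, h']
  simp only [h1, Finset.sum_sub_distrib, Finset.sum_add_distrib, Finset.sum_ite_eq',
    Finset.mem_univ, if_true]
  ring

/-- **K-StOp-R0c**, first half. -/
theorem mat_xP (i j : Fin m) (hij : i ≠ j) (t : F) : mat (xP m F i j t) = xPMat m F i j t := by
  unfold xP
  refine mat_ofMat _ (exists_of_isometry (xPMat m F i j t) (xPMat m F i j (-t)) (xPMat_mul_neg i j hij t) ?_
    (quad_xPMat i j t))
  have := xPMat_mul_neg (F := F) i j hij (-t)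
  rwa [neg_neg] at this

/-- **K-StOp-R0c**, second half. -/
theorem mat_yP (i j : Fin m) (hij : i ≠ j) (t : F) : mat (yP m F i j t) = yPMat m F i j t := by
  unfold yP
  refine mat_ofMat _ (exists_of_isometry (yPMat m F i j t) (yPMat m F i j (-t)) (yPMat_mul_neg i j hij t) ?_
    (quad_yPMat i j t))
  have := yPMat_mul_neg (F := F) i j hij (-t)
  rwa [neg_neg] at this

end Cfsg.Agent.Lib.Helper56.StOp

section check

open Cfsg Cfsg.Agent.Lib.Helper49.StOp

variable {m : ℕ} {F : Type*} [Field F]

/-- verbatim copies of the spec statements -/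
theorem Cfsg.Agent.Lib.Helper56.StOp.r0c_spec_check_x (i j : Fin m) (hij : i ≠ j) (t : F) : mat (xP m F i j t) = xPMat m F i j t :=
  Cfsg.Agent.Lib.Helper56.StOp.mat_xP i j hij t

theorem Cfsg.Agent.Lib.Helper56.StOp.r0c_spec_check_y (i j : Fin m) (hij : i ≠ j) (t : F) : mat (yP m F i j t) = yPMat m F i j t :=
  Cfsg.Agent.Lib.Helper56.StOp.mat_yP i j hij t

example : @Cfsg.Agent.Lib.Helper56.StOp.r0c_spec_check_x = @Cfsg.Agent.Lib.Helper56.StOp.mat_xP := rfl
example : @Cfsg.Agent.Lib.Helper56.StOp.r0c_spec_check_y = @Cfsg.Agent.Lib.Helper56.StOp.mat_yP := rfl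

end check

#print axioms Cfsg.Agent.Lib.Helper56.StOp.mat_xP
#print axioms Cfsg.Agent.Lib.Helper56.StOp.mat_yP
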