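import Mathlib
import Cfsg.Agent.Lib.Helper06.PMinAlt.Defs
import Cfsg.Agent.Lib.Helper21.PMinAltC6
import Cfsg.Agent.Lib.Helper96.PMinAltC8

set_option autoImplicit false

namespace Cfsg.Agent.Lib.Helper56.PMinAlt

open Equiv Equiv.Perm
open Cfsg.Agent.Lib.Helper06.PMinAlt
open Cfsg.Agent.Lib.Helper21.PMinAlt (blockRel_props blockRel_ncard orbRel_ncard)
open Cfsg.Agent.Lib.Helper96.PMinAlt (exists_ladder_two)

section Perm
variable {α : Type*} [Fintype α] [DecidableEq α]

/-- **K-PMinAlt-C10.** Transitive case: `r₁ = blockRel S x L`, `r₂ = blockRel S x L'`. -/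
theorem exists_goodPair_transitive (S : Subgroup (Perm α)) (hS : IsPGroup 3 S)
    (htr : ∀ x y : α, orbRel S x y) (hcard : 27 ≤ Fintype.card α) :
    ∃ r₁ r₂ : α → α → Prop, GoodPair S r₁ r₂ := by
  classical
  have hne : Nonempty α := by
    rw [← Fintype.card_pos_iff]; omega
  obtain ⟨x⟩ := hne
  set c := Nat.card ↥(S ⊓ MulAction.stabilizer (Perm α) x) with hc
  have hcpos : 0 < c := Nat.card_pos
  have horb := orbRel_ncard S x
  have hall : {y | orbRel S x y} = Set.univ := by
    ext y; simp [htr x y]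
  rw [hall, Set.ncard_univ, Nat.card_eq_fintype_card] at horb
  have h27 : 27 * c ≤ Nat.card ↥S := by
    rw [← horb]; exact Nat.mul_le_mul_right c hcard
  obtain ⟨L, L', hLL', hL'S, hstab, hLcard, hL'card⟩ := exists_ladder_two S hS x h27
  have hLS : L ≤ S := hLL'.trans hL'S
  have hstab' : ∀ s ∈ S, s x = x → s ∈ L' := fun s hs hsx => hLL' (hstab s hs hsx)
  obtain ⟨p1, p2, p3, p4, p5⟩ := blockRel_props S L x hLS hstab
  obtain ⟨q1, q2, q3, q4, q5⟩ := blockRel_props S L' x hL'S hstab'
  have hn1 : ∀ y, {y' | blockRel S x L y y'}.ncard = 3 := by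
    intro y
    have h := blockRel_ncard S L x hLS hstab y (htr x y)
    rw [hLcard] at h
    exact Nat.eq_of_mul_eq_mul_right hcpos h
  have hn2 : ∀ y, 3 * {y' | blockRel S x L' y y'}.ncard = Fintype.card α := by
    intro y
    have h := blockRel_ncard S L' x hL'S hstab' y (htr x y)
    have h2 : (3 * {y' | blockRel S x L' y y'}.ncard) * c = Fintype.card α * c := by
      rw [horb, ← hL'card, ← h]; ring
    exact Nat.eq_of_mul_eq_mul_right hcpos h2
  have hle : ∀ y y', blockRel S x L y y' → blockRel S x L' y y' := by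
    rintro y y' ⟨s, hs, l, hl, h1, h2⟩
    exact ⟨s, hs, l, hLL' hl, h1, h2⟩
  refine ⟨blockRel S x L, blockRel S x L', ?_⟩
  refine
    { eqv₁ := ⟨fun y => p2 y (htr x y), fun h => p3 _ _ h, fun h h' => p4 _ _ _ h h'⟩
      eqv₂ := ⟨fun y => q2 y (htr x y), fun h => q3 _ _ h, fun h h' => q4 _ _ _ h h'⟩
      inv₁ := p5
      inv₂ := q5
      le := hle
      card₁ := hn1
      room := ?_
      ne_top := ?_ }
  · by_contra hcon
    push Not at hcon
    have hsub : {y' | blockRel S x L' x y'} ⊆ {y' | blockRel S x L x y'} := by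
      intro y hy
      exact hcon x y hy
    have h1 := Set.ncard_le_ncard hsub (Set.toFinite _)
    rw [hn1 x] at h1
    have h2 := hn2 x
    omega
  · by_contra hcon
    push Not at hcon
    have hall2 : {y' | blockRel S x L' x y'} = Set.univ := by
      ext y; simp [hcon x y]
    have h2 := hn2 x
    rw [hall2, Set.ncard_univ, Nat.card_eq_fintype_card] at h2
    omega

end Perm

end Cfsg.Agent.Lib.Helper56.PMinAlt
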