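import Mathlib
import Cfsg.Agent.Lib.Helper06.PMinAlt.Defs
import Cfsg.Agent.Lib.Helper86.PMinAltC1
import Cfsg.Agent.Lib.Helper20.PMinAltC3

set_option autoImplicit false

namespace Cfsg.Agent.Lib.Helper56.PMinAlt

open Equiv Equiv.Perm
open Cfsg.Agent.Lib.Helper06.PMinAlt
open Cfsg.Agent.Lib.Helper86.PMinAlt (alternatingGroup_le_of_threeCycle_connected)
open Cfsg.Agent.Lib.Helper20.PMinAlt (exists_swap_classes)

section Perm
variable {α : Type*} [Fintype α] [DecidableEq α]

omit [Fintype α] in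
/-- a three-cycle on three pairwise related points preserves the (equivalence) relation -/
theorem threeCycle_mem_relStab (r : α → α → Prop) (hr : Equivalence r) (a b c : α)
    (hab : r a b) (hac : r a c) :
    swap a b * swap b c ∈ relStab r := by
  have key : ∀ x, r ((swap a b * swap b c) x) x := by
    intro x
    rw [Perm.mul_apply]
    by_cases hxb : x = b
    · subst hxb
      rw [swap_apply_left]
      by_cases hca : c = a
      · subst hca; rw [swap_apply_left]; exact hr.refl _
      · by_cases hcb : c = x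
        · subst hcb; rw [swap_apply_right]; exact hab
        · rw [swap_apply_of_ne_of_ne hca hcb]; exact hr.trans (hr.symm hac) hab
    · by_cases hxc : x = c
      · subst hxc
        rw [swap_apply_right, swap_apply_right]
        exact hac
      · rw [swap_apply_of_ne_of_ne hxb hxc]
        by_cases hxa : x = a
        · subst hxa; rw [swap_apply_left]; exact hr.symm hab
        · rw [swap_apply_of_ne_of_ne hxa hxb]; exact hr.refl _
  rw [mem_relStab]
  intro x y
  constructor
  · intro h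
    exact hr.trans (hr.symm (key x)) (hr.trans h (key y))
  · intro h
    exact hr.trans (key x) (hr.trans h (hr.symm (key y)))

/-- **K-PMinAlt-C4.** Generation for a good pair. -/
theorem alternatingGroup_le_sup_of_goodPair (S : Subgroup (Perm α)) (r₁ r₂ : α → α → Prop)
    (h : GoodPair S r₁ r₂) :
    alternatingGroup α ≤ (relStab r₂ ⊓ alternatingGroup α) ⊔ (relStab r₁ ⊓ alternatingGroup α) := by
  classical
  obtain ⟨x₀, y₀, hxy2, hxy1⟩ := h.room
  set M₁ : Subgroup (Perm α) := relStab r₂ ⊓ alternatingGroup α with hM₁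
  set M₂ : Subgroup (Perm α) := relStab r₁ ⊓ alternatingGroup α with hM₂
  have hx0y0 : x₀ ≠ y₀ := by
    rintro rfl
    exact hxy1 (h.eqv₁.refl _)
  -- three-cycles inside an `r₂`-class
  have key1 : ∀ a b, r₂ a b → a ≠ b → ∃ t ∈ M₁, t.IsThreeCycle ∧ t a = b := by
    intro a b hab hne
    have hex : ∃ c, r₁ a c ∧ c ≠ a ∧ c ≠ b := by
      by_contra hcon
      push Not at hcon
      have hsub : {y | r₁ a y} ⊆ {a, b} := by
        intro c hc
        by_cases hca : c = a
        · left; exact hca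
        · right; exact hcon c hc hca
      have h1 := Set.ncard_le_ncard hsub (Set.toFinite _)
      rw [h.card₁ a] at h1
      have h2 : ({a, b} : Set α).ncard ≤ 2 := by
        have := Set.ncard_insert_le a ({b} : Set α)
        rw [Set.ncard_singleton] at this
        exact this
      omega
    obtain ⟨c, hac1, hca, hcb⟩ := hex
    have hac : r₂ a c := h.le a c hac1
    refine ⟨swap a b * swap b c, ?_, ?_, ?_⟩
    · have h3 : (swap a b * swap b c).IsThreeCycle := by
        rw [swap_comm a b]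
        exact isThreeCycle_swap_mul_swap_same hne.symm (Ne.symm hcb) (Ne.symm hca)
      exact ⟨threeCycle_mem_relStab r₂ h.eqv₂ a b c hab hac, h3.mem_alternatingGroup⟩
    · rw [swap_comm a b]
      exact isThreeCycle_swap_mul_swap_same hne.symm (Ne.symm hcb) (Ne.symm hca)
    · rw [Perm.mul_apply, swap_apply_of_ne_of_ne hne (Ne.symm hca), swap_apply_left]
  -- connecting to another `r₂`-class
  have key2 : ∀ u', ¬ r₂ x₀ u' →
      ∃ t ∈ M₁ ⊔ M₂, t.IsThreeCycle ∧ t y₀ = u' := by
    intro u' hu'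
    have hu1 : ¬ r₁ x₀ u' := fun hc => hu' (h.le _ _ hc)
    obtain ⟨g, hgA, hgr, hgx, hgfix⟩ := exists_swap_classes r₁ h.eqv₁ h.card₁ x₀ u' hu1
    obtain ⟨t₀, ht₀M, ht₀3, ht₀x⟩ := key1 x₀ y₀ hxy2 hx0y0
    have hgy : g y₀ = y₀ := by
      apply hgfix y₀ hxy1
      intro hc
      exact hu' (h.eqv₂.trans hxy2 (h.eqv₂.symm (h.le _ _ hc)))
    have hgM : g ∈ M₂ := ⟨hgr, hgA⟩
    refine ⟨g * t₀⁻¹ * g⁻¹, ?_, ?_, ?_⟩
    · apply Subgroup.mul_mem
      · apply Subgroup.mul_mem
        · exact Subgroup.mem_sup_right hgM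
        · exact Subgroup.inv_mem _ (Subgroup.mem_sup_left ht₀M)
      · exact Subgroup.inv_mem _ (Subgroup.mem_sup_right hgM)
    · have : (g * t₀⁻¹ * g⁻¹).cycleType = (t₀⁻¹).cycleType := cycleType_conj
      rw [IsThreeCycle, this]
      exact ht₀3.inv
    · have h1 : g⁻¹ y₀ = y₀ := by
        rw [Perm.inv_eq_iff_eq]; exact hgy.symm
      have h2 : t₀⁻¹ y₀ = x₀ := by
        rw [Perm.inv_eq_iff_eq]; exact ht₀x.symm
      rw [Perm.mul_apply, Perm.mul_apply, h1, h2, hgx]
  apply alternatingGroup_le_of_threeCycle_connected (M₁ ⊔ M₂) x₀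
  intro x
  by_cases hx : r₂ x₀ x
  · by_cases hxx : x₀ = x
    · subst hxx; exact Relation.ReflTransGen.refl
    · obtain ⟨t, htM, ht3, htx⟩ := key1 x₀ x hx hxx
      exact Relation.ReflTransGen.single ⟨t, Subgroup.mem_sup_left htM, ht3, htx⟩
  · obtain ⟨t, htM, ht3, htx⟩ := key1 x₀ y₀ hxy2 hx0y0
    obtain ⟨t', ht'M, ht'3, ht'x⟩ := key2 x hx
    exact Relation.ReflTransGen.trans
      (Relation.ReflTransGen.single ⟨t, Subgroup.mem_sup_left htM, ht3, htx⟩)
      (Relation.ReflTransGen.single ⟨t', ht'M, ht'3, ht'x⟩)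

end Perm

end Cfsg.Agent.Lib.Helper56.PMinAlt
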