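import Cfsg.Agent.Lib.Helper07.OrthTf
import Cfsg.Agent.Lib.Helper19.S2716T

/-!
# K-S2721-A (helper56): an automorphism of odd order induced by a similarity is induced by an isometry
of the same order
-/

set_option autoImplicit false
set_option linter.unusedVariables false

namespace Cfsg.Agent.Lib.Helper56.S2721K

open Module Matrix Cfsg.Agent.Lib.Helper08 Cfsg.Agent.Lib.Helper07.OG

universe u

variable {F : Type u} [Field F] [Fintype F] [DecidableEq F] {ι : Type} [Fintype ι] [DecidableEq ι]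
variable {Q : QuadraticForm F (ι → F)}

/-- K-S2721-A (normalisation). An automorphism of odd order `r` induced by a similarity is induced by an
isometry `s` with `s ^ r = 1`. -/
theorem exists_isometry_of_order (C : OC Q) (p : ℕ) [Fact p.Prime] [CharP F p] (h2 : (2 : F) ≠ 0)
    (t : ↥(Cfsg.Geo.quadSimilarityGroup (F := F) ⇑Q)) {r : ℕ} (hro : Odd r)
    (htr : (autPO (⇑Q) t) ^ r = 1) :
    ∃ s : ↥(Cfsg.isometryGroup F ⇑Q), s ^ r = 1 ∧ autO (⇑Q) s = autPO (⇑Q) t := by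
  classical
  obtain ⟨T, hT⟩ : ∃ T : Matrix ι ι F, T = ((t : GL ι F) : Matrix ι ι F) := ⟨_, rfl⟩
  -- `t ^ r` is a scalar
  have h1 : autPO (⇑Q) (t ^ r) = 1 := by rw [map_pow]; exact htr
  rw [autPO_eq_autS] at h1
  obtain ⟨-, lam, hlam⟩ := autS_eq_one_imp C p _ h1
  have hlam' : ∀ v, (T ^ r) *ᵥ v = lam • v := by
    intro v
    have := hlam v
    rwa [Subgroup.coe_pow, Units.val_pow_eq_pow_val, ← hT] at this
  -- a vector with `Q ≠ 0`
  obtain ⟨e, f, he, hf, hef⟩ := exists_hyp C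
  obtain ⟨w, hw⟩ : ∃ w : ι → F, Q w = 1 := by
    refine ⟨e + f, ?_⟩
    rw [QuadraticMap.map_add Q e f, he, hf, zero_add, zero_add]
    exact hef
  -- the multiplier
  obtain ⟨μ, hμ⟩ : ∃ μ : F, μ = (multFun Q t : F) := ⟨_, rfl⟩
  have hμ0 : μ ≠ 0 := by rw [hμ]; exact (multFun Q t).ne_zero
  have hQT : ∀ v, Q (T *ᵥ v) = μ * Q v := by
    intro v
    rw [hT, hμ]
    exact multFun_spec Q t v
  have hQTpow : ∀ n : ℕ, ∀ v, Q ((T ^ n) *ᵥ v) = μ ^ n * Q v := by
    intro n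
    induction n with
    | zero => intro v; simp
    | succ n ih =>
      intro v
      rw [pow_succ', ← Matrix.mulVec_mulVec, hQT, ih, pow_succ']
      ring
  have hrel : μ ^ r = lam ^ 2 := by
    have h := hQTpow r w
    rw [hlam', QuadraticMap.map_smul, hw, smul_eq_mul, mul_one, mul_one] at h
    rw [← h]
    ring
  have hlam0 : lam ≠ 0 := by
    intro h0
    rw [h0] at hrel
    exact (pow_ne_zero r hμ0) (by rw [hrel]; ring)
  obtain ⟨k, hk⟩ := hro
  obtain ⟨ν, hνdef⟩ : ∃ ν : F, ν = lam / μ ^ k := ⟨_, rfl⟩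
  have hν0 : ν ≠ 0 := by rw [hνdef]; exact div_ne_zero hlam0 (pow_ne_zero _ hμ0)
  have hν2 : ν ^ 2 = μ := by
    have h3 : μ ^ k ≠ 0 := pow_ne_zero _ hμ0
    rw [hνdef, div_pow, ← hrel, hk, pow_succ, pow_mul]
    field_simp
    rw [← pow_mul, ← pow_mul, mul_comm]
  obtain ⟨ε, hεdef⟩ : ∃ ε : F, ε = lam / ν ^ r := ⟨_, rfl⟩
  have hε2 : ε ^ 2 = 1 := by
    rw [hεdef, div_pow, ← pow_mul, mul_comm, pow_mul, hν2, hrel]
    exact div_self (pow_ne_zero 2 hlam0)
  have hε0 : ε ≠ 0 := by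
    intro h0
    rw [h0] at hε2
    simp at hε2
  obtain ⟨d, hddef⟩ : ∃ d : F, d = ε / ν := ⟨_, rfl⟩
  have hd0 : d ≠ 0 := by rw [hddef]; exact div_ne_zero hε0 hν0
  have hd2 : d ^ 2 * μ = 1 := by
    rw [hddef, div_pow, hε2, hν2]
    field_simp
  have hdr : d ^ r * lam = 1 := by
    have h3 : d ^ r * lam = ε ^ r * ε := by
      rw [hddef, div_pow, hεdef]
      have : ν ^ r ≠ 0 := pow_ne_zero _ hν0
      field_simp
    rw [h3, ← pow_succ, hk, show 2 * k + 1 + 1 = 2 * (k + 1) by ring, pow_mul, hε2, one_pow]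
  -- the rescaled isometry
  set D : Fˣ := Units.mk0 d hd0 with hD
  set sGL : GL ι F := Cfsg.Agent.Lib.Helper19.PgoCard.scalGL D * (t : GL ι F) with hsGL
  have hsval : (sGL : Matrix ι ι F) = d • T := by
    rw [hsGL, Units.val_mul, Cfsg.Agent.Lib.Helper19.PgoCard.scalGL_val, Matrix.smul_mul,
      Matrix.one_mul, hD, Units.val_mk0, hT]
  have hsiso : sGL ∈ Cfsg.isometryGroup F ⇑Q := by
    rw [Cfsg.Agent.Lib.Helper19.mem_isometryGroup_iff]
    intro v
    rw [hsval, Matrix.smul_mulVec, QuadraticMap.map_smul, hQT, smul_eq_mul, ← mul_assoc, ← pow_two,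
      hd2, one_mul]
  have hTr : T ^ r = lam • (1 : Matrix ι ι F) := by
    rw [Matrix.ext_iff_mulVec]
    intro v
    rw [hlam', Matrix.smul_mulVec, Matrix.one_mulVec]
  refine ⟨⟨sGL, hsiso⟩, ?_, ?_⟩
  · apply Subtype.ext
    apply Units.ext
    rw [Subgroup.coe_pow, Units.val_pow_eq_pow_val]
    show (sGL : Matrix ι ι F) ^ r = 1
    rw [hsval, smul_pow, hTr, smul_smul, hdr, one_smul]
  · rw [autO_apply]
    exact Cfsg.Agent.Lib.Helper19.S2716K.autPO_eq_of_smul Q t _ d hd0 (by rw [← hT]; exact hsval)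

end Cfsg.Agent.Lib.Helper56.S2721K
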