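import Mathlib
import Cfsg.Agent.Lib.Helper16.BG1363Defs
import Cfsg.Agent.Lib.Helper55.Basic
import Cfsg.Agent.Lib.Helper36.BG14P2K
import Cfsg.Agent.Lib.Helper71.BG11a
import Cfsg.Agent.Lib.Helper29.Sup

/-!
# K-1435 pack (S1435), keystone 143510 (helper56): `NU.false_of_B_fixed`.
-/

set_option autoImplicit false

namespace Cfsg.Agent.Lib.Helper56.BG1435

open Cfsg Subgroup Cfsg.Agent.Lib.Helper55 Cfsg.Agent.Lib.Helper11.BG14D Cfsg.Agent.Lib.Helper16.BG1363

variable {G : Type*} [Group G] [Finite G]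

/-- KEYSTONE 143510 -/
theorem NU.false_of_B_fixed (hG : IsMinSimpleOddOrder G) {M K U R H Ms : Subgroup G} {r : ℕ}
    (c : NU M K U R H r) (pf : PF M K Ms) (hKsH : IsPiHallOf (kappa Ms) (Ks M K) Ms)
    (B : Subgroup G) (a x' : G) (hBc : IsMulCommutative B)
    (haB : a ∈ B) (haR : a ∈ R) (ha1 : a ≠ 1) (hxB : x' ∈ B) (hBexp : ∀ b ∈ B, b ^ r = 1)
    (hcase : normalizer (B : Set G) ≤ Ms ∨ r ∈ kappa Ms ∨ centralizer ({x'} : Set G) ≤ Ms) :
    False := by
  have hr : r.Prime := c.hr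
  have : Fact r.Prime := ⟨hr⟩
  have haU : a ∈ U := c.hRU haR
  have haM : a ∈ M := c.hKU.compl.1 haU
  have hord : orderOf a = r := orderOf_eq_prime (hBexp a haB) ha1
  have hrU : r ∣ Nat.card U := by
    rw [← hord]; exact Subgroup.orderOf_dvd_natCard U haU
  obtain ⟨hrσ, hrκ⟩ :=
    Cfsg.Agent.Lib.Helper36.BG14.not_mem_of_dvd_card_U hG c.hM c.hKU.hall c.hKU.compl hr hrU
  -- `r ∣ |K*|` is impossible
  have hKs : ¬ r ∣ Nat.card (Ks M K) := by
    intro hd
    have h1 : Nat.card (Ks M K) ∣ Nat.card (sigmaCore M) := Subgroup.card_dvd_of_le inf_le_left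
    exact hrσ (Cfsg.Agent.Lib.Helper71.BG11.sigmaCore_pi hG c.hM hr (dvd_trans hd h1))
  -- (Z): `a ∉ Ms`
  have hZ : a ∉ Ms := by
    intro haMs
    have h1 : a ∈ K ⊔ Ks M K := by
      rw [← pf.hMMs]; exact ⟨haM, haMs⟩
    have h2 : r ∣ Nat.card ↥(K ⊔ Ks M K) := by
      rw [← hord]; exact Subgroup.orderOf_dvd_natCard _ h1
    have h3 : Ks M K ≤ normalizer (K : Set G) :=
      le_trans inf_le_right (Subgroup.centralizer_le_normalizer _)
    have h4 := Cfsg.Agent.Lib.Helper29.card_sup_dvd_of_le_normalizer K (Ks M K) h3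
    rcases (Nat.Prime.dvd_mul hr).mp (dvd_trans h2 h4) with h5 | h5
    · exact hrκ (c.hKU.hall.2.1 r hr h5)
    · exact hKs h5
  rcases hcase with h | h | h
  · exact hZ (h (Subgroup.le_normalizer haB))
  · have hrMs : r ∣ Nat.card Ms := h.2.1
    have h1 : Nat.card (Ks M K) * (Ks M K).relIndex Ms = Nat.card Ms := by
      have h2 := Subgroup.card_mul_index ((Ks M K).subgroupOf Ms)
      rw [← h2]
      congr 1
      exact (Nat.card_congr (Subgroup.subgroupOfEquivOfLe hKsH.1).toEquiv).symm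
    rw [← h1] at hrMs
    rcases (Nat.Prime.dvd_mul hr).mp hrMs with h5 | h5
    · exact hKs h5
    · exact hKsH.2.2 r hr h h5
  · apply hZ
    apply h
    rw [Subgroup.mem_centralizer_iff]
    intro y hy
    rw [Set.mem_singleton_iff] at hy
    subst hy
    have := hBc.is_comm.comm (⟨y, hxB⟩ : B) ⟨a, haB⟩
    exact congrArg Subtype.val this

end Cfsg.Agent.Lib.Helper56.BG1435

section check

open Cfsg Subgroup Cfsg.Agent.Lib.Helper55 Cfsg.Agent.Lib.Helper11.BG14D Cfsg.Agent.Lib.Helper16.BG1363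

variable {G : Type*} [Group G] [Finite G]

/-- verbatim copy of the spec statement -/
theorem Cfsg.Agent.Lib.Helper56.BG1435.p6_spec_check (hG : IsMinSimpleOddOrder G) {M K U R H Ms : Subgroup G} {r : ℕ}
    (c : NU M K U R H r) (pf : PF M K Ms) (hKsH : IsPiHallOf (kappa Ms) (Ks M K) Ms)
    (B : Subgroup G) (a x' : G) (hBc : IsMulCommutative B)
    (haB : a ∈ B) (haR : a ∈ R) (ha1 : a ≠ 1) (hxB : x' ∈ B) (hBexp : ∀ b ∈ B, b ^ r = 1)
    (hcase : normalizer (B : Set G) ≤ Ms ∨ r ∈ kappa Ms ∨ centralizer ({x'} : Set G) ≤ Ms) :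
    False :=
  Cfsg.Agent.Lib.Helper56.BG1435.NU.false_of_B_fixed hG c pf hKsH B a x' hBc haB haR ha1 hxB hBexp hcase

example : @Cfsg.Agent.Lib.Helper56.BG1435.p6_spec_check = @Cfsg.Agent.Lib.Helper56.BG1435.NU.false_of_B_fixed := rfl

end check

#print axioms Cfsg.Agent.Lib.Helper56.BG1435.NU.false_of_B_fixed
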