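import Cfsg.Agent.Lib.Helper28.FStar

set_option autoImplicit false

namespace Cfsg.Agent.Lib.Helper56

open Cfsg

/-- For a finite group `H`: `F*(H) = O_p(H)` iff `C_H(O_p(H)) ≤ O_p(H)`. -/
theorem genFitting_eq_pCore_iff {H : Type*} [Group H] [Finite H] {p : ℕ} [Fact p.Prime] :
    Cfsg.generalizedFittingSubgroup H = Cfsg.pCore p H ↔
      Subgroup.centralizer (Cfsg.pCore p H : Set H) ≤ Cfsg.pCore p H := by
  classical
  constructor
  · intro h
    rw [← h]
    exact Cfsg.Agent.Lib.Helper28.centralizer_genFitting_le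
  · intro hc
    have hPn : (Cfsg.pCore p H).Normal := Cfsg.Agent.Lib.Helper76.pCore_normal p
    have hPp : IsPGroup p ↥(Cfsg.pCore p H) := Cfsg.Agent.Lib.Helper76.pCore_isPGroup p
    -- no components
    have hlayer : Cfsg.layer H = ⊥ := by
      unfold Cfsg.layer
      rw [eq_bot_iff]
      apply sSup_le
      intro K hK
      exfalso
      have h1 : ⁅K, Cfsg.pCore p H⁆ = ⊥ :=
        Cfsg.Agent.Lib.Helper28.component_centralizes_pCore p hK
      rw [Subgroup.commutator_eq_bot_iff_le_centralizer] at h1
      have hKP : K ≤ Cfsg.pCore p H := h1.trans hc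
      have hKp : IsPGroup p ↥K := hPp.to_le hKP
      have hnil : Group.IsNilpotent ↥K := hKp.isNilpotent
      have hsol : Group.IsSolvable ↥K := inferInstance
      exact Cfsg.Agent.Lib.Helper28.quasisimple_not_solvable hK.2 hsol
    -- Fitting subgroup
    have hfit : Cfsg.fittingSubgroup H = Cfsg.pCore p H := by
      apply le_antisymm
      · rw [Cfsg.Agent.Lib.Helper76.fittingSubgroup_eq_pCoreJoin]
        unfold Cfsg.Agent.Lib.Helper76.pCoreJoin
        apply iSup_le
        intro q
        by_cases hqp : (q : ℕ) = p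
        · rw [hqp]
        · have hq : Fact (q : ℕ).Prime := ⟨Nat.prime_of_mem_primeFactors q.2⟩
          have hQn : (Cfsg.pCore (q : ℕ) H).Normal := Cfsg.Agent.Lib.Helper76.pCore_normal _
          have hQq : IsPGroup (q : ℕ) ↥(Cfsg.pCore (q : ℕ) H) :=
            Cfsg.Agent.Lib.Helper76.pCore_isPGroup _
          have hdisj : Disjoint (Cfsg.pCore (q : ℕ) H) (Cfsg.pCore p H) :=
            IsPGroup.disjoint_of_ne _ _ hqp _ _ hQq hPp
          have hle : Cfsg.pCore (q : ℕ) H ≤ Subgroup.centralizer (Cfsg.pCore p H : Set H) := by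
            intro x hx
            rw [Subgroup.mem_centralizer_iff]
            intro y hy
            exact (Subgroup.commute_of_normal_of_disjoint _ _ hQn hPn hdisj x y hx hy).eq.symm
          exact hle.trans hc
      · exact Cfsg.Agent.Lib.Helper76.pCore_le_fittingSubgroup p
    unfold Cfsg.generalizedFittingSubgroup
    rw [hlayer, hfit, bot_sup_eq]

end Cfsg.Agent.Lib.Helper56
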