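import Cfsg.Agent.Lib.Helper56.CharP

set_option autoImplicit false

namespace Cfsg.Agent.Lib.Helper56

open Cfsg
open Cfsg.Agent.Lib.Helper54

/-- The image of `O_p(A)` under a group isomorphism lies in `O_p(B)`. -/
theorem map_pCore_le_of_mulEquiv {A B : Type*} [Group A] [Group B] {p : ℕ} (e : A ≃* B) :
    (Cfsg.pCore p A).map e.toMonoidHom ≤ Cfsg.pCore p B := by
  apply le_pCore
  · exact (pCore_normal p A).map e.toMonoidHom e.surjective
  · exact (pCore_isPGroup p A).map _

/-- Having characteristic `p` is invariant under isomorphism. -/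
theorem charP_of_mulEquiv {A B : Type*} [Group A] [Group B] {p : ℕ} (e : A ≃* B)
    (hA : Subgroup.centralizer (Cfsg.pCore p A : Set A) ≤ Cfsg.pCore p A) :
    Subgroup.centralizer (Cfsg.pCore p B : Set B) ≤ Cfsg.pCore p B := by
  intro b hb
  have ha : e.symm b ∈ Subgroup.centralizer (Cfsg.pCore p A : Set A) := by
    rw [Subgroup.mem_centralizer_iff]
    intro x hx
    have hex : e x ∈ Cfsg.pCore p B := map_pCore_le_of_mulEquiv e ⟨x, hx, rfl⟩
    have := (Subgroup.mem_centralizer_iff.mp hb) _ hex
    apply e.injective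
    simpa using this
  have h2 := hA ha
  have : e (e.symm b) ∈ Cfsg.pCore p B := map_pCore_le_of_mulEquiv e ⟨_, h2, rfl⟩
  simpa using this

/-- Subnormal subgroups of a finite group of characteristic `p` have characteristic `p`. -/
theorem charP_of_isSubnormal {X : Type*} [Group X] [Finite X] {p : ℕ} [Fact p.Prime]
    (hX : Subgroup.centralizer (Cfsg.pCore p X : Set X) ≤ Cfsg.pCore p X) (Y : Subgroup X)
    (hY : Y.IsSubnormal) :
    Subgroup.centralizer (Cfsg.pCore p ↥Y : Set ↥Y) ≤ Cfsg.pCore p ↥Y := by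
  induction hY with
  | top => exact charP_of_mulEquiv (Subgroup.topEquiv (G := X)).symm hX
  | step H K h_le _ hN ih =>
    have h1 := charP_of_pCore_le_normalizer ih (H.subgroupOf K) (by
      rw [Subgroup.normalizer_eq_top_iff.mpr hN]; exact le_top)
    exact charP_of_mulEquiv (Subgroup.subgroupOfEquivOfLe h_le) h1

end Cfsg.Agent.Lib.Helper56
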