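import Cfsg.Agent.Lib.Helper56.CharP
import Cfsg.Agent.Lib.Helper56.AxB

set_option autoImplicit false

namespace Cfsg.Agent.Lib.Helper56

open Cfsg
open Cfsg.Agent.Lib.Helper54
open scoped commutatorElement

/-- General criterion: in a finite group `G` of characteristic `p`, a subgroup `K` has
characteristic `p` provided there is a `p`-subgroup `B` such that `C_K(O_p(K))` commutes with `B`
and `C_{O_p(G)}(B) ≤ K`. -/
theorem charP_of_axb {G : Type*} [Group G] [Finite G] {p : ℕ} [Fact p.Prime]
    (hG : Subgroup.centralizer (Cfsg.pCore p G : Set G) ≤ Cfsg.pCore p G) (K B : Subgroup G)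
    (hB : IsPGroup p ↥B)
    (h1 : ∀ d : ↥K, d ∈ Subgroup.centralizer (Cfsg.pCore p ↥K : Set ↥K) →
      ∀ b ∈ B, b * (d : G) = (d : G) * b)
    (h2 : Cfsg.pCore p G ⊓ Subgroup.centralizer (B : Set G) ≤ K) :
    Subgroup.centralizer (Cfsg.pCore p ↥K : Set ↥K) ≤ Cfsg.pCore p ↥K := by
  classical
  set Q : Subgroup G := Cfsg.pCore p G with hQ
  have hQn : Q.Normal := pCore_normal p G
  have hQp : IsPGroup p ↥Q := pCore_isPGroup p G
  have hRn : (Cfsg.pCore p ↥K).Normal := pCore_normal p ↥K
  apply le_pCore Subgroup.normal_centralizer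
  apply isPGroup_of_forall_coprime_eq_one
  intro d hd hdo
  have hxo : (orderOf (d : G)).Coprime p := by rw [Subgroup.orderOf_coe]; exact hdo
  have hcen : ∀ a ∈ Q, a * (d : G) = (d : G) * a := by
    apply axb_lemma Q B (d : G) hQp hB
    · rw [Subgroup.normalizer_eq_top_iff.mpr hQn]; exact le_top
    · rw [Subgroup.normalizer_eq_top_iff.mpr hQn]; exact Subgroup.mem_top _
    · exact h1 d hd
    · exact hxo
    · intro a haQ hab
      have hacen : a ∈ Subgroup.centralizer (B : Set G) := by
        rw [Subgroup.mem_centralizer_iff]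
        intro b hb
        exact hab b hb
      have haK : a ∈ K := h2 ⟨haQ, hacen⟩
      have haR : (⟨a, haK⟩ : ↥K) ∈ Cfsg.pCore p ↥K :=
        pCore_subgroupOf_le_pCore K (Subgroup.mem_subgroupOf.mpr haQ)
      exact congrArg Subtype.val ((Subgroup.mem_centralizer_iff.mp hd) _ haR)
  have hxQ : (d : G) ∈ Q := hG (by
    rw [Subgroup.mem_centralizer_iff]
    exact hcen)
  obtain ⟨k, hk⟩ := hQp ⟨_, hxQ⟩
  have hk' : (d : G) ^ (p ^ k) = 1 := by simpa using congrArg Subtype.val hk
  exact Subtype.ext (eq_one_of_coprime_of_pow_eq_one hxo hk')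

/-- In a finite group of characteristic `p`, the centralizer of a `p`-subgroup has
characteristic `p`. -/
theorem charP_centralizer {G : Type*} [Group G] [Finite G] {p : ℕ} [Fact p.Prime]
    (hG : Subgroup.centralizer (Cfsg.pCore p G : Set G) ≤ Cfsg.pCore p G) (B : Subgroup G)
    (hB : IsPGroup p ↥B) :
    Subgroup.centralizer (Cfsg.pCore p ↥(Subgroup.centralizer (B : Set G)) :
        Set ↥(Subgroup.centralizer (B : Set G))) ≤
      Cfsg.pCore p ↥(Subgroup.centralizer (B : Set G)) := by
  apply charP_of_axb hG _ B hB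
  · intro d _ b hb
    exact (Subgroup.mem_centralizer_iff.mp d.2) b hb
  · exact inf_le_right

/-- In a finite group of characteristic `p`, every subgroup `K` with `B ≤ K ≤ N_G(B)` and
`C_G(B) ≤ K`, `B` a `p`-subgroup, has characteristic `p`. -/
theorem charP_of_le_normalizer {G : Type*} [Group G] [Finite G] {p : ℕ} [Fact p.Prime]
    (hG : Subgroup.centralizer (Cfsg.pCore p G : Set G) ≤ Cfsg.pCore p G) (B K : Subgroup G)
    (hB : IsPGroup p ↥B) (hBK : B ≤ K) (hKN : K ≤ Subgroup.normalizer (B : Set G))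
    (hCK : Subgroup.centralizer (B : Set G) ≤ K) :
    Subgroup.centralizer (Cfsg.pCore p ↥K : Set ↥K) ≤ Cfsg.pCore p ↥K := by
  apply charP_of_axb hG K B hB
  · intro d hd b hb
    have hBn : (B.subgroupOf K).Normal := Subgroup.normal_subgroupOf_of_le_normalizer hKN
    have hBle : B.subgroupOf K ≤ Cfsg.pCore p ↥K :=
      le_pCore hBn (hB.comap_of_injective K.subtype K.subtype_injective)
    have hbR : (⟨b, hBK hb⟩ : ↥K) ∈ Cfsg.pCore p ↥K := hBle (Subgroup.mem_subgroupOf.mpr hb)
    exact congrArg Subtype.val ((Subgroup.mem_centralizer_iff.mp hd) _ hbR)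
  · exact inf_le_right.trans hCK

/-- In a finite group of characteristic `p`, the normalizer of a `p`-subgroup has
characteristic `p`. -/
theorem charP_normalizer {G : Type*} [Group G] [Finite G] {p : ℕ} [Fact p.Prime]
    (hG : Subgroup.centralizer (Cfsg.pCore p G : Set G) ≤ Cfsg.pCore p G) (B : Subgroup G)
    (hB : IsPGroup p ↥B) :
    Subgroup.centralizer (Cfsg.pCore p ↥(Subgroup.normalizer (B : Set G)) :
        Set ↥(Subgroup.normalizer (B : Set G))) ≤
      Cfsg.pCore p ↥(Subgroup.normalizer (B : Set G)) :=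
  charP_of_le_normalizer hG B _ hB Subgroup.le_normalizer le_rfl
    (Subgroup.centralizer_le_normalizer _)

end Cfsg.Agent.Lib.Helper56
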