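import Mathlib
import Cfsg.Prelude.Def_JordanBlocks
import Cfsg.Prelude.Def_LieClassical
import Cfsg.Agent.Lib.Helper73.UCDefs

/-!
# K-UC pack (S2646), leaf C2a (264613, helper56): the number of `φ`-hermitian functions
-/

set_option autoImplicit false

namespace Cfsg.Agent.Lib.Helper56.UC

open Matrix Cfsg.Agent.Lib.Helper73.UC

variable {K : Type*} [Field K]

/-- an element moved by the Frobenius `x ↦ x ^ q` of a field with `q ^ 2` elements -/
theorem exists_frob_ne [Fintype K] {q : ℕ} (hK : Fintype.card K = q ^ 2) : ∃ ω : K, ω ^ q ≠ ω := by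
  classical
  have hq2 : 2 ≤ q := by
    by_contra h
    have h1 : 1 < Fintype.card K := Fintype.one_lt_card
    have h2 : q = 0 ∨ q = 1 := by omega
    rcases h2 with h2 | h2 <;> rw [hK, h2] at h1 <;> norm_num at h1
  by_contra hcon
  push Not at hcon
  have hp0 : (Polynomial.X ^ q - Polynomial.X : Polynomial K) ≠ 0 :=
    FiniteField.X_pow_card_sub_X_ne_zero K (by omega)
  have hdeg : (Polynomial.X ^ q - Polynomial.X : Polynomial K).natDegree = q :=
    FiniteField.X_pow_card_sub_X_natDegree_eq K (by omega)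
  have hsub : (Finset.univ : Finset K).val ⊆ (Polynomial.X ^ q - Polynomial.X : Polynomial K).roots := by
    intro x _
    rw [Polynomial.mem_roots hp0, Polynomial.IsRoot.def]
    simp [hcon x]
  have h3 := Polynomial.card_le_degree_of_subset_roots hsub
  rw [Finset.card_univ, hK, hdeg] at h3
  nlinarith

/-- LEAF C2a. -/
theorem card_hermitian_functions [Fintype K] {q : ℕ} (hK : Fintype.card K = q ^ 2)
    (φ : K →+* K) (hφ : ∀ x, φ x = x ^ q) {S : Type*} [Fintype S] (σ : S → S)
    (hσ : ∀ x, σ (σ x) = x) :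
    Nat.card {c : S → K // ∀ x, c (σ x) = φ (c x)} = q ^ Fintype.card S := by
  classical
  have hφφ : ∀ x, φ (φ x) = x := by
    intro x
    rw [hφ, hφ, ← pow_mul, ← pow_two, ← hK]
    exact FiniteField.pow_card x
  obtain ⟨ω, hω⟩ := exists_frob_ne hK
  have hω' : ω - φ ω ≠ 0 := by
    rw [hφ]
    intro h
    exact hω (sub_eq_zero.mp h).symm
  -- the bijection `H × H → (S → K)`
  let f : {c : S → K // ∀ x, c (σ x) = φ (c x)} × {c : S → K // ∀ x, c (σ x) = φ (c x)} → (S → K) :=
    fun p x => p.1.1 x + ω * p.2.1 x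
  have hinj : Function.Injective f := by
    rintro ⟨⟨c₁, h₁⟩, ⟨c₂, h₂⟩⟩ ⟨⟨c₁', h₁'⟩, ⟨c₂', h₂'⟩⟩ hf
    have hx : ∀ x, c₁ x + ω * c₂ x = c₁' x + ω * c₂' x := fun x => congrFun hf x
    have hx' : ∀ x, c₁ x + φ ω * c₂ x = c₁' x + φ ω * c₂' x := by
      intro x
      have h := congrArg φ (hx (σ x))
      rw [map_add, map_add, map_mul, map_mul, h₁, h₂, h₁', h₂', hφφ, hφφ, hφφ, hφφ] at h
      exact h
    have h2 : ∀ x, c₂ x = c₂' x := by
      intro x
      have h3 : (ω - φ ω) * (c₂ x - c₂' x) = 0 := by linear_combination hx x - hx' x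
      rcases mul_eq_zero.mp h3 with h4 | h4
      · exact absurd h4 hω'
      · exact sub_eq_zero.mp h4
    have h1 : ∀ x, c₁ x = c₁' x := by
      intro x
      have := hx x
      rw [h2 x] at this
      exact add_right_cancel this
    have e1 : c₁ = c₁' := funext h1
    have e2 : c₂ = c₂' := funext h2
    subst e1 e2
    rfl
  have hsurj : Function.Surjective f := by
    intro g
    have hc₂ : ∀ x, (fun x => (g x - φ (g (σ x))) / (ω - φ ω)) (σ x) =
        φ ((fun x => (g x - φ (g (σ x))) / (ω - φ ω)) x) := by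
      intro x
      have hω'' : φ ω - ω ≠ 0 := by
        intro h
        apply hω'
        linear_combination -h
      show (g (σ x) - φ (g (σ (σ x)))) / (ω - φ ω) = φ ((g x - φ (g (σ x))) / (ω - φ ω))
      rw [hσ, map_div₀, map_sub, map_sub, hφφ, hφφ]
      field_simp
      ring
    have hc₁ : ∀ x, (fun x => g x - ω * ((g x - φ (g (σ x))) / (ω - φ ω))) (σ x) =
        φ ((fun x => g x - ω * ((g x - φ (g (σ x))) / (ω - φ ω))) x) := by
      intro x
      have hω'' : φ ω - ω ≠ 0 := by
        intro h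
        apply hω'
        linear_combination -h
      show g (σ x) - ω * ((g (σ x) - φ (g (σ (σ x)))) / (ω - φ ω)) =
        φ (g x - ω * ((g x - φ (g (σ x))) / (ω - φ ω)))
      rw [hσ, map_sub, map_mul, map_div₀, map_sub, map_sub, hφφ, hφφ]
      field_simp
      ring
    refine ⟨(⟨fun x => g x - ω * ((g x - φ (g (σ x))) / (ω - φ ω)), hc₁⟩,
      ⟨fun x => (g x - φ (g (σ x))) / (ω - φ ω), hc₂⟩), ?_⟩
    funext x
    show g x - ω * ((g x - φ (g (σ x))) / (ω - φ ω)) + ω * ((g x - φ (g (σ x))) / (ω - φ ω)) = g x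
    ring
  have hcard := Nat.card_eq_of_bijective f ⟨hinj, hsurj⟩
  rw [Nat.card_prod, Nat.card_eq_fintype_card (α := S → K), Fintype.card_fun, hK, ← pow_mul,
    mul_comm 2, pow_mul, ← pow_two] at hcard
  exact Nat.pow_left_injective (by norm_num : 2 ≠ 0) hcard

end Cfsg.Agent.Lib.Helper56.UC
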