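import Mathlib
import Cfsg.Agent.Lib.Helper08.BNPairParabolic

/-!
# K-StSp pack (S2545), leaf A1 (254520, helper56): in a finite (B,N)-pair with `|B : B ∩ N|` a power
of `p`, the index `|G : B|` is prime to `p` (it is `≡ 1 mod p`).
-/

set_option autoImplicit false

namespace Cfsg.Agent.Lib.Helper56.StSp

open Cfsg Cfsg.Agent.Lib.Helper08

variable {G : Type*} [Group G]

/-- `B` is self-normalising (one-sided form) -/
theorem a1_mem_B_of_conj (P : Cfsg.BNPair G) {g : G} (h : ∀ x ∈ P.B, g⁻¹ * x * g ∈ P.B) :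
    g ∈ P.B := by
  have h1 : g⁻¹ ∈ P.B := by
    apply mem_of_conj_le P P.B P.B le_rfl le_rfl (g := g⁻¹)
    intro x hx
    rw [inv_inv]
    exact h x hx
  simpa using P.B.inv_mem h1

/-- a conjugate of the torus inside `B ∩ g B g⁻¹` -/
theorem a1_exists_torus (P : Cfsg.BNPair G) (g : G) :
    ∃ T' : Subgroup G, T' ≤ P.B ∧ (∀ x ∈ T', g⁻¹ * x * g ∈ P.B) ∧
      Nat.card T' = Nat.card ↥(P.B ⊓ P.N) := by
  obtain ⟨n, hn, b1, hb1, b2, hb2, rfl⟩ := bruhat_exists P g
  refine ⟨(P.B ⊓ P.N).map (MulAut.conj b1).toMonoidHom, ?_, ?_, ?_⟩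
  · rintro _ ⟨t, ht, rfl⟩
    simp only [MulEquiv.toMonoidHom_eq_coe, MonoidHom.coe_coe, MulAut.conj_apply]
    exact P.B.mul_mem (P.B.mul_mem hb1 ht.1) (P.B.inv_mem hb1)
  · rintro _ ⟨t, ht, rfl⟩
    simp only [MulEquiv.toMonoidHom_eq_coe, MonoidHom.coe_coe, MulAut.conj_apply]
    have e : (b1 * n * b2)⁻¹ * (b1 * t * b1⁻¹) * (b1 * n * b2) = b2⁻¹ * (n⁻¹ * t * n) * b2 := by
      group
    rw [e]
    exact P.B.mul_mem (P.B.mul_mem (P.B.inv_mem hb2) (conj_mem_B' P hn ht.1 ht.2)) hb2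
  · exact Subgroup.card_map_of_injective (MulAut.conj b1).injective

/-- LEAF A1 -/
theorem not_dvd_index_B {G : Type*} [Group G] [Finite G] (P : Cfsg.BNPair G) (p : ℕ)
    [Fact p.Prime] (h : ∃ a : ℕ, (P.B ⊓ P.N).relIndex P.B = p ^ a) : ¬ p ∣ P.B.index := by
  have hp : p.Prime := Fact.out
  obtain ⟨a, ha⟩ := h
  -- `|B| = |T| p^a`
  have hcardB : Nat.card ↥(P.B ⊓ P.N) * p ^ a = Nat.card P.B := by
    rw [← ha, Subgroup.relIndex]
    have h1 := Subgroup.card_mul_index ((P.B ⊓ P.N).subgroupOf P.B)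
    rw [← h1]
    congr 1
    exact (Nat.card_congr (Subgroup.subgroupOfEquivOfLe inf_le_left).toEquiv).symm
  -- a Sylow `p`-subgroup of `B`
  set c := Nat.card P.B with hc
  have hc0 : c ≠ 0 := Nat.card_pos.ne'
  obtain ⟨K, hK⟩ := Sylow.exists_subgroup_card_pow_prime p (Nat.ordProj_dvd c p)
  set Q : Subgroup G := K.map P.B.subtype with hQdef
  have hQcard : Nat.card Q = p ^ c.factorization p := by
    rw [hQdef, Subgroup.card_map_of_injective P.B.subtype_injective, hK]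
  have hQB : Q ≤ P.B := by
    rintro _ ⟨x, _, rfl⟩
    exact x.2
  have hQp : IsPGroup p Q := IsPGroup.of_card hQcard
  -- the fixed points of `Q` on `G ⧸ B`
  have hfix : ∀ g : G, (QuotientGroup.mk g : G ⧸ P.B) ∈ MulAction.fixedPoints Q (G ⧸ P.B) →
      g ∈ P.B := by
    intro g hg
    have hq : ∀ q ∈ Q, g⁻¹ * q * g ∈ P.B := by
      intro q hq
      have h1 := hg ⟨q⁻¹, Q.inv_mem hq⟩
      have h2 : (QuotientGroup.mk (q⁻¹ * g) : G ⧸ P.B) = QuotientGroup.mk g := h1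
      rw [QuotientGroup.eq] at h2
      have e : (q⁻¹ * g)⁻¹ * g = g⁻¹ * q * g := by group
      rw [← e]
      exact h2
    obtain ⟨T', hT'B, hT'g, hT'card⟩ := a1_exists_torus P g
    -- the subgroup `B ∩ g B g⁻¹`
    let H : Subgroup G := P.B ⊓ P.B.comap (MulAut.conj g⁻¹).toMonoidHom
    have hmemH : ∀ x : G, x ∈ H ↔ x ∈ P.B ∧ g⁻¹ * x * g ∈ P.B := by
      intro x
      show x ∈ P.B ∧ (MulAut.conj g⁻¹).toMonoidHom x ∈ P.B ↔ _
      simp only [MulEquiv.toMonoidHom_eq_coe, MonoidHom.coe_coe, MulAut.conj_apply, inv_inv]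
    have hQH : Q ≤ H := fun x hx => (hmemH x).mpr ⟨hQB hx, hq x hx⟩
    have hTH : T' ≤ H := fun x hx => (hmemH x).mpr ⟨hT'B hx, hT'g x hx⟩
    have hHB : H ≤ P.B := inf_le_left
    have hd1 : p ^ c.factorization p ∣ Nat.card H := by
      rw [← hQcard]; exact Subgroup.card_dvd_of_le hQH
    have hd2 : Nat.card ↥(P.B ⊓ P.N) ∣ Nat.card H := by
      rw [← hT'card]; exact Subgroup.card_dvd_of_le hTH
    have hd3 : c / p ^ c.factorization p ∣ Nat.card ↥(P.B ⊓ P.N) := by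
      have hcop : Nat.Coprime (c / p ^ c.factorization p) (p ^ a) :=
        Nat.Coprime.pow_right a (Nat.coprime_ordCompl hp hc0).symm
      apply hcop.dvd_of_dvd_mul_right
      rw [hcardB]
      exact Nat.ordCompl_dvd c p
    have hd4 : c ∣ Nat.card H := by
      have hcop : Nat.Coprime (p ^ c.factorization p) (c / p ^ c.factorization p) :=
        Nat.Coprime.pow_left _ (Nat.coprime_ordCompl hp hc0)
      have := hcop.mul_dvd_of_dvd_of_dvd hd1 (dvd_trans hd3 hd2)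
      rwa [Nat.ordProj_mul_ordCompl_eq_self] at this
    have hHeq : H = P.B :=
      Subgroup.eq_of_le_of_card_ge hHB (Nat.le_of_dvd Nat.card_pos hd4)
    apply a1_mem_B_of_conj P
    intro x hx
    have : x ∈ H := by rw [hHeq]; exact hx
    exact ((hmemH x).mp this).2
  have hfixset : MulAction.fixedPoints Q (G ⧸ P.B) = {(QuotientGroup.mk 1 : G ⧸ P.B)} := by
    ext x
    constructor
    · intro hx
      induction x using QuotientGroup.induction_on with
      | H g =>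
        have hg := hfix g hx
        rw [Set.mem_singleton_iff, QuotientGroup.eq]
        simpa using P.B.inv_mem hg
    · rintro rfl
      intro q
      have h2 : (QuotientGroup.mk ((q : G) * 1) : G ⧸ P.B) = QuotientGroup.mk 1 := by
        rw [QuotientGroup.eq]
        simpa using hQB q.2
      exact h2
  have hmod := hQp.card_modEq_card_fixedPoints (G ⧸ P.B)
  rw [hfixset, Nat.card_eq_fintype_card (α := ↥({(QuotientGroup.mk 1 : G ⧸ P.B)} : Set (G ⧸ P.B))),
    Fintype.card_unique] at hmod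
  intro hdvd
  rw [Subgroup.index_eq_card] at hdvd
  have h0 : Nat.card (G ⧸ P.B) % p = 0 := Nat.mod_eq_zero_of_dvd hdvd
  have h1 : Nat.card (G ⧸ P.B) % p = 1 % p := hmod
  rw [h0, Nat.mod_eq_of_lt hp.one_lt] at h1
  exact absurd h1 (by norm_num)

end Cfsg.Agent.Lib.Helper56.StSp

section check

open Cfsg

/-- verbatim copy of the spec statement -/
theorem Cfsg.Agent.Lib.Helper56.StSp.a1_spec_check {G : Type*} [Group G] [Finite G] (P : Cfsg.BNPair G) (p : ℕ)
    [Fact p.Prime] (h : ∃ a : ℕ, (P.B ⊓ P.N).relIndex P.B = p ^ a) : ¬ p ∣ P.B.index :=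
  Cfsg.Agent.Lib.Helper56.StSp.not_dvd_index_B P p h

example : @Cfsg.Agent.Lib.Helper56.StSp.a1_spec_check = @Cfsg.Agent.Lib.Helper56.StSp.not_dvd_index_B := rfl

end check

#print axioms Cfsg.Agent.Lib.Helper56.StSp.not_dvd_index_B
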