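import Mathlib
import Cfsg.Prelude.Def_Blocks
import Cfsg.Agent.Lib.Helper78.PDDefs
import Cfsg.Agent.Lib.Helper04.BurnsideSimple
import Cfsg.Agent.Lib.Helper83.Quotient

/-!
# K-PD (S4466), leaf 446603 (parallel hand helper56): a finite simple group not of prime order has no
irreducible character of degree 2.
-/

set_option autoImplicit false

namespace Cfsg.Agent.Lib.Helper56.PD

open Cfsg Cfsg.Agent.Lib.Helper78.PD

universe u

/-- a `2 × 2` complex matrix with `M * M = 1` and `det M = 1` is `± 1` -/
theorem pd2_matrix_scalar (M : Matrix (Fin 2) (Fin 2) ℂ) (hsq : M * M = 1) (hdet : M.det = 1) :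
    M = 1 ∨ M = -1 := by
  have h00 := congrFun (congrFun hsq 0) 0
  have h01 := congrFun (congrFun hsq 0) 1
  have h10 := congrFun (congrFun hsq 1) 0
  have h11 := congrFun (congrFun hsq 1) 1
  simp only [Matrix.mul_apply, Fin.sum_univ_two, Matrix.one_apply_eq, Matrix.one_apply_ne,
    ne_eq, zero_ne_one, one_ne_zero, not_false_eq_true, Fin.isValue] at h00 h01 h10 h11
  rw [Matrix.det_fin_two] at hdet
  set a := M 0 0 with ha
  set b := M 0 1 with hb
  set c := M 1 0 with hc
  set d := M 1 1 with hd
  have hb' : b * (a + d) = 0 := by linear_combination h01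
  have hc' : c * (a + d) = 0 := by linear_combination h10
  have hs : a + d ≠ 0 := by
    intro h
    have hd' : d = -a := by linear_combination h
    have h2 : (2 : ℂ) = 0 := by
      rw [hd'] at hdet
      linear_combination -h00 - hdet
    norm_num at h2
  have hb0 : b = 0 := by
    rcases mul_eq_zero.mp hb' with h | h
    · exact h
    · exact absurd h hs
  have hc0 : c = 0 := by
    rcases mul_eq_zero.mp hc' with h | h
    · exact h
    · exact absurd h hs
  rw [hb0, hc0] at h00 h11 hdet
  have ha2 : (a - 1) * (a + 1) = 0 := by linear_combination h00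
  rcases mul_eq_zero.mp ha2 with h | h
  · left
    have ha1 : a = 1 := by linear_combination h
    have hd1 : d = 1 := by
      rw [ha1] at hdet
      linear_combination hdet
    ext i j
    fin_cases i <;> fin_cases j
    · simpa using ha1
    · simpa using hb0
    · simpa using hc0
    · simpa using hd1
  · right
    have ha1 : a = -1 := by linear_combination h
    have hd1 : d = -1 := by
      rw [ha1] at hdet
      linear_combination -hdet
    ext i j
    fin_cases i <;> fin_cases j
    · simpa using ha1
    · simpa using hb0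
    · simpa using hc0
    · simpa using hd1

/-- in a simple group not of prime order every homomorphism to a commutative monoid is trivial -/
theorem pd2_hom_trivial {G : Type u} [Group G] [IsSimpleGroup G] (hnp : ¬ (Nat.card G).Prime)
    {M : Type*} [CommMonoid M] (φ : G →* M) (g : G) : φ g = 1 := by
  rcases IsSimpleGroup.eq_bot_or_eq_top_of_normal φ.ker inferInstance with h | h
  · exfalso
    apply hnp
    apply Cfsg.Agent.Lib.Helper04.prime_card_of_comm
    intro x y
    have hinj : Function.Injective φ := (MonoidHom.ker_eq_bot_iff φ).mp h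
    apply hinj
    rw [map_mul, map_mul, mul_comm]
  · have : g ∈ φ.ker := by rw [h]; trivial
    exact MonoidHom.mem_ker.mp this

/-- 446603 K-PD-DEG2 -/
theorem no_degree_two {G : Type u} [Group G] [Finite G] [IsSimpleGroup G]
    (hnp : ¬ (Nat.card G).Prime) (χ : IrrCharacter G) : charDegree (χ : G → ℂ) ≠ 2 := by
  intro h2
  obtain ⟨n, ρ, hirr, hρ⟩ := χ.2
  have hchar : IsCharacter G (χ : G → ℂ) := ⟨n, ρ, hρ⟩
  have hn : n = 2 := by
    have h1 : ((charDegree (χ : G → ℂ) : ℕ) : ℂ) = (χ : G → ℂ) 1 :=
      Cfsg.Agent.Lib.Helper83.charDegree_cast hchar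
    have h3 : (χ : G → ℂ) 1 = n := by
      rw [← hρ]
      exact Cfsg.Agent.Lib.Helper83.rep_char_one ρ
    rw [h2, h3] at h1
    exact_mod_cast h1.symm
  subst hn
  -- an involution
  have hdvd : 2 ∣ Nat.card G := by
    have := Cfsg.Agent.Lib.Helper83.irr_charDegree_dvd_card χ
    rwa [h2] at this
  have : Fact (Nat.Prime 2) := ⟨Nat.prime_two⟩
  obtain ⟨t, ht⟩ := exists_prime_orderOf_dvd_card' 2 hdvd
  have ht1 : t ≠ 1 := by
    intro h
    rw [h, orderOf_one] at ht
    norm_num at ht
  have htt : t * t = 1 := by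
    have := pow_orderOf_eq_one t
    rwa [ht, pow_two] at this
  -- the matrix of `ρ t`
  set A : Matrix (Fin 2) (Fin 2) ℂ := LinearMap.toMatrix' (ρ t) with hA
  have hsq : A * A = 1 := by
    rw [hA, ← LinearMap.toMatrix'_mul, ← map_mul, htt, map_one, LinearMap.toMatrix'_one]
  have hdet : A.det = 1 := by
    have h := pd2_hom_trivial hnp (LinearMap.det.comp (ρ : G →* ((Fin 2 → ℂ) →ₗ[ℂ] (Fin 2 → ℂ)))) t
    rw [MonoidHom.comp_apply] at h
    rw [hA, LinearMap.det_toMatrix']
    exact h
  have hscal : ∃ ω : ℂ, ρ t = ω • (LinearMap.id : (Fin 2 → ℂ) →ₗ[ℂ] (Fin 2 → ℂ)) := by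
    rcases pd2_matrix_scalar A hsq hdet with h | h
    · refine ⟨1, ?_⟩
      rw [one_smul]
      apply LinearMap.toMatrix'.injective
      rw [← hA, h, LinearMap.toMatrix'_id]
    · refine ⟨-1, ?_⟩
      apply LinearMap.toMatrix'.injective
      rw [← hA, h, map_smul, LinearMap.toMatrix'_id]
      simp
  obtain ⟨ω, hω⟩ := hscal
  have := hirr
  have htriv := Cfsg.Agent.Lib.Helper04.rep_trivial_of_scalar hnp ρ t ht1 ω hω
  have hdim := Cfsg.Agent.Lib.Helper04.finrank_eq_one_of_trivial ρ htriv
  rw [Module.finrank_fin_fun] at hdim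
  norm_num at hdim

end Cfsg.Agent.Lib.Helper56.PD

/-! ## signature check against `notes/S4466_keystones.lean.txt` (verbatim statement under the spec header) -/
namespace Cfsg.Agent.Lib.Helper56.PDDeg2Check

open Cfsg Cfsg.Agent.Lib.Helper78.PD

universe u

/-- 446603 K-PD-DEG2 (MEDIUM): a finite simple group not of prime order has no irreducible character of
degree 2. -/
theorem no_degree_two {G : Type u} [Group G] [Finite G] [IsSimpleGroup G]
    (hnp : ¬ (Nat.card G).Prime) (χ : IrrCharacter G) : charDegree (χ : G → ℂ) ≠ 2 :=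
  Cfsg.Agent.Lib.Helper56.PD.no_degree_two hnp χ

example : @no_degree_two = @Cfsg.Agent.Lib.Helper56.PD.no_degree_two := rfl

end Cfsg.Agent.Lib.Helper56.PDDeg2Check

#print axioms Cfsg.Agent.Lib.Helper56.PD.no_degree_two
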