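import Mathlib
import Cfsg.Agent.Lib.Helper07.PSLnC

/-!
# K-SQ pack (S4625), leaf PSp (462502, helper56), part A: the subgroup `T` of block upper triangular symplectic
matrices `[[A, X], [0, D]]` with `A` upper unitriangular; it is a 2-group in characteristic two.
-/

set_option autoImplicit false
set_option linter.unusedSectionVars false

namespace Cfsg.Agent.Lib.Helper56.SQ

open Matrix Cfsg.Agent.Lib.Helper07

variable {m : ℕ} {F : Type} [Field F]

/-- upper unitriangular -/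
def UniTri (A : Matrix (Fin m) (Fin m) F) : Prop := A.IsUpperTriangular ∧ ∀ i, A i i = 1

theorem uniTri_one : UniTri (1 : Matrix (Fin m) (Fin m) F) :=
  ⟨blockTriangular_one, fun i => Matrix.one_apply_eq i⟩

theorem UniTri.mul {A B : Matrix (Fin m) (Fin m) F} (hA : UniTri A) (hB : UniTri B) : UniTri (A * B) :=
  ⟨hA.1.mul hB.1, fun i => by rw [upper_mul_diag hA.1 hB.1, hA.2, hB.2, one_mul]⟩

theorem UniTri.det {A : Matrix (Fin m) (Fin m) F} (hA : UniTri A) : A.det = 1 := by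
  rw [det_of_isUpperTriangular hA.1]
  exact Finset.prod_eq_one fun i _ => hA.2 i

theorem UniTri.pow {A : Matrix (Fin m) (Fin m) F} (hA : UniTri A) (k : ℕ) : UniTri (A ^ k) := by
  induction k with
  | zero => rw [pow_zero]; exact uniTri_one
  | succ k ih => rw [pow_succ]; exact ih.mul hA

/-- a unitriangular matrix over a finite field of characteristic two has 2-power order -/
theorem UniTri.exists_pow_eq_one [Fintype F] [CharP F 2] {A : Matrix (Fin m) (Fin m) F} (hA : UniTri A) :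
    ∃ k : ℕ, A ^ 2 ^ k = 1 := by
  obtain ⟨f, _, hF⟩ := FiniteField.card F 2
  let a : SpecialLinearGroup (Fin m) F := ⟨A, hA.det⟩
  have ha : a ∈ UT m F := ⟨hA.1, hA.2⟩
  obtain ⟨k, hk⟩ := (isPGroup_UT (n := m) 2 hF) ⟨a, ha⟩
  refine ⟨k, ?_⟩
  have h1 : a ^ 2 ^ k = 1 := by
    have := congrArg Subtype.val hk
    simpa using this
  have h2 : ((a ^ 2 ^ k : SpecialLinearGroup (Fin m) F) : Matrix (Fin m) (Fin m) F) =
      ((1 : SpecialLinearGroup (Fin m) F) : Matrix (Fin m) (Fin m) F) := by rw [h1]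
  rw [Matrix.SpecialLinearGroup.coe_pow, Matrix.SpecialLinearGroup.coe_one] at h2
  exact h2

/-- block upper triangular with unitriangular upper left block -/
def Good (M : Matrix (Fin m ⊕ Fin m) (Fin m ⊕ Fin m) F) : Prop :=
  M.toBlocks₂₁ = 0 ∧ UniTri M.toBlocks₁₁

theorem good_one : Good (1 : Matrix (Fin m ⊕ Fin m) (Fin m ⊕ Fin m) F) := by
  rw [← fromBlocks_one]
  exact ⟨toBlocks_fromBlocks₂₁ _ _ _ _, by rw [toBlocks_fromBlocks₁₁]; exact uniTri_one⟩

theorem good_fromBlocks {A X D : Matrix (Fin m) (Fin m) F} (hA : UniTri A) :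
    Good (fromBlocks A X 0 D) :=
  ⟨toBlocks_fromBlocks₂₁ _ _ _ _, by rw [toBlocks_fromBlocks₁₁]; exact hA⟩

theorem Good.eq_fromBlocks {M : Matrix (Fin m ⊕ Fin m) (Fin m ⊕ Fin m) F} (h : Good M) :
    M = fromBlocks M.toBlocks₁₁ M.toBlocks₁₂ 0 M.toBlocks₂₂ := by
  conv_lhs => rw [← fromBlocks_toBlocks M, h.1]

theorem Good.mul_blocks {M N : Matrix (Fin m ⊕ Fin m) (Fin m ⊕ Fin m) F} (hM : Good M) (hN : Good N) :
    (M * N).toBlocks₂₁ = 0 ∧ (M * N).toBlocks₁₁ = M.toBlocks₁₁ * N.toBlocks₁₁ := by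
  rw [hM.eq_fromBlocks, hN.eq_fromBlocks, fromBlocks_multiply]
  simp

theorem Good.mul {M N : Matrix (Fin m ⊕ Fin m) (Fin m ⊕ Fin m) F} (hM : Good M) (hN : Good N) :
    Good (M * N) := by
  obtain ⟨h1, h2⟩ := hM.mul_blocks hN
  exact ⟨h1, by rw [h2]; exact hM.2.mul hN.2⟩

theorem Good.pow {M : Matrix (Fin m ⊕ Fin m) (Fin m ⊕ Fin m) F} (hM : Good M) (k : ℕ) :
    Good (M ^ k) ∧ (M ^ k).toBlocks₁₁ = M.toBlocks₁₁ ^ k := by
  induction k with
  | zero =>
    rw [pow_zero, pow_zero]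
    refine ⟨good_one, ?_⟩
    rw [← fromBlocks_one, toBlocks_fromBlocks₁₁]
  | succ k ih =>
    rw [pow_succ, pow_succ]
    exact ⟨ih.1.mul hM, by rw [(ih.1.mul_blocks hM).2, ih.2]⟩

/-- a good symplectic matrix with upper left block `1` is an involution (characteristic two) -/
theorem sq_eq_one_of_good [CharP F 2] {M : Matrix (Fin m ⊕ Fin m) (Fin m ⊕ Fin m) F}
    (hM : Good M) (hS : M ∈ symplecticGroup (Fin m) F) (h1 : M.toBlocks₁₁ = 1) : M * M = 1 := by
  have hM' := hM.eq_fromBlocks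
  rw [h1] at hM'
  rw [hM'] at hS
  obtain ⟨-, -, h3⟩ := SymplecticGroup.fromBlocks_mem_iff.mp hS
  have hD : M.toBlocks₂₂ = 1 := by
    simpa using h3
  rw [hD] at hM'
  rw [hM', fromBlocks_multiply]
  have h0 : (1 : Matrix (Fin m) (Fin m) F) * M.toBlocks₁₂ + M.toBlocks₁₂ * 1 = 0 := by
    rw [Matrix.one_mul, Matrix.mul_one]
    ext i j
    exact CharTwo.add_self_eq_zero _
  rw [h0]
  simp [fromBlocks_one]

variable (m F) in
/-- the submonoid of good symplectic matrices -/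
def Tm : Submonoid (symplecticGroup (Fin m) F) where
  carrier := {g | Good (g : Matrix (Fin m ⊕ Fin m) (Fin m ⊕ Fin m) F)}
  mul_mem' := by
    intro a b ha hb
    exact Good.mul ha hb
  one_mem' := good_one

variable (m F) in
/-- the subgroup of good symplectic matrices (finite field) -/
def T [Fintype F] : Subgroup (symplecticGroup (Fin m) F) :=
  { Tm m F with
    inv_mem' := by
      intro g hg
      have hpos : 0 < orderOf g := orderOf_pos g
      have h1 : g ^ (orderOf g - 1) * g = 1 := by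
        rw [← pow_succ, Nat.sub_add_cancel hpos, pow_orderOf_eq_one]
      have h2 : g⁻¹ = g ^ (orderOf g - 1) := (eq_inv_of_mul_eq_one_left h1).symm
      rw [h2]
      exact (Tm m F).pow_mem hg _ }

theorem mem_T [Fintype F] {g : symplecticGroup (Fin m) F} :
    g ∈ T m F ↔ Good (g : Matrix (Fin m ⊕ Fin m) (Fin m ⊕ Fin m) F) := Iff.rfl

theorem coe_pow_symp (g : symplecticGroup (Fin m) F) (k : ℕ) :
    ((g ^ k : symplecticGroup (Fin m) F) : Matrix (Fin m ⊕ Fin m) (Fin m ⊕ Fin m) F) =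
      (g : Matrix (Fin m ⊕ Fin m) (Fin m ⊕ Fin m) F) ^ k := by
  induction k with
  | zero => rfl
  | succ k ih =>
    rw [pow_succ, pow_succ, ← ih]
    rfl

/-- `T` is a 2-group -/
theorem isPGroup_T [Fintype F] [CharP F 2] : IsPGroup 2 (T m F) := by
  rintro ⟨g, hg⟩
  have hG : Good (g : Matrix (Fin m ⊕ Fin m) (Fin m ⊕ Fin m) F) := hg
  obtain ⟨k, hk⟩ := hG.2.exists_pow_eq_one
  refine ⟨k + 1, ?_⟩
  apply Subtype.ext
  rw [Subgroup.coe_pow, Subgroup.coe_one]
  apply Subtype.ext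
  rw [coe_pow_symp]
  show (g : Matrix (Fin m ⊕ Fin m) (Fin m ⊕ Fin m) F) ^ 2 ^ (k + 1) = 1
  obtain ⟨hG', hb⟩ := hG.pow (2 ^ k)
  rw [hk] at hb
  have hmem : (g : Matrix (Fin m ⊕ Fin m) (Fin m ⊕ Fin m) F) ^ 2 ^ k ∈ symplecticGroup (Fin m) F := by
    rw [← coe_pow_symp]
    exact (g ^ 2 ^ k).2
  have h2 := sq_eq_one_of_good hG' hmem hb
  rw [pow_succ, pow_mul, pow_two]
  exact h2

end Cfsg.Agent.Lib.Helper56.SQ
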