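import Mathlib
import Cfsg.Agent.Lib.Helper56.SQPSpA

/-!
# K-SQ pack (S4625), leaf PSp (462502, helper56), part B: the elements `d_A`, `u_S`; every `d_A` (`A` upper
unitriangular) is a product of involutions of `T`.
-/

set_option autoImplicit false
set_option linter.unusedSectionVars false

namespace Cfsg.Agent.Lib.Helper56.SQ

open Matrix Cfsg.Agent.Lib.Helper07

variable {m : ℕ} {F : Type} [Field F]

/-- `d_A = [[A, 0], [0, A⁻ᵀ]]` -/
noncomputable def dM (A : Matrix (Fin m) (Fin m) F) : Matrix (Fin m ⊕ Fin m) (Fin m ⊕ Fin m) F :=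
  fromBlocks A 0 0 (A⁻¹)ᵀ

/-- `u_S = [[1, S], [0, 1]]` -/
def uM (S : Matrix (Fin m) (Fin m) F) : Matrix (Fin m ⊕ Fin m) (Fin m ⊕ Fin m) F :=
  fromBlocks 1 S 0 1

theorem dM_mem {A : Matrix (Fin m) (Fin m) F} (hA : IsUnit A.det) : dM A ∈ symplecticGroup (Fin m) F := by
  unfold dM
  rw [SymplecticGroup.fromBlocks_mem_iff]
  refine ⟨by simp, by simp, ?_⟩
  rw [← Matrix.transpose_mul, Matrix.nonsing_inv_mul A hA]
  simp

theorem uM_mem {S : Matrix (Fin m) (Fin m) F} (hS : Sᵀ = S) : uM S ∈ symplecticGroup (Fin m) F := by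
  unfold uM
  rw [SymplecticGroup.fromBlocks_mem_iff]
  refine ⟨by simp, by simp [hS], by simp⟩

theorem dM_mul (A B : Matrix (Fin m) (Fin m) F) : dM (A * B) = dM A * dM B := by
  unfold dM
  rw [fromBlocks_multiply, Matrix.mul_inv_rev, Matrix.transpose_mul]
  simp

theorem dM_one : dM (1 : Matrix (Fin m) (Fin m) F) = 1 := by
  unfold dM
  rw [inv_one, transpose_one, fromBlocks_one]

theorem dM_mul_uM (A S : Matrix (Fin m) (Fin m) F) :
    dM A * uM S = fromBlocks A (A * S) 0 (A⁻¹)ᵀ := by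
  unfold dM uM
  rw [fromBlocks_multiply]
  simp

theorem uM_mul_uM [CharP F 2] (S : Matrix (Fin m) (Fin m) F) : uM S * uM S = 1 := by
  unfold uM
  rw [fromBlocks_multiply]
  have h0 : (1 : Matrix (Fin m) (Fin m) F) * S + S * 1 = 0 := by
    rw [Matrix.one_mul, Matrix.mul_one]
    ext i j
    exact CharTwo.add_self_eq_zero _
  rw [h0]
  simp [fromBlocks_one]

/-! ### columns -/

/-- the columns `< k` of `N` -/
def colTrunc (N : Matrix (Fin m) (Fin m) F) (k : ℕ) : Matrix (Fin m) (Fin m) F :=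
  Matrix.of fun i j => if (j : ℕ) < k then N i j else 0

/-- the column `k` of `N` -/
def colOnly (N : Matrix (Fin m) (Fin m) F) (k : ℕ) : Matrix (Fin m) (Fin m) F :=
  Matrix.of fun i j => if (j : ℕ) = k then N i j else 0

/-- strictly upper triangular -/
def StrictUpper (N : Matrix (Fin m) (Fin m) F) : Prop := ∀ i j : Fin m, j ≤ i → N i j = 0

theorem colTrunc_zero (N : Matrix (Fin m) (Fin m) F) : colTrunc N 0 = 0 := by
  ext i j
  simp [colTrunc]

theorem colTrunc_top (N : Matrix (Fin m) (Fin m) F) : colTrunc N m = N := by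
  ext i j
  simp [colTrunc, j.2]

theorem colTrunc_succ (N : Matrix (Fin m) (Fin m) F) (k : ℕ) :
    colTrunc N (k + 1) = colOnly N k + colTrunc N k := by
  ext i j
  simp only [colTrunc, colOnly, Matrix.of_apply, Matrix.add_apply]
  by_cases h1 : (j : ℕ) < k
  · rw [if_pos (by omega), if_neg (by omega), if_pos h1, zero_add]
  · by_cases h2 : (j : ℕ) = k
    · rw [if_pos (by omega), if_pos h2, if_neg h1, add_zero]
    · rw [if_neg (by omega), if_neg h2, if_neg h1, add_zero]

theorem colOnly_mul_colTrunc {N : Matrix (Fin m) (Fin m) F} (hN : StrictUpper N) (k : ℕ) :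
    colOnly N k * colTrunc N k = 0 := by
  ext i j
  rw [Matrix.mul_apply, Matrix.zero_apply]
  apply Finset.sum_eq_zero
  intro l _
  simp only [colTrunc, colOnly, Matrix.of_apply]
  by_cases h1 : (l : ℕ) = k
  · by_cases h2 : (j : ℕ) < k
    · rw [if_pos h1, if_pos h2, hN l j (by rw [Fin.le_def]; omega), mul_zero]
    · rw [if_neg h2, mul_zero]
  · rw [if_neg h1, zero_mul]

theorem colOnly_mul_self {N : Matrix (Fin m) (Fin m) F} (hN : StrictUpper N) (k : ℕ) :
    colOnly N k * colOnly N k = 0 := by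
  ext i j
  rw [Matrix.mul_apply, Matrix.zero_apply]
  apply Finset.sum_eq_zero
  intro l _
  simp only [colOnly, Matrix.of_apply]
  by_cases h1 : (l : ℕ) = k
  · by_cases h2 : (j : ℕ) = k
    · rw [if_pos h1, if_pos h2, hN l j (by rw [Fin.le_def]; omega), mul_zero]
    · rw [if_neg h2, mul_zero]
  · rw [if_neg h1, zero_mul]

theorem one_add_colTrunc_succ {N : Matrix (Fin m) (Fin m) F} (hN : StrictUpper N) (k : ℕ) :
    1 + colTrunc N (k + 1) = (1 + colOnly N k) * (1 + colTrunc N k) := by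
  rw [colTrunc_succ, Matrix.add_mul, Matrix.one_mul, Matrix.mul_add, Matrix.mul_one,
    colOnly_mul_colTrunc hN]
  abel

theorem one_add_colOnly_sq [CharP F 2] {N : Matrix (Fin m) (Fin m) F} (hN : StrictUpper N) (k : ℕ) :
    (1 + colOnly N k) * (1 + colOnly N k) = 1 := by
  rw [Matrix.add_mul, Matrix.one_mul, Matrix.mul_add, Matrix.mul_one, colOnly_mul_self hN]
  have h0 : colOnly N k + colOnly N k = 0 := by
    ext i j
    exact CharTwo.add_self_eq_zero _
  rw [add_zero, add_assoc, h0, add_zero]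

theorem uniTri_one_add {N : Matrix (Fin m) (Fin m) F} (hN : StrictUpper N) : UniTri (1 + N) := by
  constructor
  · intro i j hij
    have hij' : j < i := hij
    rw [Matrix.add_apply, Matrix.one_apply_ne (ne_of_gt hij'), hN i j hij'.le, add_zero]
  · intro i
    rw [Matrix.add_apply, Matrix.one_apply_eq, hN i i le_rfl, add_zero]

theorem strictUpper_colOnly {N : Matrix (Fin m) (Fin m) F} (hN : StrictUpper N) (k : ℕ) :
    StrictUpper (colOnly N k) := by
  intro i j hij
  simp only [colOnly, Matrix.of_apply]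
  split_ifs
  · exact hN i j hij
  · rfl

theorem strictUpper_colTrunc {N : Matrix (Fin m) (Fin m) F} (hN : StrictUpper N) (k : ℕ) :
    StrictUpper (colTrunc N k) := by
  intro i j hij
  simp only [colTrunc, Matrix.of_apply]
  split_ifs
  · exact hN i j hij
  · rfl

/-! ### the subgroup generated by the involutions of `T` -/

variable (m F) in
/-- the subgroup generated by the involutions of `T` -/
def Uinv [Fintype F] : Subgroup (symplecticGroup (Fin m) F) :=
  Subgroup.closure {g | g ∈ T m F ∧ g ^ 2 = 1}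

theorem Uinv_le_T [Fintype F] : Uinv m F ≤ T m F := by
  unfold Uinv
  rw [Subgroup.closure_le]
  intro g hg
  exact hg.1

/-- membership in `Uinv` for a matrix -/
def InU [Fintype F] (M : Matrix (Fin m ⊕ Fin m) (Fin m ⊕ Fin m) F) : Prop :=
  ∃ h : M ∈ symplecticGroup (Fin m) F, (⟨M, h⟩ : symplecticGroup (Fin m) F) ∈ Uinv m F

theorem InU.mul [Fintype F] {M N : Matrix (Fin m ⊕ Fin m) (Fin m ⊕ Fin m) F} (hM : InU M) (hN : InU N) :
    InU (M * N) := by
  obtain ⟨h1, h2⟩ := hM
  obtain ⟨h3, h4⟩ := hN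
  exact ⟨(symplecticGroup (Fin m) F).mul_mem h1 h3, (Uinv m F).mul_mem h2 h4⟩

theorem inU_one [Fintype F] : InU (1 : Matrix (Fin m ⊕ Fin m) (Fin m ⊕ Fin m) F) :=
  ⟨(symplecticGroup (Fin m) F).one_mem, (Uinv m F).one_mem⟩

theorem inU_of_invol [Fintype F] {M : Matrix (Fin m ⊕ Fin m) (Fin m ⊕ Fin m) F}
    (h : M ∈ symplecticGroup (Fin m) F) (hG : Good M) (h2 : M * M = 1) : InU M := by
  refine ⟨h, Subgroup.subset_closure ⟨hG, ?_⟩⟩
  apply Subtype.ext
  rw [coe_pow_symp]
  show M ^ 2 = 1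
  rw [pow_two]
  exact h2

theorem inU_uM [Fintype F] [CharP F 2] {S : Matrix (Fin m) (Fin m) F} (hS : Sᵀ = S) : InU (uM S) :=
  inU_of_invol (uM_mem hS) (good_fromBlocks uniTri_one) (uM_mul_uM S)

theorem inU_dM_colOnly [Fintype F] [CharP F 2] {N : Matrix (Fin m) (Fin m) F} (hN : StrictUpper N) (k : ℕ) :
    InU (dM (1 + colOnly N k)) := by
  have hU := uniTri_one_add (strictUpper_colOnly hN k)
  apply inU_of_invol (dM_mem (by rw [hU.det]; exact isUnit_one))
  · exact good_fromBlocks hU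
  · rw [← dM_mul, one_add_colOnly_sq hN, dM_one]

theorem inU_dM_colTrunc [Fintype F] [CharP F 2] {N : Matrix (Fin m) (Fin m) F} (hN : StrictUpper N) (k : ℕ) :
    InU (dM (1 + colTrunc N k)) := by
  induction k with
  | zero =>
    rw [colTrunc_zero, add_zero, dM_one]
    exact inU_one
  | succ k ih =>
    rw [one_add_colTrunc_succ hN, dM_mul]
    exact (inU_dM_colOnly hN k).mul ih

/-- every `d_A u_S` (`A` upper unitriangular, `S` symmetric) lies in `Uinv` -/
theorem inU_dM_mul_uM [Fintype F] [CharP F 2] {A S : Matrix (Fin m) (Fin m) F} (hA : UniTri A) (hS : Sᵀ = S) :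
    InU (dM A * uM S) := by
  have hN : StrictUpper (A - 1) := by
    intro i j hij
    rw [Matrix.sub_apply]
    rcases eq_or_lt_of_le hij with h | h
    · rw [h, hA.2, Matrix.one_apply_eq, sub_self]
    · rw [hA.1 (show id j < id i from h), Matrix.one_apply_ne (ne_of_gt h), sub_zero]
  have h1 := inU_dM_colTrunc hN m
  rw [colTrunc_top, add_sub_cancel] at h1
  exact h1.mul (inU_uM hS)

end Cfsg.Agent.Lib.Helper56.SQ
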