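import Mathlib
import Cfsg.Prelude.Def_Classical
import Cfsg.Agent.Lib.Helper56.SQPSpB
import Cfsg.Agent.Lib.Helper38.SQ.Defs
import Cfsg.Agent.S0245

/-!
# K-SQ pack (S4625), leaf PSp (462502, helper56), part C: counting and the assembly `sylSq_psp`.
-/

set_option autoImplicit false
set_option linter.unusedSectionVars false

namespace Cfsg.Agent.Lib.Helper56.SQ

open Matrix Cfsg.Agent.Lib.Helper07 Cfsg.Agent.Lib.Helper38.SQ

variable {m : ℕ} {F : Type} [Field F]

/-- the symmetric matrix with prescribed upper entries and diagonal -/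
def symMat (g : UPairs m → F) (t : Fin m → F) : Matrix (Fin m) (Fin m) F :=
  Matrix.of fun i j => if h : i < j then g ⟨(i, j), h⟩ else if h' : j < i then g ⟨(j, i), h'⟩ else t i

theorem symMat_transpose (g : UPairs m → F) (t : Fin m → F) : (symMat g t)ᵀ = symMat g t := by
  ext i j
  rw [Matrix.transpose_apply]
  unfold symMat
  rw [Matrix.of_apply, Matrix.of_apply]
  by_cases h1 : i < j
  · rw [dif_pos h1, dif_neg (not_lt.mpr h1.le), dif_pos h1]
  · by_cases h2 : j < i
    · rw [dif_neg h1, dif_pos h2, dif_neg h1, dif_pos h2]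
    · have : i = j := le_antisymm (not_lt.mp h2) (not_lt.mp h1)
      subst this
      rfl

theorem symMat_upper (g : UPairs m → F) (t : Fin m → F) (q : UPairs m) :
    symMat g t q.1.1 q.1.2 = g q := by
  unfold symMat
  rw [Matrix.of_apply, dif_pos q.2]

theorem symMat_diag (g : UPairs m → F) (t : Fin m → F) (i : Fin m) : symMat g t i i = t i := by
  unfold symMat
  rw [Matrix.of_apply, dif_neg (lt_irrefl i), dif_neg (lt_irrefl i)]

theorem utMat_entry (f : UPairs m → F) (q : UPairs m) : utMat f q.1.1 q.1.2 = f q := by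
  unfold utMat
  rw [Matrix.of_apply, dif_pos q.2]

theorem uniTri_utMat (f : UPairs m → F) : UniTri (utMat f) := ⟨utMat_upper f, utMat_diag f⟩

/-- the parametrisation of (part of) `Uinv` -/
noncomputable def param [Fintype F] [CharP F 2] (x : (UPairs m → F) × (UPairs m → F) × (Fin m → F)) :
    Uinv m F :=
  ⟨⟨dM (utMat x.1) * uM (symMat x.2.1 x.2.2),
    (inU_dM_mul_uM (uniTri_utMat x.1) (symMat_transpose x.2.1 x.2.2)).1⟩,
    (inU_dM_mul_uM (uniTri_utMat x.1) (symMat_transpose x.2.1 x.2.2)).2⟩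

theorem param_injective [Fintype F] [CharP F 2] : Function.Injective (param (m := m) (F := F)) := by
  rintro ⟨f, g, t⟩ ⟨f', g', t'⟩ h
  have h1 : dM (utMat f) * uM (symMat g t) = dM (utMat f') * uM (symMat g' t') := by
    have := congrArg (fun z : Uinv m F => ((z : symplecticGroup (Fin m) F) :
      Matrix (Fin m ⊕ Fin m) (Fin m ⊕ Fin m) F)) h
    exact this
  rw [dM_mul_uM, dM_mul_uM, Matrix.fromBlocks_inj] at h1
  obtain ⟨hA, hAS, -, -⟩ := h1
  have hf : f = f' := by
    funext q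
    rw [← utMat_entry f q, ← utMat_entry f' q, hA]
  subst hf
  have hS : symMat g t = symMat g' t' := by
    have hdet : IsUnit (utMat f).det := by rw [utMat_det]; exact isUnit_one
    have := congrArg (fun M => (utMat f)⁻¹ * M) hAS
    beta_reduce at this
    rwa [← Matrix.mul_assoc, ← Matrix.mul_assoc, Matrix.nonsing_inv_mul _ hdet, Matrix.one_mul,
      Matrix.one_mul] at this
  have hg : g = g' := by
    funext q
    rw [← symMat_upper g t q, ← symMat_upper g' t' q, hS]
  have ht : t = t' := by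
    funext i
    rw [← symMat_diag g t i, ← symMat_diag g' t' i, hS]
  rw [hg, ht]

theorem two_mul_sum_add (m : ℕ) : (∑ i : Fin m, (i : ℕ)) + ((∑ i : Fin m, (i : ℕ)) + m) = m ^ 2 := by
  rw [Fin.sum_univ_eq_sum_range (fun i => i) m]
  have h := Finset.sum_range_id_mul_two m
  rcases m with _ | k
  · simp
  · rw [Nat.add_sub_cancel] at h
    nlinarith [h]

theorem card_le_Uinv [Fintype F] [CharP F 2] :
    Fintype.card F ^ (m ^ 2) ≤ Nat.card (Uinv m F) := by
  classical
  have h := Nat.card_le_card_of_injective _ (param_injective (m := m) (F := F))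
  rw [Nat.card_eq_fintype_card, Fintype.card_prod, Fintype.card_prod, Fintype.card_fun,
    Fintype.card_fun, card_UPairs, Fintype.card_fin, ← pow_add, ← pow_add, two_mul_sum_add] at h
  exact h

theorem unip2_symp [Fintype F] [CharP F 2] (f : ℕ) (hF : Fintype.card F = 2 ^ f) :
    Unip2 (symplecticGroup (Fin m) F) (2 ^ (f * m ^ 2)) := by
  refine ⟨Uinv m F, isPGroup_T.to_le Uinv_le_T, ?_, ?_⟩
  · rw [pow_mul, ← hF]
    exact card_le_Uinv
  · apply sq_mem_commutator_of_closure (Uinv m F) _ rfl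
    intro s hs
    rw [hs.2]
    exact one_mem _

theorem twoPart_symp [Fintype F] [CharP F 2] (f : ℕ) (hf : 0 < f) (hF : Fintype.card F = 2 ^ f) :
    TwoPart (symplecticGroup (Fin m) F) (2 ^ (f * m ^ 2)) := by
  refine ⟨∏ i ∈ Finset.range m, ((2 ^ f) ^ (2 * (i + 1)) - 1), ?_, ?_⟩
  · intro h2
    rw [Nat.prime_two.prime.dvd_finsetProd_iff] at h2
    obtain ⟨i, -, hi⟩ := h2
    have h3 : 2 ∣ (2 ^ f) ^ (2 * (i + 1)) := by
      rw [← pow_mul]
      exact dvd_pow_self 2 (by positivity)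
    have h4 : 1 ≤ (2 ^ f) ^ (2 * (i + 1)) := Nat.one_le_pow _ _ (by positivity)
    omega
  · rw [Cfsg.Agent.S0245.result hF m, pow_mul]

end Cfsg.Agent.Lib.Helper56.SQ

namespace Cfsg.Agent.Lib.Helper56.SQ

open Cfsg.Agent.Lib.Helper38.SQ

/-- 462502 K-SQ-PSp -/
theorem sylSq_psp (F : Type) [Field F] [Fintype F] [CharP F 2] (m : ℕ) (hm : 2 ≤ m) :
    SylSq (Cfsg.PSp m F) := by
  have _ := hm
  obtain ⟨f, hprime, hF⟩ := FiniteField.card F 2
  have hf : 0 < (f : ℕ) := f.pos
  have h1 := unip2_symp (m := m) (F := F) f hF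
  have h2 := twoPart_symp (m := m) (F := F) f hf hF
  have h3 : SylSq (Matrix.symplecticGroup (Fin m) F) := SylSq.of_unip_twoPart (f * m ^ 2) h1 h2
  exact SylSq.quotient _ h3

end Cfsg.Agent.Lib.Helper56.SQ

example : ∀ (F : Type) [Field F] [Fintype F] [CharP F 2] (m : ℕ) (_ : 2 ≤ m),
    Cfsg.Agent.Lib.Helper38.SQ.SylSq (Cfsg.PSp m F) := Cfsg.Agent.Lib.Helper56.SQ.sylSq_psp

#print axioms Cfsg.Agent.Lib.Helper56.SQ.sylSq_psp
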