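import Cfsg.Agent.Lib.Helper56.CharPLocal
import Cfsg.Agent.Lib.Helper56.CharPIso

set_option autoImplicit false

namespace Cfsg.Agent.Lib.Helper56

open Cfsg
open Cfsg.Agent.Lib.Helper54

/-- Transport of characteristic `p` from `K.subgroupOf N` to `K`. -/
theorem charP_of_subgroupOf {X : Type*} [Group X] {p : ℕ} {K N : Subgroup X} (h : K ≤ N)
    (hK : Subgroup.centralizer (Cfsg.pCore p ↥(K.subgroupOf N) : Set ↥(K.subgroupOf N)) ≤
      Cfsg.pCore p ↥(K.subgroupOf N)) :
    Subgroup.centralizer (Cfsg.pCore p ↥K : Set ↥K) ≤ Cfsg.pCore p ↥K :=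
  charP_of_mulEquiv (Subgroup.subgroupOfEquivOfLe h) hK

/-- If the subgroup `N` has characteristic `p` and contains the `p`-subgroup `B` and its
centralizer, then `C_X(B)` has characteristic `p`. -/
theorem charP_centralizer_rel {X : Type*} [Group X] [Finite X] {p : ℕ} [Fact p.Prime]
    (N B : Subgroup X)
    (hN : Subgroup.centralizer (Cfsg.pCore p ↥N : Set ↥N) ≤ Cfsg.pCore p ↥N)
    (hB : IsPGroup p ↥B) (hBN : B ≤ N) (hKN : Subgroup.centralizer (B : Set X) ≤ N) :
    Subgroup.centralizer (Cfsg.pCore p ↥(Subgroup.centralizer (B : Set X)) :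
        Set ↥(Subgroup.centralizer (B : Set X))) ≤
      Cfsg.pCore p ↥(Subgroup.centralizer (B : Set X)) := by
  apply charP_of_subgroupOf hKN
  apply charP_of_axb hN _ (B.subgroupOf N) (hB.comap_of_injective N.subtype N.subtype_injective)
  · intro d _ b hb
    have hd : ((d : ↥N) : X) ∈ Subgroup.centralizer (B : Set X) := Subgroup.mem_subgroupOf.mp d.2
    have hb' : (b : X) ∈ B := Subgroup.mem_subgroupOf.mp hb
    apply Subtype.ext
    simpa using (Subgroup.mem_centralizer_iff.mp hd) _ hb'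
  · intro n hn
    rw [Subgroup.mem_subgroupOf, Subgroup.mem_centralizer_iff]
    intro b hb
    have := (Subgroup.mem_centralizer_iff.mp hn.2) ⟨b, hBN hb⟩ (Subgroup.mem_subgroupOf.mpr hb)
    simpa using congrArg Subtype.val this

/-- If the subgroup `N` has characteristic `p` and contains the `p`-subgroup `B`, then
`N ∩ N_X(B)` has characteristic `p`. -/
theorem charP_inf_normalizer_rel {X : Type*} [Group X] [Finite X] {p : ℕ} [Fact p.Prime]
    (N B : Subgroup X)
    (hN : Subgroup.centralizer (Cfsg.pCore p ↥N : Set ↥N) ≤ Cfsg.pCore p ↥N)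
    (hB : IsPGroup p ↥B) (hBN : B ≤ N) :
    Subgroup.centralizer (Cfsg.pCore p ↥(N ⊓ Subgroup.normalizer (B : Set X)) :
        Set ↥(N ⊓ Subgroup.normalizer (B : Set X))) ≤
      Cfsg.pCore p ↥(N ⊓ Subgroup.normalizer (B : Set X)) := by
  apply charP_of_subgroupOf (inf_le_left : N ⊓ Subgroup.normalizer (B : Set X) ≤ N)
  have h1 : (N ⊓ Subgroup.normalizer (B : Set X)).subgroupOf N
      = Subgroup.normalizer ((B.subgroupOf N : Subgroup ↥N) : Set ↥N) := by
    rw [Subgroup.inf_subgroupOf_left, Subgroup.subgroupOf_normalizer_eq hBN]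
  rw [h1]
  exact charP_normalizer hN (B.subgroupOf N)
    (hB.comap_of_injective N.subtype N.subtype_injective)

end Cfsg.Agent.Lib.Helper56
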