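import Cfsg.Agent.Lib.Helper44.PrnADefs

/-!
# K-PrnA pack (S2222), leaf SW1 (222204, helper56): two transpositions in a 2-subgroup are equal or disjoint
-/

set_option autoImplicit false
set_option linter.unusedVariables false

namespace Cfsg.Agent.Lib.Helper56.PrnA

open Equiv Equiv.Perm

universe u

/-- two transpositions sharing exactly one point do not lie in a common 2-group -/
theorem not_mem_of_share {α : Type u} [Fintype α] [DecidableEq α] (Q : Subgroup (Perm α))
    (hQ : IsPGroup 2 Q) (x y z : α) (hxy : x ≠ y) (hxz : x ≠ z) (hyz : y ≠ z) (h1 : swap x y ∈ Q)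
    (h2 : swap x z ∈ Q) : False := by
  have h3 : IsThreeCycle (swap x y * swap x z) := isThreeCycle_swap_mul_swap_same hxy hxz hyz
  have ho : orderOf (swap x y * swap x z) = 3 := h3.orderOf
  obtain ⟨k, hk⟩ := hQ ⟨swap x y * swap x z, Q.mul_mem h1 h2⟩
  have hk' : (swap x y * swap x z) ^ 2 ^ k = 1 := by
    have := congrArg Subtype.val hk
    simpa using this
  have hdvd : 3 ∣ 2 ^ k := by
    rw [← ho]
    exact orderOf_dvd_of_pow_eq_one hk'
  have h32 : 3 ∣ 2 := Nat.Prime.dvd_of_dvd_pow Nat.prime_three hdvd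
  omega

theorem swap_eq_or_disjoint {α : Type u} [Fintype α] [DecidableEq α] (Q : Subgroup (Perm α))
    (hQ : IsPGroup 2 Q) (a b c d : α) (hab : a ≠ b) (hcd : c ≠ d) (h1 : swap a b ∈ Q)
    (h2 : swap c d ∈ Q) : swap a b = swap c d ∨ (a ≠ c ∧ a ≠ d ∧ b ≠ c ∧ b ≠ d) := by
  by_cases hac : a = c
  · subst hac
    by_cases hbd : b = d
    · subst hbd
      exact Or.inl rfl
    · exact (not_mem_of_share Q hQ a b d hab hcd hbd h1 h2).elim
  by_cases had : a = d
  · subst had
    rw [swap_comm c a] at h2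
    by_cases hbc : b = c
    · subst hbc
      exact Or.inl (swap_comm a b)
    · exact (not_mem_of_share Q hQ a b c hab (Ne.symm hcd) hbc h1 h2).elim
  by_cases hbc : b = c
  · subst hbc
    rw [swap_comm a b] at h1
    exact (not_mem_of_share Q hQ b a d (Ne.symm hab) hcd had h1 h2).elim
  by_cases hbd : b = d
  · subst hbd
    rw [swap_comm a b] at h1
    rw [swap_comm c b] at h2
    exact (not_mem_of_share Q hQ b a c (Ne.symm hab) (Ne.symm hcd) hac h1 h2).elim
  exact Or.inr ⟨hac, had, hbc, hbd⟩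

end Cfsg.Agent.Lib.Helper56.PrnA
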