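import Mathlib
import Cfsg.Agent.Lib.Helper48.StODefs
import Cfsg.Agent.Lib.Helper86.StOR0a

/-!
# K-StO pack (S2547), leaf F1P (254706, helper56): `decomp_perm`

`b ∈ B ⇒ b = b' * x_{ε_i - ε_{i+1}}(t)` with `b' ∈ B` and `s b' s⁻¹ ∈ B`, where `s` is the
reflection `e_i ↔ e_{i+1}`, `f_i ↔ f_{i+1}`.  (Port of the symplectic twin `Helper85.StSpF1S`.)
The matrix of `xPerm` (leaf R0b) is re-proved locally (`f1p_mat_xPerm`).
-/

set_option autoImplicit false
set_option linter.unusedSectionVars false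
set_option linter.unusedSimpArgs false

namespace Cfsg.Agent.Lib.Helper56.StO

open Cfsg Cfsg.Agent.Lib.Helper48.StO Matrix

variable {m : ℕ} {F : Type*} [Field F]

/-! ### the matrix of `xPerm` -/

theorem f1p_xPermMat_mulVec (i j : Fin m) (t : F) (u : OI m → F) :
    xPermMat m F i j t *ᵥ u = fun a => u a + (if a = eI i then t * u (eI j) else 0)
        - (if a = fI j then t * u (fI i) else 0) := by
  funext a
  unfold xPermMat
  simp only [Matrix.add_mulVec, Matrix.sub_mulVec, Matrix.one_mulVec, Matrix.single_mulVec,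
    Pi.add_apply, Pi.sub_apply, Function.update_apply, Pi.zero_apply]

theorem f1p_xPermMat_mul_neg (i j : Fin m) (hij : i ≠ j) (t : F) :
    xPermMat m F i j t * xPermMat m F i j (-t) = 1 := by
  rw [Matrix.ext_iff_mulVec]
  intro u
  rw [← Matrix.mulVec_mulVec, Matrix.one_mulVec, f1p_xPermMat_mulVec, f1p_xPermMat_mulVec]
  funext a
  have hji : j ≠ i := hij.symm
  rcases a with a | a | a
  · simp
  · by_cases h : a = i
    · subst h; simp [hji]
    · simp [h]
  · by_cases h : a = j
    · subst h; simp [hij]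
    · simp [h]

theorem f1p_quad_xPermMat (i j : Fin m) (hij : i ≠ j) (t : F) (u : OI m → F) :
    Cfsg.quadFormOdd m F (xPermMat m F i j t *ᵥ u) = Cfsg.quadFormOdd m F u := by
  rw [f1p_xPermMat_mulVec]
  unfold Cfsg.quadFormOdd
  have hji : j ≠ i := hij.symm
  have h1 : ∀ k : Fin m,
      ((u (Sum.inr (Sum.inl k)) + (if (Sum.inr (Sum.inl k) : OI m) = eI i then t * u (eI j) else 0)
        - (if (Sum.inr (Sum.inl k) : OI m) = fI j then t * u (fI i) else 0)) *
      (u (Sum.inr (Sum.inr k)) + (if (Sum.inr (Sum.inr k) : OI m) = eI i then t * u (eI j) else 0)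
        - (if (Sum.inr (Sum.inr k) : OI m) = fI j then t * u (fI i) else 0)))
      = u (Sum.inr (Sum.inl k)) * u (Sum.inr (Sum.inr k))
        + (if k = i then t * u (eI j) * u (fI i) else 0)
        - (if k = j then t * u (fI i) * u (eI j) else 0) := by
    intro k
    by_cases h : k = i
    · subst h; simp [hij]; ring
    · by_cases h' : k = j
      · subst h'; simp [hji]; ring
      · simp [h, h']
  simp only [h1, Finset.sum_sub_distrib, Finset.sum_add_distrib, Finset.sum_ite_eq',
    Finset.mem_univ, if_true]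
  simp
  ring

/-- local copy of leaf R0b -/
theorem f1p_mat_xPerm (i j : Fin m) (hij : i ≠ j) (t : F) :
    mat (xPerm m F i j t) = xPermMat m F i j t := by
  unfold xPerm
  refine mat_ofMat _ (exists_of_isometry (xPermMat m F i j t) (xPermMat m F i j (-t))
    (f1p_xPermMat_mul_neg i j hij t) ?_ (f1p_quad_xPermMat i j hij t))
  have := f1p_xPermMat_mul_neg i j hij (-t)
  rwa [neg_neg] at this

theorem f1p_xPerm_mul_neg (i j : Fin m) (hij : i ≠ j) (t : F) :
    xPerm m F i j (-t) * xPerm m F i j t = 1 := by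
  apply mat_injective
  rw [mat_mul, f1p_mat_xPerm i j hij, f1p_mat_xPerm i j hij, mat_one]
  have := f1p_xPermMat_mul_neg i j hij (-t)
  rwa [neg_neg] at this

theorem f1p_xPerm_mem_B (i j : Fin m) (hij : i.val < j.val) (t : F) :
    xPerm m F i j t ∈ Bsub m F := by
  have hne : i ≠ j := fun e => by rw [e] at hij; exact lt_irrefl _ hij
  rw [mem_Bsub_iff]
  intro a c hac
  rw [f1p_mat_xPerm i j hne]
  unfold xPermMat
  have h1 : a ≠ c := by
    intro h; rw [h] at hac; exact lt_irrefl _ hac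
  rw [Matrix.sub_apply, Matrix.add_apply, Matrix.one_apply_ne h1, Matrix.single_apply,
    Matrix.single_apply, zero_add]
  have h2 : ¬ (eI i = a ∧ eI j = c) := by
    rintro ⟨rfl, rfl⟩
    simp only [pos] at hac
    omega
  have h3 : ¬ (fI j = a ∧ fI i = c) := by
    rintro ⟨rfl, rfl⟩
    simp only [pos] at hac
    have := i.2; have := j.2
    omega
  rw [if_neg h2, if_neg h3, sub_zero]

/-- entry `(a, e_j)` of `M * xPermMat i j s` -/
theorem f1p_mul_xPermMat_apply (M : Matrix (OI m) (OI m) F) (i j : Fin m) (s : F) (a : OI m) :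
    (M * xPermMat m F i j s) a (eI j) = M a (eI j) + M a (eI i) * s := by
  unfold xPermMat
  rw [Matrix.mul_sub, Matrix.mul_add, Matrix.mul_one, Matrix.sub_apply, Matrix.add_apply,
    Matrix.mul_single_apply_same, Matrix.mul_single_apply_of_ne _ _ _ _ _ (by simp), sub_zero]

/-! ### diagonal entries of elements of `B` -/

theorem f1p_diag_ne_zero (g : OG m F) (hg : g ∈ Bsub m F) (a : OI m) : mat g a a ≠ 0 := by
  have hB := (mem_Bsub_iff g).1 hg
  have hB' := (mem_Bsub_iff g⁻¹).1 ((Bsub m F).inv_mem hg)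
  have h1 : (mat g * mat g⁻¹) a a = 1 := by rw [mat_mul_mat_inv, Matrix.one_apply_eq]
  rw [Matrix.mul_apply, Finset.sum_eq_single a] at h1
  · intro h0
    rw [h0, zero_mul] at h1
    exact zero_ne_one h1
  · intro c _ hc
    rcases lt_or_gt_of_ne (fun e => hc (pos_injective m e)) with h | h
    · rw [hB a c h, zero_mul]
    · rw [hB' c a h, mul_zero]
  · intro h; exact absurd (Finset.mem_univ _) h

/-! ### the polar form -/

theorem f1p_polar (v w : OI m → F) :
    Cfsg.quadFormOdd m F (v + w) = Cfsg.quadFormOdd m F v + Cfsg.quadFormOdd m F w +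
      (2 * v zI * w zI + ∑ k : Fin m, (v (eI k) * w (fI k) + w (eI k) * v (fI k))) := by
  unfold Cfsg.quadFormOdd
  simp only [Pi.add_apply]
  have h : ∀ k : Fin m,
      (v (Sum.inr (Sum.inl k)) + w (Sum.inr (Sum.inl k))) *
        (v (Sum.inr (Sum.inr k)) + w (Sum.inr (Sum.inr k))) =
      v (Sum.inr (Sum.inl k)) * v (Sum.inr (Sum.inr k)) +
        w (Sum.inr (Sum.inl k)) * w (Sum.inr (Sum.inr k)) +
        (v (eI k) * w (fI k) + w (eI k) * v (fI k)) := by
    intro k; ring
  simp only [h, Finset.sum_add_distrib]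
  ring

/-- the Gram relation of the columns `e_j`, `f_i` (`i ≠ j`) of an isometry -/
theorem f1p_gram (g : OG m F) (i j : Fin m) (hne : i ≠ j) :
    2 * mat g zI (eI j) * mat g zI (fI i) +
      ∑ k : Fin m, (mat g (eI k) (eI j) * mat g (fI k) (fI i) +
        mat g (eI k) (fI i) * mat g (fI k) (eI j)) = 0 := by
  have hu : mat g *ᵥ (Pi.single (eI j) 1 : OI m → F) = fun a => mat g a (eI j) := by
    rw [Matrix.mulVec_single_one]; rfl
  have hw : mat g *ᵥ (Pi.single (fI i) 1 : OI m → F) = fun a => mat g a (fI i) := by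
    rw [Matrix.mulVec_single_one]; rfl
  have e1 := quad_mulVec g ((Pi.single (eI j) 1 : OI m → F) + Pi.single (fI i) 1)
  rw [Matrix.mulVec_add, f1p_polar, f1p_polar, quad_mulVec, quad_mulVec] at e1
  have e2 := add_left_cancel e1
  rw [hu, hw] at e2
  rw [e2]
  have h1 : (Pi.single (eI j) (1 : F) : OI m → F) zI = 0 := by
    rw [Pi.single_apply, if_neg (by simp)]
  rw [h1, mul_zero, zero_mul, zero_add]
  apply Finset.sum_eq_zero
  intro k _
  have h2 : (Pi.single (fI i) (1 : F) : OI m → F) (eI k) = 0 := by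
    rw [Pi.single_apply, if_neg (by simp)]
  rw [h2, zero_mul, add_zero]
  by_cases hk : k = j
  · subst hk
    have h3 : (Pi.single (fI i) (1 : F) : OI m → F) (fI k) = 0 := by
      rw [Pi.single_apply, if_neg]
      intro e
      exact hne (Sum.inr.inj (Sum.inr.inj e)).symm
    rw [h3, mul_zero]
  · have h3 : (Pi.single (eI j) (1 : F) : OI m → F) (eI k) = 0 := by
      rw [Pi.single_apply, if_neg]
      intro e
      exact hk (Sum.inl.inj (Sum.inr.inj e))
    rw [h3, zero_mul]

/-- for `g ∈ B` with `g(e_i, e_{i+1}) = 0` also `g(f_{i+1}, f_i) = 0` -/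
theorem f1p_lower_zero (g : OG m F) (hg : g ∈ Bsub m F) (i j : Fin m) (hij : j.val = i.val + 1)
    (h0 : mat g (eI i) (eI j) = 0) : mat g (fI j) (fI i) = 0 := by
  have hB := (mem_Bsub_iff g).1 hg
  have hne : i ≠ j := by
    intro e; rw [e] at hij; omega
  have h := f1p_gram g i j hne
  have hz : mat g zI (eI j) = 0 := by
    apply hB; simp only [pos]; exact j.2
  rw [hz, mul_zero, zero_mul, zero_add, Finset.sum_eq_single j] at h
  · have h1 : mat g (fI j) (eI j) = 0 := by
      apply hB; simp only [pos]; have := j.2; omega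
    rw [h1, mul_zero, add_zero] at h
    rcases mul_eq_zero.1 h with h | h
    · exact absurd h (f1p_diag_ne_zero g hg (eI j))
    · exact h
  · intro k _ hk
    have h1 : mat g (fI k) (eI j) = 0 := by
      apply hB; simp only [pos]; have := j.2; have := k.2; omega
    rw [h1, mul_zero, add_zero]
    have hkv : k.val ≠ j.val := fun e => hk (Fin.ext e)
    by_cases hki : k = i
    · rw [hki, h0, zero_mul]
    · have hkv' : k.val ≠ i.val := fun e => hki (Fin.ext e)
      rcases lt_or_gt_of_ne hkv with hlt | hlt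
      · have h2 : mat g (fI k) (fI i) = 0 := by
          apply hB; simp only [pos]; have := i.2; have := k.2; omega
        rw [h2, mul_zero]
      · have h2 : mat g (eI k) (eI j) = 0 := by
          apply hB; simp only [pos]; exact hlt
        rw [h2, zero_mul]
  · intro h'; exact absurd (Finset.mem_univ j) h'

/-! ### conjugation by the reflection -/

theorem f1p_swapE_swapE (i j : Fin m) (a : OI m) : swapE m i j (swapE m i j a) = a := by
  rcases a with a | a | a
  · rfl
  · show eI (Equiv.swap i j (Equiv.swap i j a)) = eI a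
    rw [Equiv.swap_apply_self]
  · show fI (Equiv.swap i j (Equiv.swap i j a)) = fI a
    rw [Equiv.swap_apply_self]

theorem f1p_swapE_symm (i j : Fin m) (a : OI m) : (swapE m i j).symm a = swapE m i j a := by
  rw [Equiv.symm_apply_eq, f1p_swapE_swapE]

theorem f1p_sPerm_mul_self (i j : Fin m) : sPerm m F i j * sPerm m F i j = 1 := by
  apply mat_injective
  rw [mat_mul, Cfsg.Agent.Lib.Helper86.StO.mat_sPerm, mat_one]
  unfold sPermMat
  rw [← Matrix.permMatrix_mul]
  have h : swapE m i j * swapE m i j = 1 := by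
    apply Equiv.ext
    intro a
    exact f1p_swapE_swapE i j a
  rw [h, Matrix.permMatrix_one]

theorem f1p_sPerm_inv (i j : Fin m) : (sPerm m F i j)⁻¹ = sPerm m F i j :=
  inv_eq_of_mul_eq_one_right (f1p_sPerm_mul_self i j)

theorem f1p_conj_apply (i j : Fin m) (M : Matrix (OI m) (OI m) F) (a c : OI m) :
    (sPermMat m F i j * M * sPermMat m F i j) a c = M (swapE m i j a) (swapE m i j c) := by
  unfold sPermMat Equiv.Perm.permMatrix
  rw [PEquiv.toMatrix_toPEquiv_mul, PEquiv.mul_toMatrix_toPEquiv]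
  simp only [Matrix.submatrix_apply, id_eq]
  rw [f1p_swapE_symm]

theorem f1p_cases (i j : Fin m) (hij : j.val = i.val + 1) (a : OI m) :
    (pos m (swapE m i j a) = pos m a ∧ pos m a ≠ i.val ∧ pos m a ≠ i.val + 1 ∧
        pos m a ≠ 2 * m - i.val - 1 ∧ pos m a ≠ 2 * m - i.val) ∨
      (swapE m i j a = eI j ∧ pos m a = i.val ∧ pos m (swapE m i j a) = i.val + 1) ∨
      (swapE m i j a = eI i ∧ pos m a = i.val + 1 ∧ pos m (swapE m i j a) = i.val) ∨
      (swapE m i j a = fI j ∧ pos m a = 2 * m - i.val ∧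
        pos m (swapE m i j a) = 2 * m - i.val - 1) ∨
      (swapE m i j a = fI i ∧ pos m a = 2 * m - i.val - 1 ∧
        pos m (swapE m i j a) = 2 * m - i.val) := by
  have hi := i.2
  have hj := j.2
  rcases a with a | a | a
  · left
    refine ⟨rfl, ?_, ?_, ?_, ?_⟩ <;> (simp only [pos] <;> omega)
  · have ha := a.2
    have e : swapE m i j (Sum.inr (Sum.inl a)) = eI (Equiv.swap i j a) := rfl
    by_cases h1 : a = i
    · right; left
      subst h1
      rw [e, Equiv.swap_apply_left]
      refine ⟨rfl, ?_, ?_⟩ <;> (simp only [pos] <;> omega)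
    · by_cases h2 : a = j
      · right; right; left
        subst h2
        rw [e, Equiv.swap_apply_right]
        refine ⟨rfl, ?_, ?_⟩ <;> (simp only [pos] <;> omega)
      · left
        rw [e, Equiv.swap_apply_of_ne_of_ne h1 h2]
        have h1' : a.val ≠ i.val := fun h => h1 (Fin.ext h)
        have h2' : a.val ≠ j.val := fun h => h2 (Fin.ext h)
        refine ⟨rfl, ?_, ?_, ?_, ?_⟩ <;> (simp only [pos] <;> omega)
  · have ha := a.2
    have e : swapE m i j (Sum.inr (Sum.inr a)) = fI (Equiv.swap i j a) := rfl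
    by_cases h1 : a = i
    · right; right; right; left
      subst h1
      rw [e, Equiv.swap_apply_left]
      refine ⟨rfl, ?_, ?_⟩ <;> (simp only [pos] <;> omega)
    · by_cases h2 : a = j
      · right; right; right; right
        subst h2
        rw [e, Equiv.swap_apply_right]
        refine ⟨rfl, ?_, ?_⟩ <;> (simp only [pos] <;> omega)
      · left
        rw [e, Equiv.swap_apply_of_ne_of_ne h1 h2]
        have h1' : a.val ≠ i.val := fun h => h1 (Fin.ext h)
        have h2' : a.val ≠ j.val := fun h => h2 (Fin.ext h)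
        refine ⟨rfl, ?_, ?_, ?_, ?_⟩ <;> (simp only [pos] <;> omega)

theorem f1p_decomp_aux (i j : Fin m) (hjv : j.val = i.val + 1) (b : OG m F)
    (hb : b ∈ Bsub m F) :
    ∃ b' ∈ Bsub m F, ∃ t : F, b = b' * xPerm m F i j t ∧
      sPerm m F i j * b' * (sPerm m F i j)⁻¹ ∈ Bsub m F := by
  have hij : i ≠ j := by
    intro e; rw [e] at hjv; omega
  have hd := f1p_diag_ne_zero b hb (eI i)
  obtain ⟨t, ht⟩ : ∃ t : F, t = mat b (eI i) (eI j) / mat b (eI i) (eI i) := ⟨_, rfl⟩
  have hinv := f1p_xPerm_mul_neg (F := F) i j hij t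
  have hb' : b * xPerm m F i j (-t) ∈ Bsub m F :=
    (Bsub m F).mul_mem hb (f1p_xPerm_mem_B i j (by omega) _)
  have hB := (mem_Bsub_iff _).1 hb'
  have hz : mat (b * xPerm m F i j (-t)) (eI i) (eI j) = 0 := by
    rw [mat_mul, f1p_mat_xPerm i j hij, f1p_mul_xPermMat_apply, ht]
    field_simp
    ring
  have hz' := f1p_lower_zero _ hb' i j hjv hz
  refine ⟨b * xPerm m F i j (-t), hb', t, ?_, ?_⟩
  · rw [mul_assoc, hinv, mul_one]
  · rw [f1p_sPerm_inv, mem_Bsub_iff]
    intro a c hac
    rw [mat_mul, mat_mul, Cfsg.Agent.Lib.Helper86.StO.mat_sPerm, f1p_conj_apply]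
    by_cases hlt : pos m (swapE m i j c) < pos m (swapE m i j a)
    · exact hB _ _ hlt
    · have hi := i.2
      have hj := j.2
      rcases f1p_cases i j hjv a with ⟨ha1, ha2, ha3, ha4, ha5⟩ | ⟨ha1, ha2, ha3⟩ |
          ⟨ha1, ha2, ha3⟩ | ⟨ha1, ha2, ha3⟩ | ⟨ha1, ha2, ha3⟩ <;>
        rcases f1p_cases i j hjv c with ⟨hc1, hc2, hc3, hc4, hc5⟩ | ⟨hc1, hc2, hc3⟩ |
          ⟨hc1, hc2, hc3⟩ | ⟨hc1, hc2, hc3⟩ | ⟨hc1, hc2, hc3⟩ <;>
        first
          | (exfalso; omega)
          | (rw [ha1, hc1]; exact hz)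
          | (rw [ha1, hc1]; exact hz')

/-- **K-StO-F1P** -/
theorem decomp_perm (i : Fin m) (hi : i.val + 1 < m) (b : OG m F) (hb : b ∈ Bsub m F) :
    ∃ b' ∈ Bsub m F, ∃ t : F, b = b' * xPerm m F i (nxt i hi) t ∧
      sPerm m F i (nxt i hi) * b' * (sPerm m F i (nxt i hi))⁻¹ ∈ Bsub m F :=
  f1p_decomp_aux i (nxt i hi) rfl b hb

end Cfsg.Agent.Lib.Helper56.StO

section check

open Cfsg Cfsg.Agent.Lib.Helper48.StO

variable {m : ℕ} {F : Type*} [Field F]

/-- verbatim copy of the spec statement -/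
theorem Cfsg.Agent.Lib.Helper56.StO.f1p_spec_check (i : Fin m) (hi : i.val + 1 < m) (b : OG m F) (hb : b ∈ Bsub m F) :
    ∃ b' ∈ Bsub m F, ∃ t : F, b = b' * xPerm m F i (nxt i hi) t ∧
      sPerm m F i (nxt i hi) * b' * (sPerm m F i (nxt i hi))⁻¹ ∈ Bsub m F :=
  Cfsg.Agent.Lib.Helper56.StO.decomp_perm i hi b hb

example : @Cfsg.Agent.Lib.Helper56.StO.f1p_spec_check = @Cfsg.Agent.Lib.Helper56.StO.decomp_perm := rfl

end check

#print axioms Cfsg.Agent.Lib.Helper56.StO.decomp_perm
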