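import Cfsg.Agent.Lib.Helper49.OElDefs
import Cfsg.Agent.Lib.Helper38.OhP.Leaves
import Cfsg.Agent.Lib.Helper52.OTsO11

/-!
# K-OEl pack (S5988), CASE LEAF CP (598821, helper56): `r` odd, `r ≠ p`: LHS ↔ `RhsOddP`

`case_odd_ellP_of` is the glue with the leaves FC0t, FC1t, FC2t, AR1P, AR2P, D3t, BRP, N, K1 of the pack as HYPOTHESES
(the exact spec statements, for the fixed field `F`); K-OhP T0, K2 and K-OTs O11 are used as delivered.
-/

set_option autoImplicit false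
set_option linter.unusedVariables false
set_option linter.unusedSectionVars false
set_option linter.style.haveILetI false
set_option maxHeartbeats 1600000

namespace Cfsg.Agent.Lib.Helper56.OEl

open Module Cfsg.Agent.Lib.Helper98.Elus Cfsg.Agent.Lib.Helper98.Sy Cfsg.Agent.Lib.Helper38.OhP
  Cfsg.Agent.Lib.Helper49.OEl

universe u
variable {F : Type u} [Field F]

/-! ### the statements of the leaves, as `Prop`s -/

/-- LEAF FC0t -/
def HFC0t (F : Type u) [Field F] [Fintype F] : Prop :=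
  ∀ {V : Type u} [AddCommGroup V] [Module F V] [FiniteDimensional F V] (Q : QuadraticForm F V)
    (hV : NonDeg (pB Q) ⊤) (p f : ℕ) [Fact p.Prime] (hF : Fintype.card F = p ^ f)
    (r : ℕ) [Fact r.Prime] (hpr : p ≠ r) (hr2 : r ≠ 2) (hrF : (r : F) ≠ 0) (y : V →ₗ[F] V)
    (hy : y ^ r = 1) (hy1 : y ≠ 1) (hiso : QIso Q y)
    (i c : ℕ) (hi : i = orderOf ((Fintype.card F : ℕ) : ZMod r)) (hc : c = cOf i)
    (d : ℕ) (hdim : finrank F V = 2 * d),
    ∃ T : ℕ, 1 ≤ T ∧ T * c ≤ 2 * d ∧ finrank F (V1 r y) = T * c ∧ finrank F (V0 y) = 2 * d - T * c ∧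
      (0 < 2 * d - T * c ∨ (PlusQ Q ⊤ ↔ tPlus i T))

/-- LEAF FC1t -/
def HFC1t (F : Type u) [Field F] [Fintype F] : Prop :=
  ∀ {V : Type u} [AddCommGroup V] [Module F V] [FiniteDimensional F V] (Q : QuadraticForm F V)
    (hV : NonDeg (pB Q) ⊤) (p f : ℕ) [Fact p.Prime] (hF : Fintype.card F = p ^ f)
    (r : ℕ) [Fact r.Prime] (hpr : p ≠ r) (hr2 : r ≠ 2) (hrF : (r : F) ≠ 0) (y : V →ₗ[F] V)
    (hy : y ^ r = 1) (hiso : QIso Q y)
    (i c : ℕ) (hi : i = orderOf ((Fintype.card F : ℕ) : ZMod r)) (hc : c = cOf i)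
    (T k : ℕ) (hT : finrank F (V1 r y) = T * c) (hk : finrank F (V0 y) = k)
    (d : ℕ) (hdim : finrank F V = 2 * d)
    (m : ℕ) (W : Submodule F V) (hW : Inv y W) (hWnd : NonDeg (pB Q) W) (hWd : finrank F W = m)
    (hme : Even m),
    ∃ j : ℕ, j ≤ T ∧ j * c ≤ m ∧ GoodT (PlusQ Q ⊤) (PlusQ Q W) i c T k m j

/-- LEAF FC2t -/
def HFC2t (F : Type u) [Field F] [Fintype F] : Prop :=
  ∀ {V : Type u} [AddCommGroup V] [Module F V] [FiniteDimensional F V] (Q : QuadraticForm F V)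
    (hV : NonDeg (pB Q) ⊤) (p f : ℕ) [Fact p.Prime] (hF : Fintype.card F = p ^ f)
    (r : ℕ) [Fact r.Prime] (hpr : p ≠ r) (hr2 : r ≠ 2) (hrF : (r : F) ≠ 0) (y : V →ₗ[F] V)
    (hy : y ^ r = 1) (hiso : QIso Q y)
    (i c : ℕ) (hi : i = orderOf ((Fintype.card F : ℕ) : ZMod r)) (hc : c = cOf i)
    (T k : ℕ) (hT : finrank F (V1 r y) = T * c) (hk : finrank F (V0 y) = k)
    (d : ℕ) (hdim : finrank F V = 2 * d)
    (m : ℕ) (hme : Even m) (τ : Prop) (j : ℕ) (hjT : j ≤ T) (hjm : j * c ≤ m)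
    (hg : GoodT (PlusQ Q ⊤) τ i c T k m j),
    ∃ W : Submodule F V, Inv y W ∧ NonDeg (pB Q) W ∧ finrank F W = m ∧ (PlusQ Q W ↔ τ)

/-- LEAF AR1P -/
def HAR1P : Prop :=
  ∀ (i c d m T : ℕ) (hi : 0 < i) (hc : c = cOf i) (hd : 4 ≤ d) (hm : 2 ≤ m) (hme : Even m)
    (hmd : m < d) (hT1 : 1 ≤ T) (hTn : T * c ≤ 2 * d) (hal : 0 < 2 * d - T * c ∨ (True ↔ tPlus i T))
    (hR : RhsOddP i c d m), ∃ j : ℕ, j ≤ T ∧ j * c ≤ m ∧ GoodT True False i c T (2 * d - T * c) m j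

/-- LEAF AR2P -/
def HAR2P : Prop :=
  ∀ (i c d m : ℕ) (hi : 0 < i) (hc : c = cOf i) (hd : 4 ≤ d) (hm : 2 ≤ m) (hme : Even m)
    (hmd : m < d) (hw : CountP i d (m / 2)) (hR : ¬ RhsOddP i c d m),
    ∃ T : ℕ, 1 ≤ T ∧ T * c ≤ 2 * d ∧ (0 < 2 * d - T * c ∨ (True ↔ tPlus i T)) ∧
      ∀ j : ℕ, j ≤ T → j * c ≤ m → ¬ GoodT True False i c T (2 * d - T * c) m j

/-- LEAF D3t -/
def HD3t (F : Type u) [Field F] [Fintype F] : Prop :=
  ∀ (p f : ℕ) [Fact p.Prime] (hF : Fintype.card F = p ^ f)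
    (r : ℕ) [Fact r.Prime] (hpr : p ≠ r) (hr2 : r ≠ 2) (hrF : (r : F) ≠ 0)
    (i c : ℕ) (hi : i = orderOf ((Fintype.card F : ℕ) : ZMod r)) (hc : c = cOf i)
    (ε : Prop) (T k : ℕ) (hT : 1 ≤ T) (hk : Even k) (hal : 0 < k ∨ (ε ↔ tPlus i T)),
    ∃ (V : Type u) (_ : AddCommGroup V) (_ : Module F V) (_ : FiniteDimensional F V)
      (Q : QuadraticForm F V) (y : V →ₗ[F] V),
      NonDeg (pB Q) ⊤ ∧ (PlusQ Q ⊤ ↔ ε) ∧ QIso Q y ∧ y ^ r = 1 ∧ (∀ z : F, y ≠ z • 1) ∧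
      finrank F V = T * c + k ∧ finrank F (V1 r y) = T * c ∧ finrank F (V0 y) = k

/-- LEAF BRP, first part -/
def HBRP (F : Type u) [Field F] : Prop :=
  ∀ (d m : ℕ) (W : Submodule F (Fin d ⊕ Fin d → F)),
    IsEllP d m W ↔ (finrank F W = m ∧ NonDeg (pB (Q0 d F)) W ∧ ¬ PlusQ (Q0 d F) W)

/-- LEAF BRP, second part -/
def HQ0ne (F : Type u) [Field F] : Prop :=
  ∀ (d : ℕ) (hd : 1 ≤ d), ∃ v, Q0 d F v ≠ 0

/-- LEAF N -/
def HN (F : Type u) [Field F] : Prop :=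
  ∀ {ι : Type} [Fintype ι] [DecidableEq ι] (Q : QuadraticForm F (ι → F))
    (hQ : ∃ v, Q v ≠ 0) (r : ℕ) (hr : Odd r) (x : GL ι F)
    (hx : QIso Q (Matrix.toLin' (x : Matrix ι ι F))) (z : F)
    (hz : ((x ^ r : GL ι F) : Matrix ι ι F) = z • (1 : Matrix ι ι F))
    (hns : ∀ z : F, (x : Matrix ι ι F) ≠ z • (1 : Matrix ι ι F)),
    ∃ y : (ι → F) →ₗ[F] (ι → F), QIso Q y ∧ y ^ r = 1 ∧ y ≠ 1 ∧
      ∀ W : Submodule F (ι → F), Inv y W → W.map (Matrix.toLin' (x : Matrix ι ι F)) ≤ W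

/-- LEAF K1 -/
def HK1 (F : Type u) [Field F] [Fintype F] : Prop :=
  ∀ {V : Type u} [AddCommGroup V] [Module F V] [FiniteDimensional F V] (Q : QuadraticForm F V)
    (hV : NonDeg (pB Q) ⊤) (d e : ℕ) (hdim : finrank F V = 2 * d) (he : 1 ≤ e) (hed : e < d)
    (r : ℕ) [Fact r.Prime] (hr2 : r ≠ 2) (hrF : (r : F) ≠ 0)
    (hr : r ∣ Nat.card {W : Submodule F V // finrank F W = 2 * e ∧ NonDeg (pB Q) W ∧ ¬ PlusQ Q W}),
    (PlusQ Q ⊤ →
      (∃ j : ℕ, j + 1 < e ∧ r ∣ (Fintype.card F ^ (d - j) - 1) * (Fintype.card F ^ (d - j - 1) + 1)) ∨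
        r ∣ (Fintype.card F ^ (d - e + 1) - 1) * (Fintype.card F ^ (d - e) - 1) ∨ r ∣ Fintype.card F - 1) ∧
    (¬ PlusQ Q ⊤ →
      (∃ j : ℕ, j + 1 < e ∧ r ∣ (Fintype.card F ^ (d - j) + 1) * (Fintype.card F ^ (d - j - 1) - 1)) ∨
        r ∣ (Fintype.card F ^ (d - e + 1) + 1) * (Fintype.card F ^ (d - e) + 1) ∨ r ∣ Fintype.card F - 1)

/-! ### small arithmetic -/

/-- `r ∣ q ^ a - 1` gives `i ∣ a` (`i` = the order of `q` modulo `r`) -/
theorem order_dvd_of_dvd_pow_sub_one (q r a : ℕ) [Fact r.Prime] (hr2 : r ≠ 2) (hq : ¬ r ∣ q)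
    (hi : 0 < orderOf (q : ZMod r)) (h : r ∣ q ^ a - 1) : orderOf (q : ZMod r) ∣ a := by
  have h' : r ∣ (q ^ a - 1) * (q ^ 0 + 1) := Dvd.dvd.mul_right h _
  rcases L.order_cases q r a 0 hr2 hq h' with h1 | ⟨h1, h2⟩
  · exact h1
  · exfalso
    rw [Nat.zero_mod] at h2
    obtain ⟨k, hk⟩ := h1
    omega

theorem goodT_congr {ε ε' τ τ' : Prop} (hε : ε ↔ ε') (hτ : τ ↔ τ') (i c T k m j : ℕ) :
    GoodT ε τ i c T k m j ↔ GoodT ε' τ' i c T k m j := by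
  have e1 : ε = ε' := propext hε
  have e2 : τ = τ' := propext hτ
  rw [e1, e2]

/-! ### the glue -/

/-- **CASE LEAF CP** with the leaves of the pack as hypotheses. -/
theorem case_odd_ellP_of [Fintype F] {p : ℕ} [Fact p.Prime] [CharP F p]
    (h0 : HFC0t F) (h1 : HFC1t F) (h2 : HFC2t F) (hA1 : HAR1P) (hA2 : HAR2P) (hD3 : HD3t F)
    (hBR : HBRP F) (hBR0 : HQ0ne F) (hN : HN F) (hK1 : HK1 F)
    (d m : ℕ) (hd : 4 ≤ d) (hm : 2 ≤ m)
    (hme : Even m) (hmd : m < d) (r : ℕ) [Fact r.Prime] (hrp : r ≠ p) (hr2 : r ≠ 2)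
    (hrΩ : r ∣ Nat.card {W : Submodule F (Fin d ⊕ Fin d → F) // IsEllP d m W}) :
    (∀ x : GL (Fin d ⊕ Fin d) F, x ∈ Cfsg.Geo.omegaGL (Cfsg.quadFormPlus d F) →
      (∃ z : F, ((x ^ r : GL (Fin d ⊕ Fin d) F) : Matrix (Fin d ⊕ Fin d) (Fin d ⊕ Fin d) F) =
        z • (1 : Matrix (Fin d ⊕ Fin d) (Fin d ⊕ Fin d) F)) →
      (∀ z : F, (x : Matrix (Fin d ⊕ Fin d) (Fin d ⊕ Fin d) F) ≠
        z • (1 : Matrix (Fin d ⊕ Fin d) (Fin d ⊕ Fin d) F)) →
      ∃ W : Submodule F (Fin d ⊕ Fin d → F), IsEllP d m W ∧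
        W.map (Matrix.toLin' (x : Matrix (Fin d ⊕ Fin d) (Fin d ⊕ Fin d) F)) ≤ W) ↔
    RhsOddP (orderOf ((Fintype.card F : ℕ) : ZMod r)) (cOf (orderOf ((Fintype.card F : ℕ) : ZMod r))) d m := by
  classical
  have hrP : r.Prime := Fact.out
  have hpP : p.Prime := Fact.out
  obtain ⟨f, _, hF⟩ := FiniteField.card F p
  have hfin := L.finrank_Q0 (F := F) d
  have hVnd := L.nonDeg_Q0 (F := F) d
  have hVp := L.plusQ_Q0 (F := F) d
  have hpr : p ≠ r := Ne.symm hrp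
  have hrodd : Odd r := hrP.odd_of_ne_two hr2
  have hrF : (r : F) ≠ 0 := by
    intro h
    rw [CharP.cast_eq_zero_iff F p] at h
    exact hrp ((Nat.prime_dvd_prime_iff_eq hpP hrP).mp h).symm
  have hipos : 0 < orderOf ((Fintype.card F : ℕ) : ZMod r) := orderOf_card_pos p f hF r hpr
  have hnq : ¬ r ∣ Fintype.card F := by
    rw [hF]
    intro h
    exact hrp ((Nat.prime_dvd_prime_iff_eq hrP hpP).mp (hrP.dvd_of_dvd_pow h))
  have hce : Even (cOf (orderOf ((Fintype.card F : ℕ) : ZMod r))) := cOf_even _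
  constructor
  · intro hL
    by_contra hRn
    have hm2 : m = 2 * (m / 2) := by
      obtain ⟨k, hk⟩ := hme
      omega
    -- the count
    have hcount : r ∣ Nat.card {W : Submodule F (Fin d ⊕ Fin d → F) //
        finrank F W = 2 * (m / 2) ∧ NonDeg (pB (Q0 d F)) W ∧ ¬ PlusQ (Q0 d F) W} := by
      have e : {W : Submodule F (Fin d ⊕ Fin d → F) // IsEllP d m W} ≃
          {W : Submodule F (Fin d ⊕ Fin d → F) //
            finrank F W = 2 * (m / 2) ∧ NonDeg (pB (Q0 d F)) W ∧ ¬ PlusQ (Q0 d F) W} :=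
        Equiv.subtypeEquivRight (fun W => by rw [← hm2]; exact hBR d m W)
      rw [← Nat.card_congr e]
      exact hrΩ
    have hK := (hK1 (Q0 d F) hVnd d (m / 2) hfin (by omega) (by omega) r hr2 hrF hcount).1 hVp
    have hw : CountP (orderOf ((Fintype.card F : ℕ) : ZMod r)) d (m / 2) := by
      rcases hK with ⟨j, hj, hdvd⟩ | hdvd | hdvd
      · exact Or.inl ⟨j, hj, L.order_cases (Fintype.card F) r (d - j) (d - j - 1) hr2 hnq hdvd⟩
      · rcases (Nat.Prime.dvd_mul hrP).mp hdvd with h | h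
        · right; left
          have := order_dvd_of_dvd_pow_sub_one (Fintype.card F) r _ hr2 hnq hipos h
          have e : d - m / 2 + 1 = d - (m / 2 - 1) := by omega
          rwa [e] at this
        · right; right
          exact order_dvd_of_dvd_pow_sub_one (Fintype.card F) r _ hr2 hnq hipos h
      · right; right
        have h' : r ∣ Fintype.card F ^ 1 - 1 := by rwa [pow_one]
        have := order_dvd_of_dvd_pow_sub_one (Fintype.card F) r 1 hr2 hnq hipos h'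
        rw [Nat.dvd_one] at this
        rw [this]
        exact one_dvd _
    obtain ⟨T, hT1, hTn, hal, hno⟩ := hA2 _ _ d m hipos rfl hd hm hme hmd hw hRn
    have hke : Even (2 * d - T * cOf (orderOf ((Fintype.card F : ℕ) : ZMod r))) := by
      rw [Nat.even_sub hTn]
      constructor
      · intro _
        exact Even.mul_left hce T
      · intro _
        exact even_two_mul d
    obtain ⟨V, _, _, _, Q, y, hV, hVp', hiso, hy, hyns, hdim, hV1, hV0⟩ :=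
      hD3 p f hF r hpr hr2 hrF _ _ rfl rfl True T _ hT1 hke hal
    have hdim' : finrank F V = 2 * d := by omega
    have hVplus : PlusQ Q ⊤ := hVp'.mpr trivial
    obtain ⟨x, hxΩ, hxr, hxns, E, hE, hEQ⟩ :=
      Cfsg.Agent.Lib.Helper52.OTs.transport_plus_q r hrodd d (by omega) Q hV hdim' hVplus y hiso hy hyns
    obtain ⟨W, hW, hmap⟩ := hL x hxΩ ⟨1, hxr⟩ hxns
    obtain ⟨hWd, hWnd, hWnp⟩ := (hBR d m W).mp hW
    -- transport `W` along `E`
    have hpB : ∀ a c : Fin d ⊕ Fin d → F, pB Q (E a) (E c) = pB (Q0 d F) a c := by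
      intro a c
      rw [pB_apply, pB_apply, ← map_add, hEQ, hEQ, hEQ]
      rfl
    have hW'inv : Inv y (W.map (E : (Fin d ⊕ Fin d → F) →ₗ[F] V)) := by
      rintro _ ⟨w, hw, rfl⟩
      refine ⟨Matrix.toLin' (x : Matrix (Fin d ⊕ Fin d) (Fin d ⊕ Fin d) F) w, hmap ⟨w, hw, rfl⟩, ?_⟩
      exact hE w
    have hW'nd : NonDeg (pB Q) (W.map (E : (Fin d ⊕ Fin d → F) →ₗ[F] V)) := by
      rintro _ ⟨a, ha, rfl⟩ h0'
      have ha0 : a = 0 := by
        apply hWnd a ha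
        intro c hc
        have := h0' (E c) ⟨c, hc, rfl⟩
        rw [LinearEquiv.coe_coe, hpB] at this
        exact this
      rw [ha0, map_zero]
    have hW'd : finrank F (W.map (E : (Fin d ⊕ Fin d → F) →ₗ[F] V)) = m := by
      rw [← hWd]
      exact LinearEquiv.finrank_map_eq E W
    have hW'np : ¬ PlusQ Q (W.map (E : (Fin d ⊕ Fin d → F) →ₗ[F] V)) := by
      rintro ⟨U, hUW, hU0, hUd⟩
      apply hWnp
      refine ⟨U.comap (E : (Fin d ⊕ Fin d → F) →ₗ[F] V), ?_, ?_, ?_⟩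
      · intro u hu
        obtain ⟨w, hw, hwe⟩ := hUW hu
        have : w = u := E.injective hwe
        rw [← this]
        exact hw
      · intro u hu
        have := hU0 (E u) hu
        rw [hEQ] at this
        exact this
      · have h1 : finrank F (U.comap (E : (Fin d ⊕ Fin d → F) →ₗ[F] V)) = finrank F U := by
          have h2 : (U.comap (E : (Fin d ⊕ Fin d → F) →ₗ[F] V)).map
              (E : (Fin d ⊕ Fin d → F) →ₗ[F] V) = U := by
            apply Submodule.map_comap_eq_of_surjective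
            exact E.surjective
          rw [← LinearEquiv.finrank_map_eq E (U.comap (E : (Fin d ⊕ Fin d → F) →ₗ[F] V)), h2]
        rw [h1, hUd, LinearEquiv.finrank_map_eq E W]
    obtain ⟨j, hjT, hjm, hg⟩ := h1 Q hV p f hF r hpr hr2 hrF y hy hiso _ _ rfl rfl T _ hV1 hV0 d hdim' m
      _ hW'inv hW'nd hW'd hme
    have hg' := (goodT_congr hVp' (iff_false_intro hW'np) _ _ _ _ _ _).mp hg
    exact hno j hjT hjm hg'
  · intro hRo x hxΩ hz hns
    obtain ⟨z, hz⟩ := hz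
    have hqi := L.qiso_of_mem_omegaGL d x hxΩ
    obtain ⟨y, hyiso, hyr, hy1, hyW⟩ := hN (Q0 d F) (hBR0 d (by omega)) r hrodd x hqi z hz hns
    obtain ⟨T, hT1, hTn, hV1, hV0, hal⟩ := h0 (Q0 d F) hVnd p f hF r hpr hr2 hrF y hyr hy1 hyiso _ _ rfl rfl
      d hfin
    have hεT : PlusQ (Q0 d F) ⊤ ↔ True := iff_true_intro hVp
    have hal' : 0 < 2 * d - T * cOf (orderOf ((Fintype.card F : ℕ) : ZMod r)) ∨
        (True ↔ tPlus (orderOf ((Fintype.card F : ℕ) : ZMod r)) T) := by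
      rcases hal with h | h
      · exact Or.inl h
      · exact Or.inr (hεT.symm.trans h)
    obtain ⟨j, hjT, hjm, hg⟩ := hA1 _ _ d m T hipos rfl hd hm hme hmd hT1 hTn hal' hRo
    have hg' := (goodT_congr hεT (Iff.refl False) _ _ _ _ _ _).mpr hg
    obtain ⟨W, hWinv, hWnd, hWd, hWp⟩ := h2 (Q0 d F) hVnd p f hF r hpr hr2 hrF y hyr hyiso _ _ rfl rfl T _
      hV1 hV0 d hfin m hme False j hjT hjm hg'
    exact ⟨W, (hBR d m W).mpr ⟨hWd, hWnd, fun h => hWp.mp h⟩, hyW W hWinv⟩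

end Cfsg.Agent.Lib.Helper56.OEl
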