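import Mathlib
import Cfsg.Prelude.Def_Classical
import Cfsg.Prelude.Def_GeometricClasses
import Cfsg.Agent.Lib.Helper49.SUBDefs

/-!
# K-SUB pack (S5965), leaf 596506 K-SUB-6 (helper56): `x = diag(ζ, ζ⁻¹, 1, …, 1)`
-/

set_option autoImplicit false

namespace Cfsg.Agent.Lib.Helper56.SUB

open Matrix Cfsg.Agent.Lib.Helper49.SUB

variable {F : Type*} [Field F]

/-- the diagonal entries `a, b, 1, …, 1` -/
def pairEntries (a b : F) (j : ℕ) : F := if j = 0 then a else if j = 1 then b else 1

theorem card_pairEntries [DecidableEq F] {n : ℕ} (hn : 2 ≤ n) (a b α : F) :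
    (Finset.univ.filter fun k : Fin n => pairEntries a b k = α).card =
      (if a = α then 1 else 0) + (if b = α then 1 else 0) + (if 1 = α then n - 2 else 0) := by
  rw [Finset.card_filter, Fin.sum_univ_eq_sum_range (fun j => if pairEntries a b j = α then 1 else 0) n]
  obtain ⟨m, rfl⟩ : ∃ m, n = 2 + m := ⟨n - 2, by omega⟩
  rw [Finset.sum_range_add, Finset.sum_range_succ, Finset.sum_range_one]
  have h1 : ∀ x, pairEntries a b (2 + x) = 1 := by
    intro x
    unfold pairEntries
    rw [if_neg (by omega), if_neg (by omega)]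
  simp only [h1]
  have h2 : pairEntries a b 0 = a := by unfold pairEntries; simp
  have h3 : pairEntries a b 1 = b := by unfold pairEntries; simp
  rw [h2, h3, Finset.sum_const, Finset.card_range, Nat.add_sub_cancel_left]
  split_ifs <;> simp

theorem prod_pairEntries {n : ℕ} (hn : 2 ≤ n) (a b : F) (h : a * b = 1) :
    ∏ k : Fin n, pairEntries a b k = 1 := by
  rw [Fin.prod_univ_eq_prod_range (fun j => pairEntries a b j) n]
  obtain ⟨m, rfl⟩ : ∃ m, n = 2 + m := ⟨n - 2, by omega⟩
  rw [Finset.prod_range_add, Finset.prod_range_succ, Finset.prod_range_one]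
  have h1 : ∀ x, pairEntries a b (2 + x) = 1 := by
    intro x
    unfold pairEntries
    rw [if_neg (by omega), if_neg (by omega)]
  simp only [h1]
  have h2 : pairEntries a b 0 = a := by unfold pairEntries; simp
  have h3 : pairEntries a b 1 = b := by unfold pairEntries; simp
  rw [h2, h3, h, Finset.prod_const_one, mul_one]

theorem pairEntries_mem (a b : F) (j : ℕ) :
    pairEntries a b j = a ∨ pairEntries a b j = b ∨ pairEntries a b j = 1 := by
  unfold pairEntries
  split_ifs
  · exact Or.inl rfl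
  · exact Or.inr (Or.inl rfl)
  · exact Or.inr (Or.inr rfl)

/-- powers of an element of `GL` with diagonal matrix -/
theorem pow_eq_one_of_diag {n : ℕ} (x : GL (Fin n) F) (d : Fin n → F)
    (hx : (x : Matrix (Fin n) (Fin n) F) = Matrix.diagonal d) (r : ℕ)
    (hr : ∀ k, d k ^ r = 1) : x ^ r = 1 := by
  apply Units.ext
  rw [Units.val_pow_eq_pow_val, hx, Matrix.diagonal_pow, Units.val_one, ← Matrix.diagonal_one]
  congr 1
  funext k
  exact hr k

/-- an element of `F` of prime order `r ∣ q - 1` -/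
theorem exists_root [Fintype F] (r : ℕ) [Fact r.Prime] (hrq : r ∣ Fintype.card F - 1) :
    ∃ ζ : F, ζ ≠ 0 ∧ ζ ^ r = 1 ∧ ∀ k, ζ ^ k = 1 → r ∣ k := by
  classical
  obtain ⟨u, hu⟩ : ∃ u : Fˣ, orderOf u = r :=
    exists_prime_orderOf_dvd_card r (by rw [Fintype.card_units]; exact hrq)
  have hord : orderOf (u : F) = r := by rw [← hu, orderOf_units]
  refine ⟨(u : F), u.ne_zero, ?_, ?_⟩
  · rw [← hord]; exact pow_orderOf_eq_one _
  · intro k hk
    rw [← hord]; exact orderOf_dvd_of_pow_eq_one hk

/-- a prime dividing `q - 1` does not divide the order of a subfield -/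
theorem not_dvd_card_subfield [Fintype F] (F₀ : Subfield F) (r : ℕ) [Fact r.Prime]
    (hrq : r ∣ Fintype.card F - 1) : ¬ r ∣ Nat.card ↥F₀ := by
  intro h
  have hr : r.Prime := Fact.out
  have hcard : Nat.card F = Nat.card ↥F₀ ^ Module.finrank ↥F₀ F :=
    Module.natCard_eq_pow_finrank (K := ↥F₀) (V := F)
  have hpos : 0 < Module.finrank ↥F₀ F := Module.finrank_pos
  have h1 : r ∣ Nat.card F := by
    rw [hcard]
    exact dvd_pow h hpos.ne'
  rw [Nat.card_eq_fintype_card] at h1
  have h2 : 0 < Fintype.card F := Fintype.card_pos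
  have h3 : r ∣ 1 := by
    have : Fintype.card F - (Fintype.card F - 1) = 1 := by omega
    rw [← this]
    exact Nat.dvd_sub h1 hrq
  exact hr.one_lt.ne' (Nat.dvd_one.mp h3)

/-- **K-SUB-6.** `r ∣ q - 1`, `q₀ ≢ ±1 mod r`: `x = diag(ζ, ζ⁻¹, 1, …, 1)`. -/
theorem derange_pair_sub [Fintype F] [DecidableEq F] (F₀ : Subfield F) {q₀ : ℕ}
    (hF₀ : Nat.card ↥F₀ = q₀)
    (n : ℕ) (hn : 2 ≤ n) (hpair : FrobPairing F₀ n q₀) (r : ℕ) [Fact r.Prime] (hr5 : 5 ≤ r)
    (hrq : r ∣ Fintype.card F - 1) (h1 : ¬ r ∣ q₀ - 1) (h2 : ¬ r ∣ q₀ + 1) :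
    ∃ x : GL (Fin n) F, x ∈ Cfsg.Geo.specialLinear (Fin n) F ∧ x ^ r = 1 ∧
      (∀ z : F, (x : Matrix (Fin n) (Fin n) F) ≠ z • (1 : Matrix (Fin n) (Fin n) F)) ∧
      ∀ g : GL (Fin n) F, g⁻¹ * x * g ∉ HS F₀ n := by
  classical
  have hr : r.Prime := Fact.out
  obtain ⟨ζ, hζ0, hζr, hpow⟩ := exists_root (F := F) r hrq
  have hq0 : ¬ r ∣ q₀ := by rw [← hF₀]; exact not_dvd_card_subfield F₀ r hrq
  have hq0pos : 0 < q₀ := by
    rcases Nat.eq_zero_or_pos q₀ with h | h
    · exact absurd (h ▸ dvd_zero r) hq0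
    · exact h
  have hne1 : ζ ≠ 1 := fun h => by
    have := Nat.le_of_dvd (by norm_num) (hpow 1 (by rw [pow_one]; exact h)); omega
  have hne2 : ζ ^ 2 ≠ 1 := fun h => by
    have := Nat.le_of_dvd (by norm_num) (hpow 2 h); omega
  set w : F := ζ⁻¹ with hwdef
  have hζw : ζ * w = 1 := mul_inv_cancel₀ hζ0
  have hw0 : w ≠ 0 := inv_ne_zero hζ0
  have hwr : w ^ r = 1 := by rw [hwdef, inv_pow, hζr, inv_one]
  have hw1 : w ≠ 1 := by
    intro h
    rw [h, mul_one] at hζw
    exact hne1 hζw
  have hwζ : w ≠ ζ := by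
    intro h
    rw [h, ← pow_two] at hζw
    exact hne2 hζw
  -- square roots of one among the `r`-th roots of unity
  have hsq : ∀ y : F, y ^ 2 = 1 → y ^ r = 1 → y = 1 := by
    intro y hy2 hyr
    have h := (pow_gcd_eq_one (a := y) (m := 2) (n := r)).mpr ⟨hy2, hyr⟩
    have hg : Nat.gcd 2 r = 1 := by
      rw [Nat.gcd_comm]
      exact (Nat.coprime_primes hr Nat.prime_two).mpr (by omega)
    rw [hg, pow_one] at h
    exact h
  -- the Frobenius image of `ζ`
  set a : F := ζ ^ q₀ with hadef
  have ha0 : a ≠ 0 := pow_ne_zero _ hζ0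
  have har : a ^ r = 1 := by rw [hadef, ← pow_mul, mul_comm, pow_mul, hζr, one_pow]
  have hwa : w ^ q₀ = a⁻¹ := by rw [hwdef, inv_pow]
  have haζ : a ≠ ζ := by
    intro h
    apply h1
    apply hpow
    have h3 : ζ ^ (q₀ - 1) * ζ = 1 * ζ := by
      rw [← pow_succ, Nat.sub_add_cancel hq0pos, one_mul]; exact h
    exact mul_right_cancel₀ hζ0 h3
  have haw : a ≠ w := by
    intro h
    apply h2
    apply hpow
    rw [pow_succ, ← hadef, h, mul_comm]
    exact hζw
  have ha1 : a ≠ 1 := fun h => hq0 (hpow q₀ h)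
  let d : Fin n → F := fun k => pairEntries ζ w k
  have hE : ∀ α : F, (Finset.univ.filter fun k : Fin n => d k = α).card =
      (if ζ = α then 1 else 0) + (if w = α then 1 else 0) + (if 1 = α then n - 2 else 0) :=
    fun α => card_pairEntries hn ζ w α
  have hmem : ∀ β : F, 0 < (Finset.univ.filter fun k : Fin n => d k = β).card →
      β = ζ ∨ β = w ∨ β = 1 := by
    intro β hβ
    rw [hE] at hβ
    by_cases c1 : ζ = β
    · exact Or.inl c1.symm
    · by_cases c2 : w = β
      · exact Or.inr (Or.inl c2.symm)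
      · by_cases c3 : (1 : F) = β
        · exact Or.inr (Or.inr c3.symm)
        · rw [if_neg c1, if_neg c2, if_neg c3] at hβ
          omega
  have hdet : ∏ k, d k = 1 := prod_pairEntries hn ζ w hζw
  have hdet' : (Matrix.diagonal d).det ≠ 0 := by
    rw [Matrix.det_diagonal, hdet]; exact one_ne_zero
  set x : GL (Fin n) F := Matrix.GeneralLinearGroup.mkOfDetNeZero (Matrix.diagonal d) hdet'
    with hxdef
  have hx : (x : Matrix (Fin n) (Fin n) F) = Matrix.diagonal d := rfl
  refine ⟨x, ?_, ?_, ?_, ?_⟩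
  · rw [Cfsg.Geo.specialLinear, MonoidHom.mem_ker]
    apply Units.ext
    rw [Matrix.GeneralLinearGroup.val_det_apply, hx, Matrix.det_diagonal, hdet]
    rfl
  · apply pow_eq_one_of_diag x d hx r
    intro k
    show pairEntries ζ w k ^ r = 1
    rcases pairEntries_mem ζ w k with h | h | h
    · rw [h, hζr]
    · rw [h, hwr]
    · rw [h, one_pow]
  · intro z hz
    rw [hx] at hz
    have ea := congrFun (congrFun hz (⟨0, by omega⟩ : Fin n)) ⟨0, by omega⟩
    have eb := congrFun (congrFun hz (⟨1, by omega⟩ : Fin n)) ⟨1, by omega⟩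
    simp only [Matrix.diagonal_apply_eq, Matrix.smul_apply, Matrix.one_apply_eq, smul_eq_mul,
      mul_one] at ea eb
    have e0 : d ⟨0, by omega⟩ = ζ := by
      show pairEntries ζ w 0 = ζ
      unfold pairEntries; simp
    have e1 : d ⟨1, by omega⟩ = w := by
      show pairEntries ζ w 1 = w
      unfold pairEntries; simp
    rw [e0] at ea
    rw [e1] at eb
    exact hwζ (eb.trans ea.symm)
  · intro g hy
    obtain ⟨c, hc0, hc⟩ := hpair x g d hx hy
    have hcardζ : (Finset.univ.filter fun k : Fin n => d k = ζ).card = 1 := by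
      rw [hE, if_pos rfl, if_neg hwζ, if_neg (Ne.symm hne1)]
    have hcardw : (Finset.univ.filter fun k : Fin n => d k = w).card = 1 := by
      rw [hE, if_neg (Ne.symm hwζ), if_pos rfl, if_neg (Ne.symm hw1)]
    have p1 := hc ζ
    rw [hcardζ, ← hadef] at p1
    have p2 := hc w
    rw [hcardw, hwa] at p2
    have m1 := hmem (c * a) (by rw [p1]; exact Nat.one_pos)
    have m2 := hmem (c * a⁻¹) (by rw [p2]; exact Nat.one_pos)
    -- the value `c` when `1` is an eigenvalue
    have p3 := hc 1
    rw [one_pow, mul_one] at p3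
    have hc3 : (c * a = 1 ∨ c * a⁻¹ = 1) → c = ζ ∨ c = w ∨ c = 1 := by
      intro hor
      apply hmem c
      rw [p3]
      rcases hor with h | h
      · rw [← h, p1]; exact Nat.one_pos
      · rw [← h, p2]; exact Nat.one_pos
    -- `c = a` or `c = a⁻¹` is impossible
    have hca : c ≠ a⁻¹ ∨ ¬ (c * a = 1 ∨ c * a⁻¹ = 1) := by
      by_contra hcon
      push Not at hcon
      obtain ⟨hcai, hor⟩ := hcon
      rcases hc3 hor with h | h | h
      · apply haw
        rw [hwdef, ← h, hcai, inv_inv]
      · apply haζ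
        have : a⁻¹ = ζ⁻¹ := by rw [← hcai, h]
        exact inv_injective this
      · apply ha1
        have : a⁻¹ = 1 := by rw [← hcai, h]
        rw [inv_eq_one] at this
        exact this
    have hca' : c ≠ a ∨ ¬ (c * a = 1 ∨ c * a⁻¹ = 1) := by
      by_contra hcon
      push Not at hcon
      obtain ⟨hcai, hor⟩ := hcon
      rcases hc3 hor with h | h | h
      · exact haζ (hcai.symm.trans h)
      · exact haw (hcai.symm.trans h)
      · exact ha1 (hcai.symm.trans h)
    have key : ∀ β γ : F, c * a = β → c * a⁻¹ = γ → a ^ 2 = β * γ⁻¹ := by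
      intro β γ hβ hγ
      rw [← hβ, ← hγ, mul_inv, inv_inv]
      field_simp
    rcases m1 with e1 | e1 | e1 <;> rcases m2 with e2 | e2 | e2
    · -- a² = 1
      have h := key _ _ e1 e2
      rw [mul_inv_cancel₀ hζ0] at h
      exact ha1 (hsq a h har)
    · -- a² = ζ²
      have h := key _ _ e1 e2
      have h' : (a * w) ^ 2 = 1 := by
        rw [mul_pow, h, hwdef, inv_inv]
        field_simp
      have h'' := hsq (a * w) h' (by rw [mul_pow, har, hwr, one_mul])
      apply haζ
      rw [hwdef] at h''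
      exact (eq_inv_of_mul_eq_one_left h'').trans (inv_inv ζ)
    · -- c = a
      have hcai : c = a := by
        have := e2
        rw [mul_inv_eq_one₀ ha0] at this
        exact this
      rcases hca' with h | h
      · exact h hcai
      · exact h (Or.inr e2)
    · -- a² = w²
      have h := key _ _ e1 e2
      have h' : (a * ζ) ^ 2 = 1 := by
        rw [mul_pow, h, hwdef]
        field_simp
      have h'' := hsq (a * ζ) h' (by rw [mul_pow, har, hζr, one_mul])
      apply haw
      rw [hwdef]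
      exact eq_inv_of_mul_eq_one_left h''
    · -- a² = 1
      have h := key _ _ e1 e2
      rw [mul_inv_cancel₀ hw0] at h
      exact ha1 (hsq a h har)
    · have hcai : c = a := by
        have := e2
        rw [mul_inv_eq_one₀ ha0] at this
        exact this
      rcases hca' with h | h
      · exact h hcai
      · exact h (Or.inr e2)
    · have hcai : c = a⁻¹ := eq_inv_of_mul_eq_one_left e1
      rcases hca with h | h
      · exact h hcai
      · exact h (Or.inl e1)
    · have hcai : c = a⁻¹ := eq_inv_of_mul_eq_one_left e1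
      rcases hca with h | h
      · exact h hcai
      · exact h (Or.inl e1)
    · have h := key _ _ e1 e2
      rw [inv_one, mul_one] at h
      exact ha1 (hsq a h har)

end Cfsg.Agent.Lib.Helper56.SUB
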