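import Mathlib
import Cfsg.Agent.Lib.Helper49.StSUDefs

/-!
# K-StSU pack (S2546), leaf E2 (254603, helper56): the last reflection has the expected matrix.
-/

set_option autoImplicit false
set_option linter.unusedSectionVars false

namespace Cfsg.Agent.Lib.Helper56.StSU

open Cfsg Cfsg.Agent.Lib.Helper49.StSU Matrix

variable {n : ℕ} {F : Type*} [Field F] {q : ℕ}

/-- generalised permutation matrix of a transposition -/
def gpm (i j : Fin n) (c : Fin n → F) : Matrix (Fin n) (Fin n) F :=
  (Equiv.swap i j).permMatrix F * Matrix.diagonal c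

theorem gpm_apply (i j : Fin n) (c : Fin n → F) (x y : Fin n) :
    gpm i j c x y = if Equiv.swap i j x = y then c y else 0 := by
  unfold gpm
  rw [Matrix.mul_diagonal]
  simp [Equiv.Perm.permMatrix, PEquiv.toMatrix_apply, Equiv.toPEquiv_apply]

theorem gpm_mulVec (i j : Fin n) (c : Fin n → F) (u : Fin n → F) (x : Fin n) :
    (gpm i j c *ᵥ u) x = c (Equiv.swap i j x) * u (Equiv.swap i j x) := by
  unfold gpm
  rw [← Matrix.mulVec_mulVec, Matrix.permMatrix_mulVec, Function.comp_apply, Matrix.mulVec_diagonal]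

theorem gpm_det (i j : Fin n) (hij : i ≠ j) (c : Fin n → F) (hprod : ∏ x, c x = -1) :
    (gpm i j c).det = 1 := by
  unfold gpm
  rw [Matrix.det_mul, Matrix.det_permutation, Equiv.Perm.sign_swap hij, Matrix.det_diagonal, hprod]
  simp

theorem swap_rev (i j : Fin n) (hrev : Fin.rev i = j) (x : Fin n) :
    Equiv.swap i j (Fin.rev x) = Fin.rev (Equiv.swap i j x) := by
  have hrev' : Fin.rev j = i := by rw [← hrev, Fin.rev_rev]
  by_cases h1 : x = i
  · subst h1
    rw [hrev, Equiv.swap_apply_right, Equiv.swap_apply_left, hrev']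
  · by_cases h2 : x = j
    · subst h2
      rw [hrev', Equiv.swap_apply_left, Equiv.swap_apply_right, hrev]
    · rw [Equiv.swap_apply_of_ne_of_ne h1 h2, Equiv.swap_apply_of_ne_of_ne]
      · intro h
        apply h2
        rw [← hrev, ← h, Fin.rev_rev]
      · intro h
        apply h1
        rw [← hrev', ← h, Fin.rev_rev]

theorem gpm_hJ (i j : Fin n) (hrev : Fin.rev i = j) (c : Fin n → F)
    (hc : ∀ x, c x * (c (Fin.rev x)) ^ q = 1) (u v : Fin n → F) :
    hJ n F q (gpm i j c *ᵥ u) (gpm i j c *ᵥ v) = hJ n F q u v := by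
  unfold hJ
  simp only [gpm_mulVec]
  rw [← Equiv.sum_comp (Equiv.swap i j) (fun x => u x * v (Fin.rev x) ^ q)]
  apply Finset.sum_congr rfl
  intro x _
  rw [swap_rev i j hrev, mul_pow]
  have h := hc (Equiv.swap i j x)
  calc c (Equiv.swap i j x) * u (Equiv.swap i j x) *
        (c (Fin.rev (Equiv.swap i j x)) ^ q * v (Fin.rev (Equiv.swap i j x)) ^ q)
      = (c (Equiv.swap i j x) * c (Fin.rev (Equiv.swap i j x)) ^ q) *
        (u (Equiv.swap i j x) * v (Fin.rev (Equiv.swap i j x)) ^ q) := by ring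
    _ = u (Equiv.swap i j x) * v (Fin.rev (Equiv.swap i j x)) ^ q := by rw [h, one_mul]

theorem neg_one_pow_q [Fintype F] (p : ℕ) [Fact p.Prime] [CharP F p]
    (hF : Fintype.card F = q ^ 2) : (-1 : F) ^ q = -1 := by
  obtain ⟨m, hp, hm⟩ := FiniteField.card F p
  by_cases h2 : p = 2
  · subst h2
    have h1 : (-1 : F) = 1 := CharTwo.neg_eq 1
    rw [h1, one_pow]
  · have hodd : Odd q := by
      by_contra hne
      rw [Nat.not_odd_iff_even] at hne
      have h3 : 2 ∣ q ^ 2 := dvd_pow hne.two_dvd two_ne_zero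
      rw [← hF, hm] at h3
      have h4 := Nat.Prime.dvd_of_dvd_pow Nat.prime_two h3
      have h5 := (Nat.prime_dvd_prime_iff_eq Nat.prime_two hp).mp h4
      exact h2 h5.symm
    exact hodd.neg_one_pow

/-! ### the even case -/

theorem sEvenMat_eq (hpar : n % 2 = 0) (hn : 2 ≤ n) (a : F) :
    sEvenMat n F a =
      gpm (⟨n / 2 - 1, by omega⟩ : Fin n) (⟨n / 2, by omega⟩ : Fin n)
        (fun y => if y.val = n / 2 then a else if y.val = n / 2 - 1 then -a⁻¹ else 1) := by
  ext x y
  rw [gpm_apply, Equiv.swap_apply_def]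
  unfold sEvenMat
  simp only [Fin.ext_iff]
  have hx := x.2
  have hy := y.2
  split_ifs <;> (try simp only at *) <;> first | rfl | (exfalso; omega)

theorem even_case [Fintype F] (p : ℕ) [Fact p.Prime] [CharP F p] (hF : Fintype.card F = q ^ 2)
    (hpar : n % 2 = 0) (hn : 2 ≤ n) (a : F) (ha : a ≠ 0) (ha' : a ^ q = -a) :
    (sEvenMat n F a).det = 1 ∧
      ∀ u v, hJ n F q (sEvenMat n F a *ᵥ u) (sEvenMat n F a *ᵥ v) = hJ n F q u v := by
  have hm1 := neg_one_pow_q (F := F) (q := q) p hF
  rw [sEvenMat_eq hpar hn a]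
  constructor
  · apply gpm_det
    · intro h
      rw [Fin.mk.injEq] at h
      omega
    · rw [Finset.prod_eq_mul (⟨n / 2, by omega⟩ : Fin n) (⟨n / 2 - 1, by omega⟩ : Fin n)]
      · rw [if_pos rfl, if_neg (show ¬ (n / 2 - 1 = n / 2) by omega), if_pos rfl]
        field_simp
      · intro h
        rw [Fin.mk.injEq] at h
        omega
      · intro c _ hc
        have h1 : c.val ≠ n / 2 := fun h => hc.1 (Fin.ext h)
        have h2 : c.val ≠ n / 2 - 1 := fun h => hc.2 (Fin.ext h)
        rw [if_neg h1, if_neg h2]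
      · intro h; exact absurd (Finset.mem_univ _) h
      · intro h; exact absurd (Finset.mem_univ _) h
  · apply gpm_hJ
    · apply Fin.ext
      rw [Fin.val_rev]
      simp only
      omega
    · intro x
      have hx := x.2
      simp only [Fin.val_rev]
      by_cases h1 : x.val = n / 2
      · rw [if_pos h1, if_neg (by omega), if_pos (by omega)]
        have : (-a⁻¹) ^ q = a⁻¹ := by
          rw [← inv_neg, inv_pow, neg_pow, hm1, ha']
          simp
        rw [this, mul_inv_cancel₀ ha]
      · by_cases h2 : x.val = n / 2 - 1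
        · rw [if_neg h1, if_pos h2, if_pos (by omega), ha']
          field_simp
        · rw [if_neg h1, if_neg h2, if_neg (by omega), if_neg (by omega), one_pow, one_mul]

/-! ### the odd case -/

theorem sOddMat_eq (hpar : n % 2 = 1) (hn : 2 ≤ n) :
    sOddMat n F =
      gpm (⟨n / 2 - 1, by omega⟩ : Fin n) (⟨n / 2 + 1, by omega⟩ : Fin n)
        (fun y => if y.val = n / 2 then (-1 : F) else 1) := by
  ext x y
  rw [gpm_apply, Equiv.swap_apply_def]
  unfold sOddMat
  simp only [Fin.ext_iff]
  have hx := x.2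
  have hy := y.2
  split_ifs <;> (try simp only at *) <;> first | rfl | (exfalso; omega)

theorem odd_case [Fintype F] (p : ℕ) [Fact p.Prime] [CharP F p] (hF : Fintype.card F = q ^ 2)
    (hpar : n % 2 = 1) (hn : 2 ≤ n) :
    (sOddMat n F).det = 1 ∧
      ∀ u v, hJ n F q (sOddMat n F *ᵥ u) (sOddMat n F *ᵥ v) = hJ n F q u v := by
  have hm1 := neg_one_pow_q (F := F) (q := q) p hF
  rw [sOddMat_eq hpar hn]
  constructor
  · apply gpm_det
    · intro h
      rw [Fin.mk.injEq] at h
      omega
    · rw [Finset.prod_eq_single (⟨n / 2, by omega⟩ : Fin n)]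
      · rw [if_pos rfl]
      · intro c _ hc
        have h1 : c.val ≠ n / 2 := fun h => hc (Fin.ext h)
        rw [if_neg h1]
      · intro h; exact absurd (Finset.mem_univ _) h
  · apply gpm_hJ
    · apply Fin.ext
      rw [Fin.val_rev]
      simp only
      omega
    · intro x
      have hx := x.2
      simp only [Fin.val_rev]
      by_cases h1 : x.val = n / 2
      · rw [if_pos h1, if_pos (by omega), hm1]
        simp
      · rw [if_neg h1, if_neg (by omega), one_pow, one_mul]

/-- LEAF E2 -/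
theorem mat_sLast [Fintype F] (p : ℕ) [Fact p.Prime] [CharP F p] (hF : Fintype.card F = q ^ 2)
    (ha : aPar F q ≠ 0) (ha' : aPar F q ^ q = -aPar F q) (hn : 2 ≤ n) :
    mat (sLast n F q) = sLastMat n F q := by
  unfold sLast
  by_cases hpar : n % 2 = 0
  · obtain ⟨h1, h2⟩ := even_case (n := n) (F := F) (q := q) p hF hpar hn (aPar F q) ha ha'
    have e : sLastMat n F q = sEvenMat n F (aPar F q) := by
      unfold sLastMat
      rw [if_pos hpar]
    rw [e]
    exact mat_mk _ h1 h2
  · have hpar' : n % 2 = 1 := by omega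
    obtain ⟨h1, h2⟩ := odd_case (n := n) (F := F) (q := q) p hF hpar' hn
    have e : sLastMat n F q = sOddMat n F := by
      unfold sLastMat
      rw [if_neg hpar]
    rw [e]
    exact mat_mk _ h1 h2

end Cfsg.Agent.Lib.Helper56.StSU

section check

open Cfsg Cfsg.Agent.Lib.Helper49.StSU

variable {n : ℕ} {F : Type*} [Field F] {q : ℕ}

/-- verbatim copy of the spec statement -/
theorem Cfsg.Agent.Lib.Helper56.StSU.e2_spec_check [Fintype F] (p : ℕ) [Fact p.Prime] [CharP F p] (hF : Fintype.card F = q ^ 2)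
    (ha : aPar F q ≠ 0) (ha' : aPar F q ^ q = -aPar F q) (hn : 2 ≤ n) :
    mat (sLast n F q) = sLastMat n F q :=
  Cfsg.Agent.Lib.Helper56.StSU.mat_sLast p hF ha ha' hn

example : @Cfsg.Agent.Lib.Helper56.StSU.e2_spec_check = @Cfsg.Agent.Lib.Helper56.StSU.mat_sLast := rfl

end check

#print axioms Cfsg.Agent.Lib.Helper56.StSU.mat_sLast
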