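import Mathlib
import Cfsg.Agent.Lib.Helper49.StSpDefs

/-!
# K-StSp pack (S2545), leaf F2S (254504, helper56): the dichotomy for a monomial matrix and a short
simple root.
-/

set_option autoImplicit false
set_option linter.unusedSectionVars false

namespace Cfsg.Agent.Lib.Helper56.StSp

open Cfsg Cfsg.Agent.Lib.Helper49.StSp Matrix

variable {m : ℕ} {F : Type*} [Field F]

/-- conjugating by a monomial matrix: it is enough to look at the entries `(σ a, σ b)` -/
theorem f2s_conj_mem_B_of (n X : SpG m F) (σ : Equiv.Perm (Fin m ⊕ Fin m)) (hn : MonWith m F n σ)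
    (h : ∀ a b, pos m b < pos m a →
      (X.1 : Matrix (Fin m ⊕ Fin m) (Fin m ⊕ Fin m) F) (σ a) (σ b) = 0) :
    n⁻¹ * X * n ∈ Bsub m F := by
  rw [mem_Bsub_iff]
  intro a b hab
  have h1 : n * (n⁻¹ * X * n) = X * n := by group
  have h2 : (n.1 : Matrix (Fin m ⊕ Fin m) (Fin m ⊕ Fin m) F) * (n⁻¹ * X * n : SpG m F).1 =
      X.1 * n.1 := congrArg Subtype.val h1
  have h3 := congrFun (congrFun h2 (σ a)) b
  rw [Matrix.mul_apply, Matrix.mul_apply] at h3
  rw [Finset.sum_eq_single a, Finset.sum_eq_single (σ b)] at h3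
  · rw [h _ _ hab, zero_mul] at h3
    have hne : (n.1 : Matrix (Fin m ⊕ Fin m) (Fin m ⊕ Fin m) F) (σ a) a ≠ 0 := (hn.1 _ _).mpr rfl
    exact (mul_eq_zero.mp h3).resolve_left hne
  · intro q _ hq
    have : (n.1 : Matrix (Fin m ⊕ Fin m) (Fin m ⊕ Fin m) F) q b = 0 := by
      by_contra hne
      exact hq ((hn.1 _ _).mp hne)
    rw [this, mul_zero]
  · intro hh; exact absurd (Finset.mem_univ _) hh
  · intro c _ hc
    have : (n.1 : Matrix (Fin m ⊕ Fin m) (Fin m ⊕ Fin m) F) (σ a) c = 0 := by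
      by_contra hne
      exact hc (σ.injective ((hn.1 _ _).mp hne)).symm
    rw [this, zero_mul]
  · intro hh; exact absurd (Finset.mem_univ _) hh

/-- the off-diagonal entries of a short root element -/
theorem f2s_xShortMat_apply_eq_zero (i j : Fin m) (t : F) (a b : Fin m ⊕ Fin m) (hab : a ≠ b)
    (h1 : ¬ (a = Sum.inl i ∧ b = Sum.inl j)) (h2 : ¬ (a = Sum.inr j ∧ b = Sum.inr i)) :
    xShortMat m F i j t a b = 0 := by
  unfold xShortMat
  rcases a with p | p <;> rcases b with q | q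
  · rw [Matrix.fromBlocks_apply₁₁, Matrix.transvection, Matrix.add_apply, Matrix.single_apply,
      Matrix.one_apply_ne (fun e => hab (by rw [e])), zero_add, if_neg]
    rintro ⟨rfl, rfl⟩
    exact h1 ⟨rfl, rfl⟩
  · rw [Matrix.fromBlocks_apply₁₂, Matrix.zero_apply]
  · rw [Matrix.fromBlocks_apply₂₁, Matrix.zero_apply]
  · rw [Matrix.fromBlocks_apply₂₂, Matrix.transvection, Matrix.add_apply, Matrix.single_apply,
      Matrix.one_apply_ne (fun e => hab (by rw [e])), zero_add, if_neg]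
    rintro ⟨rfl, rfl⟩
    exact h2 ⟨rfl, rfl⟩

theorem f2s_pos_le (a : Fin m ⊕ Fin m) : pos m a ≤ 2 * m - 1 := by
  rcases a with a | a <;> simp only [pos]
  · have := a.2; omega
  · omega

/-- one half of the dichotomy, for arbitrary `i ≠ j` -/
theorem f2s_half (i j : Fin m) (hij : i ≠ j) (n : SpG m F)
    (σ : Equiv.Perm (Fin m ⊕ Fin m)) (hn : MonWith m F n σ)
    (hlt : pos m (σ.symm (Sum.inl i)) < pos m (σ.symm (Sum.inl j))) (t : F) :
    n⁻¹ * xS m F i j hij t * n ∈ Bsub m F := by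
  apply f2s_conj_mem_B_of n _ σ hn
  intro a b hab
  show xShortMat m F i j t (σ a) (σ b) = 0
  have hne : a ≠ b := by
    rintro rfl
    exact lt_irrefl _ hab
  apply f2s_xShortMat_apply_eq_zero
  · exact fun e => hne (σ.injective e)
  · rintro ⟨ha, hb⟩
    have ha' : σ.symm (Sum.inl i) = a := by rw [← ha, Equiv.symm_apply_apply]
    have hb' : σ.symm (Sum.inl j) = b := by rw [← hb, Equiv.symm_apply_apply]
    rw [ha', hb'] at hlt
    exact lt_asymm hlt hab
  · rintro ⟨ha, hb⟩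
    have ha' : σ.symm (Sum.inl j) = a.swap := by
      rw [Equiv.symm_apply_eq, hn.2 a, ha, Sum.swap_inr]
    have hb' : σ.symm (Sum.inl i) = b.swap := by
      rw [Equiv.symm_apply_eq, hn.2 b, hb, Sum.swap_inr]
    rw [ha', hb', pos_swap, pos_swap] at hlt
    have h1 := f2s_pos_le a
    have h2 := f2s_pos_le b
    omega

/-- LEAF F2S -/
theorem dich_short (i : Fin m) (hi : i.val + 1 < m) (n : SpG m F)
    (σ : Equiv.Perm (Fin m ⊕ Fin m)) (hn : MonWith m F n σ) :
    (∀ t : F, n⁻¹ * xS m F i (nxt i hi) (ne_nxt i hi) t * n ∈ Bsub m F) ∨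
      (∀ t : F, n⁻¹ * xS m F (nxt i hi) i (nxt_ne i hi) t * n ∈ Bsub m F) := by
  have hne : pos m (σ.symm (Sum.inl i)) ≠ pos m (σ.symm (Sum.inl (nxt i hi))) := by
    intro e
    have := σ.symm.injective (pos_injective m e)
    exact ne_nxt i hi (Sum.inl_injective this)
  rcases lt_or_gt_of_ne hne with h | h
  · exact Or.inl fun t => f2s_half i (nxt i hi) (ne_nxt i hi) n σ hn h t
  · exact Or.inr fun t => f2s_half (nxt i hi) i (nxt_ne i hi) n σ hn h t

end Cfsg.Agent.Lib.Helper56.StSp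

section check

open Cfsg Cfsg.Agent.Lib.Helper49.StSp

variable {m : ℕ} {F : Type*} [Field F]

/-- verbatim copy of the spec statement -/
theorem Cfsg.Agent.Lib.Helper56.StSp.f2s_spec_check (i : Fin m) (hi : i.val + 1 < m) (n : SpG m F)
    (σ : Equiv.Perm (Fin m ⊕ Fin m)) (hn : MonWith m F n σ) :
    (∀ t : F, n⁻¹ * xS m F i (nxt i hi) (ne_nxt i hi) t * n ∈ Bsub m F) ∨
      (∀ t : F, n⁻¹ * xS m F (nxt i hi) i (nxt_ne i hi) t * n ∈ Bsub m F) :=
  Cfsg.Agent.Lib.Helper56.StSp.dich_short i hi n σ hn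

example : @Cfsg.Agent.Lib.Helper56.StSp.f2s_spec_check = @Cfsg.Agent.Lib.Helper56.StSp.dich_short := rfl

end check

#print axioms Cfsg.Agent.Lib.Helper56.StSp.dich_short
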