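import Mathlib
import Cfsg.Agent.Lib.Helper02.BG1310Defs
import Cfsg.Agent.Lib.Helper15.BG139Glue
import Cfsg.Agent.Lib.Helper71.BG11a
import Cfsg.Agent.S0022
import Cfsg.Agent.S1414
import Cfsg.Agent.S1426

/-!
# K-LemmaD2 pack, leaf 143106 K-LD2-IIb2 (helper56): type (II) with `C_{M_σ}(E) = 1` gives `POut M E₁ |E₁|`
-/

set_option autoImplicit false

namespace Cfsg.Agent.Lib.Helper56.BG1310

open Cfsg Cfsg.Agent.Lib.Helper55 Cfsg.Agent.Lib.Helper31.BG134 Cfsg.Agent.Lib.Helper15.BG139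
  Cfsg.Agent.Lib.Helper02.BG1310

/-- the elements of a normal `q`-complement are the `q'`-elements -/
theorem mem_normalPComplement_iff {X : Type*} [Group X] [Finite X] {q : ℕ} [Fact q.Prime]
    (P : Sylow q X) (N : Subgroup X) (hN : N.Normal) (hc : N.IsComplement' (P : Subgroup X)) (x : X) :
    x ∈ N ↔ (orderOf x).Coprime q := by
  have hq : q.Prime := Fact.out
  constructor
  · intro hx
    have h1 : orderOf x ∣ Nat.card ↥N := by
      have h2 : orderOf (⟨x, hx⟩ : ↥N) ∣ Nat.card ↥N := orderOf_dvd_natCard _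
      rwa [← Subgroup.orderOf_coe] at h2
    have h3 : (P : Subgroup X).index = Nat.card ↥N := hc.index_eq_card
    have h4 : ¬ q ∣ (P : Subgroup X).index := P.not_dvd_index
    apply Nat.Coprime.symm
    rw [Nat.Prime.coprime_iff_not_dvd hq]
    intro h5
    apply h4
    rw [h3]
    exact dvd_trans h5 h1
  · intro hx
    haveI := hN
    have h1 : N.index = Nat.card ↥(P : Subgroup X) := hc.symm.index_eq_card
    obtain ⟨k, hk⟩ := (IsPGroup.iff_card.mp P.2)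
    have h2 : orderOf (QuotientGroup.mk' N x) ∣ q ^ k := by
      rw [← hk, ← h1, Subgroup.index_eq_card]
      exact orderOf_dvd_natCard _
    have h3 : orderOf (QuotientGroup.mk' N x) ∣ orderOf x := orderOf_map_dvd _ x
    have h4 : (orderOf x).Coprime (q ^ k) := Nat.Coprime.pow_right k hx
    have h5 : orderOf (QuotientGroup.mk' N x) = 1 :=
      Nat.Coprime.eq_one_of_dvd (Nat.Coprime.coprime_dvd_left h3 h4) h2
    rw [orderOf_eq_one_iff] at h5
    exact (QuotientGroup.eq_one_iff x).mp h5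

/-- a subgroup with a normal `q`-complement: the `q'`-elements form a subgroup -/
theorem exists_qprime_subgroup {G : Type*} [Group G] [Finite G] {q : ℕ} [Fact q.Prime] (X : Subgroup G)
    (h : HasNormalPComplement q ↥X) :
    ∃ N : Subgroup G, ∀ x : G, x ∈ N ↔ x ∈ X ∧ (orderOf x).Coprime q := by
  obtain ⟨P, N', hN', hc⟩ := h
  refine ⟨N'.map X.subtype, ?_⟩
  intro x
  constructor
  · rintro ⟨y, hy, rfl⟩
    refine ⟨y.2, ?_⟩
    have := (mem_normalPComplement_iff P N' hN' hc y).mp hy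
    rwa [← Subgroup.orderOf_coe] at this
  · rintro ⟨hxX, hx⟩
    refine ⟨⟨x, hxX⟩, ?_, rfl⟩
    apply (mem_normalPComplement_iff P N' hN' hc ⟨x, hxX⟩).mpr
    rwa [← Subgroup.orderOf_coe]

theorem orderOf_conj_eq {G : Type*} [Group G] (g x : G) : orderOf (g * x * g⁻¹) = orderOf x := by
  have h : SemiconjBy g x (g * x * g⁻¹) := by
    unfold SemiconjBy
    group
  exact (h.orderOf_eq g).symm

theorem le_normalizer_of_conj_mem {G : Type*} [Group G] {H K : Subgroup G}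
    (h : ∀ g ∈ H, ∀ x ∈ K, g * x * g⁻¹ ∈ K) : H ≤ Subgroup.normalizer (K : Set G) := by
  intro g hg
  rw [Subgroup.mem_normalizer_iff]
  intro x
  constructor
  · exact h g hg x
  · intro hx
    have := h g⁻¹ (H.inv_mem hg) _ hx
    have e : g⁻¹ * (g * x * g⁻¹) * g⁻¹⁻¹ = x := by group
    rwa [e] at this

theorem conj_mem_of_le_normalizer {G : Type*} [Group G] {H K : Subgroup G}
    (h : H ≤ Subgroup.normalizer (K : Set G)) {g x : G} (hg : g ∈ H) (hx : x ∈ K) :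
    g * x * g⁻¹ ∈ K :=
  (Subgroup.mem_normalizer_iff.mp (h hg) x).mp hx

variable {G : Type*} [Group G] [Finite G]

omit [Finite G] in
/-- `M` normalizes its commutator subgroup -/
theorem conj_mem_commutator_self (M : Subgroup G) {g x : G} (hg : g ∈ M) (hx : x ∈ ⁅M, M⁆) :
    g * x * g⁻¹ ∈ ⁅M, M⁆ := by
  have hmap : M.map (MulAut.conj g).toMonoidHom = M := by
    ext y
    constructor
    · rintro ⟨z, hz, rfl⟩
      exact M.mul_mem (M.mul_mem hg hz) (M.inv_mem hg)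
    · intro hy
      refine ⟨g⁻¹ * y * g, M.mul_mem (M.mul_mem (M.inv_mem hg) hy) hg, ?_⟩
      show g * (g⁻¹ * y * g) * g⁻¹ = y
      group
  have h1 : (⁅M, M⁆).map (MulAut.conj g).toMonoidHom = ⁅M, M⁆ := by
    rw [Subgroup.map_commutator, hmap]
  rw [← h1]
  exact ⟨x, hx, rfl⟩

/-- **the `β`-clause**: in type (II) with `C_{M_σ}(E) = 1`, `C_{M_σ}(E₁)` is a `β(M)`-group -/
theorem cbeta_of_typeII {M E E₁ E₃ : Subgroup G} (d : NRS M E E₁ E₃) (hII : TypeII M E₁ E₃)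
    (hCE : CP M E = ⊥) (q : ℕ) (hq : q.Prime) (hqd : q ∣ Nat.card ↥(CP M E₁)) : q ∈ beta M := by
  by_contra hqβ
  haveI : Fact q.Prime := ⟨hq⟩
  have hG := d.nr.hG
  have hM := d.nr.hM
  have hE := d.nr.hE
  have hEM : E ≤ M := hE.1
  have hE₁E : E₁ ≤ E := d.nr.hE₁.1
  have hE₃E : E₃ ≤ E := d.nr.hE₃.1
  have hE₁M : E₁ ≤ M := le_trans hE₁E hEM
  have hE₃M : E₃ ≤ M := le_trans hE₃E hEM
  have hσM : sigmaCore M ≤ M := Cfsg.Agent.Lib.Helper71.BG11.sigmaCore_le M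
  have hMn : M ≤ Subgroup.normalizer (sigmaCore M : Set G) :=
    Cfsg.Agent.Lib.Helper71.BG11.le_normalizer_sigmaCore M
  have hp : (Nat.card E₁).Prime := hII.1
  -- `q ∈ σ(M)`
  have hqσ : q ∈ sigma M := by
    apply Cfsg.Agent.Lib.Helper71.BG11.sigmaCore_pi hG hM hq
    exact dvd_trans hqd (Subgroup.card_dvd_of_le inf_le_left)
  have hqM : q ∣ Nat.card M := hqσ.2.1
  -- the normal `q`-complement of `M'`
  have h14 := (Cfsg.Agent.S1414.result hG M hM).2.2.2.2 q hq hqM hqβ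
  obtain ⟨N, hN⟩ := exists_qprime_subgroup ⁅M, M⁆ h14.1
  have hNM : ∀ g ∈ M, ∀ x ∈ N, g * x * g⁻¹ ∈ N := by
    intro g hg x hx
    rw [hN] at hx ⊢
    exact ⟨conj_mem_commutator_self M hg hx.1, by rw [orderOf_conj_eq]; exact hx.2⟩
  -- `M_σ ≤ M'`, `E₃ ≤ N`
  have h26 := (Cfsg.Agent.S1426.result hG M hM E hE).2.1
  have hσM' : sigmaCore M ≤ ⁅M, M⁆ := by
    rw [← h26]
    exact Subgroup.commutator_mono hσM hEM
  have hE₃N : E₃ ≤ N := by
    intro e he
    rw [hN]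
    refine ⟨Subgroup.commutator_mono hEM hEM (d.hE₃d he), ?_⟩
    apply Nat.Coprime.symm
    rw [Nat.Prime.coprime_iff_not_dvd hq]
    intro h1
    have h2 : orderOf e ∣ Nat.card ↥E₃ := by
      have h3 : orderOf (⟨e, he⟩ : ↥E₃) ∣ Nat.card ↥E₃ := orderOf_dvd_natCard _
      rwa [← Subgroup.orderOf_coe] at h3
    have h4 : q ∈ tau3 M := d.nr.hE₃.2.1 q hq (dvd_trans h1 h2)
    exact h4.2.1 hqσ
  -- `K := M_σ ⊓ N` is normalized by `M`
  have hKM : ∀ g ∈ M, ∀ x ∈ sigmaCore M ⊓ N, g * x * g⁻¹ ∈ sigmaCore M ⊓ N := by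
    intro g hg x hx
    exact ⟨conj_mem_of_le_normalizer hMn hg hx.1, hNM g hg x hx.2⟩
  -- `E₁` normalizes `C₃`
  have hE₁C₃ : ∀ a ∈ E₁, ∀ y ∈ CP M E₃, a * y * a⁻¹ ∈ CP M E₃ := by
    intro a ha y hy
    refine Subgroup.mem_inf.mpr ⟨conj_mem_of_le_normalizer hMn (hE₁M ha) hy.1, ?_⟩
    rw [Subgroup.mem_centralizer_iff]
    intro e he
    have hy2 := Subgroup.mem_centralizer_iff.mp hy.2
    have h1 : a⁻¹ * e * a⁻¹⁻¹ ∈ E₃ :=
      conj_mem_of_le_normalizer d.hE₃n (E.inv_mem (hE₁E ha)) he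
    have h2 := hy2 _ h1
    have e1 : e * (a * y * a⁻¹) = a * ((a⁻¹ * e * a⁻¹⁻¹) * y) * a⁻¹ := by group
    have e2 : a * y * a⁻¹ * e = a * (y * (a⁻¹ * e * a⁻¹⁻¹)) * a⁻¹ := by group
    rw [e1, e2, h2]
  -- coprimality
  have hcop₃ : (Nat.card ↥E₃).Coprime (Nat.card ↥(sigmaCore M)) := by
    apply Nat.coprime_of_dvd
    intro r hr h1 h2
    have h3 : r ∈ tau3 M := d.nr.hE₃.2.1 r hr h1
    exact h3.2.1 (Cfsg.Agent.Lib.Helper71.BG11.sigmaCore_pi hG hM hr h2)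
  have hcop₁ : (Nat.card ↥E₁).Coprime (Nat.card ↥(CP M E₃)) := by
    apply Nat.coprime_of_dvd
    intro r hr h1 h2
    have h3 : r ∈ tau1 M := d.nr.hE₁.2.1 r hr h1
    exact h3.2.1 (Cfsg.Agent.Lib.Helper71.BG11.sigmaCore_pi hG hM hr
      (dvd_trans h2 (Subgroup.card_dvd_of_le inf_le_left)))
  have hsolv₃ : Group.IsSolvable ↥E₃ := by
    haveI := d.hE₃c
    exact Group.isSolvable_of_comm (fun a b => IsCyclic.isMulCommutative.is_comm.comm a b)
  have hsolv₁ : Group.IsSolvable ↥E₁ := by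
    haveI := d.hE₁c
    exact Group.isSolvable_of_comm (fun a b => IsCyclic.isMulCommutative.is_comm.comm a b)
  -- every element of `C₁` lies in `K`
  have hC₁K : CP M E₁ ≤ sigmaCore M ⊓ N := by
    intro x hx
    have hxσ : x ∈ sigmaCore M := hx.1
    have hxM : x ∈ M := hσM hxσ
    have hxc := Subgroup.mem_centralizer_iff.mp hx.2
    -- first application: `E₃` on `M_σ`
    obtain ⟨c, hc, hck⟩ := Cfsg.Agent.S0022.result E₃ (sigmaCore M) (le_trans hE₃M hMn) hcop₃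
      (Or.inl hsolv₃) (sigmaCore M ⊓ N) inf_le_left
      (le_normalizer_of_conj_mem (fun g hg y hy => hKM g (hσM hg) y hy))
      (le_normalizer_of_conj_mem (fun g hg y hy => hKM g (hE₃M hg) y hy)) x hxσ
      (by
        intro a ha
        refine ⟨(sigmaCore M).mul_mem (conj_mem_of_le_normalizer hMn (hE₃M ha) hxσ)
          ((sigmaCore M).inv_mem hxσ), ?_⟩
        have e1 : a * x * a⁻¹ * x⁻¹ = a * (x * a⁻¹ * x⁻¹) := by group
        rw [e1]
        exact N.mul_mem (hE₃N ha) (hNM x hxM _ (N.inv_mem (hE₃N ha))))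
    have hcC₃ : c ∈ CP M E₃ := hc
    -- second application: `E₁` on `C₃`
    obtain ⟨c', hc', hck'⟩ := Cfsg.Agent.S0022.result E₁ (CP M E₃)
      (le_normalizer_of_conj_mem hE₁C₃) hcop₁ (Or.inl hsolv₁)
      (CP M E₃ ⊓ (sigmaCore M ⊓ N)) inf_le_left
      (le_normalizer_of_conj_mem (fun g hg y hy =>
        ⟨(CP M E₃).mul_mem ((CP M E₃).mul_mem hg hy.1) ((CP M E₃).inv_mem hg),
          hKM g (hσM hg.1) y hy.2⟩))
      (le_normalizer_of_conj_mem (fun g hg y hy =>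
        ⟨hE₁C₃ g hg y hy.1, hKM g (hE₁M hg) y hy.2⟩)) c hcC₃
      (by
        intro a ha
        refine ⟨(CP M E₃).mul_mem (hE₁C₃ a ha c hcC₃) ((CP M E₃).inv_mem hcC₃), ?_⟩
        have hax : a * x = x * a := hxc a ha
        have e1 : a * c * a⁻¹ * c⁻¹ = x * ((a * (x⁻¹ * c) * a⁻¹) * (x⁻¹ * c)⁻¹) * x⁻¹ := by
          have e2 : a * c * a⁻¹ * c⁻¹ = (a * x) * ((x⁻¹ * c) * a⁻¹ * (x⁻¹ * c)⁻¹) * x⁻¹ := by group
          rw [e2, hax]
          group
        rw [e1]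
        apply hKM x hxM
        exact (sigmaCore M ⊓ N).mul_mem (hKM a (hE₁M ha) _ hck) ((sigmaCore M ⊓ N).inv_mem hck))
    -- `c' ∈ C_{M_σ}(E) = 1`
    have hc'1 : c' = 1 := by
      have hmem : c' ∈ CP M E := by
        refine Subgroup.mem_inf.mpr ⟨hc'.1.1, ?_⟩
        rw [Subgroup.mem_centralizer_iff]
        intro y hy
        obtain ⟨a, ha, b, hb, rfl⟩ := d.hfac y hy
        have h3 := Subgroup.mem_centralizer_iff.mp hc'.1.2 a ha
        have h1 := Subgroup.mem_centralizer_iff.mp hc'.2 b hb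
        rw [mul_assoc, h1, ← mul_assoc, h3, mul_assoc]
      rw [hCE] at hmem
      exact Subgroup.mem_bot.mp hmem
    rw [hc'1, mul_one] at hck'
    have hcK : c ∈ sigmaCore M ⊓ N := by
      have := (sigmaCore M ⊓ N).inv_mem hck'.2
      rwa [inv_inv] at this
    have e3 : x = c * (x⁻¹ * c)⁻¹ := by group
    rw [e3]
    exact (sigmaCore M ⊓ N).mul_mem hcK ((sigmaCore M ⊓ N).inv_mem hck)
  -- an element of order `q` in `C₁`
  obtain ⟨x, hx⟩ := exists_prime_orderOf_dvd_card' q hqd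
  have hxN : (x : G) ∈ N := (hC₁K x.2).2
  rw [hN] at hxN
  have h1 := hxN.2
  rw [Subgroup.orderOf_coe, hx] at h1
  exact hq.one_lt.ne' ((Nat.coprime_self q).mp h1)

/-- **K-LD2-IIb2.** type (II) with `C_{M_σ}(E) = 1` gives `POut M E₁ |E₁|`. -/
theorem pout_of_typeII {M E E₁ E₃ : Subgroup G} (d : NRS M E E₁ E₃) (hII : TypeII M E₁ E₃)
    (hCE : CP M E = ⊥) : POut M E₁ (Nat.card E₁) where
  hG := d.nr.hG
  hM := d.nr.hM
  hPM := le_trans d.nr.hE₁.1 d.nr.hE.1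
  hPc := rfl
  hr1 := d.nr.hE₁.2.1 _ hII.1 dvd_rfl
  huniq := by
    intro u hu
    have h := tau1_dvd_card d.nr.hG d.nr.hM d.nr.hE d.nr.hE₁ hu
    exact (Nat.prime_dvd_prime_iff_eq hu.1 hII.1).mp h
  hC1 := d.hC₁ne
  hCβ := fun q hq hqd => cbeta_of_typeII d hII hCE q hq hqd
  hNP := hII.2.2.2

end Cfsg.Agent.Lib.Helper56.BG1310
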