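import Mathlib

set_option autoImplicit false

/-!
# The Baer sum on a finite group of odd order and class at most two

For a finite group `G` of odd order in which all commutators are central, the operation
`x ⊕ y = x * y * ⁅y, x⁆ ^ h` (`h = (|G| + 1) / 2`, so that `z ^ h` is the square root of `z`)
makes the underlying set of `G` an abelian group `Baer G` on which every automorphism of `G`
acts as an automorphism.
-/

namespace Cfsg.Agent.Lib.Helper56

open scoped commutatorElement

/-- all commutators of `G` are central (class at most two) -/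
def CommCentral (G : Type*) [Group G] : Prop := ∀ x y : G, ⁅x, y⁆ ∈ Subgroup.center G

section Basic

variable {G : Type*} [Group G]

theorem central_comm {c : G} (hc : c ∈ Subgroup.center G) (g : G) : c * g = g * c :=
  ((Subgroup.mem_center_iff.1 hc) g).symm

theorem comm_mul_left (hcl : CommCentral G) (x y z : G) : ⁅x * y, z⁆ = ⁅x, z⁆ * ⁅y, z⁆ := by
  have h1 : ⁅x * y, z⁆ = x * ⁅y, z⁆ * x⁻¹ * ⁅x, z⁆ := by
    simp only [commutatorElement_def]; group
  rw [h1, ← central_comm (hcl y z) x, mul_inv_cancel_right, central_comm (hcl y z)]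

theorem comm_mul_right (hcl : CommCentral G) (x y z : G) : ⁅x, y * z⁆ = ⁅x, y⁆ * ⁅x, z⁆ := by
  have h1 : ⁅x, y * z⁆ = ⁅x, y⁆ * (y * ⁅x, z⁆ * y⁻¹) := by
    simp only [commutatorElement_def]; group
  rw [h1, ← central_comm (hcl x z) y, mul_inv_cancel_right]

theorem comm_central_right {c : G} (hc : c ∈ Subgroup.center G) (x : G) : ⁅x, c⁆ = 1 := by
  rw [commutatorElement_def, ← central_comm hc x, mul_assoc, mul_assoc, ← mul_assoc x,
    mul_inv_cancel, one_mul, mul_inv_cancel]

theorem comm_central_left {c : G} (hc : c ∈ Subgroup.center G) (x : G) : ⁅c, x⁆ = 1 := by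
  rw [commutatorElement_def, central_comm hc x, mul_assoc, mul_assoc, ← mul_assoc c,
    mul_inv_cancel, one_mul, mul_inv_cancel]

theorem mul_eq_comm_mul (x y : G) : x * y = ⁅x, y⁆ * (y * x) := by
  rw [commutatorElement_def]; group

end Basic

/-- The underlying set of `G`, to carry the Baer sum. -/
structure Baer (G : Type*) where
  /-- the underlying element -/
  val : G

namespace Baer

variable {G : Type*} [Group G]

theorem ext' {a b : Baer G} (h : a.val = b.val) : a = b := by
  cases a; cases b; simp_all

/-- the equivalence with the underlying set -/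
def equiv (G : Type*) : Baer G ≃ G where
  toFun := Baer.val
  invFun := Baer.mk
  left_inv := fun _ => rfl
  right_inv := fun _ => rfl

instance [Finite G] : Finite (Baer G) := Finite.of_equiv G (equiv G).symm

theorem card_eq [Finite G] : Nat.card (Baer G) = Nat.card G := Nat.card_congr (equiv G)

/-- the exponent giving square roots -/
noncomputable def half (G : Type*) : ℕ := (Nat.card G + 1) / 2

theorem two_mul_half [Finite G] (hodd : Odd (Nat.card G)) : 2 * half G = Nat.card G + 1 := by
  unfold half
  obtain ⟨k, hk⟩ := hodd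
  omega

theorem half_sq [Finite G] (hodd : Odd (Nat.card G)) (c : G) : c ^ half G * c ^ half G = c := by
  rw [← pow_add, ← two_mul, two_mul_half hodd, pow_succ, pow_card_eq_one', one_mul]

/-- square root of a commutator -/
noncomputable def rt (x y : G) : G := ⁅x, y⁆ ^ half G

theorem rt_central (hcl : CommCentral G) (x y : G) : rt x y ∈ Subgroup.center G :=
  Subgroup.pow_mem _ (hcl x y) _

theorem rt_mul_left (hcl : CommCentral G) (x y z : G) : rt (x * y) z = rt x z * rt y z := by
  unfold rt
  rw [comm_mul_left hcl]
  exact (Commute.mul_pow (central_comm (hcl x z) _) _)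

theorem rt_mul_right (hcl : CommCentral G) (x y z : G) : rt x (y * z) = rt x y * rt x z := by
  unfold rt
  rw [comm_mul_right hcl]
  exact (Commute.mul_pow (central_comm (hcl x y) _) _)

theorem rt_central_right {c : G} (hc : c ∈ Subgroup.center G) (x : G) : rt x c = 1 := by
  unfold rt; rw [comm_central_right hc, one_pow]

theorem rt_central_left {c : G} (hc : c ∈ Subgroup.center G) (x : G) : rt c x = 1 := by
  unfold rt; rw [comm_central_left hc, one_pow]

theorem rt_swap (x y : G) : rt y x = (rt x y)⁻¹ := by
  unfold rt; rw [← commutatorElement_inv, inv_pow]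

theorem rt_sq [Finite G] (hodd : Odd (Nat.card G)) (x y : G) : rt x y * rt x y = ⁅x, y⁆ :=
  half_sq hodd _

/-- the Baer sum -/
noncomputable def add (a b : Baer G) : Baer G := ⟨a.val * b.val * rt b.val a.val⟩

theorem add_val (a b : Baer G) : (add a b).val = a.val * b.val * rt b.val a.val := rfl

theorem add_comm' [Finite G] (hodd : Odd (Nat.card G)) (hcl : CommCentral G) (a b : Baer G) :
    add a b = add b a := by
  apply ext'
  rw [add_val, add_val]
  set x := a.val
  set y := b.val
  -- x y r(y,x) = y x r(x,y)
  rw [mul_eq_comm_mul x y, rt_swap x y]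
  -- ⁅x,y⁆ * (y*x) * (rt x y)⁻¹ = y * x * rt x y
  rw [← rt_sq hodd x y]
  have h := rt_central hcl x y
  calc rt x y * rt x y * (y * x) * (rt x y)⁻¹
      = rt x y * (rt x y * (y * x * (rt x y)⁻¹)) := by group
    _ = rt x y * ((y * x * (rt x y)⁻¹) * rt x y) := by
        rw [central_comm h (y * x * (rt x y)⁻¹)]
    _ = rt x y * (y * x) := by rw [inv_mul_cancel_right]
    _ = y * x * rt x y := central_comm h _

theorem add_assoc' (hcl : CommCentral G) (a b c : Baer G) :
    add (add a b) c = add a (add b c) := by
  apply ext'
  simp only [add_val]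
  set x := a.val
  set y := b.val
  set z := c.val
  have h1 := rt_central hcl y x
  have h3 := rt_central hcl z y
  rw [rt_mul_right hcl, rt_mul_right hcl, rt_central_right h1, mul_one,
    rt_mul_left hcl, rt_mul_left hcl, rt_central_left h3, mul_one]
  calc x * y * rt y x * z * (rt z x * rt z y)
      = x * y * (rt y x * z) * (rt z x * rt z y) := by group
    _ = x * y * (z * rt y x) * (rt z x * rt z y) := by rw [central_comm h1 z]
    _ = x * (y * z) * ((rt y x * rt z x) * rt z y) := by group
    _ = x * (y * z) * (rt z y * (rt y x * rt z x)) := by rw [central_comm h3 (rt y x * rt z x)]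
    _ = x * (y * z * rt z y) * (rt y x * rt z x) := by group

theorem add_one' (a : Baer G) : add a ⟨1⟩ = a := by
  apply ext'
  rw [add_val]
  show a.val * 1 * rt 1 a.val = a.val
  rw [rt_central_left (Subgroup.one_mem _), mul_one, mul_one]

theorem one_add' (a : Baer G) : add ⟨1⟩ a = a := by
  apply ext'
  rw [add_val]
  show 1 * a.val * rt a.val 1 = a.val
  rw [rt_central_right (Subgroup.one_mem _), mul_one, one_mul]

theorem inv_add' (a : Baer G) : add ⟨a.val⁻¹⟩ a = ⟨1⟩ := by
  apply ext'
  rw [add_val]
  show a.val⁻¹ * a.val * rt a.val a.val⁻¹ = 1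
  have : ⁅a.val, a.val⁻¹⁆ = 1 := by rw [commutatorElement_def]; group
  unfold rt
  rw [this, one_pow, inv_mul_cancel, one_mul]

noncomputable instance : Mul (Baer G) := ⟨add⟩
instance : One (Baer G) := ⟨⟨1⟩⟩
instance : Inv (Baer G) := ⟨fun a => ⟨a.val⁻¹⟩⟩

theorem mul_val (a b : Baer G) : (a * b).val = a.val * b.val * rt b.val a.val := rfl
theorem one_val : (1 : Baer G).val = 1 := rfl
theorem inv_val (a : Baer G) : (a⁻¹).val = a.val⁻¹ := rfl

/-- The Baer group: the underlying set of `G` with the Baer sum, written multiplicatively. -/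
noncomputable def commGroup [Finite G] (hodd : Odd (Nat.card G)) (hcl : CommCentral G) :
    CommGroup (Baer G) :=
  { (Group.ofLeftAxioms (G := Baer G)
      (fun a b c => add_assoc' hcl a b c) (fun a => one_add' a) (fun a => inv_add' a)) with
    mul_comm := fun a b => add_comm' hodd hcl a b }

/-- an automorphism of `G` acts on the Baer group -/
noncomputable def smulAut (φ : MulAut G) (a : Baer G) : Baer G := ⟨φ a.val⟩

theorem smulAut_mul (φ : MulAut G) (a b : Baer G) :
    smulAut φ (a * b) = smulAut φ a * smulAut φ b := by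
  apply ext'
  show φ (a.val * b.val * rt b.val a.val) = φ a.val * φ b.val * rt (φ b.val) (φ a.val)
  unfold rt
  rw [map_mul, map_mul, map_pow, map_commutatorElement]

theorem smulAut_one (a : Baer G) : smulAut (1 : MulAut G) a = a := rfl

theorem smulAut_mul_aut (φ ψ : MulAut G) (a : Baer G) :
    smulAut (φ * ψ) a = smulAut φ (smulAut ψ a) := rfl

theorem smulAut_one' (φ : MulAut G) : smulAut φ (1 : Baer G) = 1 := by
  apply ext'
  show φ 1 = 1
  exact map_one φ

/-- `MulAut G` acts on the Baer group by automorphisms -/
noncomputable def mulDistribMulAction [Finite G] (hodd : Odd (Nat.card G)) (hcl : CommCentral G) :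
    @MulDistribMulAction (MulAut G) (Baer G) _ (commGroup hodd hcl).toMonoid :=
  letI := commGroup hodd hcl
  { smul := smulAut
    one_smul := smulAut_one
    mul_smul := smulAut_mul_aut
    smul_mul := smulAut_mul
    smul_one := smulAut_one' }

theorem isPGroup [Finite G] (hodd : Odd (Nat.card G)) (hcl : CommCentral G) {p : ℕ}
    [Fact p.Prime] (hG : IsPGroup p G) :
    @IsPGroup p (Baer G) (commGroup hodd hcl).toGroup := by
  letI := commGroup hodd hcl
  obtain ⟨n, hn⟩ := IsPGroup.iff_card.1 hG
  exact IsPGroup.of_card (n := n) (by rw [card_eq, hn])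

end Baer

end Cfsg.Agent.Lib.Helper56
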