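import Cfsg.Agent.Lib.Helper54.Coprime

set_option autoImplicit false

namespace Cfsg.Agent.Lib.Helper56

open Cfsg
open Cfsg.Agent.Lib.Helper54
open scoped commutatorElement

/-- In a finite group of characteristic `p`, a `p'`-element stabilizing the chain
`1 ≤ N ≤ O_p(G)` (centralizing `N` and with `[O_p(G), x] ≤ N`) is trivial. -/
theorem eq_one_of_stabilizes {G : Type*} [Group G] [Finite G] {p : ℕ} [Fact p.Prime]
    (hG : Subgroup.centralizer (Cfsg.pCore p G : Set G) ≤ Cfsg.pCore p G)
    (N : Subgroup G) (x : G) (hxo : (orderOf x).Coprime p)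
    (h1 : ∀ a ∈ Cfsg.pCore p G ⊓ N, a * x = x * a)
    (h2 : ∀ a ∈ Cfsg.pCore p G, ⁅a, x⁆ ∈ N) : x = 1 := by
  classical
  set P : Subgroup G := Cfsg.pCore p G with hP
  have hPn : P.Normal := pCore_normal p G
  have hPp : IsPGroup p ↥P := pCore_isPGroup p G
  let B : ℕ → Subgroup G := fun n => match n with
    | 0 => ⊥
    | 1 => P ⊓ N
    | _ + 2 => P
  have hBP : ∀ i, B i ≤ P := by
    intro i
    rcases i with _ | _ | i
    · exact bot_le
    · exact inf_le_left
    · exact le_rfl
  have hcomm : ∀ a ∈ P, ⁅a, x⁆ ∈ P := by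
    intro a ha
    rw [commutatorElement_def]
    have : a * x * a⁻¹ * x⁻¹ = a * (x * a⁻¹ * x⁻¹) := by group
    rw [this]
    exact P.mul_mem ha (hPn.conj_mem _ (P.inv_mem ha) x)
  have hstep : ∀ i, ∀ a ∈ B (i + 1), ⁅a, x⁆ ∈ B i := by
    intro i
    rcases i with _ | _ | i
    · intro a ha
      show ⁅a, x⁆ ∈ (⊥ : Subgroup G)
      rw [Subgroup.mem_bot, commutatorElement_eq_one_iff_commute]
      exact h1 a ha
    · intro a ha
      have haP : a ∈ P := ha
      show ⁅a, x⁆ ∈ P ⊓ N
      exact ⟨hcomm a haP, h2 a haP⟩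
    · intro a ha
      exact hcomm a ha
  have key := commutator_eq_one_of_chain (p := p) x hxo B rfl hstep
    (by
      intro i a ha
      obtain ⟨k, hk⟩ := hPp ⟨a, hBP i ha⟩
      exact ⟨k, by simpa using congrArg Subtype.val hk⟩)
  have hxcen : x ∈ Subgroup.centralizer (P : Set G) := by
    rw [Subgroup.mem_centralizer_iff]
    intro a ha
    have := key 2 a ha
    rw [commutatorElement_eq_one_iff_commute] at this
    exact this
  have hxP : x ∈ P := hG hxcen
  obtain ⟨k, hk⟩ := hPp ⟨x, hxP⟩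
  have hk' : x ^ (p ^ k) = 1 := by simpa using congrArg Subtype.val hk
  exact eq_one_of_coprime_of_pow_eq_one hxo hk'

/-- `O_p(G) ∩ L ≤ O_p(L)`. -/
theorem pCore_subgroupOf_le_pCore {G : Type*} [Group G] {p : ℕ} (L : Subgroup G) :
    (Cfsg.pCore p G).subgroupOf L ≤ Cfsg.pCore p ↥L := by
  apply le_pCore
  · exact (pCore_normal p G).subgroupOf L
  · exact (pCore_isPGroup p G).comap_of_injective L.subtype L.subtype_injective

/-- A subgroup of a finite group of characteristic `p` that is normalized by `O_p(G)` has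
characteristic `p`. -/
theorem charP_of_pCore_le_normalizer {G : Type*} [Group G] [Finite G] {p : ℕ} [Fact p.Prime]
    (hG : Subgroup.centralizer (Cfsg.pCore p G : Set G) ≤ Cfsg.pCore p G) (L : Subgroup G)
    (hL : Cfsg.pCore p G ≤ Subgroup.normalizer (L : Set G)) :
    Subgroup.centralizer (Cfsg.pCore p ↥L : Set ↥L) ≤ Cfsg.pCore p ↥L := by
  classical
  have hRn : (Cfsg.pCore p ↥L).Normal := pCore_normal p ↥L
  set D : Subgroup ↥L := Subgroup.centralizer (Cfsg.pCore p ↥L : Set ↥L) with hD
  have hDn : D.Normal := Subgroup.normal_centralizer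
  apply le_pCore hDn
  apply isPGroup_of_forall_coprime_eq_one
  intro d hd hdo
  have hx : (d : G) = 1 := by
    apply eq_one_of_stabilizes hG L (d : G)
    · rw [Subgroup.orderOf_coe]; exact hdo
    · intro a ha
      have haR : (⟨a, ha.2⟩ : ↥L) ∈ Cfsg.pCore p ↥L :=
        pCore_subgroupOf_le_pCore L (Subgroup.mem_subgroupOf.mpr ha.1)
      have := (Subgroup.mem_centralizer_iff.mp hd) _ haR
      exact congrArg Subtype.val this
    · intro a ha
      rw [commutatorElement_def]
      have h3 : a * (d : G) * a⁻¹ ∈ L := (Subgroup.mem_normalizer_iff.mp (hL ha) _).mp d.2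
      exact L.mul_mem h3 (L.inv_mem d.2)
  exact Subtype.ext hx

end Cfsg.Agent.Lib.Helper56
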