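import Cfsg.Agent.Lib.Helper56.CharPElt
import Cfsg.Agent.Lib.Helper21.SylowAux

set_option autoImplicit false

namespace Cfsg.Agent.Lib.Helper56

open Cfsg
open Cfsg.Agent.Lib.Helper54

/-- If `C_X(y)` has characteristic `p` and `y` lies in the `p`-subgroup `R`, then `N_X(R)` has
characteristic `p`. -/
theorem charP_normalizer_of_mem {X : Type*} [Group X] [Finite X] {p : ℕ} [Fact p.Prime]
    (R : Subgroup X) (hR : IsPGroup p ↥R) (y : X) (hy : y ∈ R)
    (hC : Subgroup.centralizer (Cfsg.pCore p ↥(Subgroup.centralizer ({y} : Set X)) :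
        Set ↥(Subgroup.centralizer ({y} : Set X))) ≤
      Cfsg.pCore p ↥(Subgroup.centralizer ({y} : Set X))) :
    Subgroup.centralizer (Cfsg.pCore p ↥(Subgroup.normalizer (R : Set X)) :
        Set ↥(Subgroup.normalizer (R : Set X))) ≤
      Cfsg.pCore p ↥(Subgroup.normalizer (R : Set X)) := by
  classical
  have key : ∀ Y : Subgroup X, y ∈ Y → Y ≤ R →
      Subgroup.centralizer (Cfsg.pCore p ↥(Subgroup.normalizer (Y : Set X)) :
        Set ↥(Subgroup.normalizer (Y : Set X))) ≤
      Cfsg.pCore p ↥(Subgroup.normalizer (Y : Set X)) →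
      Subgroup.centralizer (Cfsg.pCore p ↥(Subgroup.normalizer (R : Set X)) :
        Set ↥(Subgroup.normalizer (R : Set X))) ≤
      Cfsg.pCore p ↥(Subgroup.normalizer (R : Set X)) := by
    intro Y
    induction Y using WellFoundedGT.induction with
    | ind Y ih =>
      intro hyY hYR hNY
      by_cases hYeq : Y = R
      · rw [← hYeq]
        exact hNY
      · have hlt : Y < R := lt_of_le_of_ne hYR hYeq
        obtain ⟨r, hrR, hrY, hrN⟩ :=
          Cfsg.Agent.Lib.Helper21.exists_mem_normalizer_not_mem_of_lt hR hlt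
        set Y' : Subgroup X := R ⊓ Subgroup.normalizer (Y : Set X) with hY'
        have hYY' : Y < Y' := by
          refine lt_of_le_of_ne (le_inf hYR Subgroup.le_normalizer) ?_
          intro h
          apply hrY
          rw [h]
          exact ⟨hrR, hrN⟩
        apply ih Y' hYY' (hYY'.le hyY) inf_le_left
        apply charP_normalizer_rel (Subgroup.normalizer (Y : Set X)) Y' hNY
          (hR.to_le inf_le_left) inf_le_right
        exact (Subgroup.centralizer_le hYY'.le).trans (Subgroup.centralizer_le_normalizer _)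
  apply key (Subgroup.zpowers y) (Subgroup.mem_zpowers y)
    (by rw [Subgroup.zpowers_le]; exact hy)
  apply charP_normalizer_of_centralizer_elt (Subgroup.zpowers y)
    (hR.to_le (by rw [Subgroup.zpowers_le]; exact hy)) y (Subgroup.mem_zpowers y) _ hC
  intro x hx
  obtain ⟨k, rfl⟩ := Subgroup.mem_zpowers_iff.mp hx
  exact (Commute.zpow_left (Commute.refl y) k).eq

end Cfsg.Agent.Lib.Helper56
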