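import Cfsg.Agent.Lib.Helper56.CharPRel
import Cfsg.Agent.Lib.Helper53.Subnormal

set_option autoImplicit false

namespace Cfsg.Agent.Lib.Helper56

open Cfsg
open Cfsg.Agent.Lib.Helper54
open scoped commutatorElement

/-- If a subgroup `N` of characteristic `p` contains the `p`-subgroup `B` and its centralizer,
then `N_X(B)` has characteristic `p`. -/
theorem charP_normalizer_rel {X : Type*} [Group X] [Finite X] {p : ℕ} [Fact p.Prime]
    (N B : Subgroup X)
    (hN : Subgroup.centralizer (Cfsg.pCore p ↥N : Set ↥N) ≤ Cfsg.pCore p ↥N)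
    (hB : IsPGroup p ↥B) (hBN : B ≤ N) (hKN : Subgroup.centralizer (B : Set X) ≤ N) :
    Subgroup.centralizer (Cfsg.pCore p ↥(Subgroup.normalizer (B : Set X)) :
        Set ↥(Subgroup.normalizer (B : Set X))) ≤
      Cfsg.pCore p ↥(Subgroup.normalizer (B : Set X)) := by
  classical
  set H : Subgroup X := Subgroup.normalizer (B : Set X) with hH
  set M₀ : Subgroup X := N ⊓ H with hM₀
  have hM : Subgroup.centralizer (Cfsg.pCore p ↥M₀ : Set ↥M₀) ≤ Cfsg.pCore p ↥M₀ :=
    charP_inf_normalizer_rel N B hN hB hBN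
  set R : Subgroup ↥H := Cfsg.pCore p ↥H with hR
  have hRn : R.Normal := pCore_normal p ↥H
  set D : Subgroup ↥H := Subgroup.centralizer (R : Set ↥H) with hD
  have hDn : D.Normal := Subgroup.normal_centralizer
  have hBR : B.subgroupOf H ≤ R :=
    le_pCore (Subgroup.normal_subgroupOf_of_le_normalizer le_rfl)
      (hB.comap_of_injective H.subtype H.subtype_injective)
  have hDK : ∀ d' ∈ D, (d' : X) ∈ Subgroup.centralizer (B : Set X) := by
    intro d' hd'
    rw [Subgroup.mem_centralizer_iff]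
    intro b hb
    have hbR : (⟨b, Subgroup.le_normalizer hb⟩ : ↥H) ∈ R :=
      hBR (Subgroup.mem_subgroupOf.mpr hb)
    exact congrArg Subtype.val ((Subgroup.mem_centralizer_iff.mp hd') _ hbR)
  have hDM : ∀ d' ∈ D, (d' : X) ∈ M₀ := fun d' hd' => ⟨hKN (hDK d' hd'), d'.2⟩
  have hRMn : (Cfsg.pCore p ↥M₀).Normal := pCore_normal p ↥M₀
  have hRMp : IsPGroup p ↥(Cfsg.pCore p ↥M₀) := pCore_isPGroup p ↥M₀
  -- I = O_p(M₀) ∩ D, inside H
  set I : Subgroup ↥H := ((Cfsg.pCore p ↥M₀).map M₀.subtype).subgroupOf H ⊓ D with hI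
  have hIR : I ≤ R := by
    apply Cfsg.Agent.Lib.Helper53.le_pCore_of_subnormal hDn.isSubnormal I inf_le_right
    · intro d' hd'
      have key : ∀ d'' ∈ D, ∀ i ∈ I, d'' * i * d''⁻¹ ∈ I := by
        intro d'' hd'' i hi
        have hi' := Subgroup.mem_inf.mp hi
        refine Subgroup.mem_inf.mpr ⟨?_, hDn.conj_mem i hi'.2 d''⟩
        rw [Subgroup.mem_subgroupOf]
        obtain ⟨m, hm, hmi⟩ := Subgroup.mem_subgroupOf.mp hi'.1
        refine ⟨⟨(d'' : X), hDM d'' hd''⟩ * m * ⟨(d'' : X), hDM d'' hd''⟩⁻¹,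
          hRMn.conj_mem m hm _, ?_⟩
        simp only [Subgroup.subtype_apply, Subgroup.coe_mul, Subgroup.coe_inv] at hmi ⊢
        rw [hmi]
      rw [Subgroup.mem_normalizer_iff]
      intro i
      constructor
      · exact key d' hd' i
      · intro h
        have := key d'⁻¹ (D.inv_mem hd') _ h
        have h3 : d'⁻¹ * (d' * i * d'⁻¹) * d'⁻¹⁻¹ = i := by group
        rwa [h3] at this
    · have h1 : IsPGroup p ↥((Cfsg.pCore p ↥M₀).map M₀.subtype) := hRMp.map _
      have h2 : IsPGroup p ↥(((Cfsg.pCore p ↥M₀).map M₀.subtype).subgroupOf H) :=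
        h1.comap_of_injective H.subtype H.subtype_injective
      exact h2.to_le inf_le_left
  apply le_pCore hDn
  apply isPGroup_of_forall_coprime_eq_one
  intro d hd hdo
  have hxM : ((⟨(d : X), hDM d hd⟩ : ↥M₀)) = 1 := by
    apply eq_one_of_stabilizes hM ((D.map H.subtype).subgroupOf M₀) ⟨(d : X), hDM d hd⟩
    · have h1 : orderOf (⟨(d : X), hDM d hd⟩ : ↥M₀) = orderOf (d : X) :=
        (Subgroup.orderOf_coe (⟨(d : X), hDM d hd⟩ : ↥M₀)).symm
      rw [h1, Subgroup.orderOf_coe]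
      exact hdo
    · intro a ha
      obtain ⟨haR, haD⟩ := Subgroup.mem_inf.mp ha
      obtain ⟨a', ha'D, ha'a⟩ := Subgroup.mem_subgroupOf.mp haD
      have haI : a' ∈ I := by
        refine Subgroup.mem_inf.mpr ⟨?_, ha'D⟩
        rw [Subgroup.mem_subgroupOf]
        exact ⟨a, haR, ha'a.symm⟩
      have h2 := (Subgroup.mem_centralizer_iff.mp hd) _ (hIR haI)
      apply Subtype.ext
      have h3 := congrArg Subtype.val h2
      simp only [Subgroup.coe_mul] at h3 ⊢
      have h4 : (a' : X) = (a : X) := ha'a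
      rw [← h4]
      exact h3
    · intro a _
      rw [Subgroup.mem_subgroupOf]
      have haH : (a : X) ∈ H := a.2.2
      refine ⟨⁅(⟨(a : X), haH⟩ : ↥H), d⁆, ?_, ?_⟩
      · rw [commutatorElement_def]
        exact D.mul_mem (hDn.conj_mem d hd _) (D.inv_mem hd)
      · simp [commutatorElement_def]
  have : (d : X) = 1 := congrArg Subtype.val hxM
  exact Subtype.ext this

end Cfsg.Agent.Lib.Helper56
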