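import Cfsg.Agent.Lib.Helper56.WardGroupA

/-!
# Coprime action of a `p`-group: fixed points in invariant cosets
-/

set_option autoImplicit false
set_option linter.unusedSectionVars false
set_option linter.style.haveILetI false

open scoped commutatorElement

namespace Cfsg.Agent.Lib.Helper56.FrobG

open Cfsg.Agent.Lib.Helper56

universe u w

section Coset

variable {G : Type u} [Group G] [Finite G] {B : Type w} [Group B] {p : ℕ} [Fact p.Prime]

/-- an invariant coset of an invariant subgroup of order prime to `p` contains a fixed point of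
the `p`-group `B` -/
theorem exists_fixed_in_coset (hB : IsPGroup p B) (φ : B →* MulAut G) (N : Subgroup G)
    (hN : ∀ b, ∀ x ∈ N, φ b x ∈ N) (hpN : ¬ p ∣ Nat.card N) (g : G)
    (hg : ∀ b, g⁻¹ * φ b g ∈ N) : ∃ n ∈ N, ∀ b, φ b (g * n) = g * n := by
  let S : Type u := {x : G // g⁻¹ * x ∈ N}
  have hmem : ∀ (b : B) (x : S), g⁻¹ * φ b x.1 ∈ N := by
    intro b x
    have h1 : g⁻¹ * φ b x.1 = (g⁻¹ * φ b g) * φ b (g⁻¹ * x.1) := by
      rw [map_mul, map_inv]; group
    rw [h1]
    exact N.mul_mem (hg b) (hN b _ x.2)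
  letI : MulAction B S :=
    { smul := fun b x => ⟨φ b x.1, hmem b x⟩
      one_smul := by
        intro x
        apply Subtype.ext
        show φ 1 x.1 = x.1
        rw [map_one]; rfl
      mul_smul := by
        intro b b' x
        apply Subtype.ext
        show φ (b * b') x.1 = φ b (φ b' x.1)
        rw [map_mul]; rfl }
  have hsmul : ∀ (b : B) (x : S), (b • x).1 = φ b x.1 := fun b x => rfl
  let e : N ≃ S :=
    { toFun := fun n => ⟨g * n, by rw [inv_mul_cancel_left]; exact n.2⟩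
      invFun := fun x => ⟨g⁻¹ * x.1, x.2⟩
      left_inv := by intro n; apply Subtype.ext; simp
      right_inv := by intro x; apply Subtype.ext; simp }
  haveI : Finite S := Finite.of_equiv _ e
  have hcard : Nat.card S = Nat.card N := (Nat.card_congr e).symm
  have hpS : ¬ p ∣ Nat.card S := by rw [hcard]; exact hpN
  obtain ⟨a, ha⟩ := hB.nonempty_fixed_point_of_prime_not_dvd_card S hpS
  refine ⟨g⁻¹ * a.1, a.2, ?_⟩
  intro b
  have h1 := ha b
  have h2 : φ b a.1 = a.1 := by rw [← hsmul, h1]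
  have h3 : g * (g⁻¹ * a.1) = a.1 := by group
  rw [h3, h2]

/-- the version for a single automorphism of order dividing `p` -/
theorem exists_fixed_in_coset_aut (σ : MulAut G) (hσ : σ ^ p = 1) (N : Subgroup G)
    (hN : ∀ x ∈ N, σ x ∈ N) (hpN : ¬ p ∣ Nat.card N) (g : G) (hg : g⁻¹ * σ g ∈ N) :
    ∃ n ∈ N, σ (g * n) = g * n := by
  let B : Subgroup (MulAut G) := Subgroup.zpowers σ
  have hB : IsPGroup p B := by
    intro b
    refine ⟨1, ?_⟩
    obtain ⟨k, hk⟩ := Subgroup.mem_zpowers_iff.1 b.2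
    apply Subtype.ext
    rw [pow_one, Subgroup.coe_pow, ← hk, ← zpow_natCast, ← zpow_mul, mul_comm, zpow_mul,
      zpow_natCast, hσ, one_zpow]
    rfl
  -- the set of automorphisms with the coset property is a subgroup
  let C : Subgroup (MulAut G) :=
    { carrier := {τ | (∀ x, τ x ∈ N ↔ x ∈ N) ∧ g⁻¹ * τ g ∈ N}
      one_mem' := ⟨fun x => Iff.rfl, by simp [N.one_mem]⟩
      mul_mem' := by
        rintro τ τ' ⟨h1, h2⟩ ⟨h1', h2'⟩
        refine ⟨fun x => ?_, ?_⟩
        · rw [MulAut.mul_apply, h1, h1']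
        · rw [MulAut.mul_apply]
          have h3 : g⁻¹ * τ (τ' g) = (g⁻¹ * τ g) * τ (g⁻¹ * τ' g) := by
            rw [map_mul, map_inv]; group
          rw [h3]
          exact N.mul_mem h2 ((h1 _).2 h2')
      inv_mem' := by
        rintro τ ⟨h1, h2⟩
        have h1' : ∀ x, τ⁻¹ x ∈ N ↔ x ∈ N := by
          intro x
          rw [← h1 (τ⁻¹ x)]
          simp
        refine ⟨h1', ?_⟩
        have h3 : g⁻¹ * τ⁻¹ g = τ⁻¹ ((g⁻¹ * τ g)⁻¹) := by
          rw [map_inv, map_mul, map_inv]
          simp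
        rw [h3]
        exact (h1' _).2 (N.inv_mem h2) }
  have hσC : σ ∈ C := ⟨fun x => SG.map_mem_iff σ N hN x, hg⟩
  have hBC : B ≤ C := by
    rw [Subgroup.zpowers_le]; exact hσC
  obtain ⟨n, hn, hfix⟩ := exists_fixed_in_coset hB B.subtype N
    (fun b x hx => ((hBC b.2).1 x).2 hx) hpN g (fun b => (hBC b.2).2)
  exact ⟨n, hn, hfix ⟨σ, Subgroup.mem_zpowers σ⟩⟩

end Coset

end Cfsg.Agent.Lib.Helper56.FrobG
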