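import Mathlib

/-!
# The group theoretic part of the Hall–Higman reduction, inside an arbitrary ambient group

`Q` a finite `q`-subgroup normalized by `X`, `Y` a power of `X` of order prime to `q`, acting
nontrivially on `Q` but trivially on every proper `X`-invariant subgroup, `Q` nonabelian.
Then `Q' ≤ Z(Q)`, `Y` centralizes `Z(Q)` and is fixed point free on `Q / Z(Q)`.
-/

set_option autoImplicit false
set_option linter.unusedSectionVars false
set_option linter.style.haveILetI false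

namespace Cfsg.Agent.Lib.Helper56.HHB

open scoped commutatorElement

section GT

variable {G : Type*} [Group G]

/-- the centre of `Q`, as a subgroup of the ambient group -/
def zen (Q : Subgroup G) : Subgroup G := Q ⊓ Subgroup.centralizer (Q : Set G)

theorem mem_zen {Q : Subgroup G} {z : G} : z ∈ zen Q ↔ z ∈ Q ∧ ∀ e ∈ Q, e * z = z * e := by
  unfold zen
  rw [Subgroup.mem_inf, Subgroup.mem_centralizer_iff]
  rfl

theorem zen_le (Q : Subgroup G) : zen Q ≤ Q := inf_le_left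

theorem mem_normalizer_of_pow_eq_one (Q : Subgroup G) (g : G) (N : ℕ) (hN : 0 < N)
    (hgN : g ^ N = 1) (h : ∀ e ∈ Q, g * e * g⁻¹ ∈ Q) : g ∈ Subgroup.normalizer (Q : Set G) := by
  have hpow : ∀ j : ℕ, ∀ e ∈ Q, g ^ j * e * (g ^ j)⁻¹ ∈ Q := by
    intro j
    induction j with
    | zero => intro e he; simpa using he
    | succ j ih =>
      intro e he
      have h1 := h _ (ih e he)
      have h2 : g * (g ^ j * e * (g ^ j)⁻¹) * g⁻¹ = g ^ (j + 1) * e * (g ^ (j + 1))⁻¹ := by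
        rw [pow_succ']; group
      rwa [h2] at h1
  have hinv : g⁻¹ = g ^ (N - 1) := by
    apply inv_eq_of_mul_eq_one_right
    rw [← pow_succ', Nat.sub_add_cancel hN, hgN]
  rw [Subgroup.mem_normalizer_iff]
  intro e
  constructor
  · exact h e
  · intro he
    have h1 := hpow (N - 1) _ he
    rw [← hinv, inv_inv] at h1
    have h2 : g⁻¹ * (g * e * g⁻¹) * g = e := by group
    rwa [h2] at h1

theorem conj_mem_commutator (H₁ H₂ : Subgroup G) (g : G) (h₁ : ∀ a ∈ H₁, g * a * g⁻¹ ∈ H₁)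
    (h₂ : ∀ a ∈ H₂, g * a * g⁻¹ ∈ H₂) : ∀ c ∈ ⁅H₁, H₂⁆, g * c * g⁻¹ ∈ ⁅H₁, H₂⁆ := by
  intro c hc
  have h3 : Subgroup.map (MulAut.conj g).toMonoidHom ⁅H₁, H₂⁆ ≤ ⁅H₁, H₂⁆ := by
    rw [Subgroup.map_commutator]
    apply Subgroup.commutator_mono
    · rintro _ ⟨a, ha, rfl⟩
      exact h₁ a ha
    · rintro _ ⟨a, ha, rfl⟩
      exact h₂ a ha
  exact h3 ⟨c, hc, rfl⟩

/-- the coprime trick -/
theorem comm_of_comm_of_coprime (Q : Subgroup G) {q : ℕ} [Fact q.Prime] (hQ : IsPGroup q Q)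
    (Y : G) (m : ℕ) (hYm : Y ^ m = 1) (hmq : Nat.Coprime m q) (e : G)
    (hd : e⁻¹ * (Y * e * Y⁻¹) ∈ Q)
    (hdY : Y * (e⁻¹ * (Y * e * Y⁻¹)) = (e⁻¹ * (Y * e * Y⁻¹)) * Y) : Y * e = e * Y := by
  set d := e⁻¹ * (Y * e * Y⁻¹) with hd_def
  have hYe : Y * e * Y⁻¹ = e * d := by rw [hd_def]; group
  have hYd : Y * d * Y⁻¹ = d := by rw [hdY]; group
  have hpow : ∀ k : ℕ, Y ^ k * e * (Y ^ k)⁻¹ = e * d ^ k := by
    intro k
    induction k with
    | zero => simp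
    | succ k ih =>
      have h1 : Y ^ (k + 1) * e * (Y ^ (k + 1))⁻¹ = Y * (Y ^ k * e * (Y ^ k)⁻¹) * Y⁻¹ := by
        rw [pow_succ']; group
      have hYdk : Y * d ^ k * Y⁻¹ = d ^ k := by
        have : Y * d ^ k * Y⁻¹ = (Y * d * Y⁻¹) ^ k := by
          rw [conj_pow]
        rw [this, hYd]
      rw [h1, ih]
      calc Y * (e * d ^ k) * Y⁻¹ = (Y * e * Y⁻¹) * (Y * d ^ k * Y⁻¹) := by group
        _ = e * d * d ^ k := by rw [hYe, hYdk]
        _ = e * d ^ (k + 1) := by rw [pow_succ', mul_assoc]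
  have hdm : d ^ m = 1 := by
    have h1 := hpow m
    rw [hYm] at h1
    have h2 : e = e * d ^ m := by simpa using h1
    exact (mul_eq_left.1 h2.symm)
  obtain ⟨j, hj⟩ := hQ ⟨d, hd⟩
  have hj' : d ^ (q ^ j) = 1 := by
    have := congrArg Subtype.val hj
    simpa using this
  have hord : orderOf d ∣ Nat.gcd m (q ^ j) :=
    Nat.dvd_gcd (orderOf_dvd_of_pow_eq_one hdm) (orderOf_dvd_of_pow_eq_one hj')
  rw [Nat.Coprime.pow_right j hmq] at hord
  have hd1 : d = 1 := by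
    rw [← orderOf_eq_one_iff]
    exact Nat.dvd_one.1 hord
  rw [hd1, mul_one] at hYe
  calc Y * e = Y * e * Y⁻¹ * Y := by group
    _ = e * Y := by rw [hYe]

theorem conj_mem_zen (Q : Subgroup G) (X : G) (hXN : X ∈ Subgroup.normalizer (Q : Set G)) :
    ∀ z ∈ zen Q, X * z * X⁻¹ ∈ zen Q := by
  have hXf : ∀ e ∈ Q, X * e * X⁻¹ ∈ Q := fun e he => (Subgroup.mem_normalizer_iff.1 hXN e).1 he
  have hXb : ∀ e ∈ Q, X⁻¹ * e * X ∈ Q := by
    intro e he
    have h1 := (Subgroup.mem_normalizer_iff.1 (Subgroup.inv_mem _ hXN) e).1 he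
    simpa using h1
  intro z hz
  obtain ⟨hz1, hz2⟩ := mem_zen.1 hz
  rw [mem_zen]
  refine ⟨hXf z hz1, ?_⟩
  intro e he
  have h1 := hz2 _ (hXb e he)
  calc e * (X * z * X⁻¹) = X * ((X⁻¹ * e * X) * z) * X⁻¹ := by group
    _ = X * (z * (X⁻¹ * e * X)) * X⁻¹ := by rw [h1]
    _ = X * z * X⁻¹ * e := by group

/-- conjugation by a normalizing element, as an automorphism of the subgroup -/
def conjMul (A : Subgroup G) (g : G) (hg : g ∈ Subgroup.normalizer (A : Set G)) : ↥A ≃* ↥A where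
  toFun a := ⟨g * a * g⁻¹, (Subgroup.mem_normalizer_iff.1 hg a).1 a.2⟩
  invFun a := ⟨g⁻¹ * a * g, by
    have h1 := (Subgroup.mem_normalizer_iff.1 (Subgroup.inv_mem _ hg) a).1 a.2
    simpa using h1⟩
  left_inv a := by
    apply Subtype.ext
    show g⁻¹ * (g * a * g⁻¹) * g = a
    group
  right_inv a := by
    apply Subtype.ext
    show g * (g⁻¹ * a * g) * g⁻¹ = a
    group
  map_mul' a b := by
    apply Subtype.ext
    show g * (a * b) * g⁻¹ = (g * a * g⁻¹) * (g * b * g⁻¹)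
    group

@[simp] theorem conjMul_apply (A : Subgroup G) (g : G)
    (hg : g ∈ Subgroup.normalizer (A : Set G)) (a : A) :
    ((conjMul A g hg a : A) : G) = g * a * g⁻¹ := rfl

theorem conjMul_pow_apply (A : Subgroup G) (g : G)
    (hg : g ∈ Subgroup.normalizer (A : Set G)) (j : ℕ) (a : A) :
    (((conjMul A g hg ^ j) a : A) : G) = g ^ j * a * (g ^ j)⁻¹ := by
  induction j with
  | zero => simp
  | succ j ih =>
    rw [pow_succ', MulAut.mul_apply, conjMul_apply, ih, pow_succ']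
    group

/-- conjugation by a normalizing element, as a permutation of the subgroup -/
def conjPerm (A : Subgroup G) (g : G) (hg : g ∈ Subgroup.normalizer (A : Set G)) :
    Equiv.Perm ↥A := (conjMul A g hg).toEquiv

@[simp] theorem conjPerm_apply (A : Subgroup G) (g : G)
    (hg : g ∈ Subgroup.normalizer (A : Set G)) (a : A) :
    ((conjPerm A g hg a : A) : G) = g * a * g⁻¹ := rfl

theorem conjPerm_pow_apply (A : Subgroup G) (g : G)
    (hg : g ∈ Subgroup.normalizer (A : Set G)) (j : ℕ) (a : A) :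
    (((conjPerm A g hg ^ j) a : A) : G) = g ^ j * a * (g ^ j)⁻¹ := by
  induction j with
  | zero => simp
  | succ j ih =>
    rw [pow_succ', Equiv.Perm.mul_apply, conjPerm_apply, ih, pow_succ']
    group

variable (Q : Subgroup G) [Finite Q] {q : ℕ} [Fact q.Prime]

/-- **Group theoretic reduction.** -/
theorem minimal_structure (hQ : IsPGroup q Q) (X Y : G)
    (hXN : X ∈ Subgroup.normalizer (Q : Set G)) (hYX : Y ∈ Subgroup.zpowers X)
    (m : ℕ) (hYm : Y ^ m = 1) (hmq : Nat.Coprime m q)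
    (hmin : ∀ Q₁ : Subgroup G, Q₁ < Q → (∀ e ∈ Q₁, X * e * X⁻¹ ∈ Q₁) →
      ∀ t ∈ Q₁, Y * t = t * Y)
    (hY : ∃ t ∈ Q, Y * t ≠ t * Y) (hnab : ∃ e ∈ Q, ∃ f ∈ Q, e * f ≠ f * e) :
    (∀ e ∈ Q, ∀ f ∈ Q, ⁅e, f⁆ ∈ zen Q) ∧ (∀ z ∈ zen Q, Y * z = z * Y) ∧
      (∀ e ∈ Q, (Y * e * Y⁻¹)⁻¹ * e ∈ zen Q → e ∈ zen Q) := by
  classical
  -- basic facts
  have hXY : X * Y = Y * X := by
    obtain ⟨k, rfl⟩ := Subgroup.mem_zpowers_iff.1 hYX
    exact (Commute.self_zpow X k).eq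
  have hzle : Subgroup.zpowers X ≤ Subgroup.normalizer (Q : Set G) := by
    rw [Subgroup.zpowers_le]; exact hXN
  have hYN : Y ∈ Subgroup.normalizer (Q : Set G) := hzle hYX
  have hXf : ∀ e ∈ Q, X * e * X⁻¹ ∈ Q := fun e he => (Subgroup.mem_normalizer_iff.1 hXN e).1 he
  have hXb : ∀ e ∈ Q, X⁻¹ * e * X ∈ Q := by
    intro e he
    have h1 := (Subgroup.mem_normalizer_iff.1 (Subgroup.inv_mem _ hXN) e).1 he
    simpa using h1
  have hYf : ∀ e ∈ Q, Y * e * Y⁻¹ ∈ Q := fun e he => (Subgroup.mem_normalizer_iff.1 hYN e).1 he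
  have hXy : ∀ y ∈ Subgroup.zpowers Y, X * y * X⁻¹ = y := by
    intro y hy
    obtain ⟨k, rfl⟩ := Subgroup.mem_zpowers_iff.1 hy
    have h1 : Commute X (Y ^ k) := (show Commute X Y from hXY).zpow_right k
    rw [h1.eq]; group
  -- Step 2: `[Q, Y] = Q`
  have hQ0le : ⁅Q, Subgroup.zpowers Y⁆ ≤ Q := by
    rw [← Subgroup.le_normalizer_iff_commutator_le_left, Subgroup.zpowers_le]
    exact hYN
  have hQ0X : ∀ c ∈ ⁅Q, Subgroup.zpowers Y⁆, X * c * X⁻¹ ∈ ⁅Q, Subgroup.zpowers Y⁆ := by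
    apply conj_mem_commutator _ _ X hXf
    intro y hy
    rw [hXy y hy]; exact hy
  have hQ0 : ⁅Q, Subgroup.zpowers Y⁆ = Q := by
    by_contra hne
    have hlt : ⁅Q, Subgroup.zpowers Y⁆ < Q := lt_of_le_of_ne hQ0le hne
    have hcen := hmin _ hlt hQ0X
    obtain ⟨t, htQ, ht⟩ := hY
    apply ht
    have hd : t⁻¹ * (Y * t * Y⁻¹) ∈ ⁅Q, Subgroup.zpowers Y⁆ := by
      have h1 : t⁻¹ * (Y * t * Y⁻¹) = ⁅t⁻¹, Y⁆ := by
        rw [commutatorElement_def]; group
      rw [h1]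
      exact Subgroup.commutator_mem_commutator (Q.inv_mem htQ) (Subgroup.mem_zpowers Y)
    exact comm_of_comm_of_coprime Q hQ Y m hYm hmq t (hQ0le hd) (hcen _ hd)
  -- Step 3: proper invariant normal subgroups are central
  have hcentral : ∀ R : Subgroup G, R < Q → (∀ e ∈ R, X * e * X⁻¹ ∈ R) →
      (∀ e ∈ Q, ∀ r ∈ R, e * r * e⁻¹ ∈ R) → R ≤ Subgroup.centralizer (Q : Set G) := by
    intro R hR hRX hRn
    have hcen := hmin R hR hRX
    have h1 : ⁅⁅Subgroup.zpowers Y, R⁆, Q⁆ = ⊥ := by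
      have : ⁅Subgroup.zpowers Y, R⁆ = ⊥ := by
        rw [Subgroup.commutator_eq_bot_iff_le_centralizer, Subgroup.zpowers_le,
          Subgroup.mem_centralizer_iff]
        intro r hr
        exact (hcen r hr).symm
      rw [this, Subgroup.commutator_bot_left]
    have h2 : ⁅⁅R, Q⁆, Subgroup.zpowers Y⁆ = ⊥ := by
      rw [Subgroup.commutator_eq_bot_iff_le_centralizer, Subgroup.le_centralizer_iff,
        Subgroup.zpowers_le, Subgroup.mem_centralizer_iff]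
      intro c hc
      have hcR : c ∈ R := by
        have h3 : ⁅R, Q⁆ ≤ R := by
          rw [Subgroup.commutator_le]
          intro r hr e he
          rw [commutatorElement_def]
          have h4 := hRn e he r⁻¹ (R.inv_mem hr)
          have h5 : r * e * r⁻¹ * e⁻¹ = r * (e * r⁻¹ * e⁻¹) := by group
          rw [h5]
          exact R.mul_mem hr h4
        exact h3 hc
      exact (hcen c hcR).symm
    have h3 := Subgroup.commutator_commutator_eq_bot_of_rotate h1 h2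
    rw [hQ0, Subgroup.commutator_eq_bot_iff_le_centralizer] at h3
    rw [Subgroup.le_centralizer_iff]
    exact h3
  -- Step 4: `Q' ≤ Z(Q)`
  obtain ⟨e₀, he₀, f₀, hf₀, hef₀⟩ := hnab
  have hQ'lt : ⁅Q, Q⁆ < Q := by
    refine lt_of_le_of_ne (Subgroup.commutator_le_self Q) ?_
    intro heq
    haveI : Nontrivial Q := by
      refine ⟨⟨⟨e₀, he₀⟩, 1, ?_⟩⟩
      intro h
      have : e₀ = 1 := congrArg Subtype.val h
      apply hef₀
      rw [this, one_mul, mul_one]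
    haveI : Group.IsNilpotent Q := hQ.isNilpotent
    have h1 := Group.IsSolvable.commutator_lt_top_of_nontrivial Q
    have h2 : (commutator Q).map Q.subtype = (⊤ : Subgroup Q).map Q.subtype := by
      rw [Subgroup.map_subtype_commutator, heq, ← MonoidHom.range_eq_map, Q.range_subtype]
    have h3 := Subgroup.map_injective Q.subtype_injective h2
    exact (ne_of_lt h1) h3
  have hQ'X : ∀ c ∈ ⁅Q, Q⁆, X * c * X⁻¹ ∈ ⁅Q, Q⁆ := conj_mem_commutator _ _ X hXf hXf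
  have hQ'n : ∀ e ∈ Q, ∀ r ∈ ⁅Q, Q⁆, e * r * e⁻¹ ∈ ⁅Q, Q⁆ := by
    intro e he
    exact conj_mem_commutator _ _ e (fun a ha => Q.mul_mem (Q.mul_mem he ha) (Q.inv_mem he))
      (fun a ha => Q.mul_mem (Q.mul_mem he ha) (Q.inv_mem he))
  have hQ'Z : ⁅Q, Q⁆ ≤ zen Q := le_inf (le_of_lt hQ'lt) (hcentral _ hQ'lt hQ'X hQ'n)
  have hi : ∀ e ∈ Q, ∀ f ∈ Q, ⁅e, f⁆ ∈ zen Q := fun e he f hf =>
    hQ'Z (Subgroup.commutator_mem_commutator he hf)
  -- Step 5: `Y` centralizes the centre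
  have hZlt : zen Q < Q := by
    refine lt_of_le_of_ne (zen_le Q) ?_
    intro heq
    apply hef₀
    have h1 : f₀ ∈ zen Q := by rw [heq]; exact hf₀
    exact (mem_zen.1 h1).2 e₀ he₀
  have hZX : ∀ z ∈ zen Q, X * z * X⁻¹ ∈ zen Q := by
    intro z hz
    obtain ⟨hz1, hz2⟩ := mem_zen.1 hz
    rw [mem_zen]
    refine ⟨hXf z hz1, ?_⟩
    intro e he
    have h1 := hz2 _ (hXb e he)
    calc e * (X * z * X⁻¹) = X * ((X⁻¹ * e * X) * z) * X⁻¹ := by group
      _ = X * (z * (X⁻¹ * e * X)) * X⁻¹ := by rw [h1]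
      _ = X * z * X⁻¹ * e := by group
  have hii : ∀ z ∈ zen Q, Y * z = z * Y := hmin _ hZlt hZX
  refine ⟨hi, hii, ?_⟩
  -- Step 6: fixed point freeness on `Q / Z`
  have hYz : ∀ z ∈ zen Q, Y * z * Y⁻¹ = z := by
    intro z hz
    rw [hii z hz]; group
  let C : Subgroup G :=
    { carrier := {e | e ∈ Q ∧ (Y * e * Y⁻¹)⁻¹ * e ∈ zen Q}
      one_mem' := by
        refine ⟨Q.one_mem, ?_⟩
        have : (Y * 1 * Y⁻¹)⁻¹ * 1 = (1 : G) := by group
        rw [this]; exact (zen Q).one_mem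
      mul_mem' := by
        rintro a b ⟨ha, ha'⟩ ⟨hb, hb'⟩
        refine ⟨Q.mul_mem ha hb, ?_⟩
        have h1 : (Y * (a * b) * Y⁻¹)⁻¹ * (a * b) =
            (Y * b * Y⁻¹)⁻¹ * ((Y * a * Y⁻¹)⁻¹ * a) * b := by group
        have h2 := (mem_zen.1 ha').2 _ (Q.inv_mem (hYf b hb))
        rw [h1, h2, mul_assoc]
        exact (zen Q).mul_mem ha' hb'
      inv_mem' := by
        rintro a ⟨ha, ha'⟩
        refine ⟨Q.inv_mem ha, ?_⟩
        set z := (Y * a * Y⁻¹)⁻¹ * a with hz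
        have h2 := (mem_zen.1 ha').2 a ha
        have h1 : (Y * a⁻¹ * Y⁻¹)⁻¹ * a⁻¹ = a * z⁻¹ * a⁻¹ := by rw [hz]; group
        have h3 : a * z⁻¹ * a⁻¹ = z⁻¹ := by
          have : a * z⁻¹ = z⁻¹ * a := by
            have h4 : z⁻¹ * (a * z) * z⁻¹ = z⁻¹ * (z * a) * z⁻¹ := by rw [h2]
            have h5 : z⁻¹ * (a * z) * z⁻¹ = z⁻¹ * a := by group
            have h6 : z⁻¹ * (z * a) * z⁻¹ = a * z⁻¹ := by group
            rw [← h6, ← h4, h5]
          rw [this]; group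
        rw [h1, h3]
        exact (zen Q).inv_mem ha' }
  have hCmem : ∀ e, e ∈ C ↔ e ∈ Q ∧ (Y * e * Y⁻¹)⁻¹ * e ∈ zen Q := fun e => Iff.rfl
  have hCle : C ≤ Q := fun e he => he.1
  have hZC : zen Q ≤ C := by
    intro z hz
    refine ⟨zen_le Q hz, ?_⟩
    rw [hYz z hz, inv_mul_cancel]
    exact (zen Q).one_mem
  have hCne : C ≠ Q := by
    intro heq
    obtain ⟨t, htQ, ht⟩ := hY
    apply ht
    have htC : t ∈ C := by rw [heq]; exact htQ
    have h1 : t⁻¹ * (Y * t * Y⁻¹) ∈ zen Q := by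
      have h2 := (zen Q).inv_mem htC.2
      have h3 : ((Y * t * Y⁻¹)⁻¹ * t)⁻¹ = t⁻¹ * (Y * t * Y⁻¹) := by group
      rwa [h3] at h2
    exact comm_of_comm_of_coprime Q hQ Y m hYm hmq t (zen_le Q h1) (hii _ h1)
  have hClt : C < Q := lt_of_le_of_ne hCle hCne
  have hCX : ∀ e ∈ C, X * e * X⁻¹ ∈ C := by
    rintro e ⟨he, he'⟩
    refine ⟨hXf e he, ?_⟩
    have h1 : (Y * (X * e * X⁻¹) * Y⁻¹)⁻¹ * (X * e * X⁻¹) =
        X * ((Y * e * Y⁻¹)⁻¹ * e) * X⁻¹ := by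
      have hYX' : Y * X = X * Y := hXY.symm
      have h2 : Y * (X * e * X⁻¹) * Y⁻¹ = X * (Y * e * Y⁻¹) * X⁻¹ := by
        calc Y * (X * e * X⁻¹) * Y⁻¹ = (Y * X) * e * (Y * X)⁻¹ := by group
          _ = (X * Y) * e * (X * Y)⁻¹ := by rw [hYX']
          _ = X * (Y * e * Y⁻¹) * X⁻¹ := by group
      rw [h2]; group
    rw [h1]
    exact hZX _ he'
  have hCn : ∀ g ∈ Q, ∀ e ∈ C, g * e * g⁻¹ ∈ C := by
    intro g hg e he
    have h1 : g * e * g⁻¹ = ⁅g, e⁆ * e := by rw [commutatorElement_def]; group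
    rw [h1]
    exact C.mul_mem (hZC (hi g hg e he.1)) he
  have hCc := hcentral C hClt hCX hCn
  intro e he he'
  exact ⟨he, hCc ⟨he, he'⟩⟩

end GT

end Cfsg.Agent.Lib.Helper56.HHB
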