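import Cfsg.Agent.Lib.Helper56.HHSReduce

/-!
# Theorem SG for automorphisms of an elementary abelian group

`N` is a finite elementary abelian `v`-group, `Q` a `q`-group of automorphisms of `N`, normalized
by the automorphism `ξ` of order dividing `p ^ n` (`p` odd; `p`, `q`, `v` distinct primes).  If `ξ`
centralizes no nonidentity element of `Q` and `ξ ^ (p ^ (n-1))` does not centralize `Q`, then `ξ`
fixes a nonidentity element of `N`.
-/

set_option autoImplicit false
set_option linter.unusedSectionVars false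
set_option linter.style.haveILetI false

namespace Cfsg.Agent.Lib.Helper56.HHS

open Module TensorProduct
open Cfsg.Agent.Lib.Helper56.HH
open Cfsg.Agent.Lib.Helper56.HHB

section Group

variable {N : Type*} [CommGroup N] [Finite N]

theorem thmSG_group_aux (v p q : ℕ) [Fact v.Prime] [Fact p.Prime] [Fact q.Prime]
    [Module (ZMod v) (Additive N)]
    (hpq : p ≠ q) (hp2 : p ≠ 2) (hvp : v ≠ p) (hvq : v ≠ q)
    (Q : Subgroup (MulAut N)) (hQ : IsPGroup q Q) (ξ : MulAut N)
    (hξQ : ∀ e ∈ Q, ξ * e * ξ⁻¹ ∈ Q) (n : ℕ) (hn : 1 ≤ n) (hξn : ξ ^ (p ^ n) = 1)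
    (hY : ∃ t ∈ Q, ξ ^ (p ^ (n - 1)) * t ≠ t * ξ ^ (p ^ (n - 1)))
    (hfpfQ : ∀ e ∈ Q, ξ * e * ξ⁻¹ = e → e = 1) :
    ∃ a : N, a ≠ 1 ∧ ξ a = a := by
  classical
  have hv : v.Prime := Fact.out
  have hp : p.Prime := Fact.out
  have hq : q.Prime := Fact.out
  haveI : Finite (Additive N) := inferInstanceAs (Finite N)
  haveI : FiniteDimensional (ZMod v) (Additive N) := Module.Finite.of_finite
  haveI : Finite (MulAut N) := Finite.of_injective (fun f : MulAut N => (f : N → N))
    (fun f g h => by ext a; exact congrFun h a)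
  let lin : MulAut N →* Module.End (ZMod v) (Additive N) :=
    { toFun := fun f => (MonoidHom.toAdditive f.toMonoidHom).toZModLinearMap v
      map_one' := by
        apply LinearMap.ext
        intro x
        simp
      map_mul' := by
        intro f g
        apply LinearMap.ext
        intro x
        simp }
  have hlin_apply : ∀ (f : MulAut N) (x : Additive N),
      lin f x = Additive.ofMul (f (Additive.toMul x)) := fun f x => rfl
  have hlin_inj : Function.Injective lin := by
    intro f g hfg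
    ext a
    have := congrArg (fun h : Module.End (ZMod v) (Additive N) => h (Additive.ofMul a)) hfg
    exact congrArg Additive.toMul this
  let L := AlgebraicClosure (ZMod v)
  let bc : Module.End (ZMod v) (Additive N) →* Module.End L (L ⊗[ZMod v] Additive N) :=
    (Module.End.baseChangeHom (ZMod v) L (Additive N) :
      Module.End (ZMod v) (Additive N) →* Module.End L (L ⊗[ZMod v] Additive N))
  have hbc_inj : Function.Injective bc := by
    intro f g hfg
    exact LinearMap.baseChangeHom_injective (ZMod v) (Additive N) L hfg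
  have hcast : ∀ k : ℕ, ¬ v ∣ k → (k : L) ≠ 0 := by
    intro k hk h0
    have h1 : (k : ZMod v) ≠ 0 := fun h => hk ((ZMod.natCast_eq_zero_iff k v).1 h)
    apply h1
    have : algebraMap (ZMod v) L (k : ZMod v) = 0 := by rw [map_natCast]; exact h0
    exact (map_eq_zero_iff (algebraMap (ZMod v) L) (algebraMap (ZMod v) L).injective).1 this
  have hpL : (p : L) ≠ 0 :=
    hcast p (fun h => hvp ((Nat.prime_dvd_prime_iff_eq hv hp).1 h))
  have hqL : (q : L) ≠ 0 :=
    hcast q (fun h => hvq ((Nat.prime_dvd_prime_iff_eq hv hq).1 h))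
  let g : MulAut N →* (Module.End L (L ⊗[ZMod v] Additive N))ˣ := (bc.comp lin).toHomUnits
  have hg_val : ∀ f : MulAut N, ((g f : (Module.End L (L ⊗[ZMod v] Additive N))ˣ) :
      Module.End L (L ⊗[ZMod v] Additive N)) = bc (lin f) := fun f => rfl
  have hg_inj : Function.Injective g := by
    intro f f' h
    apply hlin_inj
    apply hbc_inj
    rw [← hg_val, ← hg_val, h]
  set Q' := Q.map g with hQ'
  haveI : Finite Q' := by
    rw [hQ']
    exact Finite.of_surjective (fun x : Q => (⟨g x, Subgroup.mem_map_of_mem g x.2⟩ : Q.map g))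
      (by rintro ⟨_, ⟨x, hx, rfl⟩⟩; exact ⟨⟨x, hx⟩, rfl⟩)
  have hQ'q : IsPGroup q Q' := hQ.map g
  have h1 : ∀ e ∈ Q', g ξ * e * (g ξ)⁻¹ ∈ Q' := by
    rintro _ ⟨e, he, rfl⟩
    refine ⟨ξ * e * ξ⁻¹, hξQ e he, ?_⟩
    rw [map_mul, map_mul, map_inv]
  have h2 : (g ξ) ^ (p ^ n) = 1 := by rw [← map_pow, hξn, map_one]
  have h3 : ∃ t ∈ Q', (g ξ) ^ (p ^ (n - 1)) * t ≠ t * (g ξ) ^ (p ^ (n - 1)) := by
    obtain ⟨t, htQ, ht⟩ := hY
    refine ⟨g t, Subgroup.mem_map_of_mem g htQ, ?_⟩
    intro h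
    apply ht
    apply hg_inj
    rw [map_mul, map_mul, map_pow]
    exact h
  have h4 : ∀ e ∈ Q', g ξ * e * (g ξ)⁻¹ = e → e = 1 := by
    rintro _ ⟨e, he, rfl⟩ h
    have : g (ξ * e * ξ⁻¹) = g e := by rw [map_mul, map_mul, map_inv]; exact h
    rw [hfpfQ e he (hg_inj this), map_one]
  obtain ⟨w, hw0, hw⟩ := thmSG p q hpq hp2 hpL hqL Q' hQ'q (g ξ) h1 n hn h2 h3 h4
  -- descend the fixed vector
  by_contra hno
  push Not at hno
  have hinj : Function.Injective ⇑((lin ξ : Module.End (ZMod v) (Additive N)) - 1) := by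
    rw [← LinearMap.ker_eq_bot, LinearMap.ker_eq_bot']
    intro m hm
    rw [LinearMap.sub_apply, Module.End.one_apply, sub_eq_zero] at hm
    by_contra hm0
    have h5 : Additive.toMul m ≠ 1 := fun h => hm0 (congrArg Additive.ofMul h)
    apply hno _ h5
    have := congrArg Additive.toMul hm
    rwa [hlin_apply] at this
  have hunit : IsUnit ((lin ξ : Module.End (ZMod v) (Additive N)) - 1) :=
    (Module.End.isUnit_iff _).2 ⟨hinj, LinearMap.surjective_of_injective hinj⟩
  have hunit' : IsUnit (bc ((lin ξ : Module.End (ZMod v) (Additive N)) - 1)) := hunit.map bc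
  have hbcsub : bc ((lin ξ : Module.End (ZMod v) (Additive N)) - 1) = bc (lin ξ) - 1 := by
    show LinearMap.baseChange L ((lin ξ : Module.End (ZMod v) (Additive N)) - 1) =
      LinearMap.baseChange L (lin ξ : Module.End (ZMod v) (Additive N)) - 1
    rw [LinearMap.baseChange_sub, LinearMap.baseChange_one]
  rw [hbcsub] at hunit'
  have hinj' := ((Module.End.isUnit_iff _).1 hunit').1
  apply hw0
  apply hinj'
  rw [map_zero, LinearMap.sub_apply, Module.End.one_apply, sub_eq_zero, ← hg_val]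
  exact hw

/-- **Theorem SG, group form.** -/
theorem thmSG_group (v p q : ℕ) [Fact v.Prime] [Fact p.Prime] [Fact q.Prime]
    (hexp : ∀ a : N, a ^ v = 1)
    (hpq : p ≠ q) (hp2 : p ≠ 2) (hvp : v ≠ p) (hvq : v ≠ q)
    (Q : Subgroup (MulAut N)) (hQ : IsPGroup q Q) (ξ : MulAut N)
    (hξQ : ∀ e ∈ Q, ξ * e * ξ⁻¹ ∈ Q) (n : ℕ) (hn : 1 ≤ n) (hξn : ξ ^ (p ^ n) = 1)
    (hY : ∃ t ∈ Q, ξ ^ (p ^ (n - 1)) * t ≠ t * ξ ^ (p ^ (n - 1)))
    (hfpfQ : ∀ e ∈ Q, ξ * e * ξ⁻¹ = e → e = 1) :
    ∃ a : N, a ≠ 1 ∧ ξ a = a := by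
  letI : Module (ZMod v) (Additive N) := AddCommGroup.zmodModule (n := v) (by
    intro x
    have := hexp (Additive.toMul x)
    exact congrArg Additive.ofMul this)
  exact thmSG_group_aux v p q hpq hp2 hvp hvq Q hQ ξ hξQ n hn hξn hY hfpfQ

end Group

end Cfsg.Agent.Lib.Helper56.HHS
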