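import Mathlib
import Cfsg.Prelude.Def_Solvable
import Cfsg.Agent.Lib.Helper56.HHSGroup
import Cfsg.Agent.Lib.Helper56.HHBGroup
import Cfsg.Agent.Lib.Helper01.Fitting
import Cfsg.Agent.Lib.Helper13.Fitting
import Cfsg.Agent.Lib.Helper67.FStar

/-!
# Shult–Gross: group-theoretic part

Fixed-point-free automorphisms: passing to invariant subgroups and quotients, the
"chief centralizer" (a nilpotent normal subgroup), and the reduction of the Shult–Gross theorem to
the linear statement `HHS.thmSG_group`.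
-/

set_option autoImplicit false
set_option linter.style.haveILetI false

open scoped commutatorElement

namespace Cfsg.Agent.Lib.Helper56.SG

variable {G : Type*} [Group G]

/-! ### Fixed-point-free automorphisms -/

theorem fpf_inj (σ : MulAut G) (hfpf : ∀ g : G, σ g = g → g = 1) :
    Function.Injective (fun x : G => x⁻¹ * σ x) := by
  intro x y hxy
  have hxy' : x⁻¹ * σ x = y⁻¹ * σ y := hxy
  have h1 : σ (y * x⁻¹) = y * x⁻¹ := by
    rw [map_mul, map_inv]
    have h2 : σ x = x * (y⁻¹ * σ y) := by rw [← hxy']; group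
    rw [h2]; group
  have h3 := hfpf _ h1
  have : y = x := by
    have := congrArg (· * x) h3
    simpa using this
  exact this.symm

/-- If `g⁻¹ σ(g)` lies in a `σ`-invariant subgroup `N`, so does `g`. -/
theorem mem_of_inv_mul_map_mem [Finite G] (σ : MulAut G) (hfpf : ∀ g : G, σ g = g → g = 1)
    (N : Subgroup G) (hN : ∀ x ∈ N, σ x ∈ N) (g : G) (hg : g⁻¹ * σ g ∈ N) : g ∈ N := by
  let f : N → N := fun x => ⟨(x : G)⁻¹ * σ x, N.mul_mem (N.inv_mem x.2) (hN x x.2)⟩
  have hf : Function.Injective f := by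
    intro x y hxy
    have := congrArg Subtype.val hxy
    exact Subtype.ext (fpf_inj σ hfpf this)
  have hs : Function.Surjective f := Finite.surjective_of_injective hf
  obtain ⟨x, hx⟩ := hs ⟨_, hg⟩
  have hx' : (x : G)⁻¹ * σ x = g⁻¹ * σ g := congrArg Subtype.val hx
  have := fpf_inj σ hfpf hx'
  rw [← this]; exact x.2

/-- An invariant subgroup of a finite group is mapped onto itself. -/
theorem map_mem_iff [Finite G] (σ : MulAut G) (N : Subgroup G) (hN : ∀ x ∈ N, σ x ∈ N) (x : G) :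
    σ x ∈ N ↔ x ∈ N := by
  refine ⟨fun hx => ?_, hN x⟩
  let f : N → N := fun y => ⟨σ y, hN y y.2⟩
  have hf : Function.Injective f := by
    intro a b hab
    have := congrArg Subtype.val hab
    exact Subtype.ext (σ.injective this)
  have hs : Function.Surjective f := Finite.surjective_of_injective hf
  obtain ⟨y, hy⟩ := hs ⟨_, hx⟩
  have hy' : σ y = σ x := congrArg Subtype.val hy
  rw [← σ.injective hy']; exact y.2

theorem pow_apply_mem (σ : MulAut G) (N : Subgroup G) (hN : ∀ x ∈ N, σ x ∈ N) (k : ℕ) :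
    ∀ x ∈ N, (σ ^ k) x ∈ N := by
  induction k with
  | zero => intro x hx; simpa using hx
  | succ k ih =>
    intro x hx
    rw [pow_succ', MulAut.mul_apply]
    exact hN _ (ih x hx)

/-- A fixed-point-free automorphism of `p`-power order acts on a group of order prime to `p`. -/
theorem not_dvd_card_of_fpf [Finite G] (p : ℕ) [Fact p.Prime] (σ : MulAut G) (k : ℕ)
    (hσ : σ ^ (p ^ k) = 1) (hfpf : ∀ g : G, σ g = g → g = 1) : ¬ p ∣ Nat.card G := by
  have hP : IsPGroup p (Subgroup.zpowers σ) := by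
    intro g
    refine ⟨k, ?_⟩
    obtain ⟨g, hg⟩ := g
    obtain ⟨j, rfl⟩ := Subgroup.mem_zpowers_iff.mp hg
    apply Subtype.ext
    simp only [SubmonoidClass.mk_pow, Subgroup.coe_one]
    rw [← zpow_natCast, ← zpow_mul, mul_comm, zpow_mul, zpow_natCast, hσ, one_zpow]
  have h1 := hP.card_modEq_card_fixedPoints G
  have h2 : MulAction.fixedPoints (Subgroup.zpowers σ) G = {1} := by
    ext g
    simp only [MulAction.mem_fixedPoints, Set.mem_singleton_iff]
    constructor
    · intro h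
      have := h ⟨σ, Subgroup.mem_zpowers σ⟩
      exact hfpf g this
    · rintro rfl m
      obtain ⟨m, hm⟩ := m
      show m (1 : G) = 1
      exact map_one m
  rw [h2] at h1
  have h3 : Nat.card ({1} : Set G) = 1 := by simp
  rw [h3] at h1
  intro hdvd
  have h4 : Nat.card G ≡ 0 [MOD p] := Nat.modEq_zero_iff_dvd.mpr hdvd
  have h5 : 1 ≡ 0 [MOD p] := h1.symm.trans h4
  have h6 : p ∣ 1 := Nat.modEq_zero_iff_dvd.mp h5
  have hp : p.Prime := Fact.out
  exact hp.one_lt.ne' (Nat.dvd_one.mp h6)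

/-! ### Induced automorphism on a quotient -/

theorem map_eq_of_mem_iff (σ : MulAut G) (N : Subgroup G) (hN : ∀ x, σ x ∈ N ↔ x ∈ N) :
    N.map (σ : G →* G) = N := by
  ext y
  constructor
  · rintro ⟨x, hx, rfl⟩
    exact (hN x).mpr hx
  · intro hy
    refine ⟨σ.symm y, ?_, by simp⟩
    have h1 := hN (σ.symm y)
    rw [MulEquiv.apply_symm_apply] at h1
    exact h1.mp hy

/-- The automorphism induced on the quotient by an invariant normal subgroup. -/
noncomputable def quotAut (σ : MulAut G) (N : Subgroup G) [N.Normal]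
    (hN : ∀ x, σ x ∈ N ↔ x ∈ N) : MulAut (G ⧸ N) :=
  QuotientGroup.congr N N σ (map_eq_of_mem_iff σ N hN)

@[simp] theorem quotAut_mk (σ : MulAut G) (N : Subgroup G) [N.Normal]
    (hN : ∀ x, σ x ∈ N ↔ x ∈ N) (g : G) :
    quotAut σ N hN (QuotientGroup.mk g) = QuotientGroup.mk (σ g) := rfl

theorem quotAut_pow_mk (σ : MulAut G) (N : Subgroup G) [N.Normal]
    (hN : ∀ x, σ x ∈ N ↔ x ∈ N) (k : ℕ) (g : G) :
    (quotAut σ N hN ^ k) (QuotientGroup.mk g) = QuotientGroup.mk ((σ ^ k) g) := by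
  induction k generalizing g with
  | zero => simp
  | succ k ih => rw [pow_succ, MulAut.mul_apply, quotAut_mk, ih, pow_succ, MulAut.mul_apply]

theorem quotAut_fpf [Finite G] (σ : MulAut G) (hfpf : ∀ g : G, σ g = g → g = 1)
    (N : Subgroup G) [N.Normal] (hN : ∀ x, σ x ∈ N ↔ x ∈ N) :
    ∀ x : G ⧸ N, quotAut σ N hN x = x → x = 1 := by
  intro x
  induction x using QuotientGroup.induction_on with
  | H g =>
    intro h
    rw [quotAut_mk] at h
    rw [QuotientGroup.eq_one_iff]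
    apply mem_of_inv_mul_map_mem σ hfpf N (fun x hx => (hN x).mpr hx)
    have := QuotientGroup.eq.mp h.symm
    exact this

theorem quotAut_pow_eq_one (σ : MulAut G) (N : Subgroup G) [N.Normal]
    (hN : ∀ x, σ x ∈ N ↔ x ∈ N) (k : ℕ) (h : ∀ g : G, g⁻¹ * (σ ^ k) g ∈ N) :
    quotAut σ N hN ^ k = 1 := by
  ext x
  induction x using QuotientGroup.induction_on with
  | H g =>
    rw [quotAut_pow_mk, MulAut.one_apply]
    exact (QuotientGroup.eq.mpr (h g)).symm

/-! ### The chief centralizer -/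

/-- `σ`-invariant normal subgroups. -/
structure SInv (σ : MulAut G) (U : Subgroup G) : Prop where
  normal : U.Normal
  inv : ∀ x, σ x ∈ U ↔ x ∈ U

theorem SInv.bot (σ : MulAut G) : SInv σ (⊥ : Subgroup G) :=
  ⟨inferInstance, fun x => by simp⟩

theorem SInv.top (σ : MulAut G) : SInv σ (⊤ : Subgroup G) :=
  ⟨inferInstance, fun x => by simp⟩

/-- A `σ`-chief factor `U / V`. -/
def IsChief (σ : MulAut G) (U V : Subgroup G) : Prop :=
  SInv σ U ∧ SInv σ V ∧ V < U ∧ ∀ W, SInv σ W → V ≤ W → W ≤ U → W = V ∨ W = U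

/-- The elements centralizing every `σ`-chief factor. -/
def chiefCent (σ : MulAut G) : Subgroup G where
  carrier := {x | ∀ U V, IsChief σ U V → ∀ u ∈ U, ⁅u, x⁆ ∈ V}
  one_mem' := by
    intro U V _ u _
    have : ⁅u, (1 : G)⁆ = 1 := by simp [commutatorElement_def]
    rw [this]; exact V.one_mem
  mul_mem' := by
    intro x y hx hy U V h u hu
    haveI := h.2.1.normal
    have h1 : ⁅u, x * y⁆ = ⁅u, x⁆ * (x * ⁅u, y⁆ * x⁻¹) := by
      simp only [commutatorElement_def]; group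
    rw [h1]
    exact V.mul_mem (hx U V h u hu) (h.2.1.normal.conj_mem _ (hy U V h u hu) x)
  inv_mem' := by
    intro x hx U V h u hu
    have h1 : ⁅u, x⁻¹⁆ = x⁻¹ * (⁅u, x⁆)⁻¹ * x⁻¹⁻¹ := by
      simp only [commutatorElement_def]; group
    rw [h1]
    exact h.2.1.normal.conj_mem _ (V.inv_mem (hx U V h u hu)) x⁻¹

theorem mem_chiefCent (σ : MulAut G) (x : G) :
    x ∈ chiefCent σ ↔ ∀ U V, IsChief σ U V → ∀ u ∈ U, ⁅u, x⁆ ∈ V := Iff.rfl

theorem chiefCent_normal (σ : MulAut G) : (chiefCent σ).Normal := by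
  constructor
  intro x hx g U V h u hu
  have h1 : ⁅u, g * x * g⁻¹⁆ = g * ⁅g⁻¹ * u * g⁻¹⁻¹, x⁆ * g⁻¹ := by
    simp only [commutatorElement_def]; group
  rw [h1]
  exact h.2.1.normal.conj_mem _ (hx U V h _ (h.1.normal.conj_mem _ hu g⁻¹)) g

theorem commutator_chiefCent_le (σ : MulAut G) {U V : Subgroup G} (h : IsChief σ U V) :
    ⁅U, chiefCent σ⁆ ≤ V := by
  rw [Subgroup.commutator_le]
  intro u hu x hx
  exact hx U V h u hu

theorem exists_chief_below [Finite G] (σ : MulAut G) {U : Subgroup G} (hU : SInv σ U)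
    (hne : U ≠ ⊥) : ∃ V, IsChief σ U V := by
  obtain ⟨V, hV, hVmax⟩ := exists_maximal_of_wellFoundedGT
    (fun W : Subgroup G => SInv σ W ∧ W < U) ⟨⊥, SInv.bot σ, bot_lt_iff_ne_bot.mpr hne⟩
  refine ⟨V, hU, hV.1, hV.2, ?_⟩
  intro W hW hVW hWU
  by_cases hWU' : W = U
  · exact Or.inr hWU'
  · left
    have := hVmax ⟨hW, lt_of_le_of_ne hWU hWU'⟩ hVW
    exact le_antisymm this hVW

theorem iter_chiefCent_eq_bot [Finite G] (σ : MulAut G) :
    ∀ (c : ℕ) (U : Subgroup G), SInv σ U → Nat.card U ≤ c →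
      ∃ m, (fun X : Subgroup G => ⁅X, chiefCent σ⁆)^[m] U = ⊥ := by
  intro c
  induction c with
  | zero =>
    intro U _ hc
    have : 0 < Nat.card U := Nat.card_pos
    omega
  | succ c ih =>
    intro U hU hc
    by_cases hne : U = ⊥
    · exact ⟨0, hne⟩
    · obtain ⟨V, hV⟩ := exists_chief_below σ hU hne
      have hlt : Nat.card V < Nat.card U :=
        Set.Finite.card_lt_card (Set.toFinite _) (SetLike.coe_ssubset_coe.2 hV.2.2.1)
      obtain ⟨m, hm⟩ := ih V hV.2.1 (by omega)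
      refine ⟨m + 1, ?_⟩
      rw [Function.iterate_succ_apply]
      have hmono : Monotone (fun X : Subgroup G => ⁅X, chiefCent σ⁆) :=
        fun X Y hXY => Subgroup.commutator_mono hXY le_rfl
      have := (hmono.iterate m) (commutator_chiefCent_le σ hV)
      rw [eq_bot_iff, ← hm]
      exact this

theorem chiefCent_isNilpotent [Finite G] (σ : MulAut G) : Group.IsNilpotent (chiefCent σ) := by
  rw [Subgroup.isNilpotent_iff_lowerCentralSeries]
  obtain ⟨m, hm⟩ := iter_chiefCent_eq_bot σ (Nat.card (⊤ : Subgroup G)) ⊤ (SInv.top σ) le_rfl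
  refine ⟨m, ?_⟩
  have key : ∀ k, (chiefCent σ).lowerCentralSeries k ≤
      (fun X : Subgroup G => ⁅X, chiefCent σ⁆)^[k] ⊤ := by
    intro k
    induction k with
    | zero => exact le_top
    | succ k ih =>
      rw [Subgroup.lowerCentralSeries_succ, Function.iterate_succ_apply']
      exact Subgroup.commutator_mono ih le_rfl
  rw [eq_bot_iff, ← hm]
  exact key m

theorem chiefCent_le_fitting [Finite G] (σ : MulAut G) :
    chiefCent σ ≤ Cfsg.fittingSubgroup G :=
  Cfsg.Agent.Lib.Helper13.le_fittingSubgroup _ (chiefCent_normal σ) (chiefCent_isNilpotent σ)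

/-! ### The linear lemma -/

theorem char_mem_iff {E : Type*} [Group E] {H : Subgroup E} (hH : H.Characteristic)
    (τ : MulAut E) (x : E) : τ x ∈ H ↔ x ∈ H := by
  have h1 := hH.fixed τ
  have h2 : x ∈ H.comap τ.toMonoidHom ↔ x ∈ H := by rw [h1]
  exact h2

section LIN

variable {N : Type*} [CommGroup N] [Finite N] {E : Type*} [Group E] [Finite E]

theorem conj_pow_eq (φ : E →* MulAut N) (τ : MulAut E) (ξ : MulAut N)
    (hτ : ∀ e, ξ * φ e * ξ⁻¹ = φ (τ e)) (k : ℕ) (e : E) :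
    ξ ^ k * φ e * (ξ ^ k)⁻¹ = φ ((τ ^ k) e) := by
  induction k generalizing e with
  | zero => simp
  | succ k ih =>
    rw [pow_succ' τ, MulAut.mul_apply, ← hτ, ← ih, pow_succ']
    group

/-- An automorphism of order dividing `p` of a solvable `p'`-group fixing each `O_q` pointwise
is trivial. -/
theorem fix_all_of_fix_pCore [Group.IsSolvable E] (p : ℕ) [Fact p.Prime]
    (hpE : ¬ p ∣ Nat.card E) (ψ : MulAut E)
    (hψp : ψ ^ p = 1)
    (hfix : ∀ q : Nat.Primes, ∀ x ∈ Cfsg.pCore (q : ℕ) E, ψ x = x) : ∀ e, ψ e = e := by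
  have hp : p.Prime := Fact.out
  let Fx : Subgroup E :=
    { carrier := {x | ψ x = x}
      one_mem' := map_one ψ
      mul_mem' := by
        intro a b ha hb
        show ψ (a * b) = a * b
        rw [map_mul, ha, hb]
      inv_mem' := by
        intro a ha
        show ψ a⁻¹ = a⁻¹
        rw [map_inv, ha] }
  have hF : Cfsg.fittingSubgroup E ≤ Fx := by
    rw [Cfsg.Agent.Lib.Helper01.fitting_eq_iSup_pCore]
    apply iSup_le
    intro q x hx
    exact hfix q x hx
  have hFn : (Cfsg.fittingSubgroup E).Normal := Cfsg.Agent.Lib.Helper13.fittingSubgroup_normal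
  intro e
  set c : E := e⁻¹ * ψ e with hc
  have hcC : c ∈ Subgroup.centralizer ((Cfsg.fittingSubgroup E : Subgroup E) : Set E) := by
    rw [Subgroup.mem_centralizer_iff]
    intro f hf
    have h1 : ψ (e * f * e⁻¹) = e * f * e⁻¹ := hF (hFn.conj_mem f hf e)
    have h2 : ψ f = f := hF hf
    rw [map_mul, map_mul, map_inv, h2] at h1
    -- ψ e * f * (ψ e)⁻¹ = e * f * e⁻¹
    have h3 : ψ e * f = e * f * e⁻¹ * ψ e := by
      rw [← h1]; group
    rw [hc]
    calc f * (e⁻¹ * ψ e) = e⁻¹ * (e * f * e⁻¹ * ψ e) := by group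
      _ = e⁻¹ * (ψ e * f) := by rw [h3]
      _ = e⁻¹ * ψ e * f := by group
  have hcF : ψ c = c := hF (Cfsg.Agent.Lib.Helper13.centralizer_fittingSubgroup_le hcC)
  have hψe : ψ e = e * c := by rw [hc]; group
  have hpow : ∀ j : ℕ, (ψ ^ j) e = e * c ^ j := by
    intro j
    induction j with
    | zero => simp
    | succ j ih =>
      rw [pow_succ', MulAut.mul_apply, ih, map_mul, map_pow, hcF, hψe, pow_succ']
      group
  have hcp : c ^ p = 1 := by
    have := hpow p
    rw [hψp, MulAut.one_apply] at this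
    have h4 : e * 1 = e * c ^ p := by rw [mul_one]; exact this
    exact (mul_left_cancel h4).symm
  have hc1 : c = 1 := by
    have h5 : orderOf c ∣ p := orderOf_dvd_of_pow_eq_one hcp
    have h6 : orderOf c ∣ Nat.card E := orderOf_dvd_natCard c
    rcases (Nat.dvd_prime hp).mp h5 with h7 | h7
    · exact orderOf_eq_one_iff.mp h7
    · rw [h7] at h6; exact absurd h6 hpE
  rw [hψe, hc1, mul_one]

theorem pCore_exp_trivial [Nontrivial N] (v : ℕ) [Fact v.Prime] (hexp : ∀ a : N, a ^ v = 1)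
    (φ : E →* MulAut N) (τ : MulAut E) (ξ : MulAut N)
    (hτ : ∀ e, ξ * φ e * ξ⁻¹ = φ (τ e))
    (hirr : ∀ N₁ : Subgroup N, (∀ e, ∀ a ∈ N₁, φ e a ∈ N₁) → (∀ a ∈ N₁, ξ a ∈ N₁) →
      N₁ = ⊥ ∨ N₁ = ⊤) :
    ∀ x ∈ Cfsg.pCore v E, φ x = 1 := by
  have hv : v.Prime := Fact.out
  set P : Subgroup E := Cfsg.pCore v E with hP
  have hPn : P.Normal := Cfsg.Agent.Lib.Helper01.pCore_normal v
  have hPc : P.Characteristic := Cfsg.Agent.Lib.Helper01.pCore_characteristic v
  let P' : Subgroup (MulAut N) := P.map φ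
  have hP' : IsPGroup v P' := (Cfsg.Agent.Lib.Helper01.pCore_isPGroup v).map φ
  let N₁ : Subgroup N :=
    { carrier := {a | ∀ x ∈ P, φ x a = a}
      one_mem' := fun x _ => map_one _
      mul_mem' := by
        intro a b ha hb x hx
        rw [map_mul, ha x hx, hb x hx]
      inv_mem' := by
        intro a ha x hx
        rw [map_inv, ha x hx] }
  have hdvd : v ∣ Nat.card N := by
    obtain ⟨a, ha⟩ := exists_ne (1 : N)
    have h1 : orderOf a ∣ v := orderOf_dvd_of_pow_eq_one (hexp a)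
    rcases (Nat.dvd_prime hv).mp h1 with h2 | h2
    · exact absurd (orderOf_eq_one_iff.mp h2) ha
    · rw [← h2]; exact orderOf_dvd_natCard a
  have hfix1 : (1 : N) ∈ MulAction.fixedPoints P' N := by
    intro m
    obtain ⟨m, hm⟩ := m
    show m (1 : N) = 1
    exact map_one m
  obtain ⟨b, hb, hb1⟩ := hP'.exists_fixed_point_of_prime_dvd_card_of_fixed_point N hdvd hfix1
  have hbN : b ∈ N₁ := by
    intro x hx
    have := hb ⟨φ x, Subgroup.mem_map_of_mem φ hx⟩
    exact this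
  have hE : ∀ e, ∀ a ∈ N₁, φ e a ∈ N₁ := by
    intro e a ha x hx
    have h1 : e⁻¹ * x * e⁻¹⁻¹ ∈ P := hPn.conj_mem x hx e⁻¹
    have h2 := ha _ h1
    have h3 : φ x (φ e a) = φ e (φ (e⁻¹ * x * e⁻¹⁻¹) a) := by
      rw [← MulAut.mul_apply, ← MulAut.mul_apply, ← map_mul, ← map_mul]
      congr 2; group
    rw [h3, h2]
  have hξ : ∀ a ∈ N₁, ξ a ∈ N₁ := by
    intro a ha x hx
    have h1 : τ.symm x ∈ P := by
      rw [← char_mem_iff hPc τ]; simpa using hx
    have h2 := ha _ h1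
    have h3 := hτ (τ.symm x)
    rw [MulEquiv.apply_symm_apply] at h3
    rw [← h3]
    simp only [MulAut.mul_apply, MulAut.inv_apply, MulEquiv.symm_apply_apply]
    rw [h2]
  rcases hirr N₁ hE hξ with h | h
  · rw [h, Subgroup.mem_bot] at hbN
    exact absurd hbN.symm hb1
  · intro x hx
    ext a
    have : a ∈ N₁ := by rw [h]; trivial
    exact this x hx

/-- **The linear lemma.** -/
theorem lin [Group.IsSolvable E] (v p : ℕ) [Fact v.Prime] [Fact p.Prime]
    (hexp : ∀ a : N, a ^ v = 1) (hp2 : p ≠ 2) (hvp : v ≠ p)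
    (φ : E →* MulAut N) (hφ : Function.Injective φ) (τ : MulAut E) (ξ : MulAut N)
    (hτ : ∀ e, ξ * φ e * ξ⁻¹ = φ (τ e)) (n : ℕ) (hξn : ξ ^ (p ^ (n + 1)) = 1)
    (hfpfE : ∀ e, τ e = e → e = 1) (hfpfN : ∀ a, ξ a = a → a = 1)
    (hirr : ∀ N₁ : Subgroup N, (∀ e, ∀ a ∈ N₁, φ e a ∈ N₁) → (∀ a ∈ N₁, ξ a ∈ N₁) →
      N₁ = ⊥ ∨ N₁ = ⊤) :
    ∀ e, (τ ^ (p ^ n)) e = e := by
  have hp : p.Prime := Fact.out
  by_contra hcon
  push Not at hcon
  obtain ⟨e₀, he₀⟩ := hcon
  -- `N` is nontrivial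
  haveI : Nontrivial N := by
    by_contra hN
    rw [not_nontrivial_iff_subsingleton] at hN
    apply he₀
    apply hφ
    ext a
    exact Subsingleton.elim _ _
  have hτpow : τ ^ (p ^ (n + 1)) = 1 := by
    ext e
    apply hφ
    rw [← conj_pow_eq φ τ ξ hτ, hξn]
    simp
  set ψ : MulAut E := τ ^ (p ^ n) with hψ
  have hψp : ψ ^ p = 1 := by
    rw [hψ, ← pow_mul, ← pow_succ]; exact hτpow
  have hpE : ¬ p ∣ Nat.card E := not_dvd_card_of_fpf p τ (n + 1) hτpow hfpfE
  have hex : ∃ q : Nat.Primes, ∃ x ∈ Cfsg.pCore (q : ℕ) E, ψ x ≠ x := by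
    by_contra hall
    push Not at hall
    exact he₀ (fix_all_of_fix_pCore p hpE ψ hψp hall e₀)
  obtain ⟨q, x, hx, hψx⟩ := hex
  haveI : Fact (q : ℕ).Prime := ⟨q.2⟩
  have hx1 : x ≠ 1 := by
    rintro rfl
    exact hψx (map_one ψ)
  have hpq : p ≠ (q : ℕ) := by
    intro hpq
    apply hx1
    obtain ⟨k, hk⟩ := (Cfsg.Agent.Lib.Helper01.pCore_isPGroup (G := E) (q : ℕ)) ⟨x, hx⟩
    have hk' : x ^ ((q : ℕ) ^ k) = 1 := by
      have := congrArg Subtype.val hk
      simpa using this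
    have h1 : orderOf x ∣ p ^ k := by
      rw [hpq]; exact orderOf_dvd_of_pow_eq_one hk'
    have h2 : orderOf x ∣ Nat.card E := orderOf_dvd_natCard x
    have h3 : Nat.Coprime (p ^ k) (Nat.card E) :=
      Nat.Coprime.pow_left k ((Nat.Prime.coprime_iff_not_dvd hp).mpr hpE)
    have h4 : orderOf x = 1 := Nat.eq_one_of_dvd_coprimes h3 h1 h2
    exact orderOf_eq_one_iff.mp h4
  have hvq : v ≠ (q : ℕ) := by
    intro hvq
    apply hx1
    apply hφ
    rw [map_one]
    have hx' : x ∈ Cfsg.pCore v E := by rw [hvq]; exact hx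
    exact pCore_exp_trivial v hexp φ τ ξ hτ hirr x hx'
  have hPc : (Cfsg.pCore (q : ℕ) E).Characteristic := Cfsg.Agent.Lib.Helper01.pCore_characteristic (q : ℕ)
  obtain ⟨a, ha1, haξ⟩ := Cfsg.Agent.Lib.Helper56.HHS.thmSG_group v p (q : ℕ) hexp hpq hp2 hvp hvq
    ((Cfsg.pCore (q : ℕ) E).map φ) ((Cfsg.Agent.Lib.Helper01.pCore_isPGroup (q : ℕ)).map φ) ξ
    (by
      rintro e' ⟨y, hy, rfl⟩
      rw [hτ]
      exact Subgroup.mem_map_of_mem φ ((char_mem_iff hPc τ y).mpr hy))
    (n + 1) (by omega) hξn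
    (by
      refine ⟨φ x, Subgroup.mem_map_of_mem φ hx, ?_⟩
      rw [Nat.add_sub_cancel]
      intro hcomm
      apply hψx
      apply hφ
      rw [hψ, ← conj_pow_eq φ τ ξ hτ, hcomm]
      group)
    (by
      rintro e' ⟨y, hy, rfl⟩ hfix
      rw [hτ] at hfix
      have := hfpfE y (hφ hfix)
      rw [this, map_one])
  exact ha1 (hfpfN a haξ)

end LIN

/-- The linear lemma with commutativity as a hypothesis. -/
theorem lin' {N : Type*} [Group N] [Finite N] {E : Type*} [Group E] [Finite E]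
    [Group.IsSolvable E] (hcomm : ∀ a b : N, a * b = b * a) (v p : ℕ) [Fact v.Prime] [Fact p.Prime]
    (hexp : ∀ a : N, a ^ v = 1) (hp2 : p ≠ 2) (hvp : v ≠ p)
    (φ : E →* MulAut N) (hφ : Function.Injective φ) (τ : MulAut E) (ξ : MulAut N)
    (hτ : ∀ e, ξ * φ e * ξ⁻¹ = φ (τ e)) (n : ℕ) (hξn : ξ ^ (p ^ (n + 1)) = 1)
    (hfpfE : ∀ e, τ e = e → e = 1) (hfpfN : ∀ a, ξ a = a → a = 1)
    (hirr : ∀ N₁ : Subgroup N, (∀ e, ∀ a ∈ N₁, φ e a ∈ N₁) → (∀ a ∈ N₁, ξ a ∈ N₁) →
      N₁ = ⊥ ∨ N₁ = ⊤) :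
    ∀ e, (τ ^ (p ^ n)) e = e := by
  letI : CommGroup N := { (inferInstance : Group N) with mul_comm := hcomm }
  exact lin v p hexp hp2 hvp φ hφ τ ξ hτ n hξn hfpfE hfpfN hirr

/-! ### Minimal invariant normal subgroups -/

/-- The restriction of an automorphism to an invariant subgroup. -/
def restrictAut (σ : MulAut G) (M : Subgroup G) (hM : ∀ x, σ x ∈ M ↔ x ∈ M) : MulAut ↥M where
  toFun m := ⟨σ m, (hM m).mpr m.2⟩
  invFun m := ⟨σ.symm m, by
    have h1 := hM (σ.symm m)
    rw [MulEquiv.apply_symm_apply] at h1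
    exact h1.mp m.2⟩
  left_inv m := by apply Subtype.ext; simp
  right_inv m := by apply Subtype.ext; simp
  map_mul' a b := by apply Subtype.ext; simp

@[simp] theorem restrictAut_apply (σ : MulAut G) (M : Subgroup G)
    (hM : ∀ x, σ x ∈ M ↔ x ∈ M) (m : M) : ((restrictAut σ M hM m : M) : G) = σ m := rfl

theorem restrictAut_symm_apply (σ : MulAut G) (M : Subgroup G)
    (hM : ∀ x, σ x ∈ M ↔ x ∈ M) (m : M) :
    (((restrictAut σ M hM)⁻¹ m : M) : G) = σ.symm m := rfl

theorem restrictAut_pow_apply (σ : MulAut G) (M : Subgroup G)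
    (hM : ∀ x, σ x ∈ M ↔ x ∈ M) (k : ℕ) (m : M) :
    (((restrictAut σ M hM ^ k) m : M) : G) = (σ ^ k) m := by
  induction k generalizing m with
  | zero => simp
  | succ k ih => rw [pow_succ, MulAut.mul_apply, ih, pow_succ, MulAut.mul_apply, restrictAut_apply]

theorem SInv.commutator [Finite G] {σ : MulAut G} {M : Subgroup G} (hM : SInv σ M) :
    SInv σ ⁅M, M⁆ := by
  haveI := hM.normal
  refine ⟨Subgroup.commutator_normal M M, ?_⟩
  apply map_mem_iff
  intro x hx
  have h1 : (⁅M, M⁆).map (σ : G →* G) = ⁅M, M⁆ := by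
    rw [Subgroup.map_commutator, map_eq_of_mem_iff σ M hM.inv]
  rw [← h1]
  exact ⟨x, hx, rfl⟩

/-- A minimal invariant normal subgroup of a solvable group is abelian. -/
theorem chief_bot_comm [Finite G] [Group.IsSolvable G] {σ : MulAut G} {M : Subgroup G}
    (hM : IsChief σ M ⊥) : ∀ a ∈ M, ∀ b ∈ M, a * b = b * a := by
  have hne : M ≠ ⊥ := (bot_lt_iff_ne_bot.mp hM.2.2.1)
  have hlt : ⁅M, M⁆ < M := Group.IsSolvable.commutator_lt_of_ne_bot hne
  have h0 : ⁅M, M⁆ = ⊥ := by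
    rcases hM.2.2.2 _ hM.1.commutator bot_le hlt.le with h | h
    · exact h
    · exact absurd h hlt.ne
  intro a ha b hb
  have h1 : ⁅a, b⁆ ∈ ⁅M, M⁆ := Subgroup.commutator_mem_commutator ha hb
  rw [h0, Subgroup.mem_bot] at h1
  exact commutatorElement_eq_one_iff_mul_comm.mp h1

/-- A minimal invariant normal subgroup of a solvable group has prime exponent. -/
theorem chief_bot_exp [Finite G] [Group.IsSolvable G] {σ : MulAut G} {M : Subgroup G}
    (hM : IsChief σ M ⊥) : ∃ v : ℕ, v.Prime ∧ v ∣ Nat.card M ∧ ∀ a ∈ M, a ^ v = 1 := by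
  have hcomm := chief_bot_comm hM
  have hne : M ≠ ⊥ := (bot_lt_iff_ne_bot.mp hM.2.2.1)
  have hcard : Nat.card M ≠ 1 := by
    intro h
    exact hne (Subgroup.card_eq_one.mp h)
  obtain ⟨v, hv, hvd⟩ := Nat.exists_prime_and_dvd hcard
  haveI : Fact v.Prime := ⟨hv⟩
  obtain ⟨x, hx⟩ := exists_prime_orderOf_dvd_card' (G := M) v hvd
  refine ⟨v, hv, hvd, ?_⟩
  let Mv : Subgroup G :=
    { carrier := {a | a ∈ M ∧ a ^ v = 1}
      one_mem' := ⟨M.one_mem, one_pow _⟩
      mul_mem' := by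
        rintro a b ⟨ha, hav⟩ ⟨hb, hbv⟩
        refine ⟨M.mul_mem ha hb, ?_⟩
        have : Commute a b := hcomm a ha b hb
        rw [this.mul_pow, hav, hbv, one_mul]
      inv_mem' := by
        rintro a ⟨ha, hav⟩
        exact ⟨M.inv_mem ha, by rw [inv_pow, hav, inv_one]⟩ }
  have hMv : SInv σ Mv := by
    refine ⟨⟨?_⟩, ?_⟩
    · rintro a ⟨ha, hav⟩ g
      exact ⟨hM.1.normal.conj_mem a ha g, by rw [conj_pow, hav]; group⟩
    · apply map_mem_iff
      rintro a ⟨ha, hav⟩
      exact ⟨(hM.1.inv a).mpr ha, by rw [← map_pow, hav, map_one]⟩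
  have hle : Mv ≤ M := fun a ha => ha.1
  rcases hM.2.2.2 Mv hMv bot_le hle with h | h
  · exfalso
    have hxm : (x : G) ∈ Mv := by
      refine ⟨x.2, ?_⟩
      have := pow_orderOf_eq_one x
      rw [hx] at this
      have := congrArg Subtype.val this
      simpa using this
    rw [h, Subgroup.mem_bot] at hxm
    have hx1 : x = 1 := Subtype.ext hxm
    rw [hx1, orderOf_one] at hx
    exact hv.one_lt.ne hx
  · intro a ha
    have : a ∈ Mv := by rw [h]; exact ha
    exact this.2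

/-- **Lemma MN.** The `p^n`-th power of `σ` acts trivially on `G / C_G(M)` for a minimal invariant
normal subgroup `M`. -/
theorem chief_bot_centralized [Finite G] [Group.IsSolvable G] (p : ℕ) [Fact p.Prime] (hp2 : p ≠ 2)
    (σ : MulAut G) (n : ℕ) (hσ : σ ^ (p ^ (n + 1)) = 1) (hfpf : ∀ g : G, σ g = g → g = 1)
    {M : Subgroup G} (hM : IsChief σ M ⊥) :
    ∀ h : G, ∀ m ∈ M, ⁅m, h⁻¹ * (σ ^ (p ^ n)) h⁆ = 1 := by
  classical
  haveI : M.Normal := hM.1.normal
  have hcomm := chief_bot_comm hM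
  obtain ⟨v, hv, hvd, hexp⟩ := chief_bot_exp hM
  haveI : Fact v.Prime := ⟨hv⟩
  have hpG : ¬ p ∣ Nat.card G := not_dvd_card_of_fpf p σ (n + 1) hσ hfpf
  have hvp : v ≠ p := by
    rintro rfl
    exact hpG (hvd.trans (Subgroup.card_subgroup_dvd_card M))
  let ρ₀ : G →* MulAut ↥M := MulAut.conjNormal
  have hρ₀ : ∀ (g : G) (m : M), ((ρ₀ g m : M) : G) = g * m * g⁻¹ :=
    fun g m => MulAut.conjNormal_apply g m
  have hker : ∀ x, x ∈ ρ₀.ker ↔ ∀ m ∈ M, x * m * x⁻¹ = m := by
    intro x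
    rw [MonoidHom.mem_ker]
    constructor
    · intro h m hm
      have h1 := hρ₀ x ⟨m, hm⟩
      rw [h] at h1
      exact h1.symm
    · intro h
      ext m
      rw [hρ₀]
      exact h m m.2
  have hMsymm : ∀ m ∈ M, σ.symm m ∈ M := by
    intro m hm
    have h1 := hM.1.inv (σ.symm m)
    rw [MulEquiv.apply_symm_apply] at h1
    exact h1.mp hm
  have hkerInv : ∀ x, σ x ∈ ρ₀.ker ↔ x ∈ ρ₀.ker := by
    apply map_mem_iff
    intro x hx
    rw [hker] at hx ⊢
    intro m hm
    have h2 := hx _ (hMsymm m hm)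
    have h3 := congrArg σ h2
    rw [map_mul, map_mul, map_inv, MulEquiv.apply_symm_apply] at h3
    exact h3
  let τ : MulAut (G ⧸ ρ₀.ker) := quotAut σ ρ₀.ker hkerInv
  let φ : G ⧸ ρ₀.ker →* MulAut ↥M := QuotientGroup.kerLift ρ₀
  let ξ : MulAut ↥M := restrictAut σ M hM.1.inv
  have hτ : ∀ e, ξ * φ e * ξ⁻¹ = φ (τ e) := by
    intro e
    induction e using QuotientGroup.induction_on with
    | H g =>
      have h1 : τ (QuotientGroup.mk g) = QuotientGroup.mk (σ g) := rfl
      have h2 : ∀ g' : G, φ (QuotientGroup.mk g') = ρ₀ g' := fun g' => rfl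
      rw [h1, h2, h2]
      ext m
      rw [MulAut.mul_apply, MulAut.mul_apply, restrictAut_apply, hρ₀, hρ₀,
        restrictAut_symm_apply, map_mul, map_mul, map_inv, MulEquiv.apply_symm_apply]
  have hξn : ξ ^ (p ^ (n + 1)) = 1 := by
    ext m
    rw [restrictAut_pow_apply, hσ]
    rfl
  have hfpfE : ∀ e, τ e = e → e = 1 := quotAut_fpf σ hfpf ρ₀.ker hkerInv
  have hfpfN : ∀ a : M, ξ a = a → a = 1 := by
    intro a ha
    have h1 : σ a = a := congrArg Subtype.val ha
    exact Subtype.ext (hfpf _ h1)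
  have hirr : ∀ N₁ : Subgroup ↥M, (∀ e, ∀ a ∈ N₁, φ e a ∈ N₁) → (∀ a ∈ N₁, ξ a ∈ N₁) →
      N₁ = ⊥ ∨ N₁ = ⊤ := by
    intro N₁ hE hξ
    have hW : SInv σ (N₁.map M.subtype) := by
      refine ⟨⟨?_⟩, ?_⟩
      · rintro _ ⟨m, hm, rfl⟩ g
        refine ⟨ρ₀ g m, hE (QuotientGroup.mk g) m hm, ?_⟩
        exact hρ₀ g m
      · apply map_mem_iff
        rintro _ ⟨m, hm, rfl⟩
        exact ⟨ξ m, hξ m hm, rfl⟩
    have hle : N₁.map M.subtype ≤ M := by
      rintro _ ⟨m, _, rfl⟩
      exact m.2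
    rcases hM.2.2.2 _ hW bot_le hle with h | h
    · left
      exact (Subgroup.map_eq_bot_iff_of_injective N₁ M.subtype_injective).mp h
    · right
      rw [eq_top_iff]
      intro a _
      have : (a : G) ∈ N₁.map M.subtype := by rw [h]; exact a.2
      obtain ⟨m, hm, hma⟩ := this
      have : m = a := Subtype.ext hma
      rw [← this]; exact hm
  have hexp' : ∀ a : M, a ^ v = 1 := fun a => Subtype.ext (by simpa using hexp a a.2)
  have hcomm' : ∀ a b : M, a * b = b * a :=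
    fun a b => Subtype.ext (by simpa using hcomm a a.2 b b.2)
  have hconc := lin' hcomm' v p hexp' hp2 hvp φ (QuotientGroup.kerLift_injective ρ₀) τ ξ hτ n hξn
    hfpfE hfpfN hirr
  intro h m hm
  have h1 := hconc (QuotientGroup.mk h)
  have h2 : (τ ^ (p ^ n)) (QuotientGroup.mk h) = QuotientGroup.mk ((σ ^ (p ^ n)) h) :=
    quotAut_pow_mk σ ρ₀.ker hkerInv _ h
  rw [h2] at h1
  have h3 : h⁻¹ * (σ ^ (p ^ n)) h ∈ ρ₀.ker := QuotientGroup.eq.mp h1.symm
  rw [hker] at h3
  have h4 := h3 m hm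
  rw [commutatorElement_def]
  set c := h⁻¹ * (σ ^ (p ^ n)) h
  calc m * c * m⁻¹ * c⁻¹ = m * (c * m⁻¹ * c⁻¹) := by group
    _ = m * (c * m * c⁻¹)⁻¹ := by group
    _ = 1 := by rw [h4]; group

/-! ### The key lemma -/

/-- A `σ`-chief factor `U / V` gives a minimal invariant normal subgroup of `G / V`. -/
theorem chief_quot [Finite G] (σ : MulAut G) {U V : Subgroup G} (h : IsChief σ U V) :
    haveI := h.2.1.normal
    IsChief (quotAut σ V h.2.1.inv) (U.map (QuotientGroup.mk' V)) ⊥ := by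
  haveI := h.2.1.normal
  set σ' := quotAut σ V h.2.1.inv with hσ'
  have hsurj := QuotientGroup.mk'_surjective V
  have hM : SInv σ' (U.map (QuotientGroup.mk' V)) := by
    refine ⟨h.1.normal.map _ hsurj, ?_⟩
    apply map_mem_iff
    rintro _ ⟨u, hu, rfl⟩
    exact ⟨σ u, (h.1.inv u).mpr hu, rfl⟩
  refine ⟨hM, SInv.bot σ', ?_, ?_⟩
  · rw [bot_lt_iff_ne_bot]
    intro hbot
    obtain ⟨u, huU, huV⟩ := SetLike.exists_of_lt h.2.2.1
    have h1 : QuotientGroup.mk' V u ∈ U.map (QuotientGroup.mk' V) := ⟨u, huU, rfl⟩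
    rw [hbot, Subgroup.mem_bot] at h1
    exact huV ((QuotientGroup.eq_one_iff u).mp h1)
  · intro W' hW' _ hW'U
    set W : Subgroup G := W'.comap (QuotientGroup.mk' V) with hW
    have hWS : SInv σ W := by
      refine ⟨hW'.normal.comap _, ?_⟩
      intro x
      rw [hW, Subgroup.mem_comap, Subgroup.mem_comap]
      exact hW'.inv (QuotientGroup.mk x)
    have hVW : V ≤ W := by
      intro x hx
      rw [hW, Subgroup.mem_comap]
      have : QuotientGroup.mk' V x = 1 := (QuotientGroup.eq_one_iff x).mpr hx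
      rw [this]; exact W'.one_mem
    have hWU : W ≤ U := by
      intro x hx
      rw [hW, Subgroup.mem_comap] at hx
      obtain ⟨u, hu, hux⟩ := hW'U hx
      have h1 : u⁻¹ * x ∈ V := QuotientGroup.eq.mp hux
      have h2 : x = u * (u⁻¹ * x) := by group
      rw [h2]
      exact U.mul_mem hu (h.2.2.1.le h1)
    have hW'eq : W' = W.map (QuotientGroup.mk' V) :=
      (Subgroup.map_comap_eq_self_of_surjective hsurj W').symm
    rcases h.2.2.2 W hWS hVW hWU with h1 | h1
    · left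
      rw [hW'eq, h1, QuotientGroup.map_mk'_self]
    · right
      rw [hW'eq, h1]

/-- **Key lemma**: `σ^(p^n)` acts trivially on `G / F(G)`. -/
theorem key_lemma [Finite G] [Group.IsSolvable G] (p : ℕ) [Fact p.Prime] (hp2 : p ≠ 2)
    (σ : MulAut G) (n : ℕ) (hσ : σ ^ (p ^ (n + 1)) = 1) (hfpf : ∀ g : G, σ g = g → g = 1)
    (g : G) : g⁻¹ * (σ ^ (p ^ n)) g ∈ Cfsg.fittingSubgroup G := by
  apply chiefCent_le_fitting σ
  intro U V h u hu
  haveI := h.2.1.normal
  have hchief := chief_quot σ h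
  have hfpf' := quotAut_fpf σ hfpf V h.2.1.inv
  have hpow : quotAut σ V h.2.1.inv ^ (p ^ (n + 1)) = 1 := by
    apply quotAut_pow_eq_one
    intro x
    rw [hσ, MulAut.one_apply, inv_mul_cancel]
    exact V.one_mem
  have h1 := chief_bot_centralized p hp2 (quotAut σ V h.2.1.inv) n hpow hfpf' hchief
    (QuotientGroup.mk g) (QuotientGroup.mk u) ⟨u, hu, rfl⟩
  rw [quotAut_pow_mk] at h1
  have h2 : (QuotientGroup.mk ⁅u, g⁻¹ * (σ ^ (p ^ n)) g⁆ : G ⧸ V) = 1 := by
    rw [← h1]
    rfl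
  exact (QuotientGroup.eq_one_iff _).mp h2

/-! ### The Shult–Gross theorem -/

theorem comap_lowerCentralSeries_le {H : Type*} [Group H] (f : G →* H)
    (hf : Function.Surjective f) (S : Subgroup H) (k : ℕ) :
    (S.comap f).lowerCentralSeries k ≤ (S.lowerCentralSeries k).comap f := by
  rw [← Subgroup.map_le_iff_le_comap, Subgroup.map_lowerCentralSeries,
    Subgroup.map_comap_eq_self_of_surjective hf]

universe u

theorem shult_gross (p : ℕ) [Fact p.Prime] (hp2 : p ≠ 2) :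
    ∀ (n : ℕ) (G : Type u) [Group G] [Finite G] [Group.IsSolvable G] (σ : MulAut G),
      σ ^ (p ^ n) = 1 → (∀ g : G, σ g = g → g = 1) →
      ∃ F : Fin (n + 1) → Subgroup G, F 0 = ⊥ ∧ F (Fin.last n) = ⊤ ∧ Monotone F ∧
        (∀ i, (F i).Normal) ∧
        ∀ i : Fin n, ∃ k : ℕ, (F i.succ).lowerCentralSeries k ≤ F i.castSucc := by
  intro n
  induction n with
  | zero =>
    intro G _ _ _ σ hσ hfpf
    have hσ1 : σ = 1 := by simpa using hσ
    have hall : ∀ g : G, g = 1 := fun g => hfpf g (by rw [hσ1]; rfl)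
    refine ⟨fun _ => ⊥, rfl, ?_, fun _ _ _ => le_rfl, fun _ => inferInstance, fun i => i.elim0⟩
    ext x
    simp [hall x]
  | succ n ih =>
    intro G _ _ _ σ hσ hfpf
    set N : Subgroup G := Cfsg.fittingSubgroup G with hNdef
    haveI hNn : N.Normal := Cfsg.Agent.Lib.Helper13.fittingSubgroup_normal
    have hNc : N.Characteristic := Cfsg.Agent.Lib.Helper67.fitting_characteristic
    have hNinv : ∀ x, σ x ∈ N ↔ x ∈ N := fun x => char_mem_iff hNc σ x
    have hNnil : Group.IsNilpotent N := Cfsg.Agent.Lib.Helper01.fitting_isNilpotent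
    have hpow : quotAut σ N hNinv ^ (p ^ n) = 1 :=
      quotAut_pow_eq_one σ N hNinv _ (key_lemma p hp2 σ n hσ hfpf)
    have hfpf' := quotAut_fpf σ hfpf N hNinv
    obtain ⟨F', hF0, hFlast, hFmono, hFnorm, hFnil⟩ := ih (G ⧸ N) (quotAut σ N hNinv) hpow hfpf'
    have hsurj := QuotientGroup.mk'_surjective N
    refine ⟨Fin.cons ⊥ (fun i => (F' i).comap (QuotientGroup.mk' N)), ?_, ?_, ?_, ?_, ?_⟩
    · rfl
    · rw [← Fin.succ_last, Fin.cons_succ, hFlast, Subgroup.comap_top]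
    · intro i j hij
      induction i using Fin.cases with
      | zero => rw [Fin.cons_zero]; exact bot_le
      | succ i =>
        induction j using Fin.cases with
        | zero => exact absurd hij (by simp)
        | succ j =>
          rw [Fin.cons_succ, Fin.cons_succ]
          exact Subgroup.comap_mono (hFmono (Fin.succ_le_succ_iff.mp hij))
    · intro i
      induction i using Fin.cases with
      | zero => rw [Fin.cons_zero]; infer_instance
      | succ i => rw [Fin.cons_succ]; exact (hFnorm i).comap _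
    · intro i
      induction i using Fin.cases with
      | zero =>
        obtain ⟨k, hk⟩ := (Subgroup.isNilpotent_iff_lowerCentralSeries N).mp hNnil
        refine ⟨k, ?_⟩
        rw [Fin.cons_succ, hF0, MonoidHom.comap_bot, QuotientGroup.ker_mk', hk]
        exact bot_le
      | succ i =>
        obtain ⟨k, hk⟩ := hFnil i
        refine ⟨k, ?_⟩
        rw [← Fin.succ_castSucc, Fin.cons_succ, Fin.cons_succ]
        exact (comap_lowerCentralSeries_le _ hsurj _ k).trans (Subgroup.comap_mono hk)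

end Cfsg.Agent.Lib.Helper56.SG
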