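import Cfsg.Agent.Lib.Helper56.FrobFree
import Cfsg.Agent.Lib.Helper56.SGGroup

/-!
# The free count for a Frobenius-like group acting on an elementary abelian group

`X` a finite elementary abelian `s`-group, `𝓡` a group of order prime to `s` acting on `X` through
commuting automorphisms without common fixed points, `β` an automorphism of `X` with `β ^ c = 1`
normalizing the action of `𝓡` and inducing a fixed point free automorphism `θ` of `𝓡`:
then `|X| = |C_X(β)| ^ c`.
-/

set_option autoImplicit false
set_option linter.unusedSectionVars false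
set_option linter.style.haveILetI false

namespace Cfsg.Agent.Lib.Helper56.FrobFree

open Module TensorProduct
open Cfsg.Agent.Lib.Helper56.HHB

universe u v

/-- dimension of the kernel of a base change -/
theorem finrank_ker_baseChange (F L A : Type*) [Field F] [Field L] [Algebra F L] [AddCommGroup A]
    [Module F A] [Module.Finite F A] (φ : A →ₗ[F] A) :
    finrank L (LinearMap.ker (φ.baseChange L)) = finrank F (LinearMap.ker φ) := by
  have h1 : LinearMap.ker (φ.baseChange L) =
      LinearMap.range ((LinearMap.ker φ).subtype.baseChange L) :=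
    Module.Flat.ker_lTensor_eq L L φ
  rw [h1]
  have hinj : Function.Injective ((LinearMap.ker φ).subtype.baseChange L) := by
    have := Module.Flat.lTensor_preserves_injective_linearMap (M := L) (LinearMap.ker φ).subtype
      (Submodule.subtype_injective _)
    exact this
  rw [LinearMap.finrank_range_of_inj hinj, Module.finrank_baseChange]

section Count

variable {X : Type u} [CommGroup X] [Finite X] {𝓡 : Type v} [Group 𝓡] [Finite 𝓡]

theorem frob_free_count_aux (s c : ℕ) [Fact s.Prime] (hc : c.Prime)
    [Module (ZMod s) (Additive X)] (L : Type) [Field L] [Algebra (ZMod s) L] [IsAlgClosed L]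
    (hcop : (Nat.card 𝓡).Coprime s)
    (θ : MulAut 𝓡) (hθ : ∀ y, θ y = y → y = 1)
    (ψ : 𝓡 →* MulAut X) (β : MulAut X) (hβc : β ^ c = 1)
    (hcompat : ∀ y, β * ψ y * β⁻¹ = ψ (θ y))
    (hab : ∀ y y', ψ y * ψ y' = ψ y' * ψ y)
    (hfix : ∀ x, (∀ y, ψ y x = x) → x = 1) :
    Nat.card X = (Nat.card {x : X // β x = x}) ^ c := by
  classical
  have hs : s.Prime := Fact.out
  haveI : Finite (Additive X) := inferInstanceAs (Finite X)
  haveI : FiniteDimensional (ZMod s) (Additive X) := Module.Finite.of_finite
  let lin : MulAut X →* Module.End (ZMod s) (Additive X) :=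
    { toFun := fun f => (MonoidHom.toAdditive f.toMonoidHom).toZModLinearMap s
      map_one' := by
        apply LinearMap.ext
        intro x
        simp
      map_mul' := by
        intro f g
        apply LinearMap.ext
        intro x
        simp }
  have hlin_apply : ∀ (f : MulAut X) (x : Additive X),
      lin f x = Additive.ofMul (f (Additive.toMul x)) := fun f x => rfl
  let bcA := Module.End.baseChangeHom (ZMod s) L (Additive X)
  let bc : Module.End (ZMod s) (Additive X) →* Module.End L (L ⊗[ZMod s] Additive X) :=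
    (bcA : Module.End (ZMod s) (Additive X) →* Module.End L (L ⊗[ZMod s] Additive X))
  have hbc_apply : ∀ f, bc f = bcA f := fun f => rfl
  have hcast : ∀ k : ℕ, ¬ s ∣ k → (k : L) ≠ 0 := by
    intro k hk h0
    have h1 : (k : ZMod s) ≠ 0 := fun h => hk ((ZMod.natCast_eq_zero_iff k s).1 h)
    apply h1
    have : algebraMap (ZMod s) L (k : ZMod s) = 0 := by rw [map_natCast]; exact h0
    exact (map_eq_zero_iff (algebraMap (ZMod s) L) (algebraMap (ZMod s) L).injective).1 this
  have hRL : ((Nat.card 𝓡 : ℕ) : L) ≠ 0 := by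
    apply hcast
    intro h
    have h1 : s ∣ Nat.gcd (Nat.card 𝓡) s := Nat.dvd_gcd h dvd_rfl
    rw [hcop] at h1
    exact hs.one_lt.ne' (Nat.dvd_one.1 h1)
  let g : MulAut X →* Module.End L (L ⊗[ZMod s] Additive X) := bc.comp lin
  have hg_apply : ∀ f : MulAut X, g f = bcA (lin f) := fun f => rfl
  -- the family
  let f : 𝓡 → Module.End L (L ⊗[ZMod s] Additive X) := fun y => g (ψ y)
  have hfmul : ∀ y y', f (y * y') = f y * f y' := by
    intro y y'
    show g (ψ (y * y')) = g (ψ y) * g (ψ y')
    rw [map_mul, map_mul]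
  have hfone : f 1 = 1 := by
    show g (ψ 1) = 1
    rw [map_one, map_one]
  have hcomm : ∀ i j, Commute (f i) (f j) := by
    intro i j
    show g (ψ i) * g (ψ j) = g (ψ j) * g (ψ i)
    rw [← map_mul g, ← map_mul g, hab]
  have hss : ∀ i, (f i).IsSemisimple := by
    intro i
    apply isSemisimple_of_pow_eq_one (f i) (Nat.card 𝓡) hRL
    show (g (ψ i)) ^ (Nat.card 𝓡) = 1
    rw [← map_pow, ← map_pow, pow_card_eq_one', map_one, map_one]
  have htop := iSup_wt_eq_top f hcomm hss
  set XX : Module.End L (L ⊗[ZMod s] Additive X) := g β with hXX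
  have hXXc : XX ^ c = 1 := by
    rw [hXX, ← map_pow, hβc, map_one]
  let σ : Equiv.Perm 𝓡 := θ.toEquiv
  have hX : ∀ i, XX * f i = f (σ i) * XX := by
    intro i
    show g β * g (ψ i) = g (ψ (θ i)) * g β
    rw [← map_mul, ← map_mul, ← hcompat i]
    congr 1
    group
  -- the sum of the family vanishes
  haveI : Fintype 𝓡 := Fintype.ofFinite 𝓡
  have hT : ∑ y : 𝓡, lin (ψ y) = 0 := by
    apply LinearMap.ext
    intro x
    rw [LinearMap.sum_apply, LinearMap.zero_apply]
    set z : Additive X := ∑ y : 𝓡, lin (ψ y) x with hz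
    have hzfix : ∀ y' : 𝓡, lin (ψ y') z = z := by
      intro y'
      rw [hz, map_sum]
      exact Fintype.sum_equiv (Equiv.mulLeft y') _ _
        (fun b => by
          rw [← Module.End.mul_apply, ← map_mul, ← map_mul]
          rfl)
    have h1 : Additive.toMul z = 1 := by
      apply hfix
      intro y'
      have := hzfix y'
      rw [hlin_apply] at this
      exact congrArg Additive.toMul this
    exact congrArg Additive.ofMul h1
  have hT' : ∑ y : 𝓡, f y = 0 := by
    have h1 := congrArg bcA hT
    rw [map_sum, map_zero] at h1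
    exact h1
  -- every occurring weight is moved
  have hmoved : ∀ χ : 𝓡 → L, wt f χ ≠ ⊥ → twist σ χ ≠ χ := by
    intro χ hχ hfixχ
    obtain ⟨w, hw, hw0⟩ := (Submodule.ne_bot_iff _).1 hχ
    rw [mem_wt] at hw
    have hχmul : ∀ y y', χ (y * y') = χ y * χ y' := by
      intro y y'
      have h1 := hw (y * y')
      rw [hfmul, Module.End.mul_apply, hw y', map_smul, hw y, smul_smul] at h1
      have h3 : χ (y * y') = χ y' * χ y := smul_left_injective L hw0 h1.symm
      rw [h3, mul_comm]
    have hχone : χ 1 = 1 := by
      have h1 := hw 1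
      rw [hfone, Module.End.one_apply] at h1
      have h2 : (1 : L) • w = χ 1 • w := by rw [one_smul]; exact h1
      exact (smul_left_injective L hw0 h2).symm
    have hχθ : ∀ y, χ (θ y) = χ y := by
      intro y
      have h1 := congrFun hfixχ (θ y)
      simp only [twist, Function.comp_apply] at h1
      have h2 : σ.symm (θ y) = y := σ.symm_apply_apply y
      rw [h2] at h1
      exact h1.symm
    have hsurj := Finite.surjective_of_injective (SG.fpf_inj θ hθ)
    have hχtriv : ∀ z, χ z = 1 := by
      intro z
      obtain ⟨y, hy⟩ := hsurj z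
      have hy' : y⁻¹ * θ y = z := hy
      rw [← hy', hχmul, hχθ, ← hχmul, inv_mul_cancel, hχone]
    have h1 : (∑ y : 𝓡, f y) w = (Nat.card 𝓡 : L) • w := by
      rw [LinearMap.sum_apply]
      have h2 : ∀ y ∈ (Finset.univ : Finset 𝓡), f y w = w := by
        intro y _
        rw [hw y, hχtriv, one_smul]
      rw [Finset.sum_congr rfl h2, Finset.sum_const, Finset.card_univ,
        Nat.card_eq_fintype_card, Nat.cast_smul_eq_nsmul]
    rw [hT', LinearMap.zero_apply] at h1
    rcases smul_eq_zero.1 h1.symm with h4 | h4
    · exact hRL h4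
    · exact hw0 h4
  have hfree := weights_free f hcomm htop XX σ hX c hc hXXc hmoved
  -- dimensions
  set φ : Module.End (ZMod s) (Additive X) := lin β - 1 with hφ
  have hXXφ : XX - 1 = φ.baseChange L := by
    rw [hXX, hg_apply, hφ]
    have h1 : bcA (lin β - 1) = bcA (lin β) - 1 := by rw [map_sub, map_one]
    exact h1.symm
  rw [hXXφ, finrank_ker_baseChange, Module.finrank_baseChange] at hfree
  have hcardX : Nat.card X = s ^ finrank (ZMod s) (Additive X) := by
    have h1 := Module.natCard_eq_pow_finrank (K := ZMod s) (V := Additive X)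
    rw [Nat.card_zmod] at h1
    exact h1
  have hcardF : Nat.card {x : X // β x = x} = s ^ finrank (ZMod s) (LinearMap.ker φ) := by
    have h1 := Module.natCard_eq_pow_finrank (K := ZMod s) (V := LinearMap.ker φ)
    rw [Nat.card_zmod] at h1
    rw [← h1]
    apply Nat.card_congr
    refine
      { toFun := fun x => ⟨Additive.ofMul x.1, ?_⟩
        invFun := fun z => ⟨Additive.toMul z.1, ?_⟩
        left_inv := fun x => rfl
        right_inv := fun z => rfl }
    · rw [LinearMap.mem_ker]
      show (lin β - 1) (Additive.ofMul x.1) = 0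
      rw [LinearMap.sub_apply, hlin_apply, Module.End.one_apply, sub_eq_zero]
      exact congrArg Additive.ofMul x.2
    · have h2 : (lin β - 1) z.1 = 0 := LinearMap.mem_ker.1 z.2
      rw [LinearMap.sub_apply, hlin_apply, Module.End.one_apply, sub_eq_zero] at h2
      exact congrArg Additive.toMul h2
  rw [hcardX, hcardF, ← hfree, ← pow_mul, mul_comm]

end Count

section CountGroup

variable {X : Type u} [Group X] [Finite X] {𝓡 : Type v} [Group 𝓡] [Finite 𝓡]

/-- **The free count**: `|X| = |C_X(β)| ^ c`. -/
theorem frob_free_count (s c : ℕ) [Fact s.Prime] (hc : c.Prime)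
    (hcomm : ∀ a b : X, a * b = b * a) (hexp : ∀ x : X, x ^ s = 1)
    (hcop : (Nat.card 𝓡).Coprime s)
    (θ : MulAut 𝓡) (hθ : ∀ y, θ y = y → y = 1)
    (ψ : 𝓡 →* MulAut X) (β : MulAut X) (hβc : β ^ c = 1)
    (hcompat : ∀ y, β * ψ y * β⁻¹ = ψ (θ y))
    (hab : ∀ y y', ψ y * ψ y' = ψ y' * ψ y)
    (hfix : ∀ x, (∀ y, ψ y x = x) → x = 1) :
    Nat.card X = (Nat.card {x : X // β x = x}) ^ c := by
  letI : CommGroup X := { (inferInstance : Group X) with mul_comm := hcomm }
  letI : Module (ZMod s) (Additive X) := AddCommGroup.zmodModule (n := s) (by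
    intro x
    have := hexp (Additive.toMul x)
    exact congrArg Additive.ofMul this)
  exact frob_free_count_aux s c hc (AlgebraicClosure (ZMod s)) hcop θ hθ ψ β hβc hcompat hab hfix

end CountGroup

end Cfsg.Agent.Lib.Helper56.FrobFree
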