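import Cfsg.Agent.Lib.Helper56.HHBCore

/-!
# The coprime (semisimple) count for an operator of prime power order

`E` acts on `W` through `ρ` with all commutators scalar, nondegenerately (`Hyp ρ`); `X` has order
dividing `N = p ^ k`, normalizes `ρ E` and `X ^ (p ^ (k-1))` acts without fixed points on
`E / S` (`S` the scalar subgroup).  If the characteristic does not divide `N |E|` and `X` has no
nonzero fixed vector then `|E / S| ≤ (N - 1) ^ 2`.  Moreover `|E / S|` is a perfect square and is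
`≡ 1 mod N`.
-/

set_option autoImplicit false
set_option linter.unusedSectionVars false
set_option linter.style.haveILetI false

namespace Cfsg.Agent.Lib.Helper56.HH

open Module
open scoped commutatorElement

section Restrict

variable {L : Type*} [Field L] {W : Type*} [AddCommGroup W] [Module L W]
variable {E : Type*} [Group E]
variable {ρ : E →* Module.End L W}

theorem isScal_resRep (U : Submodule L W) (hU : ∀ e, ∀ w ∈ U, ρ e w ∈ U) {e : E}
    (h : IsScal (ρ e)) : IsScal (resRep ρ U hU e) := by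
  obtain ⟨c, hc⟩ := h
  refine ⟨c, ?_⟩
  apply LinearMap.ext
  intro w
  apply Subtype.ext
  rw [resRep_apply, hc]
  rfl

theorem eq_one_of_resRep_eq_one (U : Submodule L W) (hU : ∀ e, ∀ w ∈ U, ρ e w ∈ U)
    (hne : U ≠ ⊥) {g : E} (hs : IsScal (ρ g)) (h1 : resRep ρ U hU g = 1) : ρ g = 1 := by
  obtain ⟨w₀, hw₀U, hw₀⟩ := (Submodule.ne_bot_iff _).1 hne
  obtain ⟨d, hd⟩ := hs
  have h2 := congrArg (fun φ : Module.End L U => ((φ ⟨w₀, hw₀U⟩ : U) : W)) h1
  simp only [Module.End.one_apply] at h2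
  rw [resRep_apply, hd, Module.algebraMap_end_apply] at h2
  have h3 : (d - 1) • w₀ = 0 := by rw [sub_smul, h2, one_smul, sub_self]
  rcases smul_eq_zero.1 h3 with h4 | h4
  · rw [hd, sub_eq_zero.1 h4, map_one]
  · exact absurd h4 hw₀

theorem Hyp.isScal_of_resRep (h : Hyp ρ) (U : Submodule L W)
    (hU : ∀ e, ∀ w ∈ U, ρ e w ∈ U) (hne : U ≠ ⊥) {e : E}
    (he : IsScal (resRep ρ U hU e)) : IsScal (ρ e) := by
  apply h.nd
  intro f
  apply eq_one_of_resRep_eq_one U hU hne (h.scal e f)
  rw [commutatorElement_def, map_mul, map_mul, map_mul, he.commute (resRep ρ U hU f),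
    mul_assoc (resRep ρ U hU f), rho_mul_inv, mul_one, rho_mul_inv]

theorem Hyp.restrict (h : Hyp ρ) (U : Submodule L W)
    (hU : ∀ e, ∀ w ∈ U, ρ e w ∈ U) (hne : U ≠ ⊥) : Hyp (resRep ρ U hU) := by
  constructor
  · intro e f
    exact isScal_resRep U hU (h.scal e f)
  · intro e he
    apply isScal_resRep
    apply h.nd
    intro f
    exact eq_one_of_resRep_eq_one U hU hne (h.scal e f) (he f)

theorem Hyp.scalSubgroup_resRep (h : Hyp ρ) (U : Submodule L W)
    (hU : ∀ e, ∀ w ∈ U, ρ e w ∈ U) (hne : U ≠ ⊥) :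
    scalSubgroup (resRep ρ U hU) = scalSubgroup ρ := by
  ext e
  exact ⟨h.isScal_of_resRep U hU hne, isScal_resRep U hU⟩

end Restrict

section Synth

variable {L : Type*} [Field L] {W : Type*} [AddCommGroup W] [Module L W]
variable {E : Type*} [Group E] [Fintype E]
variable {ρ : E →* Module.End L W}

theorem mul_mem_commutant {a b : Module.End L W} (ha : a ∈ commutant ρ) (hb : b ∈ commutant ρ) :
    a * b ∈ commutant ρ := by
  intro e
  rw [← mul_assoc, ha e, mul_assoc, hb e, mul_assoc]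

theorem isScal_mem_commutant {a : Module.End L W} (ha : IsScal a) : a ∈ commutant ρ := by
  intro e
  exact (ha.commute (ρ e)).symm

theorem synth_single [Fintype (E ⧸ scalSubgroup ρ)] [DecidableEq (E ⧸ scalSubgroup ρ)]
    (q₀ : E ⧸ scalSubgroup ρ) (b₀ : commutant ρ) :
    synth ρ (Pi.single q₀ b₀) = ρ (Quotient.out q₀) * (b₀ : Module.End L W) := by
  show (∑ q : E ⧸ scalSubgroup ρ, ρ (Quotient.out q) *
    ((Pi.single q₀ b₀ : (E ⧸ scalSubgroup ρ) → commutant ρ) q : Module.End L W)) = _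
  rw [Finset.sum_eq_single q₀]
  · rw [Pi.single_eq_same]
  · intro q _ hq
    rw [Pi.single_eq_of_ne hq]
    simp
  · intro hq
    exact absurd (Finset.mem_univ _) hq

theorem Hyp.mem_range_synth (h : Hyp ρ) (hE : (Fintype.card E : L) ≠ 0)
    [Fintype (E ⧸ scalSubgroup ρ)] (a : Module.End L W) :
    a ∈ LinearMap.range (synth ρ) := by
  classical
  have key := h.sum_rho_mul_coef hE a
  have hc := card_filter_isScal_ne_zero (ρ := ρ) hE
  set c : L := ((Finset.univ.filter (fun f : E => IsScal (ρ f))).card : L) with hcdef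
  have ha : a = c⁻¹ • ∑ e : E, ρ e * coef ρ e a := by
    rw [key, smul_smul, inv_mul_cancel₀ hc, one_smul]
  rw [ha]
  apply Submodule.smul_mem
  apply Submodule.sum_mem
  intro e _
  set q : E ⧸ scalSubgroup ρ := QuotientGroup.mk e with hq
  have hmem : (Quotient.out q)⁻¹ * e ∈ scalSubgroup ρ := by
    rw [← QuotientGroup.eq, QuotientGroup.out_eq']
  have hb : ρ ((Quotient.out q)⁻¹ * e) * coef ρ e a ∈ commutant ρ :=
    mul_mem_commutant (isScal_mem_commutant hmem) (coef_mem_commutant e a)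
  refine ⟨Pi.single q ⟨_, hb⟩, ?_⟩
  rw [synth_single]
  show ρ (Quotient.out q) * (ρ ((Quotient.out q)⁻¹ * e) * coef ρ e a) = ρ e * coef ρ e a
  rw [← mul_assoc, ← map_mul, mul_inv_cancel_left]

theorem Hyp.index_mul_finrank_eq [FiniteDimensional L W] (h : Hyp ρ)
    (hE : (Fintype.card E : L) ≠ 0) :
    (scalSubgroup ρ).index * Module.finrank L (commutant ρ) = (Module.finrank L W) ^ 2 := by
  classical
  haveI : Fintype (E ⧸ scalSubgroup ρ) := Fintype.ofFinite _
  apply le_antisymm (h.index_mul_finrank_le hE)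
  have hsurj : LinearMap.range (synth ρ) = ⊤ := by
    rw [eq_top_iff]
    intro a _
    exact h.mem_range_synth hE a
  have h1 := LinearMap.finrank_range_le (synth ρ)
  rw [hsurj, finrank_top, Module.finrank_pi_fintype, Finset.sum_const, Finset.card_univ,
    smul_eq_mul, Module.finrank_linearMap, ← Nat.card_eq_fintype_card] at h1
  rw [sq]
  exact h1

end Synth

end Cfsg.Agent.Lib.Helper56.HH

namespace Cfsg.Agent.Lib.Helper56.HHS

open Module
open Cfsg.Agent.Lib.Helper56.HH
open scoped commutatorElement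


section Square

variable {L : Type*} [Field L] [IsAlgClosed L] {W : Type*} [AddCommGroup W] [Module L W]
  [FiniteDimensional L W]
variable {E : Type*} [Group E] [Fintype E]
variable {ρ : E →* Module.End L W}

/-- irreducibility under `ρ E` -/
def IrrE (ρ : E →* Module.End L W) : Prop :=
  ∀ U : Submodule L W, (∀ e, ∀ w ∈ U, ρ e w ∈ U) → U = ⊥ ∨ U = ⊤

theorem finrank_commutant_eq_one [Nontrivial W] (hirr : IrrE ρ) :
    Module.finrank L (commutant ρ) = 1 := by
  have h1 : IrrEX ρ (1 : (Module.End L W)ˣ) := fun U hU _ => hirr U hU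
  have h2 := schur_finrank_le_one h1
  have h3 : commutant ρ ⊓ cent (1 : (Module.End L W)ˣ) = commutant ρ := by
    apply inf_eq_left.2
    intro a _
    rw [mem_cent]
    simp
  rw [h3] at h2
  have h4 : 1 ≤ Module.finrank L (commutant ρ) := by
    rw [Submodule.one_le_finrank_iff]
    intro hbot
    have h1 : (1 : Module.End L W) ∈ commutant ρ := by
      intro e
      rw [mul_one, one_mul]
    rw [hbot, Submodule.mem_bot] at h1
    exact one_ne_zero h1
  omega

/-- the index of the scalar subgroup is a perfect square -/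
theorem exists_index_eq_sq [Nontrivial W] (h : Hyp ρ) (hE : (Fintype.card E : L) ≠ 0) :
    ∃ d : ℕ, (scalSubgroup ρ).index = d ^ 2 := by
  classical
  let 𝒮 : Set (Submodule L W) := {U | U ≠ ⊥ ∧ (∀ e, ∀ w ∈ U, ρ e w ∈ U)}
  have htop : (⊤ : Submodule L W) ∈ 𝒮 := ⟨top_ne_bot, fun _ _ _ => trivial⟩
  obtain ⟨U, hU𝒮, hUmin⟩ := WellFounded.has_min
    (measure (fun U : Submodule L W => Module.finrank L U)).wf 𝒮 ⟨⊤, htop⟩
  obtain ⟨hUne, hUE⟩ := hU𝒮
  obtain ⟨w₀, hw₀U, hw₀⟩ := (Submodule.ne_bot_iff _).1 hUne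
  haveI : Nontrivial U := by
    refine ⟨⟨⟨w₀, hw₀U⟩, 0, ?_⟩⟩
    intro h
    exact hw₀ (congrArg Subtype.val h)
  set ρ' := resRep ρ U hUE with hρ'
  have hirr : IrrE ρ' := by
    intro U' hU'E
    by_cases hb : U' = ⊥
    · exact Or.inl hb
    right
    let U'' : Submodule L W := U'.map U.subtype
    have hle : U'' ≤ U := by
      rintro _ ⟨v, _, rfl⟩
      exact v.2
    have hU''𝒮 : U'' ∈ 𝒮 := by
      refine ⟨?_, ?_⟩
      · intro h0
        apply hb
        rw [eq_bot_iff]
        intro v hv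
        have h1 : (v : W) ∈ U'' := ⟨v, hv, rfl⟩
        rw [h0, Submodule.mem_bot] at h1
        rw [Submodule.mem_bot]
        exact Subtype.ext h1
      · rintro e _ ⟨v, hv, rfl⟩
        exact ⟨ρ' e v, hU'E e v hv, rfl⟩
    have h1 : ¬ Module.finrank L U'' < Module.finrank L U := hUmin U'' hU''𝒮
    have h2 : U'' = U := Submodule.eq_of_le_of_finrank_le hle (not_lt.1 h1)
    rw [eq_top_iff]
    intro v _
    have h3 : (v : W) ∈ U'' := by rw [h2]; exact v.2
    obtain ⟨v', hv', hvv'⟩ := h3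
    have : v' = v := Subtype.ext hvv'
    rw [← this]
    exact hv'
  have hHyp : Hyp ρ' := h.restrict U hUE hUne
  have hS : scalSubgroup ρ' = scalSubgroup ρ := h.scalSubgroup_resRep U hUE hUne
  have h1 := hHyp.index_mul_finrank_eq (hE : (Fintype.card E : L) ≠ 0)
  rw [finrank_commutant_eq_one hirr, mul_one, hS] at h1
  exact ⟨_, h1⟩

end Square

section Mod

variable {L : Type*} [Field L] {W : Type*} [AddCommGroup W] [Module L W]
variable {E : Type*} [Group E] [Fintype E]
variable {ρ : E →* Module.End L W} {X : (Module.End L W)ˣ} {τ : E ≃* E}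

/-- semiregularity of `X` on `E / S` gives `|E / S| ≡ 1 mod N` -/
theorem index_mod (hX : Twists ρ X τ) (p k : ℕ) (hp : p.Prime) (hk : 1 ≤ k)
    (hXN : X ^ (p ^ k) = 1)
    (hfpf : ∀ e, ((τ ^ (p ^ (k - 1))) e)⁻¹ * e ∈ scalSubgroup ρ → e ∈ scalSubgroup ρ) :
    ∃ m : ℕ, p ^ k * m + 1 = (scalSubgroup ρ).index := by
  classical
  haveI : Fintype (E ⧸ scalSubgroup ρ) := Fintype.ofFinite _
  have hidx : (scalSubgroup ρ).index = Fintype.card (E ⧸ scalSubgroup ρ) := by
    rw [Subgroup.index_eq_card, Nat.card_eq_fintype_card]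
  set N := p ^ k with hN
  have hNpos : 0 < N := pos_of_ne_zero (pow_ne_zero _ hp.ne_zero)
  have hσN : tauBar hX ^ N = 1 := hX.tauBar_pow_eq_one N hXN
  have hq₁ : tauBar hX (QuotientGroup.mk 1) = QuotientGroup.mk 1 := by
    rw [tauBar_mk, map_one]
  have hsemi : ∀ i, 0 < i → i < N → ∀ q, (tauBar hX ^ i) q = q → q = QuotientGroup.mk 1 := by
    intro i hi hiN q hq
    have hp1 : Function.IsPeriodicPt (tauBar hX) i q := by
      show (tauBar hX)^[i] q = q
      rw [Equiv.Perm.iterate_eq_pow]; exact hq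
    have hp2 : Function.IsPeriodicPt (tauBar hX) N q := by
      show (tauBar hX)^[N] q = q
      rw [Equiv.Perm.iterate_eq_pow, hσN]; rfl
    have hp3 := hp1.gcd hp2
    obtain ⟨a, ha, hga⟩ := (Nat.dvd_prime_pow hp).1 (Nat.gcd_dvd_right i N)
    have hak : a < k := by
      rcases lt_or_eq_of_le ha with h1 | h1
      · exact h1
      · exfalso
        have h2 : Nat.gcd i N ≤ i := Nat.le_of_dvd hi (Nat.gcd_dvd_left i N)
        rw [hga, h1] at h2
        omega
    have hp4 : Function.IsPeriodicPt (tauBar hX) (p ^ (k - 1)) q := by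
      apply hp3.trans_dvd
      rw [hga]
      exact pow_dvd_pow p (by omega)
    have hp5 : (tauBar hX ^ (p ^ (k - 1))) q = q := by
      rw [← Equiv.Perm.iterate_eq_pow]; exact hp4
    induction q using Quotient.inductionOn' with
    | h e =>
      change (tauBar hX ^ (p ^ (k - 1))) (QuotientGroup.mk e) = QuotientGroup.mk e at hp5
      rw [tauBar_pow_mk, QuotientGroup.eq] at hp5
      have := hfpf e hp5
      show (QuotientGroup.mk e : E ⧸ scalSubgroup ρ) = QuotientGroup.mk 1
      rw [QuotientGroup.eq]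
      have h2 := (scalSubgroup ρ).inv_mem this
      simpa using h2
  obtain ⟨RQ, -, hcard⟩ := exists_reps_semiregular (tauBar hX) N hNpos hσN _ hq₁ hsemi
  rw [← hidx] at hcard
  exact ⟨RQ.card, hcard⟩

end Mod

section Irr

variable {L : Type*} [Field L] [IsAlgClosed L] {W : Type*} [AddCommGroup W] [Module L W]
  [FiniteDimensional L W]
variable {E : Type*} [Group E] [Fintype E]
variable {ρ : E →* Module.End L W} {X : (Module.End L W)ˣ} {τ : E ≃* E}

/-- the semisimple count, irreducible case -/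
theorem thmS_irr [Nontrivial W] (h : Hyp ρ) (hE : (Fintype.card E : L) ≠ 0)
    (hX : Twists ρ X τ) (hirr : IrrEX ρ X) (p k : ℕ) (hp : p.Prime) (hk : 1 ≤ k)
    (hpL : (p : L) ≠ 0) (hXN : X ^ (p ^ k) = 1)
    (hfpf : ∀ e, ((τ ^ (p ^ (k - 1))) e)⁻¹ * e ∈ scalSubgroup ρ → e ∈ scalSubgroup ρ)
    (hfix : ∀ w : W, (X : Module.End L W) w = w → w = 0) :
    (scalSubgroup ρ).index ≤ (p ^ k - 1) ^ 2 := by
  classical
  set N := p ^ k with hN
  have hNpos : 0 < N := pos_of_ne_zero (pow_ne_zero _ hp.ne_zero)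
  have hNL : ((N : ℕ) : L) ≠ 0 := by
    rw [hN, Nat.cast_pow]
    exact pow_ne_zero _ hpL
  have A1 := hX.refined_count h hE p k hp hk hXN hfpf (schur_finrank_le_one hirr)
  have A2 := h.index_mul_finrank_le hE
  have A3 : 1 ≤ Module.finrank L (commutant ρ) := by
    rw [Submodule.one_le_finrank_iff]
    intro hbot
    have h1 : (1 : Module.End L W) ∈ commutant ρ := by
      intro e
      rw [mul_one, one_mul]
    rw [hbot, Submodule.mem_bot] at h1
    exact one_ne_zero h1
  set f : Module.End L W := (X : Module.End L W) with hf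
  have hfr : f ^ N = 1 := by
    rw [hf, ← Units.val_pow_eq_pow_val, hXN, Units.val_one]
  have hss : f.IsSemisimple := by
    apply Module.End.isSemisimple_of_squarefree_aeval_eq_zero
      (p := (Polynomial.X ^ N - Polynomial.C (1 : L)))
    · exact (Polynomial.separable_X_pow_sub_C (1 : L) hNL one_ne_zero).squarefree
    · simp [hfr]
  let s : Finset L := (Polynomial.nthRootsFinset N (1 : L)).erase 1
  have hs : ∀ μ, f.HasEigenvalue μ → μ ∈ s := by
    intro μ hμ
    obtain ⟨w, hw⟩ := hμ.exists_hasEigenvector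
    have hw0 : w ≠ 0 := hw.2
    have hfw : f w = μ • w := Module.End.mem_eigenspace_iff.1 hw.1
    have hpow : ∀ n : ℕ, (f ^ n) w = μ ^ n • w := by
      intro n
      induction n with
      | zero => simp
      | succ n ih =>
        rw [pow_succ, Module.End.mul_apply, hfw, map_smul, ih, smul_smul, pow_succ, mul_comm]
    rw [Finset.mem_erase, Polynomial.mem_nthRootsFinset hNpos]
    constructor
    · rintro rfl
      apply hw0
      apply hfix
      rw [hfw, one_smul]
    · have h1 := hpow N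
      rw [hfr, Module.End.one_apply] at h1
      have h2 : (μ ^ N - 1) • w = 0 := by rw [sub_smul, ← h1, one_smul, sub_self]
      rcases smul_eq_zero.1 h2 with h3 | h3
      · exact sub_eq_zero.1 h3
      · exact absurd h3 hw0
  have hscard : s.card ≤ N - 1 := by
    have h1 : (1 : L) ∈ Polynomial.nthRootsFinset N (1 : L) := by
      rw [Polynomial.mem_nthRootsFinset hNpos]; simp
    rw [Finset.card_erase_of_mem h1]
    apply Nat.sub_le_sub_right
    unfold Polynomial.nthRootsFinset
    exact (Multiset.toFinset_card_le _).trans (Polynomial.card_nthRoots N 1)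
  have h4 := sq_finrank_le_card_mul_finrank_centE f hss s hs
  set I := (scalSubgroup ρ).index with hI
  set c := Module.finrank L (commutant ρ) with hc
  set C := Module.finrank L (cent X) with hC
  set D := Module.finrank L W with hD
  obtain ⟨t, ht⟩ : ∃ t, N = t + 1 := ⟨N - 1, by omega⟩
  rw [← hN] at A1
  rw [ht] at A1 hscard ⊢
  simp only [Nat.add_sub_cancel] at hscard ⊢
  have h5 : D ^ 2 ≤ t * C := h4.trans (Nat.mul_le_mul_right _ hscard)
  have h6 : I ≤ D ^ 2 := le_trans (Nat.le_mul_of_pos_right _ A3) A2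
  nlinarith

end Irr

section General

variable {L : Type*} [Field L] [IsAlgClosed L] {W : Type*} [AddCommGroup W] [Module L W]
  [FiniteDimensional L W]
variable {E : Type*} [Group E] [Fintype E]
variable {ρ : E →* Module.End L W} {X : (Module.End L W)ˣ} {τ : E ≃* E}

/-- **The semisimple count.** -/
theorem thmS [Nontrivial W] (h : Hyp ρ) (hE : (Fintype.card E : L) ≠ 0)
    (hX : Twists ρ X τ) (p k : ℕ) (hp : p.Prime) (hk : 1 ≤ k)
    (hpL : (p : L) ≠ 0) (hXN : X ^ (p ^ k) = 1)
    (hfpf : ∀ e, ((τ ^ (p ^ (k - 1))) e)⁻¹ * e ∈ scalSubgroup ρ → e ∈ scalSubgroup ρ)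
    (hfix : ∀ w : W, (X : Module.End L W) w = w → w = 0) :
    (scalSubgroup ρ).index ≤ (p ^ k - 1) ^ 2 ∧
      (∃ m : ℕ, p ^ k * m + 1 = (scalSubgroup ρ).index) ∧
      ∃ d : ℕ, (scalSubgroup ρ).index = d ^ 2 := by
  classical
  refine ⟨?_, index_mod hX p k hp hk hXN hfpf, exists_index_eq_sq h hE⟩
  set N := p ^ k with hN
  have hNpos : 0 < N := pos_of_ne_zero (pow_ne_zero _ hp.ne_zero)
  let 𝒮 : Set (Submodule L W) := {U | U ≠ ⊥ ∧ (∀ e, ∀ w ∈ U, ρ e w ∈ U) ∧
    (∀ w ∈ U, (X : Module.End L W) w ∈ U)}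
  have htop : (⊤ : Submodule L W) ∈ 𝒮 :=
    ⟨top_ne_bot, fun _ _ _ => trivial, fun _ _ => trivial⟩
  obtain ⟨U, hU𝒮, hUmin⟩ := WellFounded.has_min
    (measure (fun U : Submodule L W => Module.finrank L U)).wf 𝒮 ⟨⊤, htop⟩
  obtain ⟨hUne, hUE, hUX⟩ := hU𝒮
  have hXinv : ((X⁻¹ : (Module.End L W)ˣ) : Module.End L W) = (X : Module.End L W) ^ (N - 1) := by
    have h1 : X⁻¹ = X ^ (N - 1) := by
      apply inv_eq_of_mul_eq_one_right
      rw [← pow_succ', Nat.sub_add_cancel hNpos, hXN]
    rw [h1, Units.val_pow_eq_pow_val]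
  have hUpow : ∀ j : ℕ, ∀ w ∈ U, ((X : Module.End L W) ^ j) w ∈ U := by
    intro j
    induction j with
    | zero => intro w hw; simpa using hw
    | succ j ih =>
      intro w hw
      rw [pow_succ', Module.End.mul_apply]
      exact hUX _ (ih w hw)
  have hUX' : ∀ w ∈ U, ((X⁻¹ : (Module.End L W)ˣ) : Module.End L W) w ∈ U := by
    intro w hw
    rw [hXinv]
    exact hUpow _ w hw
  set ρ' := resRep ρ U hUE with hρ'
  set X' := resUnit X U hUX hUX' with hX'
  obtain ⟨w₀, hw₀U, hw₀⟩ := (Submodule.ne_bot_iff _).1 hUne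
  haveI : Nontrivial U := by
    refine ⟨⟨⟨w₀, hw₀U⟩, 0, ?_⟩⟩
    intro h
    exact hw₀ (congrArg Subtype.val h)
  have hHyp : Hyp ρ' := h.restrict U hUE hUne
  have hS : scalSubgroup ρ' = scalSubgroup ρ := h.scalSubgroup_resRep U hUE hUne
  have hTw : Twists ρ' X' τ := by
    intro e
    apply LinearMap.ext
    intro w
    apply Subtype.ext
    have := congrArg (fun φ : Module.End L W => φ (w : W)) (hX e)
    simp only [Module.End.mul_apply] at this
    simp only [Module.End.mul_apply, resUnit_apply, resRep_apply, hX', hρ']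
    exact this
  have hXN' : X' ^ N = 1 := by
    apply Units.ext
    apply LinearMap.ext
    intro w
    apply Subtype.ext
    rw [hX', resUnit_pow_apply, hXN]
    rfl
  have hirr : IrrEX ρ' X' := by
    intro U' hU'E hU'X
    by_cases hb : U' = ⊥
    · exact Or.inl hb
    right
    let U'' : Submodule L W := U'.map U.subtype
    have hle : U'' ≤ U := by
      rintro _ ⟨v, _, rfl⟩
      exact v.2
    have hU''𝒮 : U'' ∈ 𝒮 := by
      refine ⟨?_, ?_, ?_⟩
      · intro h0
        apply hb
        rw [eq_bot_iff]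
        intro v hv
        have h1 : (v : W) ∈ U'' := ⟨v, hv, rfl⟩
        rw [h0, Submodule.mem_bot] at h1
        rw [Submodule.mem_bot]
        exact Subtype.ext h1
      · rintro e _ ⟨v, hv, rfl⟩
        exact ⟨ρ' e v, hU'E e v hv, rfl⟩
      · rintro _ ⟨v, hv, rfl⟩
        exact ⟨(X' : Module.End L U) v, hU'X v hv, rfl⟩
    have h1 : ¬ Module.finrank L U'' < Module.finrank L U := hUmin U'' hU''𝒮
    have h2 : U'' = U := Submodule.eq_of_le_of_finrank_le hle (not_lt.1 h1)
    rw [eq_top_iff]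
    intro v _
    have h3 : (v : W) ∈ U'' := by rw [h2]; exact v.2
    obtain ⟨v', hv', hvv'⟩ := h3
    have : v' = v := Subtype.ext hvv'
    rw [← this]
    exact hv'
  have hfpf' : ∀ e, ((τ ^ (p ^ (k - 1))) e)⁻¹ * e ∈ scalSubgroup ρ' → e ∈ scalSubgroup ρ' := by
    rw [hS]
    exact hfpf
  have hfix' : ∀ w : U, (X' : Module.End L U) w = w → w = 0 := by
    intro w hw
    apply Subtype.ext
    apply hfix
    have := congrArg Subtype.val hw
    rwa [hX', resUnit_apply] at this
  have := thmS_irr hHyp hE hTw hirr p k hp hk hpL hXN' hfpf' hfix'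
  rwa [hS] at this

end General


end Cfsg.Agent.Lib.Helper56.HHS
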