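import Cfsg.Agent.Lib.Helper56.FrobCount
import Cfsg.Agent.Lib.Helper56.FrobCoprime
import Cfsg.Agent.Lib.Helper56.HHSCount

/-!
# The final count for the Frobenius lemma

`E` acts on `U` with commutators acting as scalars, nondegenerately (`Hyp`); an abelian group of
operators `𝓡` and an automorphism `β` of order `c` inducing a fixed point free automorphism of `𝓡`,
implemented on `U` by a fixed point free operator `D`.  If `𝓡` has no fixed points on `E` modulo
scalars then `E` acts by scalars.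
-/

set_option autoImplicit false
set_option linter.unusedSectionVars false
set_option linter.style.haveILetI false

open scoped commutatorElement

namespace Cfsg.Agent.Lib.Helper56.FrobFB

open Module
open Cfsg.Agent.Lib.Helper56
open Cfsg.Agent.Lib.Helper56.HH
open Cfsg.Agent.Lib.Helper56.HHS

universe u v uK uW

theorem sq_lt_two_pow (t : ℕ) (ht : 5 ≤ t) : t ^ 2 < 2 ^ t := by
  induction t, ht using Nat.le_induction with
  | base => norm_num
  | succ t ht ih =>
    rw [pow_succ 2 t]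
    nlinarith

theorem fb_arith (c F I n d d₀ m₀ : ℕ) (hc : c.Prime) (h1 : n = F * I) (h2 : n = F ^ c)
    (h3 : n = d₀ ^ 2) (h4 : I ≤ (c - 1) ^ 2) (h5 : c * m₀ + 1 = I) (h6 : I = d ^ 2)
    (hF : 0 < F) : I = 1 := by
  have hc2 : 2 ≤ c := hc.two_le
  have hd1 : 1 ≤ d := by
    rcases Nat.eq_zero_or_pos d with h | h
    · rw [h] at h6; omega
    · exact h
  have hdc : d ≤ c - 1 := by
    rw [h6] at h4
    exact (Nat.pow_le_pow_iff_left (by norm_num)).1 h4
  -- `c ∣ (d - 1) * (d + 1)`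
  have hdvd : c ∣ (d - 1) * (d + 1) := by
    have h7 : (d - 1) * (d + 1) = c * m₀ := by
      have : (d - 1) * (d + 1) + 1 = d ^ 2 := by
        obtain ⟨e, rfl⟩ : ∃ e, d = e + 1 := ⟨d - 1, by omega⟩
        simp only [Nat.add_sub_cancel]
        ring
      omega
    exact ⟨m₀, h7⟩
  rcases (Nat.Prime.dvd_mul hc).1 hdvd with h | h
  · have h8 : d - 1 = 0 := Nat.eq_zero_of_dvd_of_lt h (by omega)
    have h9 : d = 1 := by omega
    rw [h6, h9]; norm_num
  · -- `d = c - 1`
    have h8 : c ≤ d + 1 := Nat.le_of_dvd (by omega) h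
    have h9 : d = c - 1 := by omega
    by_cases hc3 : c = 2
    · rw [h6, h9, hc3]; norm_num
    exfalso
    have hc3' : 3 ≤ c := by omega
    obtain ⟨t, rfl⟩ : ∃ t, c = t + 1 := ⟨c - 1, by omega⟩
    simp only [Nat.add_sub_cancel] at h9
    have ht2 : 2 ≤ t := by omega
    -- `F ^ t = t ^ 2`
    have h10 : F ^ t = t ^ 2 := by
      have h11 : F * F ^ t = F * t ^ 2 := by
        rw [← pow_succ', ← h2, h1, h6, h9]
      exact Nat.eq_of_mul_eq_mul_left hF h11
    have hF2 : 2 ≤ F := by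
      by_contra hlt
      have hF1 : F = 1 := by omega
      rw [hF1, one_pow] at h10
      nlinarith
    have ht4 : t ≤ 4 := by
      by_contra hgt
      have ht5 : 5 ≤ t := by omega
      have h12 : t ^ 2 < 2 ^ t := sq_lt_two_pow t ht5
      have h13 : 2 ^ t ≤ F ^ t := Nat.pow_le_pow_left hF2 t
      omega
    have hF4 : F ≤ 4 := by
      by_contra hgt
      have h13 : 5 ^ t ≤ F ^ t := Nat.pow_le_pow_left (by omega) t
      have h14 : (5:ℕ) ^ 2 ≤ 5 ^ t := Nat.pow_le_pow_right (by norm_num) ht2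
      have : t ^ 2 ≤ 16 := by nlinarith
      omega
    interval_cases t
    · -- t = 2
      interval_cases F <;> simp at h10
      -- F = 2 : n = 8
      rw [h2] at h3
      have : d₀ ≤ 3 := by nlinarith
      interval_cases d₀ <;> omega
    · -- t = 3 : c = 4 not prime
      exact absurd hc (by decide)
    · -- t = 4
      interval_cases F <;> simp at h10
      rw [h2] at h3
      have : d₀ ≤ 6 := by nlinarith
      interval_cases d₀ <;> omega

section Final

variable {K : Type uK} [Field K] [IsAlgClosed K] {U : Type uW} [AddCommGroup U] [Module K U]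
  [FiniteDimensional K U]
variable {E : Type u} [Group E] [Finite E] {𝓡 : Type v} [Group 𝓡] [Finite 𝓡]

theorem scalSubgroup_normal (ρ : E →* Module.End K U) : (scalSubgroup ρ).Normal := by
  constructor
  intro e he g
  show IsScal (ρ (g * e * g⁻¹))
  rw [map_mul, map_mul]
  have he' : IsScal (ρ e) := he
  rw [← he'.commute, mul_assoc, rho_mul_inv, mul_one]
  exact he'

theorem rho_pow_twist (ρ : E →* Module.End K U) (β : MulAut E) (D : Module.End K U)
    (hD : ∀ x, D * ρ x = ρ (β x) * D) (j : ℕ) (x : E) : D ^ j * ρ x = ρ ((β ^ j) x) * D ^ j := by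
  induction j generalizing x with
  | zero => simp
  | succ j ih =>
    rw [pow_succ, mul_assoc, hD, ← mul_assoc, ih, mul_assoc, pow_succ β, MulAut.mul_apply]

/-- **the final count** -/
theorem fb_final (s c : ℕ) [Fact s.Prime] (hc : c.Prime) (hsc : s ≠ c) (hsK : (s : K) ≠ 0)
    (hcK : (c : K) ≠ 0) [Nontrivial U] (hE : IsPGroup s E) (hcop : (Nat.card 𝓡).Coprime s)
    (θ : MulAut 𝓡) (hθ : ∀ y, θ y = y → y = 1)
    (ρ : E →* Module.End K U) (hH : Hyp ρ)
    (ψ : 𝓡 →* MulAut E) (β : MulAut E) (D : Module.End K U) (hDc : D ^ c = 1)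
    (hD : ∀ x, D * ρ x = ρ (β x) * D)
    (hψS : ∀ y x, ψ y x ∈ scalSubgroup ρ ↔ x ∈ scalSubgroup ρ)
    (hβψ : ∀ y, β * ψ y * β⁻¹ = ψ (θ y))
    (hab : ∀ y y', ψ y * ψ y' = ψ y' * ψ y)
    (hfix : ∀ w, D w = w → w = 0)
    (hexp : ∀ e : E, e ^ s ∈ scalSubgroup ρ)
    (hcent : ∀ e : E, (∀ y, (ψ y e)⁻¹ * e ∈ scalSubgroup ρ) → e ∈ scalSubgroup ρ) :
    ∀ e : E, e ∈ scalSubgroup ρ := by
  classical
  have hs : s.Prime := Fact.out
  haveI : Fintype E := Fintype.ofFinite E
  set S : Subgroup E := scalSubgroup ρ with hS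
  haveI hSn : S.Normal := scalSubgroup_normal ρ
  have hSmem : ∀ e, e ∈ S ↔ IsScal (ρ e) := fun e => Iff.rfl
  -- `D` is a unit
  have hc0 : c ≠ 0 := hc.ne_zero
  set XD : (Module.End K U)ˣ := Units.ofPowEqOne D c hDc hc0 with hXD
  have hXDval : (XD : Module.End K U) = D := Units.val_ofPowEqOne _ _ _ _
  have hXDc : XD ^ c = 1 := by
    apply Units.ext
    rw [Units.val_pow_eq_pow_val, hXDval, hDc, Units.val_one]
  have hTwβ : Twists ρ XD β := by
    intro e
    rw [hXDval]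
    exact hD e
  have hβS : ∀ x, β x ∈ S ↔ x ∈ S := fun x => hTwβ.mem_scalSubgroup_iff x
  -- the quotient
  have hXcomm : ∀ a b : E ⧸ S, a * b = b * a := by
    intro a b
    induction a using QuotientGroup.induction_on with
    | H e =>
      induction b using QuotientGroup.induction_on with
      | H f =>
        rw [← QuotientGroup.mk_mul, ← QuotientGroup.mk_mul, QuotientGroup.eq]
        have h1 : (e * f)⁻¹ * (f * e) = ⁅f⁻¹, e⁻¹⁆ := by
          rw [commutatorElement_def]; group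
        rw [h1]
        exact hH.scal _ _
  have hXexp : ∀ x : E ⧸ S, x ^ s = 1 := by
    intro x
    induction x using QuotientGroup.induction_on with
    | H e =>
      rw [← QuotientGroup.mk_pow, QuotientGroup.eq_one_iff]
      exact hexp e
  have hXs : IsPGroup s (E ⧸ S) := hE.to_quotient S
  set ψq : 𝓡 →* MulAut (E ⧸ S) := WardG.quotAutHom ψ S hψS with hψq
  set βq : MulAut (E ⧸ S) := SG.quotAut β S hβS with hβq
  have hβqc : βq ^ c = 1 := by
    apply SG.quotAut_pow_eq_one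
    intro g
    show IsScal (ρ (g⁻¹ * (β ^ c) g))
    have h1 := rho_pow_twist ρ β D hD c g
    rw [hDc, one_mul, mul_one] at h1
    rw [map_mul, ← h1, rho_inv_mul]
    exact isScal_one
  have hcompatq : ∀ y, βq * ψq y * βq⁻¹ = ψq (θ y) := by
    intro y
    ext x
    induction x using QuotientGroup.induction_on with
    | H e =>
      have h1 : ∀ e' : E, βq⁻¹ (QuotientGroup.mk e') = QuotientGroup.mk (β⁻¹ e') := by
        intro e'
        rw [MulAut.inv_apply, MulEquiv.symm_apply_eq, hβq, SG.quotAut_mk]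
        simp
      rw [MulAut.mul_apply, MulAut.mul_apply, h1, hψq, WardG.quotAutHom_mk, hβq, SG.quotAut_mk,
        WardG.quotAutHom_mk, ← hβψ y]
      rfl
  have habq : ∀ y y', ψq y * ψq y' = ψq y' * ψq y := by
    intro y y'
    rw [← map_mul, ← map_mul]
    ext x
    induction x using QuotientGroup.induction_on with
    | H e =>
      rw [hψq, WardG.quotAutHom_mk, WardG.quotAutHom_mk, map_mul, map_mul, hab]
  have hfixq : ∀ x : E ⧸ S, (∀ y, ψq y x = x) → x = 1 := by
    intro x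
    induction x using QuotientGroup.induction_on with
    | H e =>
      intro h
      rw [QuotientGroup.eq_one_iff]
      apply hcent
      intro y
      have h1 := h y
      rw [hψq, WardG.quotAutHom_mk] at h1
      exact QuotientGroup.eq.1 h1
  have hcount := FrobFree.frob_free_count s c hc hXcomm hXexp hcop θ hθ ψq βq hβqc hcompatq habq
    hfixq
  -- the map `δ`
  let δ : (E ⧸ S) →* (E ⧸ S) :=
    { toFun := fun x => x⁻¹ * βq x
      map_one' := by simp
      map_mul' := by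
        intro x y
        rw [map_mul, mul_inv_rev]
        calc y⁻¹ * x⁻¹ * (βq x * βq y) = y⁻¹ * (x⁻¹ * βq x) * βq y := by group
          _ = (x⁻¹ * βq x) * y⁻¹ * βq y := by rw [hXcomm y⁻¹ (x⁻¹ * βq x)]
          _ = x⁻¹ * βq x * (y⁻¹ * βq y) := by group }
  have hδ : ∀ x, δ x = x⁻¹ * βq x := fun x => rfl
  have hker : ∀ x, x ∈ δ.ker ↔ βq x = x := by
    intro x
    rw [MonoidHom.mem_ker, hδ, inv_mul_eq_one, eq_comm]
  have hF : Nat.card {x : E ⧸ S // βq x = x} = Nat.card δ.ker :=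
    Nat.card_congr (Equiv.subtypeEquivRight (fun x => (hker x).symm))
  have hcardX : Nat.card (E ⧸ S) = Nat.card δ.ker * Nat.card δ.range := by
    rw [← Subgroup.index_ker, Subgroup.card_mul_index]
  -- `Fix ∩ range δ = 1`
  have hcoprime_sc : ∀ x : E ⧸ S, x ^ c = 1 → x = 1 := by
    intro x hx
    have h1 : orderOf x ∣ c := orderOf_dvd_of_pow_eq_one hx
    have h2 : orderOf x ∣ s := orderOf_dvd_of_pow_eq_one (hXexp x)
    have h3 : orderOf x ∣ Nat.gcd c s := Nat.dvd_gcd h1 h2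
    rw [(Nat.coprime_primes hc hs).2 (Ne.symm hsc)] at h3
    exact orderOf_eq_one_iff.1 (Nat.dvd_one.1 h3)
  have hβqpow : ∀ (j : ℕ) (x u : E ⧸ S), βq x = x * u → βq u = u → (βq ^ j) x = x * u ^ j := by
    intro j x u hx hu
    induction j with
    | zero => simp
    | succ j ih =>
      rw [pow_succ', MulAut.mul_apply, ih, map_mul, map_pow, hx, hu, pow_succ', mul_assoc]
  have hdisj : ∀ x : E ⧸ S, βq (δ x) = δ x → δ x = 1 := by
    intro x hx
    apply hcoprime_sc
    have h1 : βq x = x * δ x := by rw [hδ]; group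
    have h2 := hβqpow c x (δ x) h1 hx
    rw [hβqc, MulAut.one_apply] at h2
    exact (mul_eq_left.1 h2.symm)
  -- `βq` commutes with `δ`
  have hβδ : ∀ x, βq (δ x) = δ (βq x) := by
    intro x
    rw [hδ, hδ, map_mul, map_inv]
  -- every element is a fixed point times an element of the range
  have hc_ndvd : ¬ c ∣ Nat.card δ.range := by
    intro h
    have h1 : c ∣ Nat.card (E ⧸ S) := h.trans (Subgroup.card_subgroup_dvd_card _)
    obtain ⟨k, hk⟩ := IsPGroup.iff_card.1 hXs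
    rw [hk] at h1
    have h2 := hc.dvd_of_dvd_pow h1
    exact hsc ((Nat.prime_dvd_prime_iff_eq hc hs).1 h2).symm
  haveI : Fact c.Prime := ⟨hc⟩
  have hdecomp : ∀ x : E ⧸ S, ∃ u ∈ δ.range, βq (x * u) = x * u := by
    intro x
    apply FrobG.exists_fixed_in_coset_aut βq hβqc δ.range _ hc_ndvd x ⟨x, rfl⟩
    rintro _ ⟨z, rfl⟩
    exact ⟨βq z, (hβδ z).symm⟩
  -- the subgroup `E1`
  set E1 : Subgroup E := δ.range.comap (QuotientGroup.mk' S) with hE1
  have hE1mem : ∀ e, e ∈ E1 ↔ (QuotientGroup.mk e : E ⧸ S) ∈ δ.range := fun e => Iff.rfl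
  have hβE1 : ∀ x, β x ∈ E1 ↔ x ∈ E1 := by
    apply SG.map_mem_iff
    intro x hx
    rw [hE1mem] at hx ⊢
    obtain ⟨z, hz⟩ := hx
    refine ⟨βq z, ?_⟩
    rw [← hβδ, hz, hβq, SG.quotAut_mk]
  set τ₁ : MulAut ↥E1 := SG.restrictAut β E1 hβE1 with hτ₁
  set ρ₁ : ↥E1 →* Module.End K U := ρ.comp E1.subtype with hρ₁
  have hρ₁app : ∀ e : E1, ρ₁ e = ρ (e : E) := fun e => rfl
  haveI : Fintype ↥E1 := Fintype.ofFinite _
  have hTw₁ : Twists ρ₁ XD τ₁ := by
    intro e
    rw [hXDval, hρ₁app, hρ₁app]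
    exact hD e
  have hscal₁ : ∀ e : E1, e ∈ scalSubgroup ρ₁ ↔ (e : E) ∈ S := fun e => Iff.rfl
  -- commutator identities
  have hcomm_inv_left : ∀ f u : E, ρ ⁅f⁻¹, u⁆ * ρ ⁅f, u⁆ = 1 := by
    intro f u
    rw [← hH.comm_mul_left, inv_mul_cancel]
    simp
  have hcomm_S : ∀ (z : E), z ∈ S → ∀ u : E, ρ ⁅z, u⁆ = 1 := by
    intro z hz u
    have hz' : IsScal (ρ z) := hz
    rw [commutatorElement_def, map_mul, map_mul, map_mul, hz'.commute, mul_assoc (ρ u),
      rho_mul_inv, mul_one, rho_mul_inv]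
  have hcomm_S' : ∀ (z : E), z ∈ S → ∀ u : E, ρ ⁅u, z⁆ = 1 := by
    intro z hz u
    have h1 := Hyp.comm_inv (ρ := ρ) u z
    rw [hcomm_S z hz u, mul_one] at h1
    exact h1
  have hcomm_mul_right : ∀ u e f : E, ρ ⁅u, e * f⁆ = ρ ⁅u, e⁆ * ρ ⁅u, f⁆ := by
    intro u e f
    have h1 := Hyp.comm_inv (ρ := ρ) u (e * f)
    have h2 := hH.comm_mul_left e f u
    have h3 := Hyp.comm_inv (ρ := ρ) u e
    have h4 := Hyp.comm_inv (ρ := ρ) u f
    -- `ρ ⁅u, ef⁆ = (ρ ⁅ef, u⁆)⁻¹`
    have h5 : ρ ⁅u, e * f⁆ * (ρ ⁅e, u⁆ * ρ ⁅f, u⁆) = 1 := by rw [← h2]; exact h1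
    have h6 : (ρ ⁅u, e⁆ * ρ ⁅u, f⁆) * (ρ ⁅e, u⁆ * ρ ⁅f, u⁆) = 1 := by
      rw [(hH.scal e u).commute (ρ ⁅f, u⁆), mul_assoc, ← mul_assoc (ρ ⁅u, f⁆), h4, one_mul, h3]
    have h7 : (ρ ⁅e, u⁆ * ρ ⁅f, u⁆) * (ρ ⁅u, e⁆ * ρ ⁅u, f⁆) = 1 := by
      rw [((hH.scal e u).mul (hH.scal f u)).commute]; exact h6
    calc ρ ⁅u, e * f⁆ = ρ ⁅u, e * f⁆ * ((ρ ⁅e, u⁆ * ρ ⁅f, u⁆) * (ρ ⁅u, e⁆ * ρ ⁅u, f⁆)) := by
          rw [h7, mul_one]
      _ = ρ ⁅u, e⁆ * ρ ⁅u, f⁆ := by rw [← mul_assoc, h5, one_mul]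
  have hcomm_β : ∀ e f : E, ρ ⁅β e, β f⁆ = ρ ⁅e, f⁆ := by
    intro e f
    have h1 : ⁅β e, β f⁆ = β ⁅e, f⁆ := by
      rw [commutatorElement_def, commutatorElement_def, map_mul, map_mul, map_mul, map_inv,
        map_inv]
    rw [h1, hTwβ.conj, ← (hH.scal e f).commute, mul_assoc, Units.mul_inv, mul_one]
  -- orthogonality of the range of `δ` and the fixed points
  have horth : ∀ f g₀ : E, (β g₀)⁻¹ * g₀ ∈ S → ρ ⁅f⁻¹ * β f, g₀⁆ = 1 := by
    intro f g₀ hg₀
    rw [hH.comm_mul_left]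
    have h1 : ρ ⁅β f, g₀⁆ = ρ ⁅f, g₀⁆ := by
      have h2 : g₀ = β g₀ * ((β g₀)⁻¹ * g₀) := by group
      rw [h2, hcomm_mul_right, hcomm_S' _ hg₀, mul_one, ← h2, hcomm_β]
    rw [h1]
    exact hcomm_inv_left f g₀
  have hHyp₁ : Hyp ρ₁ := by
    constructor
    · intro e f
      exact hH.scal (e : E) (f : E)
    · intro e he
      apply hH.nd
      -- the elements commuting with `e` modulo the kernel form a subgroup
      let C : Subgroup E :=
        { carrier := {g | ρ ⁅(e : E), g⁆ = 1}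
          one_mem' := by
            show ρ ⁅(e : E), 1⁆ = 1
            simp
          mul_mem' := by
            intro g g' hg hg'
            show ρ ⁅(e : E), g * g'⁆ = 1
            rw [hcomm_mul_right, show ρ ⁅(e : E), g⁆ = 1 from hg,
              show ρ ⁅(e : E), g'⁆ = 1 from hg', one_mul]
          inv_mem' := by
            intro g hg
            show ρ ⁅(e : E), g⁻¹⁆ = 1
            have h1 := hcomm_mul_right (e : E) g⁻¹ g
            rw [inv_mul_cancel, show ρ ⁅(e : E), g⁆ = 1 from hg, mul_one] at h1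
            rw [← h1]
            simp }
      intro g
      show g ∈ C
      obtain ⟨u, hu, hfixu⟩ := hdecomp (QuotientGroup.mk g)
      obtain ⟨g₁, hg₁⟩ := QuotientGroup.mk_surjective u
      have hg₁E1 : g₁ ∈ E1 := by rw [hE1mem, hg₁]; exact hu
      -- `g * g₁` is fixed modulo `S`
      have hfix' : (β (g * g₁))⁻¹ * (g * g₁) ∈ S := by
        rw [← hg₁, ← QuotientGroup.mk_mul, hβq, SG.quotAut_mk] at hfixu
        exact QuotientGroup.eq.1 hfixu
      -- `e = f⁻¹ β f z`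
      obtain ⟨xf, hxf⟩ := (hE1mem _).1 e.2
      obtain ⟨f, hf⟩ := QuotientGroup.mk_surjective xf
      have hez : (f⁻¹ * β f)⁻¹ * (e : E) ∈ S := by
        apply QuotientGroup.eq.1
        rw [← hxf, ← hf, hδ, hβq, SG.quotAut_mk]
        rfl
      have h1 : ρ ⁅(e : E), g * g₁⁆ = 1 := by
        have h2 : (e : E) = (f⁻¹ * β f) * ((f⁻¹ * β f)⁻¹ * (e : E)) := by group
        rw [h2, hH.comm_mul_left, hcomm_S _ hez, mul_one]
        exact horth f (g * g₁) hfix'
      have h3 : g * g₁ ∈ C := h1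
      have h4 : g₁ ∈ C := he ⟨g₁, hg₁E1⟩
      have h5 := C.mul_mem h3 (C.inv_mem h4)
      rwa [mul_inv_cancel_right] at h5
  obtain ⟨k, hk⟩ := IsPGroup.iff_card.1 hE
  have hE1card : (Fintype.card ↥E1 : K) ≠ 0 := by
    obtain ⟨k₁, hk₁⟩ := IsPGroup.iff_card.1 (hE.to_subgroup E1)
    rw [← Nat.card_eq_fintype_card, hk₁, Nat.cast_pow]
    exact pow_ne_zero _ hsK
  have hEcard : (Fintype.card E : K) ≠ 0 := by
    rw [← Nat.card_eq_fintype_card, hk, Nat.cast_pow]
    exact pow_ne_zero _ hsK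
  have hfpf₁ : ∀ e : E1, ((τ₁ ^ (c ^ (1 - 1))) e)⁻¹ * e ∈ scalSubgroup ρ₁ →
      e ∈ scalSubgroup ρ₁ := by
    intro e he
    rw [Nat.sub_self, pow_zero, pow_one] at he
    rw [hscal₁] at he ⊢
    have h1 : ((τ₁ e : E1) : E) = β (e : E) := rfl
    rw [Subgroup.coe_mul, Subgroup.coe_inv, h1] at he
    obtain ⟨xf, hxf⟩ := (hE1mem _).1 e.2
    have h2 : βq (δ xf) = δ xf := by
      rw [hxf, hβq, SG.quotAut_mk]
      exact (QuotientGroup.eq.2 he)
    have h3 := hdisj xf h2
    rw [hxf] at h3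
    exact (QuotientGroup.eq_one_iff _).1 h3
  have hfix₁ : ∀ w : U, (XD : Module.End K U) w = w → w = 0 := by
    intro w hw
    rw [hXDval] at hw
    exact hfix w hw
  have hXDc1 : XD ^ (c ^ 1) = 1 := by rw [pow_one]; exact hXDc
  obtain ⟨hle, ⟨m₀, hmod⟩, ⟨d, hsq⟩⟩ := thmS hHyp₁ hE1card hTw₁ c 1 hc le_rfl hcK hXDc1 hfpf₁ hfix₁
  obtain ⟨d₀, hsq₀⟩ := exists_index_eq_sq hH hEcard
  -- the index is the order of the range of `δ`
  have hidx : (scalSubgroup ρ₁).index = Nat.card δ.range := by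
    let f₁ : ↥E1 →* (E ⧸ S) := (QuotientGroup.mk' S).comp E1.subtype
    have hk1 : f₁.ker = scalSubgroup ρ₁ := by
      ext e
      rw [MonoidHom.mem_ker, hscal₁]
      exact QuotientGroup.eq_one_iff _
    have hr1 : f₁.range = δ.range := by
      ext u
      constructor
      · rintro ⟨e, rfl⟩
        exact e.2
      · intro hu
        obtain ⟨g, rfl⟩ := QuotientGroup.mk_surjective u
        exact ⟨⟨g, hu⟩, rfl⟩
    rw [← hk1, Subgroup.index_ker, hr1]
  have hidxX : (scalSubgroup ρ).index = Nat.card (E ⧸ S) := Subgroup.index_eq_card _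
  have hFpos : 0 < Nat.card δ.ker := Nat.card_pos
  rw [pow_one] at hle hmod
  have hI1 : Nat.card δ.range = 1 := by
    apply fb_arith c (Nat.card δ.ker) (Nat.card δ.range) (Nat.card (E ⧸ S)) d d₀ m₀ hc hcardX
      _ _ _ _ _ hFpos
    · rw [hcount, hF]
    · rw [← hidxX]; exact hsq₀
    · rw [← hidx]; exact hle
    · rw [← hidx]; exact hmod
    · rw [← hidx]; exact hsq
  -- `βq` is trivial
  have hβq1 : ∀ x, βq x = x := by
    intro x
    have h1 : δ x ∈ δ.range := ⟨x, rfl⟩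
    have h2 : δ.range = ⊥ := Subgroup.card_eq_one.1 hI1
    rw [h2, Subgroup.mem_bot, hδ, inv_mul_eq_one] at h1
    exact h1.symm
  have hβq1' : βq = 1 := by
    ext x
    exact hβq1 x
  have hψqθ : ∀ y, ψq (θ y) = ψq y := by
    intro y
    rw [← hcompatq, hβq1']
    simp
  have hsurj := Finite.surjective_of_injective (SG.fpf_inj θ hθ)
  have hψq1 : ∀ z, ψq z = 1 := by
    intro z
    obtain ⟨y, hy⟩ := hsurj z
    have hy' : y⁻¹ * θ y = z := hy
    rw [← hy', map_mul, hψqθ, ← map_mul, inv_mul_cancel, map_one]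
  intro e
  have h1 := hfixq (QuotientGroup.mk e) (fun y => by rw [hψq1]; rfl)
  exact (QuotientGroup.eq_one_iff _).1 h1

end Final

end Cfsg.Agent.Lib.Helper56.FrobFB
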