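import Cfsg.Agent.Lib.Helper56.HHCore

/-!
# Second layer: a central element `z` of prime order acting nontrivially

We restrict to an eigenspace of `ρ z` with eigenvalue `≠ 1` and apply the core theorem.
-/

set_option autoImplicit false
set_option linter.unusedSectionVars false
set_option linter.style.haveILetI false

namespace Cfsg.Agent.Lib.Helper56.HH

open Module
open scoped commutatorElement

section Restrict

variable {L : Type*} [Field L] {W : Type*} [AddCommGroup W] [Module L W]
variable {E : Type*} [Group E]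

/-- restriction of a representation to an invariant submodule -/
def resRep (ρ : E →* Module.End L W) (U : Submodule L W) (hU : ∀ e, ∀ w ∈ U, ρ e w ∈ U) :
    E →* Module.End L U where
  toFun := fun e => (ρ e).restrict (hU e)
  map_one' := by
    apply LinearMap.ext
    intro w
    apply Subtype.ext
    simp [LinearMap.restrict_apply]
  map_mul' := by
    intro e f
    apply LinearMap.ext
    intro w
    apply Subtype.ext
    simp [LinearMap.restrict_apply]

@[simp] theorem resRep_apply (ρ : E →* Module.End L W) (U : Submodule L W)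
    (hU : ∀ e, ∀ w ∈ U, ρ e w ∈ U) (e : E) (w : U) :
    ((resRep ρ U hU e w : U) : W) = ρ e (w : W) := rfl

/-- restriction of a unit of `End W` to a submodule invariant under it and its inverse -/
def resUnit (X : (Module.End L W)ˣ) (U : Submodule L W)
    (hU : ∀ w ∈ U, (X : Module.End L W) w ∈ U)
    (hU' : ∀ w ∈ U, ((X⁻¹ : (Module.End L W)ˣ) : Module.End L W) w ∈ U) : (Module.End L U)ˣ where
  val := (X : Module.End L W).restrict hU
  inv := ((X⁻¹ : (Module.End L W)ˣ) : Module.End L W).restrict hU'
  val_inv := by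
    apply LinearMap.ext
    intro w
    apply Subtype.ext
    simp only [Module.End.mul_apply, LinearMap.restrict_apply, Module.End.one_apply]
    have h := congrArg (fun f : Module.End L W => f (w : W)) (Units.mul_inv X)
    exact h
  inv_val := by
    apply LinearMap.ext
    intro w
    apply Subtype.ext
    simp only [Module.End.mul_apply, LinearMap.restrict_apply, Module.End.one_apply]
    have h := congrArg (fun f : Module.End L W => f (w : W)) (Units.inv_mul X)
    exact h

@[simp] theorem resUnit_apply (X : (Module.End L W)ˣ) (U : Submodule L W)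
    (hU : ∀ w ∈ U, (X : Module.End L W) w ∈ U)
    (hU' : ∀ w ∈ U, ((X⁻¹ : (Module.End L W)ˣ) : Module.End L W) w ∈ U) (w : U) :
    ((((resUnit X U hU hU' : (Module.End L U)ˣ) : Module.End L U) w : U) : W) =
      (X : Module.End L W) (w : W) := rfl

end Restrict

section Central

variable {L : Type*} [Field L] [IsAlgClosed L] {W : Type*} [AddCommGroup W] [Module L W]
  [FiniteDimensional L W]
variable {E : Type*} [Group E] [Fintype E]

theorem rho_pow (ρ : E →* Module.End L W) (z : E) (n : ℕ) : ρ (z ^ n) = (ρ z) ^ n := map_pow ρ z n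

/-- **Second layer.** `z` central of prime order `q`, all commutators in `⟨z⟩`, `Z(E) = ⟨z⟩`,
`ρ z ≠ 1`, `X` of prime order `r` inducing `τ` on `E`, fixed point free on `E/⟨z⟩`, without
nonzero fixed vectors on `W`.  Then `|E : ⟨z⟩| ≤ (r-1)^2` and `r ∣ |E : ⟨z⟩| - 1`. -/
theorem central_fixed_vector_or_card_le
    (ρ : E →* Module.End L W) (X : (Module.End L W)ˣ) (τ : E ≃* E)
    (z : E) (q : ℕ) (hq : q.Prime) (hzq : z ^ q = 1)
    (hzc : ∀ e, z * e = e * z) (hτz : τ z = z)
    (hcomm : ∀ e f : E, ⁅e, f⁆ ∈ Subgroup.zpowers z)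
    (hnd : ∀ e : E, (∀ f : E, ⁅e, f⁆ = 1) → e ∈ Subgroup.zpowers z)
    (hz1 : ρ z ≠ 1)
    (hE : (Fintype.card E : L) ≠ 0) (hX : Twists ρ X τ) (r : ℕ) (hr : r.Prime)
    (hrL : (r : L) ≠ 0) (hXr : X ^ r = 1)
    (hfpf : ∀ e, (τ e)⁻¹ * e ∈ Subgroup.zpowers z → e ∈ Subgroup.zpowers z)
    (hfix : ∀ w : W, (X : Module.End L W) w = w → w = 0) :
    (Subgroup.zpowers z).index ≤ (r - 1) ^ 2 ∧ r ∣ (Subgroup.zpowers z).index - 1 := by
  classical
  set g : Module.End L W := ρ z with hg
  have hgq : g ^ q = 1 := by rw [hg, ← map_pow, hzq, map_one]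
  -- `q` is invertible in `L`
  have hz_ne : z ≠ 1 := by
    rintro rfl
    exact hz1 (map_one ρ)
  have hordz : orderOf z = q := by
    have h1 : orderOf z ∣ q := orderOf_dvd_of_pow_eq_one hzq
    rcases (Nat.dvd_prime hq).1 h1 with h | h
    · exact absurd (orderOf_eq_one_iff.1 h) hz_ne
    · exact h
  have hqL : (q : L) ≠ 0 := by
    intro h0
    apply hE
    have h1 : q ∣ Fintype.card E := by rw [← hordz]; exact orderOf_dvd_card
    obtain ⟨m, hm⟩ := h1
    rw [hm, Nat.cast_mul, h0, zero_mul]
  have hss : g.IsSemisimple := by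
    apply Module.End.isSemisimple_of_squarefree_aeval_eq_zero
      (p := (Polynomial.X ^ q - Polynomial.C (1 : L)))
    · exact (Polynomial.separable_X_pow_sub_C (1 : L) hqL one_ne_zero).squarefree
    · simp [hgq]
  -- an eigenvalue different from one
  obtain ⟨ζ, hζ1, hζ⟩ : ∃ ζ : L, ζ ≠ 1 ∧ g.eigenspace ζ ≠ ⊥ := by
    by_contra hcon
    push Not at hcon
    apply hz1
    have h1 : g.eigenspace 1 = ⊤ := by
      rw [eq_top_iff, ← hss.iSup_eigenspace_eq_top]
      apply iSup_le
      intro μ
      by_cases hμ : μ = 1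
      · rw [hμ]
      · rw [hcon μ hμ]; exact bot_le
    apply LinearMap.ext
    intro w
    have : w ∈ g.eigenspace 1 := by rw [h1]; trivial
    rw [Module.End.mem_eigenspace_iff, one_smul] at this
    rw [this, Module.End.one_apply]
  set U := g.eigenspace ζ with hU
  have hmemU : ∀ w, w ∈ U ↔ g w = ζ • w := fun w => Module.End.mem_eigenspace_iff
  obtain ⟨w₀, hw₀U, hw₀⟩ := (Submodule.ne_bot_iff _).1 hζ
  have hζq : ζ ^ q = 1 := by
    have h1 : (g ^ q) w₀ = ζ ^ q • w₀ := by
      have hpow : ∀ n : ℕ, (g ^ n) w₀ = ζ ^ n • w₀ := by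
        intro n
        induction n with
        | zero => simp
        | succ n ih =>
          rw [pow_succ, Module.End.mul_apply, (hmemU w₀).1 hw₀U, map_smul, ih, smul_smul, pow_succ,
            mul_comm]
      exact hpow q
    rw [hgq, Module.End.one_apply] at h1
    have h2 : (ζ ^ q - 1) • w₀ = 0 := by rw [sub_smul, ← h1, one_smul, sub_self]
    rcases smul_eq_zero.1 h2 with h3 | h3
    · exact sub_eq_zero.1 h3
    · exact absurd h3 hw₀
  have hordζ : orderOf ζ = q := by
    have h1 : orderOf ζ ∣ q := orderOf_dvd_of_pow_eq_one hζq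
    rcases (Nat.dvd_prime hq).1 h1 with h | h
    · exact absurd (orderOf_eq_one_iff.1 h) hζ1
    · exact h
  -- invariance
  have hgcomm : ∀ e, g * ρ e = ρ e * g := by
    intro e
    rw [hg, ← map_mul, ← map_mul, hzc]
  have hUE : ∀ e, ∀ w ∈ U, ρ e w ∈ U := by
    intro e w hw
    rw [hmemU] at hw ⊢
    have := congrArg (fun f : Module.End L W => f w) (hgcomm e)
    simp only [Module.End.mul_apply] at this
    rw [this, hw, map_smul]
  have hgX : g * (X : Module.End L W) = (X : Module.End L W) * g := by
    have := hX z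
    rw [hτz] at this
    exact this.symm
  have hgX' : g * ((X⁻¹ : (Module.End L W)ˣ) : Module.End L W) =
      ((X⁻¹ : (Module.End L W)ˣ) : Module.End L W) * g := by
    calc g * ((X⁻¹ : (Module.End L W)ˣ) : Module.End L W)
        = ((X⁻¹ : (Module.End L W)ˣ) : Module.End L W) * ((X : Module.End L W) * g) *
            ((X⁻¹ : (Module.End L W)ˣ) : Module.End L W) := by
          rw [← mul_assoc, Units.inv_mul, one_mul]
      _ = ((X⁻¹ : (Module.End L W)ˣ) : Module.End L W) * g := by
          rw [← hgX, mul_assoc, mul_assoc, Units.mul_inv, mul_one]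
  have hUX : ∀ w ∈ U, (X : Module.End L W) w ∈ U := by
    intro w hw
    rw [hmemU] at hw ⊢
    have := congrArg (fun f : Module.End L W => f w) hgX
    simp only [Module.End.mul_apply] at this
    rw [this, hw, map_smul]
  have hUX' : ∀ w ∈ U, ((X⁻¹ : (Module.End L W)ˣ) : Module.End L W) w ∈ U := by
    intro w hw
    rw [hmemU] at hw ⊢
    have := congrArg (fun f : Module.End L W => f w) hgX'
    simp only [Module.End.mul_apply] at this
    rw [this, hw, map_smul]
  set ρ' := resRep ρ U hUE with hρ'
  set X' := resUnit X U hUX hUX' with hX'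
  haveI : Nontrivial U := by
    refine ⟨⟨⟨w₀, hw₀U⟩, 0, ?_⟩⟩
    intro h
    exact hw₀ (congrArg Subtype.val h)
  -- `ρ' (z^n)` is the scalar `ζ^n`
  have hρz : ∀ n : ℕ, ρ' (z ^ n) = algebraMap L (Module.End L U) (ζ ^ n) := by
    intro n
    apply LinearMap.ext
    intro w
    apply Subtype.ext
    rw [resRep_apply, Module.algebraMap_end_apply, Submodule.coe_smul, map_pow]
    have hpow : ∀ n : ℕ, ((ρ z) ^ n) (w : W) = ζ ^ n • (w : W) := by
      intro n
      induction n with
      | zero => simp
      | succ n ih =>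
        rw [pow_succ, Module.End.mul_apply, (hmemU w).1 w.2, map_smul, ih, smul_smul, pow_succ,
          mul_comm]
    exact hpow n
  have hzpow : ∀ u ∈ Subgroup.zpowers z, ∃ n : ℕ, z ^ n = u := by
    intro u hu
    rw [← mem_powers_iff_mem_zpowers] at hu
    exact (Submonoid.mem_powers_iff _ _).1 hu
  have hscal_of_mem : ∀ u ∈ Subgroup.zpowers z, IsScal (ρ' u) := by
    intro u hu
    obtain ⟨n, rfl⟩ := hzpow u hu
    exact ⟨ζ ^ n, hρz n⟩
  have heq_one : ∀ u ∈ Subgroup.zpowers z, ρ' u = 1 → u = 1 := by
    intro u hu h1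
    obtain ⟨n, rfl⟩ := hzpow u hu
    rw [hρz n] at h1
    have h2 : ζ ^ n = 1 := by
      have := congrArg (fun f : Module.End L U => f ⟨w₀, hw₀U⟩) h1
      simp only [Module.algebraMap_end_apply, Module.End.one_apply] at this
      have h3 : (ζ ^ n - 1) • (⟨w₀, hw₀U⟩ : U) = 0 := by rw [sub_smul, this, one_smul, sub_self]
      rcases smul_eq_zero.1 h3 with h4 | h4
      · exact sub_eq_zero.1 h4
      · exact absurd (congrArg Subtype.val h4) hw₀
    have h3 : q ∣ n := by rw [← hordζ]; exact orderOf_dvd_of_pow_eq_one h2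
    obtain ⟨m, rfl⟩ := h3
    rw [pow_mul, hzq, one_pow]
  have hHyp : Hyp ρ' := by
    constructor
    · intro e f
      exact hscal_of_mem _ (hcomm e f)
    · intro e he
      apply hscal_of_mem
      apply hnd
      intro f
      exact heq_one _ (hcomm e f) (he f)
  have hS : scalSubgroup ρ' = Subgroup.zpowers z := by
    apply le_antisymm
    · intro e he
      apply hnd
      intro f
      apply heq_one _ (hcomm e f)
      have he' : IsScal (ρ' e) := he
      rw [commutatorElement_def, map_mul, map_mul, map_mul, he'.commute, mul_assoc, mul_assoc,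
        ← mul_assoc (ρ' e), rho_mul_inv, one_mul, rho_mul_inv]
    · intro u hu
      exact hscal_of_mem u hu
  have hTw : Twists ρ' X' τ := by
    intro e
    apply LinearMap.ext
    intro w
    apply Subtype.ext
    have := congrArg (fun f : Module.End L W => f (w : W)) (hX e)
    exact this
  have hXr' : X' ^ r = 1 := by
    apply Units.ext
    apply LinearMap.ext
    intro w
    apply Subtype.ext
    rw [Units.val_pow_eq_pow_val, Units.val_one, Module.End.one_apply]
    have hpow : ∀ n : ℕ, ((((X' : Module.End L U) ^ n) w : U) : W) =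
        ((X : Module.End L W) ^ n) (w : W) := by
      intro n
      induction n generalizing w with
      | zero => simp
      | succ n ih =>
        rw [pow_succ, pow_succ, Module.End.mul_apply, Module.End.mul_apply, ih]
        rfl
    rw [hpow r, ← Units.val_pow_eq_pow_val, hXr, Units.val_one, Module.End.one_apply]
  have hfix' : ∀ w : U, (X' : Module.End L U) w = w → w = 0 := by
    intro w hw
    apply Subtype.ext
    apply hfix
    exact congrArg Subtype.val hw
  have hmain := fixed_vector_or_card_le hHyp hE hTw r hr hrL hXr' (by rw [hS]; exact hfpf) hfix'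
  rw [hS] at hmain
  exact hmain

end Central

end Cfsg.Agent.Lib.Helper56.HH
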