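import Mathlib
import Cfsg.Agent.Lib.Helper13.HHLin

/-!
# Simultaneous eigenspaces ("weights") of a commuting family, and permuted weight spaces
-/

set_option autoImplicit false
set_option linter.unusedSectionVars false
set_option linter.style.haveILetI false

namespace Cfsg.Agent.Lib.Helper56.HHB

open Module

section Wt

variable {K : Type*} [Field K] {W : Type*} [AddCommGroup W] [Module K W] {ι : Type*}

/-- simultaneous eigenspace of the family `f` for the family of eigenvalues `χ` -/
def wt (f : ι → Module.End K W) (χ : ι → K) : Submodule K W := ⨅ i, (f i).eigenspace (χ i)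

theorem mem_wt {f : ι → Module.End K W} {χ : ι → K} {w : W} :
    w ∈ wt f χ ↔ ∀ i, f i w = χ i • w := by
  unfold wt
  rw [Submodule.mem_iInf]
  exact forall_congr' fun i => Module.End.mem_eigenspace_iff

theorem wt_le_maxGen (f : ι → Module.End K W) (χ : ι → K) :
    wt f χ ≤ ⨅ i, (f i).maxGenEigenspace (χ i) := by
  unfold wt
  exact iInf_mono fun i => Module.End.eigenspace_le_maxGenEigenspace

theorem iSupIndep_wt (f : ι → Module.End K W) (hcomm : ∀ i j, Commute (f i) (f j)) :
    iSupIndep (wt f) := by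
  have h := Module.End.independent_iInf_maxGenEigenspace_of_forall_mapsTo f
    (fun i j φ => Module.End.mapsTo_maxGenEigenspace_of_comm (hcomm j i) φ)
  exact h.mono (wt_le_maxGen f)

theorem iSup_wt_eq_top [IsAlgClosed K] [FiniteDimensional K W] (f : ι → Module.End K W)
    (hcomm : ∀ i j, Commute (f i) (f j)) (hss : ∀ i, (f i).IsSemisimple) :
    ⨆ χ, wt f χ = ⊤ := by
  have h := Module.End.iSup_iInf_maxGenEigenspace_eq_top_of_iSup_maxGenEigenspace_eq_top_of_commute
    f (fun i j _ => hcomm i j) (fun i => Module.End.iSup_maxGenEigenspace_eq_top (f i))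
  rw [← h]
  congr 1
  funext χ
  unfold wt
  congr 1
  funext i
  exact ((hss i).isFinitelySemisimple.maxGenEigenspace_eq_eigenspace (χ i)).symm

theorem map_wt {f : ι → Module.End K W} (g : Module.End K W) (σ : Equiv.Perm ι)
    (hg : ∀ i, g * f i = f (σ i) * g) {χ : ι → K} {w : W} (hw : w ∈ wt f χ) :
    g w ∈ wt f (χ ∘ σ.symm) := by
  rw [mem_wt] at hw ⊢
  intro j
  have h1 := congrArg (fun φ : Module.End K W => φ w) (hg (σ.symm j))
  simp only [Module.End.mul_apply, Equiv.apply_symm_apply] at h1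
  rw [← h1, hw, map_smul]
  rfl

theorem ext_of_wt {f : ι → Module.End K W} (htop : ⨆ χ, wt f χ = ⊤) {A B : Module.End K W}
    (h : ∀ χ, ∀ w ∈ wt f χ, A w = B w) : A = B := by
  have h1 : (⊤ : Submodule K W) ≤ LinearMap.eqLocus A B := by
    rw [← htop]
    apply iSup_le
    intro χ w hw
    exact h χ w hw
  apply LinearMap.ext
  intro w
  exact h1 (Submodule.mem_top : w ∈ ⊤)

/-- the action of a permutation of the index set on weights -/
def twist (σ : Equiv.Perm ι) (χ : ι → K) : ι → K := χ ∘ σ.symm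

theorem twist_iterate (σ : Equiv.Perm ι) (j : ℕ) (χ : ι → K) :
    (twist σ)^[j] χ = χ ∘ (σ ^ j).symm := by
  induction j generalizing χ with
  | zero => rfl
  | succ j ih =>
    rw [Function.iterate_succ_apply, ih]
    funext i
    simp only [twist, Function.comp_apply]
    congr 1
    rw [pow_succ]
    rfl

theorem map_pow_wt {f : ι → Module.End K W} (g : Module.End K W) (σ : Equiv.Perm ι)
    (hg : ∀ i, g * f i = f (σ i) * g) (j : ℕ) {χ : ι → K} {w : W} (hw : w ∈ wt f χ) :
    (g ^ j) w ∈ wt f ((twist σ)^[j] χ) := by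
  induction j generalizing χ w with
  | zero => simpa using hw
  | succ j ih =>
    rw [pow_succ, Module.End.mul_apply, Function.iterate_succ_apply]
    exact ih (map_wt g σ hg hw)

/-- if a permutation of the index set changes the family then it moves some weight -/
theorem exists_moved_weight {f : ι → Module.End K W} (htop : ⨆ χ, wt f χ = ⊤)
    (σ : Equiv.Perm ι) (h : ∃ i, f (σ i) ≠ f i) :
    ∃ χ, wt f χ ≠ ⊥ ∧ twist σ χ ≠ χ := by
  by_contra hcon
  push Not at hcon
  obtain ⟨i, hi⟩ := h
  apply hi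
  apply ext_of_wt htop
  intro χ w hw
  by_cases hb : wt f χ = ⊥
  · rw [hb, Submodule.mem_bot] at hw
    rw [hw, map_zero, map_zero]
  · have h1 := hcon χ hb
    rw [mem_wt] at hw
    rw [hw, hw]
    have h2 := congrFun h1 (σ i)
    simp only [twist, Function.comp_apply, Equiv.symm_apply_apply] at h2
    rw [h2]

end Wt

section Semisimple

variable {K : Type*} [Field K] {W : Type*} [AddCommGroup W] [Module K W] [FiniteDimensional K W]

theorem isSemisimple_of_pow_eq_one (a : Module.End K W) (m : ℕ) (hm : (m : K) ≠ 0)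
    (ha : a ^ m = 1) : a.IsSemisimple := by
  apply Module.End.isSemisimple_of_squarefree_aeval_eq_zero
    (p := (Polynomial.X ^ m - Polynomial.C (1 : K)))
  · exact (Polynomial.separable_X_pow_sub_C (1 : K) hm one_ne_zero).squarefree
  · simp [ha]

end Semisimple

section Ind

variable {K : Type*} [Field K] (p : ℕ) [Fact p.Prime] [CharP K p]
variable {W : Type*} [AddCommGroup W] [Module K W]

/-- **Induced lower bound.** -/
theorem ind_nonvanishing (X : Module.End K W) (a : ℕ) (U : Submodule K W)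
    (hU : ∀ w ∈ U, (X ^ (p ^ a)) w ∈ U)
    (hind : ∀ v : W, v ∈ U → ∑ i ∈ Finset.range (p ^ a), (X ^ i) v = 0 → v = 0)
    (k : ℕ) (hk : 1 ≤ k) (u : W) (hu : u ∈ U) (hne : ((X ^ (p ^ a) - 1) ^ (k - 1)) u ≠ 0) :
    ((X - 1) ^ (p ^ a * k - 1)) u ≠ 0 := by
  have hpos : 1 ≤ p ^ a := Nat.one_le_pow _ _ (Fact.out : p.Prime).pos
  have hexp : p ^ a * k - 1 = (p ^ a - 1) + p ^ a * (k - 1) := by
    obtain ⟨k', rfl⟩ : ∃ k', k = k' + 1 := ⟨k - 1, by omega⟩
    simp only [Nat.add_sub_cancel]
    have : p ^ a * (k' + 1) = p ^ a * k' + p ^ a := by ring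
    omega
  have h1 : (X - 1) ^ (p ^ a * k - 1) =
      (∑ i ∈ Finset.range (p ^ a), X ^ i) * (X ^ (p ^ a) - 1) ^ (k - 1) := by
    rw [hexp, pow_add, pow_mul, Cfsg.Agent.Lib.Helper13.hh_sub_one_pow (K := K) p X a,
      Cfsg.Agent.Lib.Helper13.hh_geom (K := K) p X a]
  have hUpow : ∀ j : ℕ, ∀ w ∈ U, ((X ^ (p ^ a) - 1) ^ j) w ∈ U := by
    intro j
    induction j with
    | zero => intro w hw; simpa using hw
    | succ j ih =>
      intro w hw
      rw [pow_succ', Module.End.mul_apply, LinearMap.sub_apply, Module.End.one_apply]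
      exact U.sub_mem (hU _ (ih w hw)) (ih w hw)
  intro h0
  apply hne
  apply hind _ (hUpow _ u hu)
  rw [h1, Module.End.mul_apply, LinearMap.sum_apply] at h0
  exact h0

end Ind

section Orbit

variable {K : Type*} [Field K] {W : Type*} [AddCommGroup W] [Module K W] {ι : Type*}

/-- weight spaces along a segment of an orbit with distinct weights are independent -/
theorem sum_pow_eq_zero_imp {f : ι → Module.End K W} (hcomm : ∀ i j, Commute (f i) (f j))
    (X : Module.End K W) (σ : Equiv.Perm ι) (hX : ∀ i, X * f i = f (σ i) * X)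
    (χ : ι → K) (t : ℕ) (ht : 0 < t)
    (hinj : ∀ i < t, ∀ j < t, (twist σ)^[i] χ = (twist σ)^[j] χ → i = j)
    (v : W) (hv : v ∈ wt f χ) (hsum : ∑ i ∈ Finset.range t, (X ^ i) v = 0) : v = 0 := by
  classical
  have hind := iSupIndep_wt f hcomm
  rw [iSupIndep_iff_finsetSum_eq_zero_imp_eq_zero] at hind
  -- the weights along the orbit
  let s : Finset (ι → K) := (Finset.range t).image (fun i => (twist σ)^[i] χ)
  have hinjOn : Set.InjOn (fun i => (twist σ)^[i] χ) (Finset.range t : Set ℕ) := by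
    intro i hi j hj hij
    exact hinj i (Finset.mem_range.1 hi) j (Finset.mem_range.1 hj) hij
  -- a function on weights
  let vv : (ι → K) → W := fun ψ =>
    if h : ∃ i, i < t ∧ (twist σ)^[i] χ = ψ then (X ^ (Classical.choose h)) v else 0
  have hvv : ∀ i, i < t → vv ((twist σ)^[i] χ) = (X ^ i) v := by
    intro i hi
    have h : ∃ j, j < t ∧ (twist σ)^[j] χ = (twist σ)^[i] χ := ⟨i, hi, rfl⟩
    have hc := Classical.choose_spec h
    simp only [vv, dif_pos h]
    rw [hinj _ hc.1 i hi hc.2]
  have hmem : ∀ ψ ∈ s, vv ψ ∈ wt f ψ := by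
    intro ψ hψ
    obtain ⟨i, hi, rfl⟩ := Finset.mem_image.1 hψ
    rw [hvv i (Finset.mem_range.1 hi)]
    exact map_pow_wt X σ hX i hv
  have hsum' : ∑ ψ ∈ s, vv ψ = 0 := by
    rw [Finset.sum_image hinjOn, ← hsum]
    apply Finset.sum_congr rfl
    intro i hi
    exact hvv i (Finset.mem_range.1 hi)
  have h0 := hind s vv hmem hsum' χ (Finset.mem_image.2 ⟨0, Finset.mem_range.2 ht, rfl⟩)
  have h1 := hvv 0 ht
  simp only [Function.iterate_zero, id_eq, pow_zero, Module.End.one_apply] at h1
  rw [← h1]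
  exact h0

end Orbit

end Cfsg.Agent.Lib.Helper56.HHB
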