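import Cfsg.Agent.Lib.Helper56.HHBCore
import Cfsg.Agent.Lib.Helper56.HHBWeights
import Cfsg.Agent.Lib.Helper56.HHBGroup

/-!
# The Hall–Higman reduction over an algebraically closed field

A finite `q`-group `Q` of linear maps normalized by `X` of order dividing `p ^ n` (`p` the
characteristic), with `X ^ (p ^ (n-1))` not centralizing `Q`.
-/

set_option autoImplicit false
set_option linter.unusedSectionVars false
set_option linter.style.haveILetI false

namespace Cfsg.Agent.Lib.Helper56.HHB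

open Module
open Cfsg.Agent.Lib.Helper56.HH
open scoped commutatorElement

universe uK uW

section Fam

variable {K : Type uK} [Field K] {W : Type uW} [AddCommGroup W] [Module K W]

/-- the family of endomorphisms given by a subgroup of units -/
def fam (A : Subgroup (Module.End K W)ˣ) : ↥A → Module.End K W :=
  fun a => ((a : (Module.End K W)ˣ) : Module.End K W)

theorem fam_commute (A : Subgroup (Module.End K W)ˣ) (hA : ∀ a ∈ A, ∀ b ∈ A, a * b = b * a)
    (a b : A) : Commute (fam A a) (fam A b) := by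
  show fam A a * fam A b = fam A b * fam A a
  unfold fam
  rw [← Units.val_mul, ← Units.val_mul, hA a a.2 b b.2]

theorem fam_twist (A : Subgroup (Module.End K W)ˣ) (X : (Module.End K W)ˣ)
    (hX : X ∈ Subgroup.normalizer (A : Set (Module.End K W)ˣ)) (a : A) :
    (X : Module.End K W) * fam A a = fam A (conjPerm A X hX a) * (X : Module.End K W) := by
  unfold fam
  rw [conjPerm_apply, ← Units.val_mul, ← Units.val_mul]
  congr 1
  group

theorem fam_semisimple [FiniteDimensional K W] (A : Subgroup (Module.End K W)ˣ) [Finite A]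
    {q : ℕ} [Fact q.Prime] (hA : IsPGroup q A) (hq : (q : K) ≠ 0) (a : A) :
    (fam A a).IsSemisimple := by
  obtain ⟨j, hj⟩ := hA a
  apply isSemisimple_of_pow_eq_one (fam A a) (q ^ j)
  · rw [Nat.cast_pow]; exact pow_ne_zero _ hq
  · unfold fam
    rw [← Units.val_pow_eq_pow_val, ← Subgroup.coe_pow, hj]
    rfl

end Fam

section Abelian

variable {K : Type uK} [Field K] [IsAlgClosed K] {W : Type uW} [AddCommGroup W] [Module K W]
  [FiniteDimensional K W]

theorem prime_pow_period {α : Type*} (π : α → α) (χ : α) (p n : ℕ) (hp : p.Prime)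
    (h1 : π^[p ^ n] χ = χ) :
    ∃ a, a ≤ n ∧ Function.minimalPeriod π χ = p ^ a := by
  have h2 : Function.minimalPeriod π χ ∣ p ^ n := Function.IsPeriodicPt.minimalPeriod_dvd h1
  exact (Nat.dvd_prime_pow hp).1 h2

theorem abelian_case (p q : ℕ) [Fact p.Prime] [Fact q.Prime] (hpq : p ≠ q) [CharP K p]
    (Q : Subgroup (Module.End K W)ˣ) [Finite Q] (hQ : IsPGroup q Q)
    (hab : ∀ a ∈ Q, ∀ b ∈ Q, a * b = b * a)
    (X : (Module.End K W)ˣ) (hXQ : ∀ e ∈ Q, X * e * X⁻¹ ∈ Q) (n : ℕ) (hn : 1 ≤ n)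
    (hXn : X ^ (p ^ n) = 1)
    (hY : ∃ t ∈ Q, X ^ (p ^ (n - 1)) * t ≠ t * X ^ (p ^ (n - 1))) :
    ((X : Module.End K W) - 1) ^ (p ^ n - 1) ≠ 0 := by
  classical
  have hp : p.Prime := Fact.out
  have hNpos : 0 < p ^ n := pos_of_ne_zero (pow_ne_zero _ hp.ne_zero)
  have hqK : (q : K) ≠ 0 := by
    intro h0
    have := (CharP.cast_eq_zero_iff K p q).1 h0
    exact hpq ((Nat.prime_dvd_prime_iff_eq hp (Fact.out : q.Prime)).1 this)
  have hXN : X ∈ Subgroup.normalizer (Q : Set (Module.End K W)ˣ) :=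
    mem_normalizer_of_pow_eq_one Q X (p ^ n) hNpos hXn hXQ
  set σ := conjPerm Q X hXN with hσ
  set f := fam Q with hf
  have hcomm : ∀ i j, Commute (f i) (f j) := fam_commute Q hab
  have htop : ⨆ χ, wt f χ = ⊤ := iSup_wt_eq_top f hcomm (fam_semisimple Q hQ hqK)
  have hXf : ∀ i, (X : Module.End K W) * f i = f (σ i) * (X : Module.End K W) :=
    fam_twist Q X hXN
  -- a moved weight
  obtain ⟨t, htQ, ht⟩ := hY
  have hmoved : ∃ i, f ((σ ^ (p ^ (n - 1))) i) ≠ f i := by
    refine ⟨⟨t, htQ⟩, ?_⟩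
    intro h
    apply ht
    have h1 : ((σ ^ (p ^ (n - 1))) ⟨t, htQ⟩ : Q) = ⟨t, htQ⟩ := by
      apply Subtype.ext
      apply Units.ext
      exact h
    have h2 := congrArg Subtype.val h1
    rw [hσ, conjPerm_pow_apply] at h2
    calc X ^ p ^ (n - 1) * t = X ^ p ^ (n - 1) * t * (X ^ p ^ (n - 1))⁻¹ * X ^ p ^ (n - 1) := by
          group
      _ = t * X ^ p ^ (n - 1) := by rw [h2]
  obtain ⟨χ, hχ, hχmoved⟩ := exists_moved_weight htop (σ ^ (p ^ (n - 1))) hmoved
  set π := twist (K := K) σ with hπ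
  have hπ1 : π^[p ^ (n - 1)] χ ≠ χ := by
    rw [hπ, twist_iterate]
    exact hχmoved
  have hσN : σ ^ (p ^ n) = 1 := by
    apply Equiv.ext
    intro a
    apply Subtype.ext
    rw [hσ, conjPerm_pow_apply, hXn]
    simp
  have hπN : π^[p ^ n] χ = χ := by
    rw [hπ, twist_iterate, hσN]
    rfl
  obtain ⟨a, han, hmp⟩ := prime_pow_period π χ p n hp hπN
  have han' : a = n := by
    by_contra hne
    have : a ≤ n - 1 := by omega
    apply hπ1
    have h1 : Function.IsPeriodicPt π (p ^ a) χ := by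
      rw [← hmp]; exact Function.isPeriodicPt_minimalPeriod π χ
    exact h1.trans_dvd (pow_dvd_pow p this)
  rw [han'] at hmp
  have hinj : ∀ i < p ^ n, ∀ j < p ^ n, π^[i] χ = π^[j] χ → i = j := by
    intro i hi j hj hij
    have := Function.iterate_injOn_Iio_minimalPeriod (f := π) (x := χ)
    rw [hmp] at this
    exact this (Set.mem_Iio.2 hi) (Set.mem_Iio.2 hj) hij
  obtain ⟨u, huU, hu0⟩ := (Submodule.ne_bot_iff _).1 hχ
  have hU : ∀ w ∈ wt f χ, ((X : Module.End K W) ^ (p ^ n)) w ∈ wt f χ := by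
    intro w hw
    have := map_pow_wt (X : Module.End K W) σ hXf (p ^ n) hw
    rwa [hπN] at this
  have hind : ∀ v : W, v ∈ wt f χ →
      ∑ i ∈ Finset.range (p ^ n), ((X : Module.End K W) ^ i) v = 0 → v = 0 :=
    fun v hv hsum => sum_pow_eq_zero_imp hcomm (X : Module.End K W) σ hXf χ (p ^ n) hNpos hinj v hv hsum
  have h1 := ind_nonvanishing p (X : Module.End K W) n (wt f χ) hU hind 1 le_rfl u huU
    (by simpa using hu0)
  rw [mul_one] at h1
  intro h0
  apply h1
  rw [h0]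
  rfl

end Abelian

section Special

variable {K : Type uK} [Field K]

/-- the conclusion of the reduction theorem -/
def Concl (p q : ℕ) {W : Type uW} [AddCommGroup W] [Module K W]
    (Q : Subgroup (Module.End K W)ˣ) (X : (Module.End K W)ˣ) (n : ℕ) : Prop :=
  ((X : Module.End K W) - 1) ^ (p ^ n - 1) ≠ 0 ∨
    ∃ n₀ b : ℕ, 1 ≤ n₀ ∧ n₀ ≤ n ∧ 1 ≤ b ∧ p ^ n₀ - 1 = q ^ b ∧
      (∃ e ∈ Q, ∃ f ∈ Q, e * f ≠ f * e) ∧
      ((X : Module.End K W) - 1) ^ (p ^ (n - n₀) * (p ^ n₀ - 1) - 1) ≠ 0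

variable [IsAlgClosed K] {W : Type uW} [AddCommGroup W] [Module K W] [FiniteDimensional K W]

theorem special_case (p q : ℕ) [Fact p.Prime] [Fact q.Prime] (hpq : p ≠ q) [CharP K p]
    (Q : Subgroup (Module.End K W)ˣ) [Finite Q] (hQ : IsPGroup q Q)
    (X : (Module.End K W)ˣ) (hXQ : ∀ e ∈ Q, X * e * X⁻¹ ∈ Q) (n : ℕ) (hn : 1 ≤ n)
    (hXn : X ^ (p ^ n) = 1)
    (hY : ∃ t ∈ Q, X ^ (p ^ (n - 1)) * t ≠ t * X ^ (p ^ (n - 1)))
    (hnab : ∃ e ∈ Q, ∃ f ∈ Q, e * f ≠ f * e)
    (hi : ∀ e ∈ Q, ∀ f ∈ Q, ⁅e, f⁆ ∈ zen Q)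
    (hii : ∀ z ∈ zen Q, X ^ (p ^ (n - 1)) * z = z * X ^ (p ^ (n - 1)))
    (hiii : ∀ e ∈ Q, (X ^ (p ^ (n - 1)) * e * (X ^ (p ^ (n - 1)))⁻¹)⁻¹ * e ∈ zen Q → e ∈ zen Q)
    (ih : ∀ (U : Submodule K W) (Q₁ : Subgroup (Module.End K U)ˣ) [Finite Q₁], IsPGroup q Q₁ →
      Nat.card Q₁ < Nat.card Q → ∀ (X₁ : (Module.End K U)ˣ), (∀ e ∈ Q₁, X₁ * e * X₁⁻¹ ∈ Q₁) →
      ∀ n₁ : ℕ, 1 ≤ n₁ → X₁ ^ (p ^ n₁) = 1 →
      (∃ t ∈ Q₁, X₁ ^ (p ^ (n₁ - 1)) * t ≠ t * X₁ ^ (p ^ (n₁ - 1))) → Concl p q Q₁ X₁ n₁) :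
    Concl p q Q X n := by
  classical
  have hp : p.Prime := Fact.out
  have hNpos : 0 < p ^ n := pos_of_ne_zero (pow_ne_zero _ hp.ne_zero)
  have hqK : (q : K) ≠ 0 := by
    intro h0
    have := (CharP.cast_eq_zero_iff K p q).1 h0
    exact hpq ((Nat.prime_dvd_prime_iff_eq hp (Fact.out : q.Prime)).1 this)
  have hXN : X ∈ Subgroup.normalizer (Q : Set (Module.End K W)ˣ) :=
    mem_normalizer_of_pow_eq_one Q X (p ^ n) hNpos hXn hXQ
  set Y := X ^ (p ^ (n - 1)) with hYdef
  set Z := zen Q with hZdef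
  have hZle : Z ≤ Q := zen_le Q
  haveI : Finite Z := Finite.of_injective (Subgroup.inclusion hZle) (Subgroup.inclusion_injective _)
  have hZq : IsPGroup q Z := hQ.to_le hZle
  have hZab : ∀ a ∈ Z, ∀ b ∈ Z, a * b = b * a := by
    intro a ha b hb
    exact (mem_zen.1 hb).2 a (hZle ha)
  have hXZ : ∀ z ∈ Z, X * z * X⁻¹ ∈ Z := conj_mem_zen Q X hXN
  have hXNZ : X ∈ Subgroup.normalizer (Z : Set (Module.End K W)ˣ) :=
    mem_normalizer_of_pow_eq_one Z X (p ^ n) hNpos hXn hXZ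
  set σ := conjPerm Z X hXNZ with hσ
  set f := fam Z with hf
  have hcomm : ∀ i j, Commute (f i) (f j) := fam_commute Z hZab
  have htop : ⨆ χ, wt f χ = ⊤ := iSup_wt_eq_top f hcomm (fam_semisimple Z hZq hqK)
  have hXf : ∀ i, (X : Module.End K W) * f i = f (σ i) * (X : Module.End K W) :=
    fam_twist Z X hXNZ
  set π := twist (K := K) σ with hπ
  -- `Y` acts trivially on weights
  have hσY : σ ^ (p ^ (n - 1)) = 1 := by
    apply Equiv.ext
    intro a
    apply Subtype.ext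
    rw [hσ, conjPerm_pow_apply, ← hYdef, hii a a.2]
    simp
  have hπY : ∀ χ : Z → K, π^[p ^ (n - 1)] χ = χ := by
    intro χ
    rw [hπ, twist_iterate, hσY]
    rfl
  -- elements of `Q` preserve weight spaces
  have hQwt : ∀ e ∈ Q, ∀ χ : Z → K, ∀ w ∈ wt f χ,
      ((e : (Module.End K W)ˣ) : Module.End K W) w ∈ wt f χ := by
    intro e he χ w hw
    have h1 := map_wt (f := f) ((e : (Module.End K W)ˣ) : Module.End K W) 1 (by
      intro i
      show ((e : (Module.End K W)ˣ) : Module.End K W) * fam Z i =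
        fam Z i * ((e : (Module.End K W)ˣ) : Module.End K W)
      unfold fam
      rw [← Units.val_mul, ← Units.val_mul, (mem_zen.1 i.2).2 e he]) hw
    exact h1
  -- choose the weight
  obtain ⟨t, htQ, ht⟩ := hY
  obtain ⟨μ, w, hwμ, hw⟩ : ∃ μ : Z → K, ∃ w ∈ wt f μ,
      ((Y * t : (Module.End K W)ˣ) : Module.End K W) w ≠
        ((t * Y : (Module.End K W)ˣ) : Module.End K W) w := by
    by_contra hcon
    push Not at hcon
    apply ht
    apply Units.ext
    exact ext_of_wt htop hcon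
  obtain ⟨a, han, hmp⟩ := prime_pow_period π μ p (n - 1) hp (hπY μ)
  have hper : π^[p ^ a] μ = μ := by
    have := Function.isPeriodicPt_minimalPeriod π μ
    rw [hmp] at this
    exact this
  have hinj : ∀ i < p ^ a, ∀ j < p ^ a, π^[i] μ = π^[j] μ → i = j := by
    intro i hi j hj hij
    have := Function.iterate_injOn_Iio_minimalPeriod (f := π) (x := μ)
    rw [hmp] at this
    exact this (Set.mem_Iio.2 hi) (Set.mem_Iio.2 hj) hij
  have htpos : 0 < p ^ a := pos_of_ne_zero (pow_ne_zero _ hp.ne_zero)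
  set U := wt f μ with hUdef
  set n₁ := n - a with hn₁
  have hn₁pos : 1 ≤ n₁ := by omega
  have hna : a + n₁ = n := by omega
  set Xt := X ^ (p ^ a) with hXt
  have hXtval : (Xt : Module.End K W) = (X : Module.End K W) ^ (p ^ a) := by
    rw [hXt, Units.val_pow_eq_pow_val]
  have hXtpow : Xt ^ (p ^ n₁) = 1 := by
    rw [hXt, ← pow_mul, ← pow_add, hna, hXn]
  have hXtY : Xt ^ (p ^ (n₁ - 1)) = Y := by
    rw [hXt, ← pow_mul, ← pow_add, hYdef]
    congr 2
    omega
  have hUX : ∀ w ∈ U, (Xt : Module.End K W) w ∈ U := by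
    intro w hw
    rw [hXtval]
    have := map_pow_wt (X : Module.End K W) σ hXf (p ^ a) hw
    rwa [hper] at this
  have hUXpow : ∀ j : ℕ, ∀ w ∈ U, ((Xt ^ j : (Module.End K W)ˣ) : Module.End K W) w ∈ U := by
    intro j
    induction j with
    | zero => intro w hw; simpa using hw
    | succ j ih =>
      intro w hw
      rw [pow_succ', Units.val_mul, Module.End.mul_apply]
      exact hUX _ (ih w hw)
  have hUX' : ∀ w ∈ U, ((Xt⁻¹ : (Module.End K W)ˣ) : Module.End K W) w ∈ U := by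
    have h1 : Xt⁻¹ = Xt ^ (p ^ n₁ - 1) := by
      apply inv_eq_of_mul_eq_one_right
      rw [← pow_succ', Nat.sub_add_cancel (pos_of_ne_zero (pow_ne_zero _ hp.ne_zero)), hXtpow]
    rw [h1]
    exact hUXpow _
  -- the induced bound
  have hIND : ∀ k : ℕ, 1 ≤ k → ∀ u ∈ U, (((Xt : Module.End K W) - 1) ^ (k - 1)) u ≠ 0 →
      (((X : Module.End K W) - 1) ^ (p ^ a * k - 1)) u ≠ 0 := by
    intro k hk u hu hne
    rw [hXtval] at hne
    refine ind_nonvanishing p (X : Module.End K W) a U ?_ ?_ k hk u hu hne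
    · intro w hw
      rw [← hXtval]; exact hUX w hw
    · intro v hv hsum
      exact sum_pow_eq_zero_imp hcomm (X : Module.End K W) σ hXf μ (p ^ a) htpos hinj v hv hsum
  -- restriction to `U`
  let ρ₀ : Q →* Module.End K W := (Units.coeHom (Module.End K W)).comp Q.subtype
  have hρ₀ : ∀ e : Q, ρ₀ e = ((e : (Module.End K W)ˣ) : Module.End K W) := fun e => rfl
  have hUQ : ∀ e : Q, ∀ w ∈ U, ρ₀ e w ∈ U := fun e w hw => hQwt e e.2 μ w hw
  set ρ := resRep ρ₀ U hUQ with hρ
  set X₁ := resUnit Xt U hUX hUX' with hX₁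
  have hX₁pow : X₁ ^ (p ^ n₁) = 1 := by
    apply Units.ext
    apply LinearMap.ext
    intro v
    apply Subtype.ext
    rw [hX₁, resUnit_pow_apply, hXtpow]
    rfl
  have hX₁Y : ∀ v : U, ((((X₁ ^ (p ^ (n₁ - 1)) : (Module.End K U)ˣ) : Module.End K U) v : U) : W) =
      (Y : Module.End K W) (v : W) := by
    intro v
    rw [hX₁, resUnit_pow_apply, hXtY]
  -- transfer of nonvanishing
  have hup : ∀ k : ℕ, 1 ≤ k → ((X₁ : Module.End K U) - 1) ^ (k - 1) ≠ 0 →
      ((X : Module.End K W) - 1) ^ (p ^ a * k - 1) ≠ 0 := by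
    intro k hk hne h0
    apply hne
    apply LinearMap.ext
    intro v
    by_contra hv
    apply hIND k hk (v : W) v.2
    · intro h1
      apply hv
      apply Subtype.ext
      rw [hX₁, resUnit_sub_one_pow_apply, h1]
      rfl
    · rw [h0]; rfl
  have hXtN : Xt ∈ Subgroup.normalizer (Q : Set (Module.End K W)ˣ) := by
    rw [hXt]; exact Subgroup.pow_mem _ hXN _
  have hX₁inv : ∀ v : U, ((((X₁⁻¹ : (Module.End K U)ˣ) : Module.End K U) v : U) : W) =
      ((Xt⁻¹ : (Module.End K W)ˣ) : Module.End K W) (v : W) := fun v => rfl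
  have hleft : ((X₁ : Module.End K U) - 1) ^ (p ^ n₁ - 1) ≠ 0 →
      ((X : Module.End K W) - 1) ^ (p ^ n - 1) ≠ 0 := by
    intro h
    have := hup (p ^ n₁) (pos_of_ne_zero (pow_ne_zero _ hp.ne_zero)) h
    rwa [← pow_add, hna] at this
  by_cases hinjρ : Function.Injective ρ
  swap
  · -- smaller group
    let r : Q →* (Module.End K U)ˣ := ρ.toHomUnits
    have hr : ∀ e : Q, ((r e : (Module.End K U)ˣ) : Module.End K U) = ρ e := fun e => rfl
    set Q₁ := r.range with hQ₁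
    haveI : Finite Q₁ := Finite.of_surjective r.rangeRestrict r.rangeRestrict_surjective
    have hQ₁q : IsPGroup q Q₁ := hQ.of_surjective r.rangeRestrict r.rangeRestrict_surjective
    have hcardlt : Nat.card Q₁ < Nat.card Q := by
      by_contra hge
      push Not at hge
      have hbij := Function.Surjective.bijective_of_nat_card_le r.rangeRestrict_surjective hge
      apply hinjρ
      intro e e' hee
      apply hbij.1
      apply Subtype.ext
      apply Units.ext
      exact hee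
    have hX₁Q₁ : ∀ e ∈ Q₁, X₁ * e * X₁⁻¹ ∈ Q₁ := by
      rintro _ ⟨e, rfl⟩
      refine ⟨conjMul Q Xt hXtN e, ?_⟩
      apply Units.ext
      apply LinearMap.ext
      intro v
      apply Subtype.ext
      rw [hr, Units.val_mul, Units.val_mul, Module.End.mul_apply, Module.End.mul_apply, hr, hρ,
        resRep_apply, hX₁, resUnit_apply, resRep_apply, hρ₀, hρ₀, conjMul_apply, Units.val_mul,
        Units.val_mul, Module.End.mul_apply, Module.End.mul_apply]
      rfl
    have hY₁ : ∃ t₁ ∈ Q₁, X₁ ^ (p ^ (n₁ - 1)) * t₁ ≠ t₁ * X₁ ^ (p ^ (n₁ - 1)) := by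
      refine ⟨r ⟨t, htQ⟩, ⟨_, rfl⟩, ?_⟩
      intro h
      apply hw
      have h1 := congrArg (fun g : (Module.End K U)ˣ =>
        (((g : Module.End K U) ⟨w, hwμ⟩ : U) : W)) h
      simp only [Units.val_mul, Module.End.mul_apply] at h1
      have e1 : ((r ⟨t, htQ⟩ : (Module.End K U)ˣ) : Module.End K U) = ρ ⟨t, htQ⟩ := rfl
      have e2 : ∀ v : U, ((ρ ⟨t, htQ⟩ v : U) : W) =
          ((t : (Module.End K W)ˣ) : Module.End K W) (v : W) := fun v => rfl
      rw [hX₁Y, e1, e2, e2, hX₁Y] at h1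
      simp only [Units.val_mul, Module.End.mul_apply]
      exact h1
    have hres := ih U Q₁ hQ₁q hcardlt X₁ hX₁Q₁ n₁ hn₁pos hX₁pow hY₁
    rcases hres with h | ⟨n₀, b, h1, h2, h3, h4, ⟨e, he, f', hf', hef⟩, h6⟩
    · exact Or.inl (hleft h)
    · right
      refine ⟨n₀, b, h1, by omega, h3, h4, ?_, ?_⟩
      · obtain ⟨e', rfl⟩ := he
        obtain ⟨f'', rfl⟩ := hf'
        refine ⟨e', e'.2, f'', f''.2, ?_⟩
        intro h
        apply hef
        rw [← map_mul, ← map_mul]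
        congr 1
        exact Subtype.ext h
      · have hk : 1 ≤ p ^ (n₁ - n₀) * (p ^ n₀ - 1) := by
          rw [h4]
          exact Nat.mul_pos (pos_of_ne_zero (pow_ne_zero _ hp.ne_zero))
            (pos_of_ne_zero (pow_ne_zero _ (Fact.out : q.Prime).ne_zero))
        have := hup _ hk h6
        have e1 : p ^ a * (p ^ (n₁ - n₀) * (p ^ n₀ - 1)) = p ^ (n - n₀) * (p ^ n₀ - 1) := by
          rw [← mul_assoc, ← pow_add]
          congr 2
          omega
        rwa [e1] at this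
  · -- faithful: Theorem C
    haveI : Fintype Q := Fintype.ofFinite Q
    set τ := conjMul Q Xt hXtN with hτ
    have hTw : Twists ρ X₁ τ := by
      intro e
      apply LinearMap.ext
      intro v
      apply Subtype.ext
      have e3 : ((Xt⁻¹ : (Module.End K W)ˣ) : Module.End K W) ((Xt : Module.End K W) (v : W)) =
          (v : W) := by
        rw [← Module.End.mul_apply, Units.inv_mul, Module.End.one_apply]
      show (Xt : Module.End K W) (((e : (Module.End K W)ˣ) : Module.End K W) (v : W)) =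
        (((τ e : Q) : (Module.End K W)ˣ) : Module.End K W) ((Xt : Module.End K W) (v : W))
      rw [hτ, conjMul_apply, Units.val_mul, Units.val_mul, Module.End.mul_apply,
        Module.End.mul_apply, e3]
    have hZscal : ∀ g : Q, (g : (Module.End K W)ˣ) ∈ Z → IsScal (ρ g) := by
      intro g hg
      refine ⟨μ ⟨g, hg⟩, ?_⟩
      apply LinearMap.ext
      intro v
      apply Subtype.ext
      have h1 := (mem_wt.1 v.2) ⟨g, hg⟩
      rw [hρ, resRep_apply, hρ₀]
      exact h1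
    have hone : ∀ g : Q, ρ g = 1 → g = 1 := fun g hg => hinjρ (hg.trans (map_one ρ).symm)
    have hcenter : ∀ e : Q, (∀ f' : Q, ρ ⁅e, f'⁆ = 1) → (e : (Module.End K W)ˣ) ∈ Z := by
      intro e he
      rw [hZdef, mem_zen]
      refine ⟨e.2, ?_⟩
      intro g hg
      have h1 := hone _ (he ⟨g, hg⟩)
      have h2 := commutatorElement_eq_one_iff_mul_comm.1 h1
      have h3 := congrArg Subtype.val h2
      exact h3.symm
    have hHyp : Hyp ρ := by
      constructor
      · intro e f'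
        apply hZscal
        have := hi e e.2 f' f'.2
        exact this
      · intro e he
        exact hZscal e (hcenter e he)
    have hS : ∀ e : Q, e ∈ scalSubgroup ρ ↔ (e : (Module.End K W)ˣ) ∈ Z := by
      intro e
      constructor
      · intro he
        apply hcenter
        intro f'
        have he' : IsScal (ρ e) := he
        rw [commutatorElement_def, map_mul, map_mul, map_mul, he'.commute (ρ f'),
          mul_assoc (ρ f'), rho_mul_inv, mul_one, rho_mul_inv]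
      · exact hZscal e
    have hE : (Fintype.card Q : K) ≠ 0 := by
      obtain ⟨j, hj⟩ := IsPGroup.iff_card.1 hQ
      rw [← Nat.card_eq_fintype_card, hj, Nat.cast_pow]
      exact pow_ne_zero _ hqK
    have hnil : ((X₁ : Module.End K U) - 1) ^ (p ^ n₁) = 0 := by
      rw [Cfsg.Agent.Lib.Helper13.hh_sub_one_pow (K := K) p _ n₁, ← Units.val_pow_eq_pow_val,
        hX₁pow]
      simp
    have hfpf : ∀ e, ((τ ^ (p ^ (n₁ - 1))) e)⁻¹ * e ∈ scalSubgroup ρ → e ∈ scalSubgroup ρ := by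
      intro e he
      rw [hS] at he ⊢
      apply hiii e e.2
      have h1 : ((((τ ^ (p ^ (n₁ - 1))) e)⁻¹ * e : Q) : (Module.End K W)ˣ) =
          (Y * e * Y⁻¹)⁻¹ * e := by
        rw [Subgroup.coe_mul, Subgroup.coe_inv, hτ, conjMul_pow_apply, hXtY]
      rwa [h1] at he
    have hI : 1 < (scalSubgroup ρ).index := by
      obtain ⟨e₀, he₀, f₀, hf₀, hef₀⟩ := hnab
      have hne : scalSubgroup ρ ≠ ⊤ := by
        intro htop'
        have h1 : (⟨f₀, hf₀⟩ : Q) ∈ scalSubgroup ρ := by rw [htop']; trivial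
        rw [hS] at h1
        exact hef₀ ((mem_zen.1 h1).2 e₀ he₀)
      have h1 : (scalSubgroup ρ).index ≠ 1 := fun h => hne (Subgroup.index_eq_one.1 h)
      have h0 : (scalSubgroup ρ).index ≠ 0 := Subgroup.index_ne_zero_of_finite
      omega
    rcases thmC hHyp hE hTw p n₁ hp hn₁pos hX₁pow hnil hfpf hI with h | ⟨h1, h2⟩
    · exact Or.inl (hleft h)
    · right
      have hq : q.Prime := Fact.out
      obtain ⟨j, hj⟩ := IsPGroup.iff_card.1 hQ
      have hdvd : (scalSubgroup ρ).index ∣ q ^ j := by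
        rw [← hj]; exact Subgroup.index_dvd_card _
      rw [h2] at hdvd
      have hdvd2 : p ^ n₁ - 1 ∣ q ^ j := (dvd_pow_self _ two_ne_zero).trans hdvd
      obtain ⟨b, _, hb⟩ := (Nat.dvd_prime_pow hq).1 hdvd2
      have hb1 : 1 ≤ b := by
        by_contra hb0
        have : b = 0 := by omega
        rw [this, pow_zero] at hb
        rw [h2, hb] at hI
        simp at hI
      refine ⟨n₁, b, hn₁pos, by omega, hb1, hb, hnab, ?_⟩
      have hk : 1 ≤ p ^ n₁ - 1 := by
        rw [hb]; exact pos_of_ne_zero (pow_ne_zero _ hq.ne_zero)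
      have h3 : p ^ n₁ - 1 - 1 = p ^ n₁ - 2 := by omega
      have := hup (p ^ n₁ - 1) hk (by rw [h3]; exact h1)
      have e1 : n - n₁ = a := by omega
      rw [e1]
      exact this

end Special

section Main

variable {K : Type uK} [Field K] [IsAlgClosed K]

/-- **Theorem R** (Hall–Higman reduction). -/
theorem thmR (p q : ℕ) [Fact p.Prime] [Fact q.Prime] (hpq : p ≠ q) [CharP K p] :
    ∀ (m : ℕ) {W : Type uW} [AddCommGroup W] [Module K W] [FiniteDimensional K W]
      (Q : Subgroup (Module.End K W)ˣ) [Finite Q], IsPGroup q Q → Nat.card Q = m →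
      ∀ (X : (Module.End K W)ˣ), (∀ e ∈ Q, X * e * X⁻¹ ∈ Q) → ∀ n : ℕ, 1 ≤ n →
      X ^ (p ^ n) = 1 → (∃ t ∈ Q, X ^ (p ^ (n - 1)) * t ≠ t * X ^ (p ^ (n - 1))) →
      Concl p q Q X n := by
  intro m
  induction m using Nat.strong_induction_on with
  | _ m ih =>
  intro W _ _ _ Q _ hQ hcard X hXQ n hn hXn hY
  have hp : p.Prime := Fact.out
  have hNpos : 0 < p ^ n := pos_of_ne_zero (pow_ne_zero _ hp.ne_zero)
  by_cases hA : ∃ Q₁ : Subgroup (Module.End K W)ˣ, Q₁ < Q ∧ (∀ e ∈ Q₁, X * e * X⁻¹ ∈ Q₁) ∧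
      ∃ t ∈ Q₁, X ^ (p ^ (n - 1)) * t ≠ t * X ^ (p ^ (n - 1))
  · obtain ⟨Q₁, hlt, hX₁, hY₁⟩ := hA
    haveI : Finite Q₁ :=
      Finite.of_injective (Subgroup.inclusion hlt.le) (Subgroup.inclusion_injective _)
    have hcard₁ : Nat.card Q₁ < m := by
      rw [← hcard]
      by_contra hge
      push Not at hge
      exact (ne_of_lt hlt) (Subgroup.eq_of_le_of_card_ge hlt.le hge)
    have hres := ih _ hcard₁ Q₁ (hQ.to_le hlt.le) rfl X hX₁ n hn hXn hY₁
    rcases hres with h | ⟨n₀, b, h1, h2, h3, h4, ⟨e, he, f, hf, hef⟩, h6⟩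
    · exact Or.inl h
    · exact Or.inr ⟨n₀, b, h1, h2, h3, h4, ⟨e, hlt.le he, f, hlt.le hf, hef⟩, h6⟩
  · push Not at hA
    by_cases hab : ∀ e ∈ Q, ∀ f ∈ Q, e * f = f * e
    · exact Or.inl (abelian_case p q hpq Q hQ hab X hXQ n hn hXn hY)
    · push Not at hab
      have hXN : X ∈ Subgroup.normalizer (Q : Set (Module.End K W)ˣ) :=
        mem_normalizer_of_pow_eq_one Q X (p ^ n) hNpos hXn hXQ
      have hYX : X ^ (p ^ (n - 1)) ∈ Subgroup.zpowers X := Subgroup.npow_mem_zpowers X _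
      have hYm : (X ^ (p ^ (n - 1))) ^ (p ^ n) = 1 := by
        rw [← pow_mul, mul_comm, pow_mul, hXn, one_pow]
      have hmq : Nat.Coprime (p ^ n) q :=
        Nat.Coprime.pow_left _ ((Nat.coprime_primes hp (Fact.out : q.Prime)).2 hpq)
      obtain ⟨hi, hii, hiii⟩ := minimal_structure Q hQ X (X ^ (p ^ (n - 1))) hXN hYX (p ^ n) hYm
        hmq hA hY hab
      apply special_case p q hpq Q hQ X hXQ n hn hXn hY hab hi hii hiii
      intro U Q₁ _ hQ₁ hlt X₁ hX₁ n₁ hn₁ hX₁n hY₁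
      exact ih _ (hcard ▸ hlt) Q₁ hQ₁ rfl X₁ hX₁ n₁ hn₁ hX₁n hY₁

end Main

end Cfsg.Agent.Lib.Helper56.HHB
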