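import Mathlib

set_option autoImplicit false
set_option linter.unusedSectionVars false

namespace Cfsg.Agent.Lib.Helper56.HHS

/-- exceptional arithmetic: a square `I = d^2 > 1` that is a power of the prime `q`, at most
`(N-1)^2` and `≡ 1 mod N` for an odd prime power `N = p^k` forces `q = 2`, `N = 2^m + 1`. -/
theorem exceptional_arith (p k q j I d m₀ : ℕ) (hp : p.Prime) (hp2 : p ≠ 2)
    (hq : q.Prime) (hId : I = d ^ 2) (hI1 : 1 < I) (hle : I ≤ (p ^ k - 1) ^ 2)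
    (hmod : p ^ k * m₀ + 1 = I) (hdvd : I ∣ q ^ j) :
    q = 2 ∧ ∃ m : ℕ, 1 ≤ m ∧ p ^ k = 2 ^ m + 1 ∧ I = 2 ^ (2 * m) := by
  set N := p ^ k with hN
  have hNpos : 0 < N := pos_of_ne_zero (pow_ne_zero _ hp.ne_zero)
  have hd2 : 2 ≤ d := by
    by_contra h
    have : d = 0 ∨ d = 1 := by omega
    rcases this with rfl | rfl <;> simp at hId <;> omega
  have hdle : d ≤ N - 1 := by
    rw [hId] at hle
    exact (Nat.pow_le_pow_iff_left (by norm_num : (2:ℕ) ≠ 0)).1 hle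
  -- N ∣ (d-1)(d+1)
  have hfac : d ^ 2 - 1 = (d - 1) * (d + 1) := by
    obtain ⟨c, rfl⟩ : ∃ c, d = c + 1 := ⟨d - 1, by omega⟩
    have : (c + 1) ^ 2 = c * (c + 2) + 1 := by ring
    rw [this]
    simp
  have hNdvd : N ∣ (d - 1) * (d + 1) := by
    rw [← hfac, ← hId, ← hmod]
    simp
  have hpodd : Odd p := hp.odd_of_ne_two hp2
  have hcop : Nat.Coprime N (d - 1) := by
    rw [hN]
    apply Nat.Coprime.pow_left
    rw [Nat.Prime.coprime_iff_not_dvd hp]
    intro hpd1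
    -- then p ∤ d+1, so N ∣ d - 1 < N
    have hpd2 : ¬ p ∣ d + 1 := by
      intro h2
      have h3 : p ∣ (d + 1) - (d - 1) := Nat.dvd_sub h2 hpd1
      have h4 : (d + 1) - (d - 1) = 2 := by omega
      rw [h4] at h3
      have := (Nat.prime_dvd_prime_iff_eq hp Nat.prime_two).1 h3
      exact hp2 this
    have hcop2 : Nat.Coprime N (d + 1) := by
      rw [hN]
      apply Nat.Coprime.pow_left
      exact (Nat.Prime.coprime_iff_not_dvd hp).2 hpd2
    have h5 : N ∣ d - 1 := hcop2.dvd_of_dvd_mul_right hNdvd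
    have := Nat.le_of_dvd (by omega) h5
    omega
  have h6 : N ∣ d + 1 := hcop.dvd_of_dvd_mul_left hNdvd
  have h7 : N ≤ d + 1 := Nat.le_of_dvd (by omega) h6
  have hdN : d + 1 = N := by omega
  -- d is a power of q
  have hdq : d ∣ q ^ j := (Dvd.intro_left (d ^ 1) (by rw [hId]; ring)).trans hdvd
  obtain ⟨m, -, hm⟩ := (Nat.dvd_prime_pow hq).1 hdq
  have hm1 : 1 ≤ m := by
    by_contra h
    have : m = 0 := by omega
    rw [this, pow_zero] at hm
    omega
  have hNodd : Odd N := by rw [hN]; exact hpodd.pow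
  have hq2 : q = 2 := by
    by_contra hne
    have hqodd : Odd q := hq.odd_of_ne_two hne
    have hodd : Odd d := by rw [hm]; exact hqodd.pow
    have : Even N := by rw [← hdN]; exact hodd.add_one
    exact (Nat.not_even_iff_odd.2 hNodd) this
  subst hq2
  refine ⟨rfl, m, hm1, ?_, ?_⟩
  · rw [← hdN, hm]
  · rw [hId, hm, ← pow_mul, mul_comm]

/-- the order of `2` modulo `N = 2^m + 1` is `2m` -/
theorem two_m_dvd (m d : ℕ) (hm : 1 ≤ m) (hd : 2 ^ m + 1 ∣ 2 ^ d - 1) : 2 * m ∣ d := by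
  set N := 2 ^ m + 1 with hN
  have h2m : (2 : ZMod N) ^ m = -1 := by
    have : ((2 ^ m + 1 : ℕ) : ZMod N) = 0 := by
      rw [← hN]; exact ZMod.natCast_self N
    push_cast at this
    exact eq_neg_of_add_eq_zero_left this
  have h22m : (2 : ZMod N) ^ (2 * m) = 1 := by
    rw [mul_comm, pow_mul, h2m]
    simp
  have hd1 : (2 : ZMod N) ^ d = 1 := by
    have h1 : ((2 ^ d - 1 : ℕ) : ZMod N) = 0 := (ZMod.natCast_eq_zero_iff _ _).2 hd
    have h2 : 1 ≤ 2 ^ d := Nat.one_le_two_pow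
    rw [Nat.cast_sub h2] at h1
    push_cast at h1
    exact sub_eq_zero.1 h1
  -- reduce d modulo 2m
  set r := d % (2 * m) with hr
  have hr1 : (2 : ZMod N) ^ r = 1 := by
    have h1 : d = 2 * m * (d / (2 * m)) + r := (Nat.div_add_mod d (2 * m)).symm
    rw [h1, pow_add, pow_mul, h22m, one_pow, one_mul] at hd1
    exact hd1
  have hrlt : r < 2 * m := Nat.mod_lt _ (by omega)
  by_contra hnd
  have hr0 : r ≠ 0 := fun h0 => hnd (Nat.dvd_of_mod_eq_zero (by rw [← hr]; exact h0))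
  -- N ∣ 2^r - 1
  have hNr : N ∣ 2 ^ r - 1 := by
    rw [← ZMod.natCast_eq_zero_iff]
    have h2 : 1 ≤ 2 ^ r := Nat.one_le_two_pow
    rw [Nat.cast_sub h2]
    push_cast
    rw [hr1, sub_self]
  have hrm : m < r := by
    by_contra hle
    push Not at hle
    have h1 : 2 ^ r ≤ 2 ^ m := Nat.pow_le_pow_right (by norm_num) hle
    have h0 : 2 ^ 1 ≤ 2 ^ r := Nat.pow_le_pow_right (by norm_num) (by omega)
    have h3 : 0 < 2 ^ r - 1 := by omega
    have h4 := Nat.le_of_dvd h3 hNr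
    rw [hN] at h4
    omega
  -- 2^(r-m) = -1
  have h3 : (2 : ZMod N) ^ (r - m) = -1 := by
    have h4 : r = m + (r - m) := by omega
    rw [h4, pow_add, h2m] at hr1
    have : (2 : ZMod N) ^ (r - m) = -(-1 * (2 : ZMod N) ^ (r - m)) := by ring
    rw [this, hr1]
  have hN2 : N ∣ 2 ^ (r - m) + 1 := by
    rw [← ZMod.natCast_eq_zero_iff]
    push_cast
    rw [h3]
    ring
  have h5 : 2 ^ (r - m) < 2 ^ m := Nat.pow_lt_pow_right (by norm_num) (by omega)
  have := Nat.le_of_dvd (by positivity) hN2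
  omega

/-- lifting the exponent: if `p ^ k = 2 ^ m + 1` and `p ^ (k + j) ∣ 2 ^ d - 1` then
`2 m p ^ j ≤ d`. -/
theorem lte_bound (p k m j d : ℕ) (hp : p.Prime) (hp2 : p ≠ 2) (hm : 1 ≤ m)
    (hpk : p ^ k = 2 ^ m + 1) (hd : 1 ≤ d) (hdvd : p ^ (k + j) ∣ 2 ^ d - 1) :
    2 * m * p ^ j ≤ d := by
  have hpodd : Odd p := hp.odd_of_ne_two hp2
  have hk : 1 ≤ k := by
    by_contra h
    have : k = 0 := by omega
    rw [this, pow_zero] at hpk
    have : 0 < 2 ^ m := by positivity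
    omega
  have hN : 2 ^ m + 1 ∣ 2 ^ d - 1 := by
    rw [← hpk]
    exact (pow_dvd_pow p (Nat.le_add_right k j)).trans hdvd
  obtain ⟨s, hs⟩ := two_m_dvd m d hm hN
  have hs0 : s ≠ 0 := by
    rintro rfl
    omega
  -- p ∣ 2^m + 1
  have hpN : p ∣ 2 ^ m + 1 := by
    rw [← hpk]
    exact dvd_pow_self p (by omega)
  have hpn : ¬ p ∣ 2 ^ m - 1 := by
    intro h
    have h3 : p ∣ (2 ^ m + 1) - (2 ^ m - 1) := Nat.dvd_sub hpN h
    have h4 : (2 ^ m + 1) - (2 ^ m - 1) = 2 := by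
      have : 1 ≤ 2 ^ m := Nat.one_le_two_pow
      omega
    rw [h4] at h3
    exact hp2 ((Nat.prime_dvd_prime_iff_eq hp Nat.prime_two).1 h3)
  have hfac : (2 ^ (2 * m)) - 1 = (2 ^ m - 1) * p ^ k := by
    rw [hpk]
    have : 1 ≤ 2 ^ m := Nat.one_le_two_pow
    obtain ⟨c, hc⟩ : ∃ c, 2 ^ m = c + 1 := ⟨2 ^ m - 1, by omega⟩
    rw [mul_comm 2 m, pow_mul, hc]
    have : (c + 1) ^ 2 = c * (c + 1 + 1) + 1 := by ring
    rw [this]
    simp
  have hmult : emultiplicity p (2 ^ (2 * m) - 1) = k := by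
    rw [emultiplicity_eq_coe]
    constructor
    · rw [hfac]; exact dvd_mul_left _ _
    · rw [hfac, pow_succ]
      intro h
      have h' : p ^ k * p ∣ p ^ k * (2 ^ m - 1) := by
        rw [mul_comm (p ^ k) (2 ^ m - 1)]
        exact h
      exact hpn (Nat.dvd_of_mul_dvd_mul_left (pos_of_ne_zero (pow_ne_zero k hp.ne_zero)) h')
  have hx : ¬ p ∣ 2 ^ (2 * m) := by
    intro h
    have := hp.dvd_of_dvd_pow h
    exact hp2 ((Nat.prime_dvd_prime_iff_eq hp Nat.prime_two).1 this)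
  have hxy : p ∣ 2 ^ (2 * m) - 1 := by
    rw [hfac]
    exact Dvd.dvd.mul_left (dvd_pow_self p (by omega)) _
  have hlte := Nat.emultiplicity_pow_sub_pow hp hpodd (x := 2 ^ (2 * m)) (y := 1) hxy hx s
  rw [one_pow, ← pow_mul, ← hs, hmult] at hlte
  have h1 : ((k + j : ℕ) : ℕ∞) ≤ emultiplicity p (2 ^ d - 1) :=
    pow_dvd_iff_le_emultiplicity.1 hdvd
  rw [hlte] at h1
  have h2 : (j : ℕ∞) ≤ emultiplicity p s := by
    push_cast at h1
    exact (ENat.add_le_add_iff_left (ENat.natCast_ne_top k)).1 h1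
  have h3 : p ^ j ∣ s := pow_dvd_iff_le_emultiplicity.2 h2
  have h4 : p ^ j ≤ s := Nat.le_of_dvd (Nat.pos_of_ne_zero hs0) h3
  rw [hs]
  exact Nat.mul_le_mul_left _ h4

end Cfsg.Agent.Lib.Helper56.HHS
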