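import Cfsg.Agent.Lib.Helper56.HHSCount
import Cfsg.Agent.Lib.Helper56.HHSNT
import Cfsg.Agent.Lib.Helper56.HHBReduce

/-!
# The coprime Hall–Higman / Shult reduction for an operator of odd prime power order

`Q` is a finite `q`-group of linear maps of `W` over an algebraically closed field, normalized by
`X` of order dividing `p ^ n` (`p` odd, `p`, `q` invertible in the field).  If `X` centralizes no
nonidentity element of `Q` and `X ^ (p ^ (n-1))` does not centralize `Q`, then `X` fixes a nonzero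
vector (`thmSG`).
-/

set_option autoImplicit false
set_option linter.unusedSectionVars false
set_option linter.style.haveILetI false

namespace Cfsg.Agent.Lib.Helper56.HHS

open Module
open Cfsg.Agent.Lib.Helper56.HH
open Cfsg.Agent.Lib.Helper56.HHB
open scoped commutatorElement

universe uK uW

section Orbit

variable {K : Type uK} [Field K] {W : Type uW} [AddCommGroup W] [Module K W] {ι : Type*}

/-- summing over a segment of an orbit with distinct weights gives a nonzero fixed vector -/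
theorem exists_fixed_of_orbit {f : ι → Module.End K W} (hcomm : ∀ i j, Commute (f i) (f j))
    (X : Module.End K W) (σ : Equiv.Perm ι) (hX : ∀ i, X * f i = f (σ i) * X)
    (χ : ι → K) (t : ℕ) (ht : 0 < t)
    (hinj : ∀ i < t, ∀ j < t, (twist σ)^[i] χ = (twist σ)^[j] χ → i = j)
    (u : W) (hu : u ∈ wt f χ) (hu0 : u ≠ 0) (hXt : (X ^ t) u = u) :
    ∃ w : W, w ≠ 0 ∧ X w = w := by
  refine ⟨∑ i ∈ Finset.range t, (X ^ i) u, ?_, ?_⟩
  · intro h0
    exact hu0 (sum_pow_eq_zero_imp hcomm X σ hX χ t ht hinj u hu h0)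
  · rw [map_sum]
    have h1 : ∀ i, X ((X ^ i) u) = (X ^ (i + 1)) u := by
      intro i
      rw [pow_succ', Module.End.mul_apply]
    simp only [h1]
    obtain ⟨t', rfl⟩ : ∃ t', t = t' + 1 := ⟨t - 1, by omega⟩
    rw [Finset.sum_range_succ (fun i => (X ^ (i + 1)) u) t', hXt,
      Finset.sum_range_succ' (fun i => (X ^ i) u) t']
    simp

end Orbit

section Moved

variable {K : Type uK} [Field K] [IsAlgClosed K] {W : Type uW} [AddCommGroup W] [Module K W]
  [FiniteDimensional K W] {ι : Type*}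

/-- if the `p ^ (n-1)`-th power of the twisting permutation changes the family, then `X` fixes a
nonzero vector -/
theorem exists_fixed_of_moved (f : ι → Module.End K W) (hcomm : ∀ i j, Commute (f i) (f j))
    (hss : ∀ i, (f i).IsSemisimple) (X : (Module.End K W)ˣ) (σ : Equiv.Perm ι)
    (hXf : ∀ i, (X : Module.End K W) * f i = f (σ i) * (X : Module.End K W))
    (p n : ℕ) (hp : p.Prime) (hn : 1 ≤ n) (hXn : X ^ (p ^ n) = 1) (hσn : σ ^ (p ^ n) = 1)
    (hmoved : ∃ i, f ((σ ^ (p ^ (n - 1))) i) ≠ f i) :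
    ∃ w : W, w ≠ 0 ∧ (X : Module.End K W) w = w := by
  classical
  have hNpos : 0 < p ^ n := pos_of_ne_zero (pow_ne_zero _ hp.ne_zero)
  have htop : ⨆ χ, wt f χ = ⊤ := iSup_wt_eq_top f hcomm hss
  obtain ⟨χ, hχ, hχmoved⟩ := exists_moved_weight htop (σ ^ (p ^ (n - 1))) hmoved
  set π := twist (K := K) σ with hπ
  have hπ1 : π^[p ^ (n - 1)] χ ≠ χ := by
    rw [hπ, twist_iterate]
    exact hχmoved
  have hπN : π^[p ^ n] χ = χ := by
    rw [hπ, twist_iterate, hσn]
    rfl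
  obtain ⟨a, han, hmp⟩ := prime_pow_period π χ p n hp hπN
  have han' : a = n := by
    by_contra hne
    have : a ≤ n - 1 := by omega
    apply hπ1
    have h1 : Function.IsPeriodicPt π (p ^ a) χ := by
      rw [← hmp]; exact Function.isPeriodicPt_minimalPeriod π χ
    exact h1.trans_dvd (pow_dvd_pow p this)
  rw [han'] at hmp
  have hinj : ∀ i < p ^ n, ∀ j < p ^ n, π^[i] χ = π^[j] χ → i = j := by
    intro i hi j hj hij
    have := Function.iterate_injOn_Iio_minimalPeriod (f := π) (x := χ)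
    rw [hmp] at this
    exact this (Set.mem_Iio.2 hi) (Set.mem_Iio.2 hj) hij
  obtain ⟨u, huU, hu0⟩ := (Submodule.ne_bot_iff _).1 hχ
  apply exists_fixed_of_orbit hcomm (X : Module.End K W) σ hXf χ (p ^ n) hNpos hinj u huU hu0
  rw [← Units.val_pow_eq_pow_val, hXn]
  rfl

end Moved

section LemmaP

variable {L : Type*} [Field L] {W : Type*} [AddCommGroup W] [Module L W]
variable {E : Type*} [Group E] [Fintype E]

theorem isScal_pow {a : Module.End L W} (ha : IsScal a) (n : ℕ) : IsScal (a ^ n) := by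
  induction n with
  | zero => rw [pow_zero]; exact isScal_one
  | succ n ih => rw [pow_succ]; exact ih.mul ha

theorem isScal_smul {a : Module.End L W} (ha : IsScal a) (c : L) : IsScal (c • a) := by
  obtain ⟨d, hd⟩ := ha
  refine ⟨c * d, ?_⟩
  rw [hd, map_mul, Algebra.smul_def]

/-- the ordered product `e * y e * y^2 e * ... * y^(j-1) e` -/
def prodSeq (y : E ≃* E) (e : E) : ℕ → E
  | 0 => 1
  | j + 1 => prodSeq y e j * (y ^ j) e

theorem map_prodSeq (y : E ≃* E) (e : E) (j : ℕ) :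
    y (prodSeq y e j) = e⁻¹ * prodSeq y e (j + 1) := by
  induction j with
  | zero => simp [prodSeq]
  | succ j ih =>
    have h1 : prodSeq y e (j + 1 + 1) = prodSeq y e (j + 1) * (y ^ (j + 1)) e := rfl
    have h2 : prodSeq y e (j + 1) = prodSeq y e j * (y ^ j) e := rfl
    rw [h1, ← mul_assoc, ← ih, h2, map_mul, pow_succ', MulAut.mul_apply]

/-- **The product trick.** If `y` (of prime order `p`, induced by `Y₁`) moves `e` only by an
element acting as a scalar, and fixed points of `y` modulo the "centre" `Zc` are trivial, then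
`e` acts as a scalar. -/
theorem isScal_of_isScal_comm (ρ : E →* Module.End L W) (y : E ≃* E) (Y₁ : (Module.End L W)ˣ)
    (hTw : Twists ρ Y₁ y) (p : ℕ) (hyp : ∀ e, (y ^ p) e = e)
    (Zc : Subgroup E) (ha : ∀ e f : E, ⁅e, f⁆ ∈ Zc) (hb : ∀ z ∈ Zc, IsScal (ρ z))
    (hc : ∀ e, (y e)⁻¹ * e ∈ Zc → e ∈ Zc)
    (e : E) (hd : IsScal (ρ (e⁻¹ * y e)))
    (m : ℕ) (hem : e ^ m = 1) (hpm : Nat.Coprime p m) : IsScal (ρ e) := by
  -- trivial module
  by_cases h01 : (0 : Module.End L W) = 1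
  · refine ⟨0, ?_⟩
    rw [map_zero]
    calc ρ e = ρ e * 1 := (mul_one _).symm
      _ = 0 := by rw [← h01, mul_zero]
  obtain ⟨c, hc'⟩ := hd
  -- each conjugate is a scalar multiple of `ρ e`
  have hB : ∀ i : ℕ, ∃ ci : L, ρ ((y ^ i) e) = ci • ρ e := by
    intro i
    induction i with
    | zero => exact ⟨1, by simp⟩
    | succ i ih =>
      obtain ⟨ci, hci⟩ := ih
      refine ⟨ci * c, ?_⟩
      rw [pow_succ', MulAut.mul_apply, hTw.conj, hci, mul_smul_comm, smul_mul_assoc,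
        ← hTw.conj]
      have h1 : y e = e * (e⁻¹ * y e) := by group
      rw [h1, map_mul, hc', Algebra.algebraMap_eq_smul_one, mul_smul_comm, mul_one, smul_smul]
  have hC : ∀ j : ℕ, ∃ dj : L, ρ (prodSeq y e j) = dj • (ρ e) ^ j := by
    intro j
    induction j with
    | zero => exact ⟨1, by simp [prodSeq]⟩
    | succ j ih =>
      obtain ⟨dj, hdj⟩ := ih
      obtain ⟨cj, hcj⟩ := hB j
      refine ⟨dj * cj, ?_⟩
      have h2 : prodSeq y e (j + 1) = prodSeq y e j * (y ^ j) e := rfl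
      rw [h2, map_mul, hdj, hcj, smul_mul_smul_comm, pow_succ]
  -- the product lies in `Zc`
  have hP : prodSeq y e p ∈ Zc := by
    apply hc
    rw [map_prodSeq]
    have h2 : prodSeq y e (p + 1) = prodSeq y e p * (y ^ p) e := rfl
    rw [h2, hyp]
    have : (e⁻¹ * (prodSeq y e p * e))⁻¹ * prodSeq y e p = ⁅e⁻¹, (prodSeq y e p)⁻¹⁆ := by
      rw [commutatorElement_def]
      group
    rw [this]
    exact ha _ _
  obtain ⟨dp, hdp⟩ := hC p
  have hsc : IsScal (ρ (prodSeq y e p)) := hb _ hP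
  have hdp0 : dp ≠ 0 := by
    rintro rfl
    rw [zero_smul] at hdp
    apply h01
    have := rho_mul_inv ρ (prodSeq y e p)
    rw [hdp, zero_mul] at this
    exact this
  have hpow : IsScal ((ρ e) ^ p) := by
    have : (ρ e) ^ p = dp⁻¹ • ρ (prodSeq y e p) := by
      rw [hdp, smul_smul, inv_mul_cancel₀ hdp0, one_smul]
    rw [this]
    exact isScal_smul hsc _
  -- Bezout
  by_cases hm1 : m = 1
  · rw [hm1, pow_one] at hem
    rw [hem, map_one]
    exact isScal_one
  by_cases hm0 : m = 0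
  · rw [hm0, Nat.coprime_zero_right] at hpm
    rw [hpm, pow_one] at hpow
    exact hpow
  have hm2 : 1 < m := by omega
  obtain ⟨u, -, hu⟩ := Nat.exists_mul_mod_eq_one_of_coprime hpm hm2
  have h3 : e ^ (p * u) = e := by
    have h4 : p * u = m * (p * u / m) + 1 := by
      have := Nat.div_add_mod (p * u) m
      omega
    rw [h4, pow_add, pow_mul, hem, one_pow, one_mul, pow_one]
  have h5 : ρ e = ((ρ e) ^ p) ^ u := by
    rw [← pow_mul, ← map_pow, h3]
  rw [h5]
  exact isScal_pow hpow u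

end LemmaP

section SemiReg

variable {E : Type*} [Group E] [Finite E]

theorem pow_mem_of_map_mem (T : Subgroup E) (θ : E ≃* E) (hθT : ∀ e ∈ T, θ e ∈ T) (j : ℕ) :
    ∀ e ∈ T, (θ ^ j) e ∈ T := by
  induction j with
  | zero => intro e he; simpa using he
  | succ j ih =>
    intro e he
    rw [pow_succ', MulAut.mul_apply]
    exact hθT _ (ih e he)

/-- the permutation of `E / T` induced by an automorphism preserving `T` -/
def permQuot (T : Subgroup E) (θ : E ≃* E) (h1 : ∀ e ∈ T, θ e ∈ T)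
    (h2 : ∀ e ∈ T, θ.symm e ∈ T) : Equiv.Perm (E ⧸ T) where
  toFun := Quotient.map' θ (fun a b hab => by
    rw [QuotientGroup.leftRel_apply] at hab ⊢
    rw [← map_inv, ← map_mul]
    exact h1 _ hab)
  invFun := Quotient.map' θ.symm (fun a b hab => by
    rw [QuotientGroup.leftRel_apply] at hab ⊢
    rw [← map_inv, ← map_mul]
    exact h2 _ hab)
  left_inv := by
    intro q
    induction q using Quotient.inductionOn' with
    | h e => simp [Quotient.map'_mk'']
  right_inv := by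
    intro q
    induction q using Quotient.inductionOn' with
    | h e => simp [Quotient.map'_mk'']

theorem permQuot_mk (T : Subgroup E) (θ : E ≃* E) (h1 : ∀ e ∈ T, θ e ∈ T)
    (h2 : ∀ e ∈ T, θ.symm e ∈ T) (e : E) :
    permQuot T θ h1 h2 (QuotientGroup.mk e) = QuotientGroup.mk (θ e) := rfl

theorem permQuot_pow_mk (T : Subgroup E) (θ : E ≃* E) (h1 : ∀ e ∈ T, θ e ∈ T)
    (h2 : ∀ e ∈ T, θ.symm e ∈ T) (i : ℕ) (e : E) :
    (permQuot T θ h1 h2 ^ i) (QuotientGroup.mk e) = QuotientGroup.mk ((θ ^ i) e) := by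
  induction i with
  | zero => simp
  | succ i ih =>
    rw [pow_succ', Equiv.Perm.mul_apply, ih, permQuot_mk, pow_succ', MulAut.mul_apply]

/-- semiregularity on `E / T` gives `|E : T| ≡ 1 mod p ^ n` -/
theorem index_mod_subgroup (T : Subgroup E) (θ : E ≃* E) (hθT : ∀ e ∈ T, θ e ∈ T)
    (p n : ℕ) (hp : p.Prime) (hn : 1 ≤ n) (hθN : ∀ e, (θ ^ (p ^ n)) e = e)
    (hfpf : ∀ e, ((θ ^ (p ^ (n - 1))) e)⁻¹ * e ∈ T → e ∈ T) :
    ∃ m : ℕ, p ^ n * m + 1 = T.index := by
  classical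
  haveI : Fintype (E ⧸ T) := Fintype.ofFinite _
  have hidx : T.index = Fintype.card (E ⧸ T) := by
    rw [Subgroup.index_eq_card, Nat.card_eq_fintype_card]
  set N := p ^ n with hN
  have hNpos : 0 < N := pos_of_ne_zero (pow_ne_zero _ hp.ne_zero)
  have hsymm : ∀ e, θ.symm e = (θ ^ (N - 1)) e := by
    intro e
    apply θ.injective
    rw [MulEquiv.apply_symm_apply, ← MulAut.mul_apply, ← pow_succ', Nat.sub_add_cancel hNpos, hθN]
  have h2 : ∀ e ∈ T, θ.symm e ∈ T := by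
    intro e he
    rw [hsymm]
    exact pow_mem_of_map_mem T θ hθT _ e he
  set σ := permQuot T θ hθT h2 with hσ
  have hσN : σ ^ N = 1 := by
    ext q
    induction q using Quotient.inductionOn' with
    | h e =>
      show (σ ^ N) (QuotientGroup.mk e) = QuotientGroup.mk e
      rw [hσ, permQuot_pow_mk, hθN]
  have hq₁ : σ (QuotientGroup.mk 1) = QuotientGroup.mk 1 := by
    rw [hσ, permQuot_mk, map_one]
  have hsemi : ∀ i, 0 < i → i < N → ∀ q, (σ ^ i) q = q → q = QuotientGroup.mk 1 := by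
    intro i hi hiN q hq
    have hp1 : Function.IsPeriodicPt σ i q := by
      show σ^[i] q = q
      rw [Equiv.Perm.iterate_eq_pow]; exact hq
    have hp2 : Function.IsPeriodicPt σ N q := by
      show σ^[N] q = q
      rw [Equiv.Perm.iterate_eq_pow, hσN]; rfl
    have hp3 := hp1.gcd hp2
    obtain ⟨a, ha, hga⟩ := (Nat.dvd_prime_pow hp).1 (Nat.gcd_dvd_right i N)
    have hak : a < n := by
      rcases lt_or_eq_of_le ha with h1 | h1
      · exact h1
      · exfalso
        have h2 : Nat.gcd i N ≤ i := Nat.le_of_dvd hi (Nat.gcd_dvd_left i N)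
        rw [hga, h1] at h2
        omega
    have hp4 : Function.IsPeriodicPt σ (p ^ (n - 1)) q := by
      apply hp3.trans_dvd
      rw [hga]
      exact pow_dvd_pow p (by omega)
    have hp5 : (σ ^ (p ^ (n - 1))) q = q := by
      rw [← Equiv.Perm.iterate_eq_pow]; exact hp4
    induction q using Quotient.inductionOn' with
    | h e =>
      change (σ ^ (p ^ (n - 1))) (QuotientGroup.mk e) = QuotientGroup.mk e at hp5
      rw [hσ, permQuot_pow_mk, QuotientGroup.eq] at hp5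
      have := hfpf e hp5
      show (QuotientGroup.mk e : E ⧸ T) = QuotientGroup.mk 1
      rw [QuotientGroup.eq]
      have h2 := T.inv_mem this
      simpa using h2
  obtain ⟨RQ, -, hcard⟩ := exists_reps_semiregular σ N hNpos hσN _ hq₁ hsemi
  rw [← hidx] at hcard
  exact ⟨RQ.card, hcard⟩

end SemiReg

section WeightChar

variable {K : Type uK} [Field K] {W : Type uW} [AddCommGroup W] [Module K W]

theorem wt_fam_mul (A : Subgroup (Module.End K W)ˣ) (χ : A → K) (h : wt (fam A) χ ≠ ⊥)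
    (a b : A) : χ (a * b) = χ a * χ b := by
  obtain ⟨w, hw, hw0⟩ := (Submodule.ne_bot_iff _).1 h
  have h1 := (mem_wt.1 hw) (a * b)
  have h2 := (mem_wt.1 hw) a
  have h3 := (mem_wt.1 hw) b
  have h4 : fam A (a * b) w = fam A a (fam A b w) := by
    unfold fam
    rw [Subgroup.coe_mul, Units.val_mul, Module.End.mul_apply]
  rw [h4, h3, map_smul, h2, smul_smul] at h1
  have h5 : (χ b * χ a - χ (a * b)) • w = 0 := by rw [sub_smul, h1, sub_self]
  rcases smul_eq_zero.1 h5 with h6 | h6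
  · rw [mul_comm]; exact (sub_eq_zero.1 h6).symm
  · exact absurd h6 hw0

theorem wt_fam_one (A : Subgroup (Module.End K W)ˣ) (χ : A → K) (h : wt (fam A) χ ≠ ⊥) :
    χ 1 = 1 := by
  obtain ⟨w, hw, hw0⟩ := (Submodule.ne_bot_iff _).1 h
  have h1 := (mem_wt.1 hw) 1
  have h4 : fam A 1 w = w := by
    unfold fam
    simp
  rw [h4] at h1
  have h5 : (χ 1 - 1) • w = 0 := by rw [sub_smul, ← h1, one_smul, sub_self]
  rcases smul_eq_zero.1 h5 with h6 | h6
  · exact sub_eq_zero.1 h6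
  · exact absurd h6 hw0

theorem prod_twist_invariant {ι : Type*} (σ : Equiv.Perm ι) (χ : ι → K) (t : ℕ) (ht : 0 < t)
    (hper : (twist σ)^[t] χ = χ) (z : ι) :
    ∏ i ∈ Finset.range t, ((twist σ)^[i] χ) (σ z) = ∏ i ∈ Finset.range t, ((twist σ)^[i] χ) z := by
  have hstep : ∀ i : ℕ, ((twist σ)^[i + 1] χ) (σ z) = ((twist σ)^[i] χ) z := by
    intro i
    rw [Function.iterate_succ_apply']
    simp [twist]
  obtain ⟨t', rfl⟩ : ∃ t', t = t' + 1 := ⟨t - 1, by omega⟩
  rw [Finset.prod_range_succ' (fun i => ((twist σ)^[i] χ) (σ z)) t',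
    Finset.prod_range_succ (fun i => ((twist σ)^[i] χ) z) t']
  simp only [hstep]
  congr 1
  have h1 : ((twist σ)^[0] χ) (σ z) = ((twist σ)^[t' + 1] χ) (σ z) := by rw [hper]; rfl
  rw [h1, hstep]

end WeightChar

section Setup

variable {K : Type uK} [Field K] {W : Type uW} [AddCommGroup W] [Module K W]
variable (Q : Subgroup (Module.End K W)ˣ)

/-- the natural representation of a group of units -/
def rho0 : Q →* Module.End K W := (Units.coeHom (Module.End K W)).comp Q.subtype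

theorem rho0_apply (e : Q) : rho0 Q e = ((e : (Module.End K W)ˣ) : Module.End K W) := rfl

theorem wt_zen_invariant (e : Q) (χ : zen Q → K) :
    ∀ w ∈ wt (fam (zen Q)) χ, rho0 Q e w ∈ wt (fam (zen Q)) χ := by
  intro w hw
  have h1 := map_wt (f := fam (zen Q)) ((e : (Module.End K W)ˣ) : Module.End K W) 1 (by
    intro i
    show ((e : (Module.End K W)ˣ) : Module.End K W) * fam (zen Q) i =
      fam (zen Q) i * ((e : (Module.End K W)ˣ) : Module.End K W)
    unfold fam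
    rw [← Units.val_mul, ← Units.val_mul, (mem_zen.1 i.2).2 e e.2]) hw
  exact h1

/-- `Q` acting on a weight space of its centre -/
def rhoChi (χ : zen Q → K) : Q →* Module.End K (wt (fam (zen Q)) χ) :=
  resRep (rho0 Q) (wt (fam (zen Q)) χ) (fun e => wt_zen_invariant Q e χ)

theorem rhoChi_apply (χ : zen Q → K) (e : Q) (v : wt (fam (zen Q)) χ) :
    ((rhoChi Q χ e v : wt (fam (zen Q)) χ) : W) =
      ((e : (Module.End K W)ˣ) : Module.End K W) (v : W) := rfl

/-- the subgroup of `Q` acting by scalars on a weight space of its centre -/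
def Schi (χ : zen Q → K) : Subgroup Q := scalSubgroup (rhoChi Q χ)

theorem rhoChi_zen (χ : zen Q → K) (z : Q) (hz : (z : (Module.End K W)ˣ) ∈ zen Q) :
    rhoChi Q χ z = algebraMap K _ (χ ⟨z, hz⟩) := by
  apply LinearMap.ext
  intro v
  apply Subtype.ext
  have h1 := (mem_wt.1 v.2) ⟨z, hz⟩
  rw [rhoChi_apply]
  exact h1

theorem zen_le_Schi (χ : zen Q → K) (z : Q) (hz : (z : (Module.End K W)ˣ) ∈ zen Q) :
    z ∈ Schi Q χ := ⟨_, rhoChi_zen Q χ z hz⟩

/-- conjugation by `X` carries the scalar subgroup of `χ` into that of the twisted weight -/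
theorem conj_mem_Schi (X : (Module.End K W)ˣ)
    (hXN : X ∈ Subgroup.normalizer (Q : Set (Module.End K W)ˣ))
    (hXNZ : X ∈ Subgroup.normalizer (zen Q : Set (Module.End K W)ˣ))
    (χ : zen Q → K) (e : Q) (he : e ∈ Schi Q χ) :
    conjMul Q X hXN e ∈ Schi Q (twist (conjPerm (zen Q) X hXNZ) χ) := by
  obtain ⟨c, hc⟩ := he
  refine ⟨c, ?_⟩
  apply LinearMap.ext
  intro v
  apply Subtype.ext
  rw [rhoChi_apply, conjMul_apply]
  -- `X⁻¹ v` lies in the weight space of `χ`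
  have hXinv : ∀ i : zen Q, ((X⁻¹ : (Module.End K W)ˣ) : Module.End K W) * fam (zen Q) i =
      fam (zen Q) ((conjPerm (zen Q) X hXNZ).symm i) *
        ((X⁻¹ : (Module.End K W)ˣ) : Module.End K W) := by
    intro i
    have h1 := fam_twist (zen Q) X hXNZ ((conjPerm (zen Q) X hXNZ).symm i)
    rw [Equiv.apply_symm_apply] at h1
    calc ((X⁻¹ : (Module.End K W)ˣ) : Module.End K W) * fam (zen Q) i
        = ((X⁻¹ : (Module.End K W)ˣ) : Module.End K W) * (fam (zen Q) i * (X : Module.End K W)) *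
          ((X⁻¹ : (Module.End K W)ˣ) : Module.End K W) := by
          rw [mul_assoc, mul_assoc, Units.mul_inv, mul_one]
      _ = ((X⁻¹ : (Module.End K W)ˣ) : Module.End K W) * ((X : Module.End K W) *
          fam (zen Q) ((conjPerm (zen Q) X hXNZ).symm i)) *
          ((X⁻¹ : (Module.End K W)ˣ) : Module.End K W) := by rw [h1]
      _ = _ := by rw [← mul_assoc, Units.inv_mul, one_mul]
  have hv' : ((X⁻¹ : (Module.End K W)ˣ) : Module.End K W) (v : W) ∈ wt (fam (zen Q)) χ := by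
    have h2 := map_wt (f := fam (zen Q)) ((X⁻¹ : (Module.End K W)ˣ) : Module.End K W)
      (conjPerm (zen Q) X hXNZ).symm hXinv v.2
    have h3 : twist (conjPerm (zen Q) X hXNZ) χ ∘ ((conjPerm (zen Q) X hXNZ).symm).symm = χ := by
      funext i
      simp [twist]
    rwa [h3] at h2
  have h4 := congrArg (fun φ : Module.End K (wt (fam (zen Q)) χ) =>
    ((φ ⟨_, hv'⟩ : wt (fam (zen Q)) χ) : W)) hc
  simp only [rhoChi_apply, Module.algebraMap_end_apply, Submodule.coe_smul] at h4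
  rw [Units.val_mul, Units.val_mul, Module.End.mul_apply, Module.End.mul_apply, h4, map_smul,
    ← Module.End.mul_apply, Units.mul_inv, Module.End.one_apply]
  rfl

end Setup

section LemmaPchi

variable {K : Type uK} [Field K] {W : Type uW} [AddCommGroup W] [Module K W]
variable (Q : Subgroup (Module.End K W)ˣ) [Finite Q]

/-- **The product trick on a weight space.** -/
theorem mem_Schi_of_comm (q : ℕ) [Fact q.Prime] (hQ : IsPGroup q Q) (p : ℕ) (hp : p.Prime)
    (hpq : p ≠ q) (Y : (Module.End K W)ˣ)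
    (hYN : Y ∈ Subgroup.normalizer (Q : Set (Module.End K W)ˣ)) (hYp : Y ^ p = 1)
    (hYZ : ∀ z ∈ zen Q, Y * z = z * Y)
    (hi : ∀ e ∈ Q, ∀ f ∈ Q, ⁅e, f⁆ ∈ zen Q)
    (hiii : ∀ e ∈ Q, (Y * e * Y⁻¹)⁻¹ * e ∈ zen Q → e ∈ zen Q)
    (χ : zen Q → K) (e : Q) (he : e⁻¹ * conjMul Q Y hYN e ∈ Schi Q χ) : e ∈ Schi Q χ := by
  classical
  haveI : Fintype Q := Fintype.ofFinite Q
  have hcommY : ∀ i : zen Q, (Y : Module.End K W) * fam (zen Q) i =
      fam (zen Q) ((1 : Equiv.Perm (zen Q)) i) * (Y : Module.End K W) := by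
    intro i
    unfold fam
    rw [Equiv.Perm.one_apply, ← Units.val_mul, ← Units.val_mul, hYZ i i.2]
  have hcommY' : ∀ i : zen Q, ((Y⁻¹ : (Module.End K W)ˣ) : Module.End K W) * fam (zen Q) i =
      fam (zen Q) ((1 : Equiv.Perm (zen Q)) i) * ((Y⁻¹ : (Module.End K W)ˣ) : Module.End K W) := by
    intro i
    unfold fam
    rw [Equiv.Perm.one_apply, ← Units.val_mul, ← Units.val_mul]
    congr 1
    have := hYZ i i.2
    calc Y⁻¹ * (i : (Module.End K W)ˣ) = Y⁻¹ * ((i : (Module.End K W)ˣ) * Y) * Y⁻¹ := by group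
      _ = Y⁻¹ * (Y * (i : (Module.End K W)ˣ)) * Y⁻¹ := by rw [this]
      _ = (i : (Module.End K W)ˣ) * Y⁻¹ := by group
  have hU : ∀ w ∈ wt (fam (zen Q)) χ, (Y : Module.End K W) w ∈ wt (fam (zen Q)) χ := by
    intro w hw
    have := map_wt (f := fam (zen Q)) (Y : Module.End K W) 1 hcommY hw
    exact this
  have hU' : ∀ w ∈ wt (fam (zen Q)) χ,
      ((Y⁻¹ : (Module.End K W)ˣ) : Module.End K W) w ∈ wt (fam (zen Q)) χ := by
    intro w hw
    have := map_wt (f := fam (zen Q)) ((Y⁻¹ : (Module.End K W)ˣ) : Module.End K W) 1 hcommY' hw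
    exact this
  set Y₁ := resUnit Y (wt (fam (zen Q)) χ) hU hU' with hY₁
  set y := conjMul Q Y hYN with hy
  have hTw : Twists (rhoChi Q χ) Y₁ y := by
    intro e
    apply LinearMap.ext
    intro v
    apply Subtype.ext
    have e3 : ((Y⁻¹ : (Module.End K W)ˣ) : Module.End K W) ((Y : Module.End K W) (v : W)) =
        (v : W) := by
      rw [← Module.End.mul_apply, Units.inv_mul, Module.End.one_apply]
    show (Y : Module.End K W) (((e : (Module.End K W)ˣ) : Module.End K W) (v : W)) =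
      (((y e : Q) : (Module.End K W)ˣ) : Module.End K W) ((Y : Module.End K W) (v : W))
    rw [hy, conjMul_apply, Units.val_mul, Units.val_mul, Module.End.mul_apply,
      Module.End.mul_apply, e3]
  have hyp : ∀ e, (y ^ p) e = e := by
    intro e
    apply Subtype.ext
    rw [hy, conjMul_pow_apply, hYp]
    simp
  have hq : q.Prime := Fact.out
  obtain ⟨j, hj⟩ := IsPGroup.iff_card.1 hQ
  refine isScal_of_isScal_comm (rhoChi Q χ) y Y₁ hTw p hyp ((zen Q).subgroupOf Q) ?_ ?_ ?_ e he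
    (Nat.card Q) (pow_card_eq_one') ?_
  · intro e f
    rw [Subgroup.mem_subgroupOf]
    have := hi e e.2 f f.2
    exact this
  · intro z hz
    rw [Subgroup.mem_subgroupOf] at hz
    exact ⟨_, rhoChi_zen Q χ z hz⟩
  · intro e he'
    rw [Subgroup.mem_subgroupOf] at he' ⊢
    apply hiii e e.2
    have : (((y e)⁻¹ * e : Q) : (Module.End K W)ˣ) = (Y * e * Y⁻¹)⁻¹ * e := by
      rw [Subgroup.coe_mul, Subgroup.coe_inv, hy, conjMul_apply]
    rwa [this] at he'
  · rw [hj]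
    exact Nat.Coprime.pow_right _ ((Nat.coprime_primes hp hq).2 hpq)

end LemmaPchi

section SpecialS

variable {K : Type uK} [Field K] [IsAlgClosed K] {W : Type uW} [AddCommGroup W] [Module K W]
  [FiniteDimensional K W]

theorem special_caseS (p q : ℕ) [Fact p.Prime] [Fact q.Prime] (hpq : p ≠ q) (hp2 : p ≠ 2)
    (hpK : (p : K) ≠ 0) (hqK : (q : K) ≠ 0)
    (Q : Subgroup (Module.End K W)ˣ) [Finite Q] (hQ : IsPGroup q Q)
    (X : (Module.End K W)ˣ) (hXQ : ∀ e ∈ Q, X * e * X⁻¹ ∈ Q) (n : ℕ) (hn : 1 ≤ n)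
    (hXn : X ^ (p ^ n) = 1)
    (hY : ∃ t ∈ Q, X ^ (p ^ (n - 1)) * t ≠ t * X ^ (p ^ (n - 1)))
    (hi : ∀ e ∈ Q, ∀ f ∈ Q, ⁅e, f⁆ ∈ zen Q)
    (hii : ∀ z ∈ zen Q, X ^ (p ^ (n - 1)) * z = z * X ^ (p ^ (n - 1)))
    (hiii : ∀ e ∈ Q, (X ^ (p ^ (n - 1)) * e * (X ^ (p ^ (n - 1)))⁻¹)⁻¹ * e ∈ zen Q → e ∈ zen Q)
    (hfpfQ : ∀ e ∈ Q, X * e * X⁻¹ = e → e = 1) :
    ∃ w : W, w ≠ 0 ∧ (X : Module.End K W) w = w := by
  classical
  by_contra hno
  push Not at hno
  have hp : p.Prime := Fact.out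
  have hq : q.Prime := Fact.out
  have hNpos : 0 < p ^ n := pos_of_ne_zero (pow_ne_zero _ hp.ne_zero)
  have hXN : X ∈ Subgroup.normalizer (Q : Set (Module.End K W)ˣ) :=
    mem_normalizer_of_pow_eq_one Q X (p ^ n) hNpos hXn hXQ
  set Y := X ^ (p ^ (n - 1)) with hYdef
  have hYN : Y ∈ Subgroup.normalizer (Q : Set (Module.End K W)ˣ) := Subgroup.pow_mem _ hXN _
  have hYp : Y ^ p = 1 := by
    rw [hYdef, ← pow_mul, ← pow_succ, Nat.sub_add_cancel hn, hXn]
  set Z := zen Q with hZdef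
  have hZle : Z ≤ Q := zen_le Q
  haveI : Finite Z := Finite.of_injective (Subgroup.inclusion hZle) (Subgroup.inclusion_injective _)
  have hZq : IsPGroup q Z := hQ.to_le hZle
  have hZab : ∀ a ∈ Z, ∀ b ∈ Z, a * b = b * a := by
    intro a ha b hb
    exact (mem_zen.1 hb).2 a (hZle ha)
  have hXZ : ∀ z ∈ Z, X * z * X⁻¹ ∈ Z := conj_mem_zen Q X hXN
  have hXNZ : X ∈ Subgroup.normalizer (Z : Set (Module.End K W)ˣ) :=
    mem_normalizer_of_pow_eq_one Z X (p ^ n) hNpos hXn hXZ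
  set σ := conjPerm Z X hXNZ with hσ
  set f := fam Z with hf
  have hcomm : ∀ i j, Commute (f i) (f j) := fam_commute Z hZab
  have htop : ⨆ χ, wt f χ = ⊤ := iSup_wt_eq_top f hcomm (fam_semisimple Z hZq hqK)
  have hXf : ∀ i, (X : Module.End K W) * f i = f (σ i) * (X : Module.End K W) :=
    fam_twist Z X hXNZ
  set π := twist (K := K) σ with hπ
  have hσY : σ ^ (p ^ (n - 1)) = 1 := by
    apply Equiv.ext
    intro a
    apply Subtype.ext
    rw [hσ, conjPerm_pow_apply, ← hYdef, hii a a.2]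
    simp
  have hπY : ∀ χ : Z → K, π^[p ^ (n - 1)] χ = χ := by
    intro χ
    rw [hπ, twist_iterate, hσY]
    rfl
  -- choose the weight
  obtain ⟨t, htQ, ht⟩ := hY
  obtain ⟨μ, w, hwμ, hw⟩ : ∃ μ : Z → K, ∃ w ∈ wt f μ,
      ((Y * t : (Module.End K W)ˣ) : Module.End K W) w ≠
        ((t * Y : (Module.End K W)ˣ) : Module.End K W) w := by
    by_contra hcon
    push Not at hcon
    apply ht
    apply Units.ext
    exact ext_of_wt htop hcon
  have hw0 : w ≠ 0 := by
    rintro rfl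
    apply hw
    rw [map_zero, map_zero]
  obtain ⟨a, han, hmp⟩ := prime_pow_period π μ p (n - 1) hp (hπY μ)
  have hper : π^[p ^ a] μ = μ := by
    have := Function.isPeriodicPt_minimalPeriod π μ
    rw [hmp] at this
    exact this
  have hinj : ∀ i < p ^ a, ∀ j < p ^ a, π^[i] μ = π^[j] μ → i = j := by
    intro i hi j hj hij
    have := Function.iterate_injOn_Iio_minimalPeriod (f := π) (x := μ)
    rw [hmp] at this
    exact this (Set.mem_Iio.2 hi) (Set.mem_Iio.2 hj) hij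
  have htpos : 0 < p ^ a := pos_of_ne_zero (pow_ne_zero _ hp.ne_zero)
  set U := wt f μ with hUdef
  set n₁ := n - a with hn₁
  have hn₁pos : 1 ≤ n₁ := by omega
  have hna : n₁ + a = n := by omega
  set Xt := X ^ (p ^ a) with hXt
  have hXtval : (Xt : Module.End K W) = (X : Module.End K W) ^ (p ^ a) := by
    rw [hXt, Units.val_pow_eq_pow_val]
  have hXtpow : Xt ^ (p ^ n₁) = 1 := by
    rw [hXt, ← pow_mul, ← pow_add, add_comm, hna, hXn]
  have hXtY : Xt ^ (p ^ (n₁ - 1)) = Y := by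
    rw [hXt, ← pow_mul, ← pow_add, hYdef]
    congr 2
    omega
  have hUX : ∀ w ∈ U, (Xt : Module.End K W) w ∈ U := by
    intro w hw
    rw [hXtval]
    have := map_pow_wt (X : Module.End K W) σ hXf (p ^ a) hw
    rwa [hper] at this
  have hUXpow : ∀ j : ℕ, ∀ w ∈ U, ((Xt ^ j : (Module.End K W)ˣ) : Module.End K W) w ∈ U := by
    intro j
    induction j with
    | zero => intro w hw; simpa using hw
    | succ j ih =>
      intro w hw
      rw [pow_succ', Units.val_mul, Module.End.mul_apply]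
      exact hUX _ (ih w hw)
  have hUX' : ∀ w ∈ U, ((Xt⁻¹ : (Module.End K W)ˣ) : Module.End K W) w ∈ U := by
    have h1 : Xt⁻¹ = Xt ^ (p ^ n₁ - 1) := by
      apply inv_eq_of_mul_eq_one_right
      rw [← pow_succ', Nat.sub_add_cancel (pos_of_ne_zero (pow_ne_zero _ hp.ne_zero)), hXtpow]
    rw [h1]
    exact hUXpow _
  -- no fixed vectors on `U`
  have hfixU : ∀ v ∈ U, (Xt : Module.End K W) v = v → v = 0 := by
    intro v hv hXv
    by_contra hv0
    obtain ⟨w', hw'0, hw'⟩ := exists_fixed_of_orbit hcomm (X : Module.End K W) σ hXf μ (p ^ a)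
      htpos hinj v hv hv0 (by rw [← hXtval]; exact hXv)
    exact hno w' hw'0 hw'
  set ρ := rhoChi Q μ with hρ
  set X₁ := resUnit Xt U hUX hUX' with hX₁
  have hX₁pow : X₁ ^ (p ^ n₁) = 1 := by
    apply Units.ext
    apply LinearMap.ext
    intro v
    apply Subtype.ext
    rw [hX₁, resUnit_pow_apply, hXtpow]
    rfl
  have hfix₁ : ∀ v : U, (X₁ : Module.End K U) v = v → v = 0 := by
    intro v hv
    apply Subtype.ext
    apply hfixU v v.2
    have := congrArg Subtype.val hv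
    rwa [hX₁, resUnit_apply] at this
  have hXtN : Xt ∈ Subgroup.normalizer (Q : Set (Module.End K W)ˣ) := by
    rw [hXt]; exact Subgroup.pow_mem _ hXN _
  haveI : Fintype Q := Fintype.ofFinite Q
  set τ := conjMul Q Xt hXtN with hτ
  set y := conjMul Q Y hYN with hy
  have hτy : ∀ e : Q, (τ ^ (p ^ (n₁ - 1))) e = y e := by
    intro e
    apply Subtype.ext
    rw [hτ, conjMul_pow_apply, hXtY, hy, conjMul_apply]
  have hτN : ∀ e : Q, (τ ^ (p ^ n₁)) e = e := by
    intro e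
    apply Subtype.ext
    rw [hτ, conjMul_pow_apply, hXtpow]
    simp
  have hTw : Twists ρ X₁ τ := by
    intro e
    apply LinearMap.ext
    intro v
    apply Subtype.ext
    have e3 : ((Xt⁻¹ : (Module.End K W)ˣ) : Module.End K W) ((Xt : Module.End K W) (v : W)) =
        (v : W) := by
      rw [← Module.End.mul_apply, Units.inv_mul, Module.End.one_apply]
    show (Xt : Module.End K W) (((e : (Module.End K W)ˣ) : Module.End K W) (v : W)) =
      (((τ e : Q) : (Module.End K W)ˣ) : Module.End K W) ((Xt : Module.End K W) (v : W))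
    rw [hτ, conjMul_apply, Units.val_mul, Units.val_mul, Module.End.mul_apply,
      Module.End.mul_apply, e3]
  -- the product trick
  have hP : ∀ (χ : Z → K) (e : Q), e⁻¹ * y e ∈ Schi Q χ → e ∈ Schi Q χ := by
    intro χ e he
    exact mem_Schi_of_comm Q q hQ p hp hpq Y hYN hYp hii hi hiii χ e he
  have hSdef : scalSubgroup ρ = Schi Q μ := rfl
  obtain ⟨j, hj⟩ := IsPGroup.iff_card.1 hQ
  have hE : (Fintype.card Q : K) ≠ 0 := by
    rw [← Nat.card_eq_fintype_card, hj, Nat.cast_pow]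
    exact pow_ne_zero _ hqK
  -- commuting elements
  have hcommρ : ∀ e f' : Q, ρ ⁅e, f'⁆ = 1 → ρ e * ρ f' = ρ f' * ρ e := by
    intro e f' h1
    have h2 : e * f' = ⁅e, f'⁆ * f' * e := by rw [commutatorElement_def]; group
    rw [← map_mul, h2, map_mul, map_mul, h1, one_mul]
  -- the centralizer of `ρ Q`
  let C : Subgroup Q :=
    { carrier := {x | ∀ f' : Q, ρ x * ρ f' = ρ f' * ρ x}
      one_mem' := by intro f'; simp
      mul_mem' := by
        intro x x' hx hx' f'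
        rw [map_mul, mul_assoc, hx' f', ← mul_assoc, hx f', mul_assoc]
      inv_mem' := by
        intro x hx f'
        have h1 := hx f'
        calc ρ x⁻¹ * ρ f' = ρ x⁻¹ * (ρ f' * ρ x) * ρ x⁻¹ := by
              rw [mul_assoc, mul_assoc, rho_mul_inv, mul_one]
          _ = ρ x⁻¹ * (ρ x * ρ f') * ρ x⁻¹ := by rw [h1]
          _ = ρ f' * ρ x⁻¹ := by rw [← mul_assoc, rho_inv_mul, one_mul] }
  have hCmem : ∀ x : Q, x ∈ C ↔ ∀ f' : Q, ρ x * ρ f' = ρ f' * ρ x := fun x => Iff.rfl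
  have hτC : ∀ x ∈ C, τ x ∈ C := by
    intro x hx f'
    have h1 := hx (τ.symm f')
    have h2 := hTw.conj x
    have h3 := hTw.conj (τ.symm f')
    rw [MulEquiv.apply_symm_apply] at h3
    rw [h2, h3]
    calc (X₁ : Module.End K U) * ρ x * ((X₁⁻¹ : (Module.End K U)ˣ) : Module.End K U) *
          ((X₁ : Module.End K U) * ρ (τ.symm f') * ((X₁⁻¹ : (Module.End K U)ˣ) : Module.End K U))
        = (X₁ : Module.End K U) * (ρ x * ρ (τ.symm f')) *
          ((X₁⁻¹ : (Module.End K U)ˣ) : Module.End K U) := by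
          simp only [mul_assoc]
          rw [← mul_assoc ((X₁⁻¹ : (Module.End K U)ˣ) : Module.End K U), Units.inv_mul, one_mul]
      _ = (X₁ : Module.End K U) * (ρ (τ.symm f') * ρ x) *
          ((X₁⁻¹ : (Module.End K U)ˣ) : Module.End K U) := by rw [h1]
      _ = _ := by
          simp only [mul_assoc]
          rw [← mul_assoc ((X₁⁻¹ : (Module.End K U)ˣ) : Module.End K U), Units.inv_mul, one_mul]
  have hτCpow : ∀ (k : ℕ) (x : Q), x ∈ C → (τ ^ k) x ∈ C := fun k x hx =>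
    pow_mem_of_map_mem C τ hτC k x hx
  have hτsymm : ∀ x : Q, τ.symm x = (τ ^ (p ^ n₁ - 1)) x := by
    intro x
    apply τ.injective
    rw [MulEquiv.apply_symm_apply, ← MulAut.mul_apply, ← pow_succ',
      Nat.sub_add_cancel (pos_of_ne_zero (pow_ne_zero _ hp.ne_zero)), hτN]
  let σ' : Equiv.Perm C :=
    { toFun := fun x => ⟨τ x, hτC x x.2⟩
      invFun := fun x => ⟨τ.symm x, by rw [hτsymm]; exact hτCpow _ x x.2⟩
      left_inv := by intro x; apply Subtype.ext; simp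
      right_inv := by intro x; apply Subtype.ext; simp }
  have hσ'pow : ∀ (k : ℕ) (x : C), (((σ' ^ k) x : C) : Q) = (τ ^ k) x := by
    intro k
    induction k with
    | zero => intro x; simp
    | succ k ih =>
      intro x
      rw [pow_succ', Equiv.Perm.mul_apply, pow_succ', MulAut.mul_apply, ← ih]
      rfl
  let f' : C → Module.End K U := fun x => ρ x
  have hcomm' : ∀ i j, Commute (f' i) (f' j) := fun i j => i.2 j
  have hss' : ∀ i, (f' i).IsSemisimple := by
    intro i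
    apply isSemisimple_of_pow_eq_one (f' i) (Nat.card Q)
    · rw [hj, Nat.cast_pow]; exact pow_ne_zero _ hqK
    · show (ρ i) ^ (Nat.card Q) = 1
      rw [← map_pow, pow_card_eq_one', map_one]
  have hXf' : ∀ i, (X₁ : Module.End K U) * f' i = f' (σ' i) * (X₁ : Module.End K U) :=
    fun i => hTw i
  have hσ'n : σ' ^ (p ^ n₁) = 1 := by
    apply Equiv.ext
    intro x
    apply Subtype.ext
    rw [hσ'pow, hτN]
    rfl
  have hnomove : ∀ x : C, ρ (y x) = ρ x := by
    by_contra hm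
    push Not at hm
    obtain ⟨x, hx⟩ := hm
    have hm' : ∃ i, f' ((σ' ^ (p ^ (n₁ - 1))) i) ≠ f' i := by
      refine ⟨x, ?_⟩
      show ρ (((σ' ^ (p ^ (n₁ - 1))) x : C) : Q) ≠ ρ x
      rw [hσ'pow, hτy]
      exact hx
    obtain ⟨v, hv0, hv⟩ := exists_fixed_of_moved f' hcomm' hss' X₁ σ' hXf' p n₁ hp hn₁pos
      hX₁pow hσ'n hm'
    exact hv0 (hfix₁ v hv)
  -- the hypotheses of the count
  have hZscal : ∀ g : Q, (g : (Module.End K W)ˣ) ∈ Z → IsScal (ρ g) :=
    fun g hg => ⟨_, rhoChi_zen Q μ g hg⟩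
  have hHyp : Hyp ρ := by
    constructor
    · intro e f'
      apply hZscal
      exact hi e e.2 f' f'.2
    · intro e he
      have heC : e ∈ C := fun f' => hcommρ e f' (he f')
      have h1 := hnomove ⟨e, heC⟩
      have h2 : e⁻¹ * y e ∈ Schi Q μ := by
        show IsScal (ρ (e⁻¹ * y e))
        rw [map_mul, h1, rho_inv_mul]
        exact isScal_one
      exact hP μ e h2
  have hfpf : ∀ e, ((τ ^ (p ^ (n₁ - 1))) e)⁻¹ * e ∈ scalSubgroup ρ → e ∈ scalSubgroup ρ := by
    intro e he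
    rw [hτy] at he
    rw [hSdef] at he ⊢
    apply hP μ e
    have := (Schi Q μ).inv_mem he
    simpa using this
  haveI : Nontrivial U := ⟨⟨⟨w, hwμ⟩, 0, fun h => hw0 (congrArg Subtype.val h)⟩⟩
  obtain ⟨hle, ⟨m₀, hmod⟩, ⟨d, hsq⟩⟩ := thmS hHyp hE hTw p n₁ hp hn₁pos hpK hX₁pow hfpf hfix₁
  have htS : (⟨t, htQ⟩ : Q) ∉ scalSubgroup ρ := by
    rintro ⟨c, hc⟩
    apply hw
    have hYw : (Y : Module.End K W) w ∈ U := by
      have := hUXpow (p ^ (n₁ - 1)) w hwμ
      rwa [hXtY] at this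
    have h1 : ((t : (Module.End K W)ˣ) : Module.End K W) w = c • w :=
      congrArg (fun φ : Module.End K U => ((φ ⟨w, hwμ⟩ : U) : W)) hc
    have h2 : ((t : (Module.End K W)ˣ) : Module.End K W) ((Y : Module.End K W) w) =
        c • (Y : Module.End K W) w :=
      congrArg (fun φ : Module.End K U => ((φ ⟨_, hYw⟩ : U) : W)) hc
    rw [Units.val_mul, Units.val_mul, Module.End.mul_apply, Module.End.mul_apply, h1, h2, map_smul]
  have hI : 1 < (scalSubgroup ρ).index := by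
    have hne : scalSubgroup ρ ≠ ⊤ := by
      intro htop'
      apply htS
      rw [htop']
      trivial
    have h1 : (scalSubgroup ρ).index ≠ 1 := fun h => hne (Subgroup.index_eq_one.1 h)
    have h0 : (scalSubgroup ρ).index ≠ 0 := Subgroup.index_ne_zero_of_finite
    omega
  have hdvd : (scalSubgroup ρ).index ∣ q ^ j := by
    rw [← hj]; exact Subgroup.index_dvd_card _
  obtain ⟨hq2, m, hm1, hpk, hI2⟩ := exceptional_arith p n₁ q j _ d m₀ hp hp2 hq hsq hI hle hmod hdvd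
  -- the exceptional case: scalar subgroups along the orbit of `μ`
  set τX := conjMul Q X hXN with hτX
  let S : ℕ → Subgroup Q := fun i => Schi Q (π^[i] μ)
  have hS0 : S 0 = scalSubgroup ρ := rfl
  have hSstep : ∀ (i : ℕ) (e : Q), e ∈ S i → τX e ∈ S (i + 1) := by
    intro i e he
    have h1 := conj_mem_Schi Q X hXN hXNZ (π^[i] μ) e he
    show τX e ∈ Schi Q (π^[i + 1] μ)
    rw [Function.iterate_succ_apply']
    exact h1
  have hSper : S (p ^ a) = S 0 := by
    show Schi Q (π^[p ^ a] μ) = Schi Q (π^[0] μ)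
    rw [hper]
    rfl
  have hSidx : ∀ i, (S i).index ≤ (S 0).index := by
    intro i
    induction i with
    | zero => exact le_rfl
    | succ i ih =>
      have h1 : (S i).map (τX : Q →* Q) ≤ S (i + 1) := by
        rintro _ ⟨e, he, rfl⟩
        exact hSstep i e he
      have h2 : ((S i).map (τX : Q →* Q)).index = (S i).index := Subgroup.index_map_equiv (S i) τX
      have h3 := Subgroup.index_dvd_of_le h1
      have h4 : (S (i + 1)).index ≤ ((S i).map (τX : Q →* Q)).index :=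
        Nat.le_of_dvd (Nat.pos_of_ne_zero Subgroup.index_ne_zero_of_finite) h3
      omega
  set T : Subgroup Q := ⨅ i : Fin (p ^ a), S i with hT
  have hTmem : ∀ e : Q, e ∈ T ↔ ∀ i, i < p ^ a → e ∈ S i := by
    intro e
    rw [hT, Subgroup.mem_iInf]
    constructor
    · intro h i hi
      exact h ⟨i, hi⟩
    · intro h i
      exact h i i.2
  have hTX : ∀ e ∈ T, τX e ∈ T := by
    intro e he
    rw [hTmem] at he ⊢
    intro i hi
    rcases Nat.eq_zero_or_pos i with rfl | hipos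
    · rw [← hSper]
      have h1 := hSstep (p ^ a - 1) e (he _ (by omega))
      rwa [Nat.sub_add_cancel htpos] at h1
    · obtain ⟨i', rfl⟩ : ∃ i', i = i' + 1 := ⟨i - 1, by omega⟩
      exact hSstep i' e (he i' (by omega))
  have hτXN : ∀ e : Q, (τX ^ (p ^ n)) e = e := by
    intro e
    apply Subtype.ext
    rw [hτX, conjMul_pow_apply, hXn]
    simp
  have hτXY : ∀ e : Q, (τX ^ (p ^ (n - 1))) e = y e := by
    intro e
    apply Subtype.ext
    rw [hτX, conjMul_pow_apply, hy, conjMul_apply]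
  have hfpfT : ∀ e : Q, ((τX ^ (p ^ (n - 1))) e)⁻¹ * e ∈ T → e ∈ T := by
    intro e he
    rw [hτXY] at he
    rw [hTmem] at he ⊢
    intro i hi
    apply hP (π^[i] μ) e
    have := (S i).inv_mem (he i hi)
    simpa using this
  obtain ⟨m₁, hm₁⟩ := index_mod_subgroup T τX hTX p n hp hn hτXN hfpfT
  subst hq2
  have hTdvd : T.index ∣ 2 ^ j := by
    rw [← hj]; exact Subgroup.index_dvd_card _
  obtain ⟨d', -, hd'⟩ := (Nat.dvd_prime_pow Nat.prime_two).1 hTdvd
  have hTle : T ≤ S 0 := iInf_le _ (⟨0, htpos⟩ : Fin (p ^ a))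
  have hd'1 : 1 ≤ d' := by
    by_contra h0
    have h1 : d' = 0 := by omega
    rw [h1, pow_zero] at hd'
    have h2 : T = ⊤ := Subgroup.index_eq_one.1 hd'
    have h3 : S 0 = ⊤ := top_le_iff.1 (h2 ▸ hTle)
    rw [hS0] at h3
    rw [h3, Subgroup.index_top] at hI
    exact lt_irrefl _ hI
  have hlte : 2 * m * p ^ a ≤ d' := by
    apply lte_bound p n₁ m a d' hp hp2 hm1 hpk hd'1
    rw [hna, ← hd', ← hm₁]
    simp
  -- an element scalar on all other weight spaces but not on `U`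
  have hK1 : ∃ e₀ : Q, (∀ i, 0 < i → i < p ^ a → e₀ ∈ S i) ∧ e₀ ∉ S 0 := by
    by_contra hK
    push Not at hK
    set T' : Subgroup Q := ⨅ i : Fin (p ^ a - 1), S (i + 1) with hT'
    have hT'T : T' ≤ T := by
      intro e he
      rw [hT', Subgroup.mem_iInf] at he
      have h1 : ∀ i, 0 < i → i < p ^ a → e ∈ S i := by
        intro i hi0 hi
        obtain ⟨i', rfl⟩ : ∃ i', i = i' + 1 := ⟨i - 1, by omega⟩
        exact he ⟨i', by omega⟩
      rw [hTmem]
      intro i hi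
      rcases Nat.eq_zero_or_pos i with rfl | hipos
      · exact hK e h1
      · exact h1 i hipos hi
    have h1 : T.index ≤ T'.index :=
      Nat.le_of_dvd (Nat.pos_of_ne_zero Subgroup.index_ne_zero_of_finite)
        (Subgroup.index_dvd_of_le hT'T)
    have h2 : T'.index ≤ ∏ i : Fin (p ^ a - 1), (S (i + 1)).index := Subgroup.index_iInf_le _
    have h3 : ∏ i : Fin (p ^ a - 1), (S (i + 1)).index ≤ ∏ _i : Fin (p ^ a - 1), (S 0).index :=
      Finset.prod_le_prod' (fun i _ => hSidx _)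
    rw [Finset.prod_const, Finset.card_univ, Fintype.card_fin, hS0, hI2, ← pow_mul] at h3
    have h4 : 2 ^ d' ≤ 2 ^ (2 * m * (p ^ a - 1)) := by
      rw [← hd']
      exact h1.trans (h2.trans h3)
    have h5 : d' ≤ 2 * m * (p ^ a - 1) := (Nat.pow_le_pow_iff_right (by norm_num)).1 h4
    have h6 : 2 * m * (p ^ a - 1) < 2 * m * p ^ a := by
      apply Nat.mul_lt_mul_of_pos_left
      · omega
      · omega
    omega
  obtain ⟨e₀, he₀, he₀'⟩ := hK1
  have hns : ¬ IsScal (ρ e₀) := he₀'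
  obtain ⟨f₀, hf₀⟩ : ∃ f₀ : Q, ρ ⁅e₀, f₀⁆ ≠ 1 := by
    by_contra h
    push Not at h
    exact hns (hHyp.nd e₀ h)
  have hzZ : ((⁅e₀, f₀⁆ : Q) : (Module.End K W)ˣ) ∈ Z := hi e₀ e₀.2 f₀ f₀.2
  set zZ : Z := ⟨_, hzZ⟩ with hzZdef
  have hμz : μ zZ ≠ 1 := by
    intro h
    apply hf₀
    rw [hρ, rhoChi_zen Q μ _ hzZ, ← hzZdef, h, map_one]
  have hwtne : ∀ i, wt f (π^[i] μ) ≠ ⊥ := by
    intro i
    have h1 := map_pow_wt (X : Module.End K W) σ hXf i hwμ
    intro hb
    rw [hb, Submodule.mem_bot] at h1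
    apply hw0
    have h2 : ((X ^ i : (Module.End K W)ˣ) : Module.End K W) w = 0 := by
      rw [Units.val_pow_eq_pow_val]; exact h1
    have h3 := congrArg (((X ^ i)⁻¹ : (Module.End K W)ˣ) : Module.End K W) h2
    rwa [← Module.End.mul_apply, Units.inv_mul, Module.End.one_apply, map_zero] at h3
  have hχz : ∀ i, 0 < i → i < p ^ a → (π^[i] μ) zZ = 1 := by
    intro i hi0 hi
    obtain ⟨c, hc⟩ := he₀ i hi0 hi
    have hsc : IsScal (rhoChi Q (π^[i] μ) e₀) := ⟨c, hc⟩
    have h1 : rhoChi Q (π^[i] μ) ⁅e₀, f₀⁆ = 1 := by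
      rw [commutatorElement_def, map_mul, map_mul, map_mul, hsc.commute (rhoChi Q (π^[i] μ) f₀),
        mul_assoc (rhoChi Q (π^[i] μ) f₀), rho_mul_inv, mul_one, rho_mul_inv]
    rw [rhoChi_zen Q (π^[i] μ) _ hzZ] at h1
    obtain ⟨v, hv, hv0⟩ := (Submodule.ne_bot_iff _).1 (hwtne i)
    have h2 := congrArg (fun φ : Module.End K (wt (fam (zen Q)) (π^[i] μ)) =>
      ((φ ⟨v, hv⟩ : wt (fam (zen Q)) (π^[i] μ)) : W)) h1
    simp only [Module.algebraMap_end_apply, Submodule.coe_smul, Module.End.one_apply] at h2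
    have h3 : ((π^[i] μ) zZ - 1) • v = 0 := by rw [sub_smul, one_smul, h2, sub_self]
    rcases smul_eq_zero.1 h3 with h4 | h4
    · exact sub_eq_zero.1 h4
    · exact absurd h4 hv0
  let Φ : Z → K := fun z' => ∏ i ∈ Finset.range (p ^ a), (π^[i] μ) z'
  have hΦz : Φ zZ = μ zZ := by
    show ∏ i ∈ Finset.range (p ^ a), (π^[i] μ) zZ = μ zZ
    rw [Finset.prod_eq_single 0]
    · rfl
    · intro i hi hi0
      exact hχz i (Nat.pos_of_ne_zero hi0) (Finset.mem_range.1 hi)
    · intro h0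
      exact absurd (Finset.mem_range.2 htpos) h0
  have hΦmul : ∀ z₁ z₂ : Z, Φ (z₁ * z₂) = Φ z₁ * Φ z₂ := by
    intro z₁ z₂
    show ∏ i ∈ Finset.range (p ^ a), (π^[i] μ) (z₁ * z₂) = _
    rw [← Finset.prod_mul_distrib]
    apply Finset.prod_congr rfl
    intro i _
    exact wt_fam_mul Z (π^[i] μ) (hwtne i) z₁ z₂
  have hΦone : Φ 1 = 1 := by
    show ∏ i ∈ Finset.range (p ^ a), (π^[i] μ) 1 = 1
    apply Finset.prod_eq_one
    intro i _
    exact wt_fam_one Z (π^[i] μ) (hwtne i)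
  have hΦσ : ∀ z' : Z, Φ (σ z') = Φ z' := fun z' => prod_twist_invariant σ μ (p ^ a) htpos hper z'
  -- `w ↦ w⁻¹ σ w` is onto
  set σZ := conjMul Z X hXNZ with hσZ
  have hσσZ : ∀ z' : Z, σ z' = σZ z' := fun z' => rfl
  have hginj : Function.Injective (fun w' : Z => w'⁻¹ * σZ w') := by
    intro w₁ w₂ h12
    have h12' : w₁⁻¹ * σZ w₁ = w₂⁻¹ * σZ w₂ := h12
    have h1 : σZ (w₁ * w₂⁻¹) = w₁ * w₂⁻¹ := by
      rw [map_mul, map_inv]
      have : σZ w₁ = w₁ * w₂⁻¹ * σZ w₂ := by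
        calc σZ w₁ = w₁ * (w₁⁻¹ * σZ w₁) := by group
          _ = w₁ * (w₂⁻¹ * σZ w₂) := by rw [h12']
          _ = w₁ * w₂⁻¹ * σZ w₂ := by group
      rw [this]
      group
    have h2 : X * ((w₁ * w₂⁻¹ : Z) : (Module.End K W)ˣ) * X⁻¹ = ((w₁ * w₂⁻¹ : Z) : (Module.End K W)ˣ) := by
      have := congrArg Subtype.val h1
      rwa [hσZ, conjMul_apply] at this
    have h3 := hfpfQ _ (hZle (w₁ * w₂⁻¹ : Z).2) h2
    have h4 : w₁ * w₂⁻¹ = 1 := Subtype.ext h3
    exact mul_inv_eq_one.1 h4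
  have hgsurj := Finite.injective_iff_surjective.1 hginj
  obtain ⟨w', hw'⟩ := hgsurj zZ
  have hw'' : w'⁻¹ * σ w' = zZ := hw'
  apply hμz
  rw [← hΦz, ← hw'', hΦmul, hΦσ, ← hΦmul, inv_mul_cancel, hΦone]

end SpecialS

section MainS

variable {K : Type uK} [Field K] [IsAlgClosed K] {W : Type uW} [AddCommGroup W] [Module K W]
  [FiniteDimensional K W]

theorem abelian_caseS (p q : ℕ) [Fact p.Prime] [Fact q.Prime] (hqK : (q : K) ≠ 0)
    (Q : Subgroup (Module.End K W)ˣ) [Finite Q] (hQ : IsPGroup q Q)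
    (hab : ∀ a ∈ Q, ∀ b ∈ Q, a * b = b * a)
    (X : (Module.End K W)ˣ) (hXQ : ∀ e ∈ Q, X * e * X⁻¹ ∈ Q) (n : ℕ) (hn : 1 ≤ n)
    (hXn : X ^ (p ^ n) = 1)
    (hY : ∃ t ∈ Q, X ^ (p ^ (n - 1)) * t ≠ t * X ^ (p ^ (n - 1))) :
    ∃ w : W, w ≠ 0 ∧ (X : Module.End K W) w = w := by
  classical
  have hp : p.Prime := Fact.out
  have hNpos : 0 < p ^ n := pos_of_ne_zero (pow_ne_zero _ hp.ne_zero)
  have hXN : X ∈ Subgroup.normalizer (Q : Set (Module.End K W)ˣ) :=
    mem_normalizer_of_pow_eq_one Q X (p ^ n) hNpos hXn hXQ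
  set σ := conjPerm Q X hXN with hσ
  have hσN : σ ^ (p ^ n) = 1 := by
    apply Equiv.ext
    intro a
    apply Subtype.ext
    rw [hσ, conjPerm_pow_apply, hXn]
    simp
  obtain ⟨t, htQ, ht⟩ := hY
  apply exists_fixed_of_moved (fam Q) (fam_commute Q hab) (fam_semisimple Q hQ hqK) X σ
    (fam_twist Q X hXN) p n hp hn hXn hσN
  refine ⟨⟨t, htQ⟩, ?_⟩
  intro h
  apply ht
  have h1 : ((σ ^ (p ^ (n - 1))) ⟨t, htQ⟩ : Q) = ⟨t, htQ⟩ := by
    apply Subtype.ext
    apply Units.ext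
    exact h
  have h2 := congrArg Subtype.val h1
  rw [hσ, conjPerm_pow_apply] at h2
  calc X ^ p ^ (n - 1) * t = X ^ p ^ (n - 1) * t * (X ^ p ^ (n - 1))⁻¹ * X ^ p ^ (n - 1) := by
        group
    _ = t * X ^ p ^ (n - 1) := by rw [h2]

/-- **Theorem SG** (coprime Hall–Higman–Shult for an operator of odd prime power order acting
without fixed points on `Q`). -/
theorem thmSG (p q : ℕ) [Fact p.Prime] [Fact q.Prime] (hpq : p ≠ q) (hp2 : p ≠ 2)
    (hpK : (p : K) ≠ 0) (hqK : (q : K) ≠ 0)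
    (Q : Subgroup (Module.End K W)ˣ) [Finite Q] (hQ : IsPGroup q Q)
    (X : (Module.End K W)ˣ) (hXQ : ∀ e ∈ Q, X * e * X⁻¹ ∈ Q) (n : ℕ) (hn : 1 ≤ n)
    (hXn : X ^ (p ^ n) = 1)
    (hY : ∃ t ∈ Q, X ^ (p ^ (n - 1)) * t ≠ t * X ^ (p ^ (n - 1)))
    (hfpfQ : ∀ e ∈ Q, X * e * X⁻¹ = e → e = 1) :
    ∃ w : W, w ≠ 0 ∧ (X : Module.End K W) w = w := by
  classical
  have hp : p.Prime := Fact.out
  have hNpos : 0 < p ^ n := pos_of_ne_zero (pow_ne_zero _ hp.ne_zero)
  let 𝒮 : Set (Subgroup (Module.End K W)ˣ) := {Q₁ | Q₁ ≤ Q ∧ (∀ e ∈ Q₁, X * e * X⁻¹ ∈ Q₁) ∧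
    ∃ t ∈ Q₁, X ^ (p ^ (n - 1)) * t ≠ t * X ^ (p ^ (n - 1))}
  have hQ𝒮 : Q ∈ 𝒮 := ⟨le_rfl, hXQ, hY⟩
  obtain ⟨Q₁, hQ₁𝒮, hQ₁min⟩ := WellFounded.has_min
    (measure (fun Q₁ : Subgroup (Module.End K W)ˣ => Nat.card Q₁)).wf 𝒮 ⟨Q, hQ𝒮⟩
  obtain ⟨hQ₁le, hXQ₁, hY₁⟩ := hQ₁𝒮
  haveI : Finite Q₁ :=
    Finite.of_injective (Subgroup.inclusion hQ₁le) (Subgroup.inclusion_injective _)
  have hQ₁q : IsPGroup q Q₁ := hQ.to_le hQ₁le
  have hfpf₁ : ∀ e ∈ Q₁, X * e * X⁻¹ = e → e = 1 := fun e he => hfpfQ e (hQ₁le he)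
  have hmin : ∀ Q₂ : Subgroup (Module.End K W)ˣ, Q₂ < Q₁ → (∀ e ∈ Q₂, X * e * X⁻¹ ∈ Q₂) →
      ∀ t ∈ Q₂, X ^ (p ^ (n - 1)) * t = t * X ^ (p ^ (n - 1)) := by
    intro Q₂ hlt hX₂
    by_contra hcon
    push Not at hcon
    have h𝒮 : Q₂ ∈ 𝒮 := ⟨hlt.le.trans hQ₁le, hX₂, hcon⟩
    apply hQ₁min Q₂ h𝒮
    show Nat.card Q₂ < Nat.card Q₁
    by_contra hge
    push Not at hge
    exact (ne_of_lt hlt) (Subgroup.eq_of_le_of_card_ge hlt.le hge)
  by_cases hab : ∀ e ∈ Q₁, ∀ f ∈ Q₁, e * f = f * e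
  · exact abelian_caseS p q hqK Q₁ hQ₁q hab X hXQ₁ n hn hXn hY₁
  · push Not at hab
    have hXN : X ∈ Subgroup.normalizer (Q₁ : Set (Module.End K W)ˣ) :=
      mem_normalizer_of_pow_eq_one Q₁ X (p ^ n) hNpos hXn hXQ₁
    have hYX : X ^ (p ^ (n - 1)) ∈ Subgroup.zpowers X := Subgroup.npow_mem_zpowers X _
    have hYm : (X ^ (p ^ (n - 1))) ^ (p ^ n) = 1 := by
      rw [← pow_mul, mul_comm, pow_mul, hXn, one_pow]
    have hmq : Nat.Coprime (p ^ n) q :=
      Nat.Coprime.pow_left _ ((Nat.coprime_primes hp (Fact.out : q.Prime)).2 hpq)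
    obtain ⟨hi, hii, hiii⟩ := minimal_structure Q₁ hQ₁q X (X ^ (p ^ (n - 1))) hXN hYX (p ^ n) hYm
      hmq hmin hY₁ hab
    exact special_caseS p q hpq hp2 hpK hqK Q₁ hQ₁q X hXQ₁ n hn hXn hY₁ hi hii hiii hfpf₁

end MainS

end Cfsg.Agent.Lib.Helper56.HHS
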