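import Cfsg.Agent.Lib.Helper56.FrobFBFinal
import Cfsg.Agent.Lib.Helper56.HHSReduce
import Cfsg.Agent.Lib.Helper56.HHCentral

/-!
# The Frobenius lemma (Lemma FB)

An `s`-group `M` acting on `U`; a group `𝓡` of order prime to `s` acting on `M` through commuting
automorphisms; an automorphism `β` of `M` of prime order `c`, implemented on `U` by a fixed point
free operator `D`, inducing a fixed point free automorphism `θ` of `𝓡`.  Then `[M, 𝓡]` acts
trivially on `U`.
-/

set_option autoImplicit false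
set_option linter.unusedSectionVars false
set_option linter.style.haveILetI false

open scoped commutatorElement

namespace Cfsg.Agent.Lib.Helper56.FrobFB

open Module
open Cfsg.Agent.Lib.Helper56
open Cfsg.Agent.Lib.Helper56.HH
open Cfsg.Agent.Lib.Helper56.HHB
open Cfsg.Agent.Lib.Helper56.HHS

universe u v uK uW

section Restrict

variable {M : Type u} [Group M] {𝓡 : Type v} [Group 𝓡]

/-- restriction of an action by automorphisms to an invariant subgroup -/
def restrictAutHom (ψ : 𝓡 →* MulAut M) (M₀ : Subgroup M) (h : ∀ y x, ψ y x ∈ M₀ ↔ x ∈ M₀) :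
    𝓡 →* MulAut ↥M₀ where
  toFun := fun y => SG.restrictAut (ψ y) M₀ (h y)
  map_one' := by
    ext m
    rw [SG.restrictAut_apply, map_one]
    rfl
  map_mul' := by
    intro y y'
    ext m
    rw [SG.restrictAut_apply, map_mul]
    rfl

@[simp] theorem restrictAutHom_apply (ψ : 𝓡 →* MulAut M) (M₀ : Subgroup M)
    (h : ∀ y x, ψ y x ∈ M₀ ↔ x ∈ M₀) (y : 𝓡) (m : M₀) :
    ((restrictAutHom ψ M₀ h y m : M₀) : M) = ψ y m := rfl

end Restrict

section Data

variable {K : Type uK} [Field K] {𝓡 : Type v} [Group 𝓡]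

/-- the hypotheses of the Frobenius lemma -/
structure FBData (c : ℕ) (θ : MulAut 𝓡) {M : Type u} [Group M] {U : Type uW} [AddCommGroup U]
    [Module K U] (ρ : M →* Module.End K U) (ψ : 𝓡 →* MulAut M) (β : MulAut M)
    (T : 𝓡 →* Module.End K U) (D : Module.End K U) : Prop where
  Dc : D ^ c = 1
  βc : β ^ c = 1
  hD : ∀ x, D * ρ x = ρ (β x) * D
  hT : ∀ y x, T y * ρ x = ρ (ψ y x) * T y
  βψ : ∀ y, β * ψ y * β⁻¹ = ψ (θ y)
  ab : ∀ y y', ψ y * ψ y' = ψ y' * ψ y
  fix : ∀ w, D w = w → w = 0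

/-- the claim, for groups of order at most `n` -/
def FBClaim (K : Type uK) [Field K] (s c : ℕ) {𝓡 : Type v} [Group 𝓡] (θ : MulAut 𝓡) (n : ℕ) :
    Prop :=
  ∀ (M : Type u) [Group M] [Finite M], Nat.card M ≤ n → IsPGroup s M →
    ∀ (U : Type uW) [AddCommGroup U] [Module K U] [FiniteDimensional K U]
      (ρ : M →* Module.End K U) (ψ : 𝓡 →* MulAut M) (β : MulAut M)
      (T : 𝓡 →* Module.End K U) (D : Module.End K U),
      FBData c θ ρ ψ β T D → ∀ y x, ρ (ψ y x) = ρ x

variable {c : ℕ} {θ : MulAut 𝓡} {M : Type u} [Group M] {U : Type uW} [AddCommGroup U]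
  [Module K U] {ρ : M →* Module.End K U} {ψ : 𝓡 →* MulAut M} {β : MulAut M}
  {T : 𝓡 →* Module.End K U} {D : Module.End K U}

theorem FBData.T_mul_inv (_h : FBData c θ ρ ψ β T D) (y : 𝓡) : T y * T y⁻¹ = 1 := by
  rw [← map_mul, mul_inv_cancel, map_one]

theorem FBData.T_inv_mul (_h : FBData c θ ρ ψ β T D) (y : 𝓡) : T y⁻¹ * T y = 1 := by
  rw [← map_mul, inv_mul_cancel, map_one]

theorem FBData.rho_psi (h : FBData c θ ρ ψ β T D) (y : 𝓡) (x : M) :
    ρ (ψ y x) = T y * ρ x * T y⁻¹ := by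
  rw [h.hT, mul_assoc, h.T_mul_inv, mul_one]

theorem FBData.ker_psi (h : FBData c θ ρ ψ β T D) (y : 𝓡) (x : M) :
    ψ y x ∈ ρ.ker ↔ x ∈ ρ.ker := by
  rw [MonoidHom.mem_ker, MonoidHom.mem_ker, h.rho_psi]
  constructor
  · intro h1
    have h2 : ρ x = T y⁻¹ * (T y * ρ x * T y⁻¹) * T y := by
      rw [mul_assoc, mul_assoc, h.T_inv_mul, mul_one, ← mul_assoc, h.T_inv_mul, one_mul]
    rw [h2, h1, mul_one, h.T_inv_mul]
  · intro h1
    rw [h1, mul_one, h.T_mul_inv]

theorem FBData.D_unit (h : FBData c θ ρ ψ β T D) (hc : c ≠ 0) :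
    ∃ XD : (Module.End K U)ˣ, (XD : Module.End K U) = D ∧ XD ^ c = 1 := by
  refine ⟨Units.ofPowEqOne D c h.Dc hc, Units.val_ofPowEqOne _ _ _ _, ?_⟩
  apply Units.ext
  rw [Units.val_pow_eq_pow_val, Units.val_ofPowEqOne, h.Dc, Units.val_one]

theorem FBData.ker_beta (h : FBData c θ ρ ψ β T D) (hc : c ≠ 0) (x : M) :
    β x ∈ ρ.ker ↔ x ∈ ρ.ker := by
  obtain ⟨XD, hXD, -⟩ := h.D_unit hc
  have hconj : ρ (β x) = (XD : Module.End K U) * ρ x *
      ((XD⁻¹ : (Module.End K U)ˣ) : Module.End K U) := by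
    rw [hXD, h.hD, mul_assoc, ← hXD, Units.mul_inv, mul_one]
  rw [MonoidHom.mem_ker, MonoidHom.mem_ker, hconj]
  constructor
  · intro h1
    have h2 : ρ x = ((XD⁻¹ : (Module.End K U)ˣ) : Module.End K U) *
        ((XD : Module.End K U) * ρ x * ((XD⁻¹ : (Module.End K U)ˣ) : Module.End K U)) *
        (XD : Module.End K U) := by
      rw [mul_assoc, mul_assoc, Units.inv_mul, mul_one, ← mul_assoc, Units.inv_mul, one_mul]
    rw [h2, h1, mul_one, Units.inv_mul]
  · intro h1
    rw [h1, mul_one, Units.mul_inv]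

end Data

section Steps

variable {K : Type uK} [Field K] {𝓡 : Type v} [Group 𝓡] {s c : ℕ} {θ : MulAut 𝓡}


/-- passing to the quotient by the kernel -/
theorem quot_step (hc : c.Prime) (n : ℕ) (IH : FBClaim.{u, v, uK, uW} K s c θ n)
    {M : Type u} [Group M] [Finite M] (hcard : Nat.card M ≤ n + 1) (hM : IsPGroup s M)
    {U : Type uW} [AddCommGroup U] [Module K U] [FiniteDimensional K U]
    {ρ : M →* Module.End K U} {ψ : 𝓡 →* MulAut M} {β : MulAut M}
    {T : 𝓡 →* Module.End K U} {D : Module.End K U} (h : FBData c θ ρ ψ β T D)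
    (hninj : ¬ Function.Injective ρ) : ∀ y x, ρ (ψ y x) = ρ x := by
  have hker : ρ.ker ≠ ⊥ := fun hk => hninj ((MonoidHom.ker_eq_bot_iff ρ).1 hk)
  have hlt : Nat.card (M ⧸ ρ.ker) ≤ n := by
    have h1 := Subgroup.card_eq_card_quotient_mul_card_subgroup ρ.ker
    have h2 : 1 < Nat.card ρ.ker := (Subgroup.one_lt_card_iff_ne_bot _).2 hker
    have h3 : 0 < Nat.card (M ⧸ ρ.ker) := Nat.card_pos
    nlinarith
  have hkψ : ∀ y x, ψ y x ∈ ρ.ker ↔ x ∈ ρ.ker := h.ker_psi
  have hkβ : ∀ x, β x ∈ ρ.ker ↔ x ∈ ρ.ker := h.ker_beta hc.ne_zero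
  let ρ' : M ⧸ ρ.ker →* Module.End K U := QuotientGroup.lift ρ.ker ρ le_rfl
  let ψ' : 𝓡 →* MulAut (M ⧸ ρ.ker) := WardG.quotAutHom ψ ρ.ker hkψ
  let β' : MulAut (M ⧸ ρ.ker) := SG.quotAut β ρ.ker hkβ
  have hρ'mk : ∀ x : M, ρ' (QuotientGroup.mk x) = ρ x := fun x => rfl
  have hψ'mk : ∀ (y : 𝓡) (x : M), ψ' y (QuotientGroup.mk x) = QuotientGroup.mk (ψ y x) :=
    fun y x => rfl
  have hβ'mk : ∀ x : M, β' (QuotientGroup.mk x) = QuotientGroup.mk (β x) := fun x => rfl
  have hdata : FBData c θ ρ' ψ' β' T D :=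
    { Dc := h.Dc
      βc := by
        apply SG.quotAut_pow_eq_one
        intro g
        rw [h.βc, MulAut.one_apply, inv_mul_cancel]
        exact Subgroup.one_mem _
      hD := by
        intro x
        induction x using QuotientGroup.induction_on with
        | H g => exact h.hD g
      hT := by
        intro y x
        induction x using QuotientGroup.induction_on with
        | H g => exact h.hT y g
      βψ := by
        intro y
        ext x
        induction x using QuotientGroup.induction_on with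
        | H e =>
          have h1 : ∀ e' : M, β'⁻¹ (QuotientGroup.mk e') = QuotientGroup.mk (β⁻¹ e') := by
            intro e'
            rw [MulAut.inv_apply, MulEquiv.symm_apply_eq, hβ'mk]
            simp
          rw [MulAut.mul_apply, MulAut.mul_apply, h1, hψ'mk, hβ'mk, hψ'mk, ← h.βψ y]
          rfl
      ab := by
        intro y y'
        rw [← map_mul, ← map_mul]
        ext x
        induction x using QuotientGroup.induction_on with
        | H e =>
          rw [hψ'mk, hψ'mk, map_mul, map_mul, h.ab]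
      fix := h.fix }
  have hres := IH (M ⧸ ρ.ker) hlt (hM.to_quotient ρ.ker) U ρ' ψ' β' T D hdata
  intro y x
  have := hres y (QuotientGroup.mk x)
  rw [hψ'mk, hρ'mk, hρ'mk] at this
  exact this

/-- passing to an invariant subgroup -/
theorem sub_step (n : ℕ) (IH : FBClaim.{u, v, uK, uW} K s c θ n)
    {M : Type u} [Group M] [Finite M] (hcard : Nat.card M ≤ n + 1) (hM : IsPGroup s M)
    {U : Type uW} [AddCommGroup U] [Module K U] [FiniteDimensional K U]
    {ρ : M →* Module.End K U} {ψ : 𝓡 →* MulAut M} {β : MulAut M}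
    {T : 𝓡 →* Module.End K U} {D : Module.End K U} (h : FBData c θ ρ ψ β T D)
    (M₀ : Subgroup M) (hne : M₀ ≠ ⊤) (hψ₀ : ∀ y x, ψ y x ∈ M₀ ↔ x ∈ M₀)
    (hβ₀ : ∀ x, β x ∈ M₀ ↔ x ∈ M₀) : ∀ y, ∀ x ∈ M₀, ρ (ψ y x) = ρ x := by
  have hlt : Nat.card M₀ ≤ n := by
    have h1 : Nat.card M₀ < Nat.card M := by
      by_contra hge
      push Not at hge
      exact hne ((Subgroup.card_eq_iff_eq_top M₀).1
        (le_antisymm (Subgroup.card_le_card_group M₀) hge))
    omega
  set ρ₀ : ↥M₀ →* Module.End K U := ρ.comp M₀.subtype with hρ₀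
  set ψ₀ : 𝓡 →* MulAut ↥M₀ := restrictAutHom ψ M₀ hψ₀ with hψ₀'
  set β₀ : MulAut ↥M₀ := SG.restrictAut β M₀ hβ₀ with hβ₀'
  have hdata : FBData c θ ρ₀ ψ₀ β₀ T D :=
    { Dc := h.Dc
      βc := by
        ext m
        rw [hβ₀', SG.restrictAut_pow_apply, h.βc]
        rfl
      hD := fun x => h.hD x
      hT := fun y x => h.hT y x
      βψ := by
        intro y
        ext m
        have h1 := congrArg (fun f : MulAut M => f (m : M)) (h.βψ y)
        simp only [MulAut.mul_apply] at h1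
        rw [MulAut.mul_apply, MulAut.mul_apply]
        exact h1
      ab := by
        intro y y'
        ext m
        have h1 := congrArg (fun f : MulAut M => f (m : M)) (h.ab y y')
        simp only [MulAut.mul_apply] at h1
        rw [MulAut.mul_apply, MulAut.mul_apply]
        exact h1
      fix := h.fix }
  have hres := IH ↥M₀ hlt (hM.to_subgroup M₀) U ρ₀ ψ₀ β₀ T D hdata
  intro y x hx
  exact hres y ⟨x, hx⟩

end Steps

section Abelian

variable {K : Type uK} [Field K] [IsAlgClosed K] {𝓡 : Type v} [Group 𝓡] {s c : ℕ} [Fact s.Prime]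
  {θ : MulAut 𝓡}

/-- an invariant abelian subgroup is centralized by `β` modulo the kernel -/
theorem abelian_fixed (hsK : (s : K) ≠ 0) (hc : c.Prime)
    {M : Type u} [Group M] [Finite M] (hM : IsPGroup s M)
    {U : Type uW} [AddCommGroup U] [Module K U] [FiniteDimensional K U]
    {ρ : M →* Module.End K U} {ψ : 𝓡 →* MulAut M} {β : MulAut M}
    {T : 𝓡 →* Module.End K U} {D : Module.End K U} (h : FBData c θ ρ ψ β T D)
    (Y : Subgroup M) (hYab : ∀ a ∈ Y, ∀ b ∈ Y, a * b = b * a)
    (hβY : ∀ x, β x ∈ Y ↔ x ∈ Y) : ∀ x ∈ Y, ρ (β x) = ρ x := by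
  classical
  by_contra hcon
  push Not at hcon
  obtain ⟨x, hx, hne⟩ := hcon
  obtain ⟨XD, hXD, hXDc⟩ := h.D_unit hc.ne_zero
  let f : Y → Module.End K U := fun y => ρ (y : M)
  have hcomm : ∀ i j, Commute (f i) (f j) := by
    intro i j
    show ρ (i : M) * ρ (j : M) = ρ (j : M) * ρ (i : M)
    rw [← map_mul, ← map_mul, hYab i i.2 j j.2]
  have hss : ∀ i, (f i).IsSemisimple := by
    intro i
    obtain ⟨k, hk⟩ := hM (i : M)
    apply isSemisimple_of_pow_eq_one (f i) (s ^ k)
    · rw [Nat.cast_pow]; exact pow_ne_zero _ hsK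
    · show (ρ (i : M)) ^ (s ^ k) = 1
      rw [← map_pow, hk, map_one]
  let σm : MulAut Y := SG.restrictAut β Y hβY
  let σ : Equiv.Perm Y := σm.toEquiv
  have hσapp : ∀ y : Y, ((σ y : Y) : M) = β y := fun y => rfl
  have hXf : ∀ i, (XD : Module.End K U) * f i = f (σ i) * (XD : Module.End K U) := by
    intro i
    rw [hXD]
    exact h.hD i
  have hσc : σ ^ (c ^ 1) = 1 := by
    rw [pow_one]
    apply Equiv.ext
    intro a
    apply Subtype.ext
    have h0 : ∀ (k : ℕ) (a : Y), ((σ ^ k) a : Y) = ((σm ^ k) a : Y) := by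
      intro k
      induction k with
      | zero => intro a; rfl
      | succ k ihk =>
        intro a
        rw [pow_succ, pow_succ, Equiv.Perm.mul_apply, MulAut.mul_apply]
        exact ihk (σm a)
    rw [h0 c a, SG.restrictAut_pow_apply, h.βc]
    rfl
  have hXDc1 : XD ^ (c ^ 1) = 1 := by rw [pow_one]; exact hXDc
  obtain ⟨w, hw0, hw⟩ := exists_fixed_of_moved f hcomm hss XD σ hXf c 1 hc le_rfl hXDc1 hσc
    ⟨⟨x, hx⟩, by
      rw [Nat.sub_self, pow_zero, pow_one]
      exact hne⟩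
  rw [hXD] at hw
  exact hw0 (h.fix w hw)

end Abelian

section Struct

variable {𝓡 : Type v} [Group 𝓡] [Finite 𝓡] {s : ℕ} [Fact s.Prime] {θ : MulAut 𝓡}
variable {M : Type u} [Group M] [Finite M] {ψ : 𝓡 →* MulAut M} {β : MulAut M}

/-- if `β` is trivial then so is `𝓡` -/
theorem triv_of_beta_triv (hθ : ∀ y, θ y = y → y = 1) (hβψ : ∀ y, β * ψ y * β⁻¹ = ψ (θ y))
    (hβ1 : ∀ x, β x = x) : ∀ z x, ψ z x = x := by
  have hβ : β = 1 := by
    ext x
    exact hβ1 x
  have h1 : ∀ y, ψ (θ y) = ψ y := by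
    intro y
    rw [← hβψ, hβ]
    simp
  have hsurj := Finite.surjective_of_injective (SG.fpf_inj θ hθ)
  intro z x
  obtain ⟨y, hy⟩ := hsurj z
  have hy' : y⁻¹ * θ y = z := hy
  rw [← hy', map_mul, h1, ← map_mul, inv_mul_cancel, map_one]
  rfl

/-- a commutator `x⁻¹ ψ_y(x)` fixed by `ψ_y` is trivial -/
theorem comm_eq_one_of_fixed (hM : IsPGroup s M) (hcop : (Nat.card 𝓡).Coprime s) (y : 𝓡) (x : M)
    (hu : ψ y (x⁻¹ * ψ y x) = x⁻¹ * ψ y x) : x⁻¹ * ψ y x = 1 := by
  set u := x⁻¹ * ψ y x with hudef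
  have hx : ψ y x = x * u := by rw [hudef]; group
  have hpow : ∀ j : ℕ, (ψ y ^ j) x = x * u ^ j := by
    intro j
    induction j with
    | zero => simp
    | succ j ih =>
      rw [pow_succ', MulAut.mul_apply, ih, map_mul, map_pow, hx, hu, pow_succ', mul_assoc]
  have h1 := hpow (Nat.card 𝓡)
  rw [← map_pow, pow_card_eq_one', map_one, MulAut.one_apply] at h1
  have h2 : u ^ (Nat.card 𝓡) = 1 := (mul_eq_left.1 h1.symm)
  obtain ⟨k, hk⟩ := hM u
  have h3 : orderOf u ∣ Nat.gcd (Nat.card 𝓡) (s ^ k) :=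
    Nat.dvd_gcd (orderOf_dvd_of_pow_eq_one h2) (orderOf_dvd_of_pow_eq_one hk)
  have h4 : Nat.Coprime (Nat.card 𝓡) (s ^ k) := Nat.Coprime.pow_right k hcop
  rw [h4] at h3
  exact orderOf_eq_one_iff.1 (Nat.dvd_one.1 h3)

/-- the subgroup `[M, 𝓡]` -/
def commSub (ψ : 𝓡 →* MulAut M) : Subgroup M :=
  Subgroup.closure {z | ∃ y x, z = x⁻¹ * ψ y x}

theorem commSub_psi (hab : ∀ y y', ψ y * ψ y' = ψ y' * ψ y) (y' : 𝓡) :
    ∀ x ∈ commSub ψ, ψ y' x ∈ commSub ψ := by
  intro x hx
  induction hx using Subgroup.closure_induction with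
  | mem z hz =>
    obtain ⟨y, x, rfl⟩ := hz
    apply Subgroup.subset_closure
    refine ⟨y, ψ y' x, ?_⟩
    have h1 : ψ y' (ψ y x) = ψ y (ψ y' x) := by
      rw [← MulAut.mul_apply, ← MulAut.mul_apply, hab]
    rw [map_mul, map_inv, h1]
  | one => rw [map_one]; exact Subgroup.one_mem _
  | mul a b _ _ ha hb => rw [map_mul]; exact Subgroup.mul_mem _ ha hb
  | inv a _ ha => rw [map_inv]; exact Subgroup.inv_mem _ ha

theorem beta_psi_apply (hβψ : ∀ y, β * ψ y * β⁻¹ = ψ (θ y)) (y : 𝓡) (x : M) :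
    β (ψ y x) = ψ (θ y) (β x) := by
  rw [← hβψ y]
  simp

theorem commSub_beta (hβψ : ∀ y, β * ψ y * β⁻¹ = ψ (θ y)) :
    ∀ x ∈ commSub ψ, β x ∈ commSub ψ := by
  intro x hx
  induction hx using Subgroup.closure_induction with
  | mem z hz =>
    obtain ⟨y, x, rfl⟩ := hz
    apply Subgroup.subset_closure
    refine ⟨θ y, β x, ?_⟩
    rw [map_mul, map_inv, beta_psi_apply hβψ]
  | one => rw [map_one]; exact Subgroup.one_mem _
  | mul a b _ _ ha hb => rw [map_mul]; exact Subgroup.mul_mem _ ha hb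
  | inv a _ ha => rw [map_inv]; exact Subgroup.inv_mem _ ha

/-- the minimality hypothesis -/
def MinHyp (ψ : 𝓡 →* MulAut M) (β : MulAut M) : Prop :=
  ∀ M₀ : Subgroup M, M₀ ≠ ⊤ → (∀ y, ∀ x ∈ M₀, ψ y x ∈ M₀) → (∀ x ∈ M₀, β x ∈ M₀) →
    ∀ y, ∀ x ∈ M₀, ψ y x = x

theorem commSub_eq_top (hM : IsPGroup s M) (hcop : (Nat.card 𝓡).Coprime s)
    (hβψ : ∀ y, β * ψ y * β⁻¹ = ψ (θ y)) (hab : ∀ y y', ψ y * ψ y' = ψ y' * ψ y)
    (hmin : MinHyp ψ β) (hne : ∃ y x, ψ y x ≠ x) : commSub ψ = ⊤ := by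
  by_contra hntop
  have hcen := hmin (commSub ψ) hntop (commSub_psi hab) (commSub_beta hβψ)
  obtain ⟨y, x, hyx⟩ := hne
  apply hyx
  have hu : x⁻¹ * ψ y x ∈ commSub ψ := Subgroup.subset_closure ⟨y, x, rfl⟩
  have h1 := comm_eq_one_of_fixed hM hcop y x (hcen y _ hu)
  have h2 := congrArg (fun z => x * z) h1
  simpa using h2

/-- proper invariant normal subgroups are central -/
theorem le_center_of_normal (hM : IsPGroup s M) (hcop : (Nat.card 𝓡).Coprime s)
    (hβψ : ∀ y, β * ψ y * β⁻¹ = ψ (θ y)) (hab : ∀ y y', ψ y * ψ y' = ψ y' * ψ y)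
    (hmin : MinHyp ψ β) (hne : ∃ y x, ψ y x ≠ x) (M₀ : Subgroup M) (hn : M₀.Normal)
    (hM₀ : M₀ ≠ ⊤) (hψ₀ : ∀ y, ∀ x ∈ M₀, ψ y x ∈ M₀) (hβ₀ : ∀ x ∈ M₀, β x ∈ M₀) :
    M₀ ≤ Subgroup.center M := by
  have hcen := hmin M₀ hM₀ hψ₀ hβ₀
  have htop := commSub_eq_top hM hcop hβψ hab hmin hne
  intro z hz
  rw [Subgroup.mem_center_iff]
  have hle : commSub ψ ≤ Subgroup.centralizer ({z} : Set M) := by
    unfold commSub
    rw [Subgroup.closure_le]
    rintro _ ⟨y, x, rfl⟩
    rw [SetLike.mem_coe, Subgroup.mem_centralizer_singleton_iff]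
    have h1 : x * z * x⁻¹ ∈ M₀ := hn.conj_mem z hz x
    have h2 := hcen y _ h1
    rw [map_mul, map_mul, map_inv, hcen y z hz] at h2
    -- `ψ y x * z * (ψ y x)⁻¹ = x * z * x⁻¹`
    symm
    calc z * (x⁻¹ * ψ y x) = x⁻¹ * (x * z * x⁻¹) * ψ y x := by group
      _ = x⁻¹ * (ψ y x * z * (ψ y x)⁻¹) * ψ y x := by rw [h2]
      _ = x⁻¹ * ψ y x * z := by group
  intro g
  have hg : g ∈ Subgroup.centralizer ({z} : Set M) := by
    apply hle
    rw [htop]
    trivial
  exact Subgroup.mem_centralizer_singleton_iff.1 hg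

end Struct

section Struct2

variable {𝓡 : Type v} [Group 𝓡] [Finite 𝓡] {s : ℕ} [Fact s.Prime] {θ : MulAut 𝓡}
variable {M : Type u} [Group M] [Finite M] {ψ : 𝓡 →* MulAut M} {β : MulAut M}

/-- the minimal configuration -/
structure MinCfg (s : ℕ) (θ : MulAut 𝓡) (ψ : 𝓡 →* MulAut M) (β : MulAut M) : Prop where
  hM : IsPGroup s M
  hcop : (Nat.card 𝓡).Coprime s
  hθ : ∀ y, θ y = y → y = 1
  hβψ : ∀ y, β * ψ y * β⁻¹ = ψ (θ y)
  hab : ∀ y y', ψ y * ψ y' = ψ y' * ψ y
  hmin : MinHyp ψ β
  hne : ∃ y x, ψ y x ≠ x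
  hnab : ∃ a b : M, a * b ≠ b * a

variable (h : MinCfg s θ ψ β)
include h

theorem MinCfg.center_ne_top : Subgroup.center M ≠ ⊤ := by
  intro htop
  obtain ⟨a, b, hab⟩ := h.hnab
  apply hab
  have : b ∈ Subgroup.center M := by rw [htop]; trivial
  exact (Subgroup.mem_center_iff.1 this a)

theorem MinCfg.center_psi (y : 𝓡) (x : M) : ψ y x ∈ Subgroup.center M ↔ x ∈ Subgroup.center M :=
  SG.char_mem_iff (inferInstance : (Subgroup.center M).Characteristic) (ψ y) x

theorem MinCfg.center_beta (x : M) : β x ∈ Subgroup.center M ↔ x ∈ Subgroup.center M :=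
  SG.char_mem_iff (inferInstance : (Subgroup.center M).Characteristic) β x

theorem MinCfg.center_fixed : ∀ y, ∀ z ∈ Subgroup.center M, ψ y z = z :=
  h.hmin (Subgroup.center M) h.center_ne_top (fun y x hx => (h.center_psi y x).2 hx)
    (fun x hx => (h.center_beta x).2 hx)

theorem MinCfg.le_center (M₀ : Subgroup M) (hn : M₀.Normal) (hM₀ : M₀ ≠ ⊤)
    (hψ₀ : ∀ y, ∀ x ∈ M₀, ψ y x ∈ M₀) (hβ₀ : ∀ x ∈ M₀, β x ∈ M₀) : M₀ ≤ Subgroup.center M :=
  le_center_of_normal h.hM h.hcop h.hβψ h.hab h.hmin h.hne M₀ hn hM₀ hψ₀ hβ₀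

theorem MinCfg.commutator_le : commutator M ≤ Subgroup.center M := by
  haveI : Nontrivial M := by
    obtain ⟨a, b, hab⟩ := h.hnab
    refine ⟨⟨a, 1, ?_⟩⟩
    rintro rfl
    apply hab
    rw [one_mul, mul_one]
  haveI : Group.IsNilpotent M := h.hM.isNilpotent
  have hlt := Group.IsSolvable.commutator_lt_top_of_nontrivial M
  have hc : (commutator M).Characteristic := inferInstance
  apply h.le_center (commutator M) inferInstance hlt.ne
  · intro y x hx
    exact (SG.char_mem_iff hc (ψ y) x).2 hx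
  · intro x hx
    exact (SG.char_mem_iff hc β x).2 hx

theorem MinCfg.comm_mem_center (a b : M) : ⁅a, b⁆ ∈ Subgroup.center M :=
  h.commutator_le (Subgroup.commutator_mem_commutator (Subgroup.mem_top a) (Subgroup.mem_top b))

/-- invariant subgroups above the centre are trivial -/
theorem MinCfg.le_center_of_ge (M₁ : Subgroup M) (hZ : Subgroup.center M ≤ M₁) (hM₁ : M₁ ≠ ⊤)
    (hψ₁ : ∀ y, ∀ x ∈ M₁, ψ y x ∈ M₁) (hβ₁ : ∀ x ∈ M₁, β x ∈ M₁) : M₁ ≤ Subgroup.center M := by
  have hn : M₁.Normal := by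
    constructor
    intro m hm g
    have h1 : g * m * g⁻¹ = ⁅g, m⁆ * m := by rw [commutatorElement_def]; group
    rw [h1]
    exact M₁.mul_mem (hZ (h.comm_mem_center g m)) hm
  exact h.le_center M₁ hn hM₁ hψ₁ hβ₁

theorem MinCfg.quot_comm (a b : M ⧸ Subgroup.center M) : a * b = b * a := by
  induction a using QuotientGroup.induction_on with
  | H e =>
    induction b using QuotientGroup.induction_on with
    | H f =>
      rw [← QuotientGroup.mk_mul, ← QuotientGroup.mk_mul, QuotientGroup.eq]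
      have h1 : (e * f)⁻¹ * (f * e) = ⁅f⁻¹, e⁻¹⁆ := by
        rw [commutatorElement_def]; group
      rw [h1]
      exact h.comm_mem_center _ _

/-- `M` modulo its centre has exponent `s` -/
theorem MinCfg.pow_mem_center (e : M) : e ^ s ∈ Subgroup.center M := by
  classical
  have hs : s.Prime := Fact.out
  set Z := Subgroup.center M with hZ
  let powHom : (M ⧸ Z) →* (M ⧸ Z) :=
    { toFun := fun x => x ^ s
      map_one' := one_pow s
      map_mul' := fun x y => (show Commute x y from h.quot_comm x y).mul_pow s }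
  set Ω : Subgroup M := powHom.ker.comap (QuotientGroup.mk' Z) with hΩ
  have hΩmem : ∀ e, e ∈ Ω ↔ e ^ s ∈ Z := by
    intro e
    rw [hΩ, Subgroup.mem_comap, MonoidHom.mem_ker]
    show (QuotientGroup.mk e : M ⧸ Z) ^ s = 1 ↔ _
    rw [← QuotientGroup.mk_pow, QuotientGroup.eq_one_iff]
  have hZΩ : Z ≤ Ω := by
    intro z hz
    rw [hΩmem]
    exact Z.pow_mem hz s
  by_contra hcon
  have hΩtop : Ω ≠ ⊤ := by
    intro htop
    apply hcon
    rw [← hΩmem, htop]
    trivial
  have hΩle := h.le_center_of_ge Ω hZΩ hΩtop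
    (fun y x hx => by
      rw [hΩmem] at hx ⊢
      rw [← map_pow]
      exact (h.center_psi y _).2 hx)
    (fun x hx => by
      rw [hΩmem] at hx ⊢
      rw [← map_pow]
      exact (h.center_beta _).2 hx)
  -- an element of order `s` in the quotient
  have hXs : IsPGroup s (M ⧸ Z) := h.hM.to_quotient Z
  haveI : Nontrivial (M ⧸ Z) := by
    obtain ⟨a, b, hab⟩ := h.hnab
    refine ⟨⟨QuotientGroup.mk a, 1, ?_⟩⟩
    intro h1
    have h2 : a ∈ Z := (QuotientGroup.eq_one_iff a).1 h1
    exact hab (Subgroup.mem_center_iff.1 h2 b).symm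
  obtain ⟨k, hk⟩ := IsPGroup.iff_card.1 hXs
  have hk0 : k ≠ 0 := by
    rintro rfl
    rw [pow_zero] at hk
    have := (Finite.one_lt_card_iff_nontrivial (α := M ⧸ Z)).2 inferInstance
    omega
  have hdvd : s ∣ Nat.card (M ⧸ Z) := by
    rw [hk]
    exact dvd_pow_self s hk0
  obtain ⟨x, hx⟩ := exists_prime_orderOf_dvd_card' s hdvd
  obtain ⟨g, rfl⟩ := QuotientGroup.mk_surjective x
  have hgΩ : g ∈ Ω := by
    rw [hΩmem, ← QuotientGroup.eq_one_iff, QuotientGroup.mk_pow, ← hx]
    exact pow_orderOf_eq_one _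
  have hgZ : g ∈ Z := hΩle hgΩ
  have h1 : (QuotientGroup.mk g : M ⧸ Z) = 1 := (QuotientGroup.eq_one_iff g).2 hgZ
  rw [h1, orderOf_one] at hx
  exact hs.one_lt.ne hx

/-- the centralizer of `𝓡` modulo the centre is trivial -/
theorem MinCfg.cent_le (e : M) (he : ∀ y, (ψ y e)⁻¹ * e ∈ Subgroup.center M) :
    e ∈ Subgroup.center M := by
  set Z := Subgroup.center M with hZ
  let C : Subgroup M :=
    { carrier := {e | ∀ y, (ψ y e)⁻¹ * e ∈ Z}
      one_mem' := by
        intro y
        rw [map_one, inv_one, one_mul]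
        exact Z.one_mem
      mul_mem' := by
        intro a b ha hb y
        have h1 : (ψ y (a * b))⁻¹ * (a * b) = (ψ y b)⁻¹ * ((ψ y a)⁻¹ * a) * b := by
          rw [map_mul]; group
        rw [h1]
        have h2 := Subgroup.mem_center_iff.1 (ha y) (ψ y b)⁻¹
        rw [h2, mul_assoc]
        exact Z.mul_mem (ha y) (hb y)
      inv_mem' := by
        intro a ha y
        have hz := ha y
        have h1 : (ψ y a⁻¹)⁻¹ * a⁻¹ = a * ((ψ y a)⁻¹ * a)⁻¹ * a⁻¹ := by
          rw [map_inv]; group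
        rw [h1]
        have h2 := Subgroup.mem_center_iff.1 (Z.inv_mem hz) a
        rw [h2, mul_assoc, mul_inv_cancel, mul_one]
        exact Z.inv_mem hz }
  have hCmem : ∀ e, e ∈ C ↔ ∀ y, (ψ y e)⁻¹ * e ∈ Z := fun e => Iff.rfl
  have hZC : Z ≤ C := by
    intro z hz y
    rw [h.center_fixed y z hz, inv_mul_cancel]
    exact Z.one_mem
  have hCtop : C ≠ ⊤ := by
    intro htop
    apply h.center_ne_top
    rw [eq_top_iff, ← commSub_eq_top h.hM h.hcop h.hβψ h.hab h.hmin h.hne]
    unfold commSub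
    rw [Subgroup.closure_le]
    rintro _ ⟨y, x, rfl⟩
    have hx : x ∈ C := by rw [htop]; trivial
    have h1 := Z.inv_mem (hx y)
    rw [mul_inv_rev, inv_inv] at h1
    exact h1
  have hCle := h.le_center_of_ge C hZC hCtop
    (fun y' x hx y => by
      have h1 : ψ y (ψ y' x) = ψ y' (ψ y x) := by
        rw [← MulAut.mul_apply, ← MulAut.mul_apply, h.hab]
      rw [h1, ← map_inv, ← map_mul]
      exact (h.center_psi y' _).2 (hx y))
    (fun x hx y => by
      have h1 : ψ y (β x) = β (ψ (θ⁻¹ y) x) := by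
        rw [beta_psi_apply h.hβψ]
        simp
      rw [h1, ← map_inv, ← map_mul]
      exact (h.center_beta _).2 (hx (θ⁻¹ y)))
  exact hCle he

end Struct2

section Main

variable {K : Type uK} [Field K] [IsAlgClosed K] {𝓡 : Type v} [Group 𝓡] [Finite 𝓡] {s c : ℕ}
  [Fact s.Prime] {θ : MulAut 𝓡}

theorem restrict_pow_apply {U : Type uW} [AddCommGroup U] [Module K U] (D : Module.End K U)
    (V : Submodule K U) (hV : ∀ w ∈ V, D w ∈ V) (j : ℕ) (w : V) :
    ((((D.restrict hV : Module.End K V) ^ j) w : V) : U) = (D ^ j) (w : U) := by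
  induction j generalizing w with
  | zero => simp
  | succ j ih =>
    rw [pow_succ, pow_succ, Module.End.mul_apply, Module.End.mul_apply, ih]
    rfl

/-- the weight-space step: the minimal configuration is impossible -/
theorem weight_step (hc : c.Prime) (hsc : s ≠ c) (hsK : (s : K) ≠ 0) (hcK : (c : K) ≠ 0)
    (n : ℕ) (IH : FBClaim.{u, v, uK, uW} K s c θ n)
    {M : Type u} [Group M] [Finite M] (hcard : Nat.card M ≤ n + 1)
    {U : Type uW} [AddCommGroup U] [Module K U] [FiniteDimensional K U]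
    {ρ : M →* Module.End K U} {ψ : 𝓡 →* MulAut M} {β : MulAut M}
    {T : 𝓡 →* Module.End K U} {D : Module.End K U} (h : FBData c θ ρ ψ β T D)
    (hinj : Function.Injective ρ) (hcfg : MinCfg s θ ψ β) : False := by
  classical
  have hM := hcfg.hM
  set Z : Subgroup M := Subgroup.center M with hZ
  have hψZ : ∀ y, ∀ z ∈ Z, ψ y z = z := hcfg.center_fixed
  have hβZ : ∀ z ∈ Z, β z = z := by
    intro z hz
    apply hinj
    refine abelian_fixed hsK hc hM h Z ?_ (hcfg.center_beta) z hz
    intro a _ b hb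
    exact (Subgroup.mem_center_iff.1 hb a)
  let f : Z → Module.End K U := fun z => ρ (z : M)
  have hcomm : ∀ i j, Commute (f i) (f j) := by
    intro i j
    show ρ (i : M) * ρ (j : M) = ρ (j : M) * ρ (i : M)
    rw [← map_mul, ← map_mul, Subgroup.mem_center_iff.1 j.2 i]
  have hss : ∀ i, (f i).IsSemisimple := by
    intro i
    obtain ⟨k, hk⟩ := hM (i : M)
    apply isSemisimple_of_pow_eq_one (f i) (s ^ k)
    · rw [Nat.cast_pow]; exact pow_ne_zero _ hsK
    · show (ρ (i : M)) ^ (s ^ k) = 1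
      rw [← map_pow, hk, map_one]
  have htop := iSup_wt_eq_top f hcomm hss
  have key : ∀ χ : Z → K, ∀ y x, ∀ w ∈ wt f χ, ρ (ψ y x) w = ρ x w := by
    intro χ
    set V : Submodule K U := wt f χ with hVdef
    have hVmem : ∀ w, w ∈ V ↔ ∀ z : Z, ρ (z : M) w = χ z • w := fun w => mem_wt
    have hVρ : ∀ e, ∀ w ∈ V, ρ e w ∈ V := by
      intro e w hw
      rw [hVmem] at hw ⊢
      intro z
      have h1 : ρ (z : M) (ρ e w) = ρ e (ρ (z : M) w) := by
        rw [← Module.End.mul_apply, ← Module.End.mul_apply, ← map_mul, ← map_mul,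
          Subgroup.mem_center_iff.1 z.2 e]
      rw [h1, hw, map_smul]
    have hVT : ∀ y, ∀ w ∈ V, T y w ∈ V := by
      intro y w hw
      rw [hVmem] at hw ⊢
      intro z
      have h1 : ρ (z : M) (T y w) = T y (ρ (z : M) w) := by
        rw [← Module.End.mul_apply, ← Module.End.mul_apply, h.hT, hψZ y z z.2]
      rw [h1, hw, map_smul]
    have hVD : ∀ w ∈ V, D w ∈ V := by
      intro w hw
      rw [hVmem] at hw ⊢
      intro z
      have h1 : ρ (z : M) (D w) = D (ρ (z : M) w) := by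
        rw [← Module.End.mul_apply, ← Module.End.mul_apply, h.hD, hβZ z z.2]
      rw [h1, hw, map_smul]
    by_cases hVbot : V = ⊥
    · intro y x w hw
      rw [hVbot, Submodule.mem_bot] at hw
      rw [hw, map_zero, map_zero]
    haveI : Nontrivial V := Submodule.nontrivial_iff_ne_bot.2 hVbot
    let ρχ : M →* Module.End K V := resRep ρ V hVρ
    let Tχ : 𝓡 →* Module.End K V := resRep T V hVT
    let Dχ : Module.End K V := D.restrict hVD
    have hρχ_apply : ∀ e (w : V), ((ρχ e w : V) : U) = ρ e (w : U) := fun e w => rfl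
    have hTχ_apply : ∀ y (w : V), ((Tχ y w : V) : U) = T y (w : U) := fun y w => rfl
    have hDχ_apply : ∀ (w : V), ((Dχ w : V) : U) = D (w : U) := fun w => rfl
    have hdata : FBData c θ ρχ ψ β Tχ Dχ :=
      { Dc := by
          apply LinearMap.ext
          intro w
          apply Subtype.ext
          rw [restrict_pow_apply, h.Dc]
          rfl
        βc := h.βc
        hD := by
          intro x
          apply LinearMap.ext
          intro w
          apply Subtype.ext
          have h1 := congrArg (fun φ : Module.End K U => φ (w : U)) (h.hD x)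
          exact h1
        hT := by
          intro y x
          apply LinearMap.ext
          intro w
          apply Subtype.ext
          have h1 := congrArg (fun φ : Module.End K U => φ (w : U)) (h.hT y x)
          exact h1
        βψ := h.βψ
        ab := h.ab
        fix := by
          intro w hw
          apply Subtype.ext
          have h1 := congrArg Subtype.val hw
          rw [hDχ_apply] at h1
          exact h.fix _ h1 }
    by_cases hρχ : Function.Injective ρχ
    · exfalso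
      have hscalZ : ∀ z : M, ∀ hz : z ∈ Z, ρχ z = algebraMap K (Module.End K V) (χ ⟨z, hz⟩) := by
        intro z hz
        apply LinearMap.ext
        intro w
        apply Subtype.ext
        rw [hρχ_apply]
        have h1 := (hVmem (w : U)).1 w.2 ⟨z, hz⟩
        rw [h1]
        rfl
      have hS : ∀ e, e ∈ scalSubgroup ρχ ↔ e ∈ Z := by
        intro e
        constructor
        · intro he
          have he' : IsScal (ρχ e) := he
          rw [hZ, Subgroup.mem_center_iff]
          intro g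
          apply hρχ
          rw [map_mul, map_mul]
          exact (he'.commute (ρχ g)).symm
        · intro he
          exact ⟨_, hscalZ e he⟩
      have hH : Hyp ρχ :=
        { scal := by
            intro e g
            exact ⟨_, hscalZ _ (hcfg.comm_mem_center e g)⟩
          nd := by
            intro e he
            have h1 : e ∈ Z := by
              rw [hZ, Subgroup.mem_center_iff]
              intro g
              have h2 : ⁅e, g⁆ = 1 := by
                apply hρχ
                rw [he g, map_one]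
              exact (commutatorElement_eq_one_iff_commute.1 h2).symm
            exact ⟨_, hscalZ e h1⟩ }
      have hall := fb_final s c hc hsc hsK hcK hM hcfg.hcop θ hcfg.hθ ρχ hH ψ β Dχ hdata.Dc
        hdata.hD
        (by
          intro y x
          rw [hS, hS]
          exact hcfg.center_psi y x)
        h.βψ h.ab hdata.fix
        (by
          intro e
          rw [hS]
          exact hcfg.pow_mem_center e)
        (by
          intro e he
          rw [hS]
          apply hcfg.cent_le e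
          intro y
          exact (hS _).1 (he y))
      apply hcfg.center_ne_top
      rw [eq_top_iff]
      intro e _
      exact (hS e).1 (hall e)
    · have hres := quot_step hc n IH hcard hM hdata hρχ
      intro y x w hw
      have h1 := congrArg (fun φ : Module.End K V => ((φ ⟨w, hw⟩ : V) : U)) (hres y x)
      exact h1
  obtain ⟨y, x, hyx⟩ := hcfg.hne
  apply hyx
  apply hinj
  exact ext_of_wt htop (fun χ w hw => key χ y x w hw)

/-- **Lemma FB**, by induction on the order of `M` -/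
theorem lemmaFB_aux (hc : c.Prime) (hsc : s ≠ c) (hsK : (s : K) ≠ 0) (hcK : (c : K) ≠ 0)
    (hcop : (Nat.card 𝓡).Coprime s) (hθ : ∀ y, θ y = y → y = 1) :
    ∀ n, FBClaim.{u, v, uK, uW} K s c θ n := by
  intro n
  induction n with
  | zero =>
    intro M _ _ hcard
    have : 0 < Nat.card M := Nat.card_pos
    omega
  | succ n IH =>
    intro M _ _ hcard hM U _ _ _ ρ ψ β T D h
    by_cases hinj : Function.Injective ρ
    · by_contra hcon
      push Not at hcon
      obtain ⟨y₀, x₀, hne₀⟩ := hcon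
      have hne : ∃ y x, ψ y x ≠ x := ⟨y₀, x₀, fun h1 => hne₀ (by rw [h1])⟩
      have hmin : MinHyp ψ β := by
        intro M₀ hM₀ hψ₀ hβ₀ y x hx
        apply hinj
        exact sub_step n IH hcard hM h M₀ hM₀
          (fun y x => SG.map_mem_iff (ψ y) M₀ (hψ₀ y) x)
          (fun x => SG.map_mem_iff β M₀ hβ₀ x) y x hx
      have hnab : ∃ a b : M, a * b ≠ b * a := by
        by_contra hab
        push Not at hab
        have h1 : ∀ x, β x = x := by
          intro x
          apply hinj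
          exact abelian_fixed hsK hc hM h ⊤ (fun a _ b _ => hab a b)
            (fun x => ⟨fun _ => Subgroup.mem_top _, fun _ => Subgroup.mem_top _⟩) x
            (Subgroup.mem_top _)
        obtain ⟨y, x, hyx⟩ := hne
        exact hyx (triv_of_beta_triv hθ h.βψ h1 y x)
      have hcfg : MinCfg s θ ψ β :=
        { hM := hM
          hcop := hcop
          hθ := hθ
          hβψ := h.βψ
          hab := h.ab
          hmin := hmin
          hne := hne
          hnab := hnab }
      exact weight_step hc hsc hsK hcK n IH hcard h hinj hcfg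
    · exact quot_step hc n IH hcard hM h hinj

/-- **Lemma FB** -/
theorem lemmaFB (hc : c.Prime) (hsc : s ≠ c) (hsK : (s : K) ≠ 0) (hcK : (c : K) ≠ 0)
    (hcop : (Nat.card 𝓡).Coprime s) (hθ : ∀ y, θ y = y → y = 1)
    {M : Type u} [Group M] [Finite M] (hM : IsPGroup s M)
    {U : Type uW} [AddCommGroup U] [Module K U] [FiniteDimensional K U]
    {ρ : M →* Module.End K U} {ψ : 𝓡 →* MulAut M} {β : MulAut M}
    {T : 𝓡 →* Module.End K U} {D : Module.End K U} (h : FBData c θ ρ ψ β T D) :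
    ∀ y x, ρ (ψ y x) = ρ x :=
  lemmaFB_aux hc hsc hsK hcK hcop hθ (Nat.card M) M le_rfl hM U ρ ψ β T D h

end Main

end Cfsg.Agent.Lib.Helper56.FrobFB
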