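import Mathlib
import Cfsg.Agent.Lib.Helper56.HHBWeights

/-!
# Free modules for a cyclic group of prime order permuting weight spaces freely

`graded_free`: if `V` is graded by `ZMod c` and `X` (with `X ^ c = 1`) shifts the grading by one,
then `c * dim ker (X - 1) = dim V`.
-/

set_option autoImplicit false
set_option linter.unusedSectionVars false
set_option linter.style.haveILetI false

namespace Cfsg.Agent.Lib.Helper56.FrobFree

open Module

section Graded

variable {K : Type*} [Field K] {V : Type*} [AddCommGroup V] [Module K V] [FiniteDimensional K V]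

/-- the dimension of a finite sup of an independent family is the sum of the dimensions -/
theorem finrank_biSup_indep {ι : Type*} [DecidableEq ι] (A : ι → Submodule K V)
    (hA : iSupIndep A) (s : Finset ι) :
    finrank K ↥(⨆ i ∈ s, A i) = ∑ i ∈ s, finrank K (A i) := by
  induction s using Finset.induction_on with
  | empty => simp
  | insert a s ha ih =>
    rw [Finset.sum_insert ha, ← ih, Finset.iSup_insert]
    have hdisj : Disjoint (A a) (⨆ i ∈ s, A i) := by
      have := hA.disjoint_biSup (x := a) (y := (s : Set ι)) (by simpa using ha)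
      simpa using this
    have h := Submodule.finrank_sup_add_finrank_inf_eq (A a) (⨆ i ∈ s, A i)
    rw [hdisj.eq_bot, finrank_bot, add_zero] at h
    exact h

theorem pow_apply_mem_graded (c : ℕ) [NeZero c] (G : ZMod c → Submodule K V)
    (X : Module.End K V) (hX : ∀ j, ∀ v ∈ G j, X v ∈ G (j + 1)) (i : ℕ) (j : ZMod c) (v : V)
    (hv : v ∈ G j) : (X ^ i) v ∈ G (j + (i : ZMod c)) := by
  induction i with
  | zero => simpa using hv
  | succ i ih =>
    rw [pow_succ', Module.End.mul_apply, Nat.cast_succ, ← add_assoc]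
    exact hX _ _ ih

/-- **the graded count** -/
theorem graded_free (c : ℕ) [NeZero c] (G : ZMod c → Submodule K V) (hind : iSupIndep G)
    (htop : iSup G = ⊤) (X : Module.End K V) (hXc : X ^ c = 1)
    (hX : ∀ j, ∀ v ∈ G j, X v ∈ G (j + 1)) :
    c * finrank K (LinearMap.ker (X - 1)) = finrank K V := by
  classical
  have hc0 : c ≠ 0 := NeZero.ne c
  have hcpos : 0 < c := Nat.pos_of_ne_zero hc0
  -- `X` is injective
  have hXinj : Function.Injective X := by
    intro u v huv
    have h1 : (X ^ c) u = (X ^ c) v := by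
      obtain ⟨c', rfl⟩ : ∃ c', c = c' + 1 := ⟨c - 1, by omega⟩
      rw [pow_succ, Module.End.mul_apply, Module.End.mul_apply, huv]
    rwa [hXc] at h1
  -- the dimensions of the components agree
  have hle : ∀ j, finrank K (G j) ≤ finrank K (G (j + 1)) := by
    intro j
    apply LinearMap.finrank_le_finrank_of_injective (f := X.restrict (hX j))
    intro u v huv
    apply Subtype.ext
    apply hXinj
    exact congrArg Subtype.val huv
  have hsum : ∑ j : ZMod c, finrank K (G (j + 1)) = ∑ j : ZMod c, finrank K (G j) :=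
    Fintype.sum_equiv (Equiv.addRight (1 : ZMod c)) _ _ (fun j => rfl)
  have heq : ∀ j, finrank K (G (j + 1)) = finrank K (G j) := by
    intro j
    have h := (Finset.sum_eq_sum_iff_of_le (fun j _ => hle j)).1 hsum.symm j (Finset.mem_univ j)
    exact h.symm
  set d := finrank K (G 0) with hd
  have hall : ∀ j, finrank K (G j) = d := by
    have h1 : ∀ n : ℕ, finrank K (G (n : ZMod c)) = d := by
      intro n
      induction n with
      | zero => rw [Nat.cast_zero]
      | succ n ih => rw [Nat.cast_succ, heq, ih]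
    intro j
    have := h1 j.val
    rwa [ZMod.natCast_zmod_val] at this
  -- total dimension
  have hV : finrank K V = c * d := by
    have h1 := finrank_biSup_indep G hind Finset.univ
    have h2 : (⨆ i ∈ (Finset.univ : Finset (ZMod c)), G i) = ⊤ := by
      rw [← htop]
      simp
    rw [h2, finrank_top] at h1
    rw [h1, Finset.sum_congr rfl (fun j _ => hall j), Finset.sum_const, Finset.card_univ,
      ZMod.card, smul_eq_mul]
  -- the rest
  set rest : Submodule K V := ⨆ i ∈ (Finset.univ.erase (0 : ZMod c)), G i with hrest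
  have hrestdim : finrank K rest = (c - 1) * d := by
    rw [hrest, finrank_biSup_indep G hind, Finset.sum_congr rfl (fun j _ => hall j),
      Finset.sum_const, Finset.card_erase_of_mem (Finset.mem_univ _), Finset.card_univ,
      ZMod.card, smul_eq_mul]
  set F : Submodule K V := LinearMap.ker (X - 1) with hF
  have hFmem : ∀ v, v ∈ F ↔ X v = v := by
    intro v
    rw [hF, LinearMap.mem_ker, LinearMap.sub_apply, Module.End.one_apply, sub_eq_zero]
  have hGrest : ∀ j, j ≠ 0 → G j ≤ rest := by
    intro j hj
    rw [hrest]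
    exact le_biSup G (Finset.mem_erase.2 ⟨hj, Finset.mem_univ _⟩)
  -- `F ⊔ rest = ⊤`
  have hsup : F ⊔ rest = ⊤ := by
    rw [eq_top_iff, ← htop]
    apply iSup_le
    intro j
    by_cases hj : j = 0
    · subst hj
      intro v hv
      have hΦ : (∑ i ∈ Finset.range c, (X ^ i) v) ∈ F := by
        rw [hFmem, map_sum]
        have h1 : ∀ i, X ((X ^ i) v) = (X ^ (i + 1)) v := by
          intro i
          rw [pow_succ', Module.End.mul_apply]
        simp only [h1]
        obtain ⟨c', rfl⟩ : ∃ c', c = c' + 1 := ⟨c - 1, by omega⟩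
        have hXt : (X ^ (c' + 1)) v = v := by rw [hXc]; rfl
        rw [Finset.sum_range_succ (fun i => (X ^ (i + 1)) v) c', hXt,
          Finset.sum_range_succ' (fun i => (X ^ i) v) c']
        simp
      have hsplit : v = (∑ i ∈ Finset.range c, (X ^ i) v) -
          ∑ i ∈ (Finset.range c).erase 0, (X ^ i) v := by
        rw [← Finset.add_sum_erase (Finset.range c) (fun i => (X ^ i) v)
          (Finset.mem_range.2 hcpos)]
        simp
      rw [hsplit]
      apply Submodule.sub_mem
      · exact Submodule.mem_sup_left hΦ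
      · apply Submodule.mem_sup_right
        apply Submodule.sum_mem
        intro i hi
        have hi0 : i ≠ 0 := (Finset.mem_erase.1 hi).1
        have hic : i < c := Finset.mem_range.1 (Finset.mem_erase.1 hi).2
        have h1 := pow_apply_mem_graded c G X hX i 0 v hv
        rw [zero_add] at h1
        apply hGrest (i : ZMod c) _ h1
        intro h0
        rw [ZMod.natCast_eq_zero_iff] at h0
        exact hi0 (Nat.eq_zero_of_dvd_of_lt h0 hic)
    · exact (hGrest j hj).trans le_sup_right
  -- `F ⊓ rest = ⊥`
  have hinf : F ⊓ rest = ⊥ := by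
    rw [eq_bot_iff]
    rintro v ⟨hvF, hvR⟩
    rw [Submodule.mem_bot]
    have hvF' : X v = v := (hFmem v).1 hvF
    rw [hrest] at hvR
    obtain ⟨μ, hμ⟩ := (Submodule.mem_iSup_finset_iff_exists_sum G v).1 hvR
    -- components
    let f : ZMod c → V := fun j => if j = 0 then 0 else (μ j : V)
    have hfmem : ∀ j, f j ∈ G j := by
      intro j
      by_cases hj : j = 0
      · simp [f, hj]
      · simp only [f, if_neg hj]
        exact (μ j).2
    have hfsum : ∑ j, f j = v := by
      rw [← hμ, ← Finset.add_sum_erase Finset.univ f (Finset.mem_univ (0 : ZMod c))]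
      have h0 : f 0 = 0 := by simp [f]
      rw [h0, zero_add]
      apply Finset.sum_congr rfl
      intro j hj
      have hj0 : j ≠ 0 := (Finset.mem_erase.1 hj).1
      simp [f, hj0]
    -- the shifted relation
    have hshift : ∑ j : ZMod c, (X (f (j - 1)) - f j) = 0 := by
      rw [Finset.sum_sub_distrib, hfsum]
      have h1 : ∑ j : ZMod c, X (f (j - 1)) = ∑ j : ZMod c, X (f j) :=
        Fintype.sum_equiv (Equiv.subRight (1 : ZMod c)) _ _ (fun j => rfl)
      rw [h1, ← map_sum, hfsum, hvF', sub_self]
    have hind' := hind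
    rw [iSupIndep_iff_finsetSum_eq_zero_imp_eq_zero] at hind'
    have hcomp : ∀ j : ZMod c, X (f (j - 1)) = f j := by
      intro j
      have hmem : ∀ j ∈ (Finset.univ : Finset (ZMod c)), X (f (j - 1)) - f j ∈ G j := by
        intro j _
        apply Submodule.sub_mem _ _ (hfmem j)
        have := hX (j - 1) (f (j - 1)) (hfmem (j - 1))
        rwa [sub_add_cancel] at this
      have := hind' Finset.univ (fun j => X (f (j - 1)) - f j) hmem hshift j (Finset.mem_univ j)
      exact sub_eq_zero.1 this
    have hzero : ∀ n : ℕ, f (n : ZMod c) = 0 := by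
      intro n
      induction n with
      | zero => simp [f]
      | succ n ih =>
        have := hcomp ((n + 1 : ℕ) : ZMod c)
        rw [Nat.cast_succ, add_sub_cancel_right, ih, map_zero] at this
        rw [Nat.cast_succ]
        exact this.symm
    rw [← hfsum]
    apply Finset.sum_eq_zero
    intro j _
    have := hzero j.val
    rwa [ZMod.natCast_zmod_val] at this
  have hdim := Submodule.finrank_sup_add_finrank_inf_eq F rest
  rw [hsup, hinf, finrank_top, finrank_bot, add_zero, hV, hrestdim] at hdim
  rw [hV]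
  obtain ⟨c', rfl⟩ : ∃ c', c = c' + 1 := ⟨c - 1, by omega⟩
  have : (c' + 1 - 1) * d = c' * d := by rw [Nat.add_sub_cancel]
  rw [this] at hdim
  have h2 : (c' + 1) * d = finrank K ↥F + c' * d := hdim
  have h3 : finrank K ↥F = d := by nlinarith
  rw [h3]

/-- **the coloured count**: a family of independent subspaces permuted by `X`, with a colouring
shifted by one under the permutation. -/
theorem colored_free {ι : Type*} (c : ℕ) [NeZero c] (U : ι → Submodule K V) (hind : iSupIndep U)
    (htop : iSup U = ⊤) (X : Module.End K V) (hXc : X ^ c = 1) (π : ι → ι) (ε : ι → ZMod c)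
    (hε : ∀ i, U i ≠ ⊥ → ε (π i) = ε i + 1) (hX : ∀ i, ∀ v ∈ U i, X v ∈ U (π i)) :
    c * finrank K (LinearMap.ker (X - 1)) = finrank K V := by
  classical
  set G : ZMod c → Submodule K V := fun j => ⨆ i ∈ {i | ε i = j}, U i with hG
  have hGle : ∀ i, U i ≤ G (ε i) := by
    intro i
    exact le_biSup U (show i ∈ {i' | ε i' = ε i} from rfl)
  have hindG : iSupIndep G := by
    rw [iSupIndep_def]
    intro j
    have h1 : (⨆ (j') (_ : j' ≠ j), G j') ≤ ⨆ i ∈ {i | ε i ≠ j}, U i := by
      apply iSup₂_le
      intro j' hj'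
      apply iSup₂_le
      intro i hi
      exact le_biSup U (show i ∈ {i' | ε i' ≠ j} from by
        show ε i ≠ j
        rw [show ε i = j' from hi]; exact hj')
    refine Disjoint.mono_right h1 ?_
    apply hind.disjoint_biSup_biSup
    rw [Set.disjoint_left]
    intro i hi hi'
    exact hi' hi
  have htopG : iSup G = ⊤ := by
    rw [eq_top_iff, ← htop]
    apply iSup_le
    intro i
    exact (hGle i).trans (le_iSup G (ε i))
  have hXG : ∀ j, ∀ v ∈ G j, X v ∈ G (j + 1) := by
    intro j v hv
    have h1 : (G j).map X ≤ G (j + 1) := by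
      rw [hG]
      simp only [Submodule.map_iSup]
      apply iSup₂_le
      intro i hi
      by_cases hb : U i = ⊥
      · rw [hb, Submodule.map_bot]; exact bot_le
      · have h2 : (U i).map X ≤ U (π i) := by
          rintro _ ⟨u, hu, rfl⟩
          exact hX i u hu
        refine h2.trans ?_
        have h3 := hGle (π i)
        rw [hε i hb, show ε i = j from hi] at h3
        exact h3
    exact h1 (Submodule.mem_map_of_mem hv)
  exact graded_free c G hindG htopG X hXc hXG

end Graded

section Coloring

theorem iterate_mod_of_periodic {T : Type*} (π : T → T) (c : ℕ) (x : T) (hper : π^[c] x = x)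
    (n : ℕ) : π^[n] x = π^[n % c] x := by
  have h1 : ∀ q : ℕ, π^[c * q] x = x := by
    intro q
    induction q with
    | zero => simp
    | succ q ih =>
      rw [Nat.mul_succ, Function.iterate_add_apply, hper, ih]
  conv_lhs => rw [← Nat.mod_add_div n c]
  rw [Function.iterate_add_apply, h1]

/-- a colouring of a finite set on which `π` acts freely with prime period -/
theorem exists_coloring {T : Type*} (π : T → T) (Ω : Set T) (hΩ : Ω.Finite)
    (hπΩ : ∀ x ∈ Ω, π x ∈ Ω) (c : ℕ) (hc : c.Prime) (hper : ∀ x ∈ Ω, π^[c] x = x)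
    (hmov : ∀ x ∈ Ω, π x ≠ x) : ∃ ε : T → ZMod c, ∀ x ∈ Ω, ε (π x) = ε x + 1 := by
  classical
  haveI : NeZero c := ⟨hc.ne_zero⟩
  haveI : Finite ↥Ω := hΩ.to_subtype
  let e := Finite.equivFin ↥Ω
  let ν : T → ℕ := fun x => if h : x ∈ Ω then ((e ⟨x, h⟩ : Fin _) : ℕ) else 0
  have hν : ∀ x ∈ Ω, ∀ y ∈ Ω, ν x = ν y → x = y := by
    intro x hx y hy hxy
    simp only [ν, dif_pos hx, dif_pos hy] at hxy
    have h1 := e.injective (Fin.val_injective hxy)
    exact congrArg Subtype.val h1
  have hiterΩ : ∀ (n : ℕ), ∀ x ∈ Ω, π^[n] x ∈ Ω := by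
    intro n
    induction n with
    | zero => intro x hx; exact hx
    | succ n ih =>
      intro x hx
      rw [Function.iterate_succ_apply']
      exact hπΩ _ (ih x hx)
  -- the minimal period is `c`
  have hmp : ∀ x ∈ Ω, Function.minimalPeriod π x = c := by
    intro x hx
    have h1 : Function.minimalPeriod π x ∣ c :=
      Function.IsPeriodicPt.minimalPeriod_dvd (hper x hx)
    rcases (Nat.dvd_prime hc).1 h1 with h2 | h2
    · exfalso
      apply hmov x hx
      have := Function.isPeriodicPt_minimalPeriod π x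
      rw [h2] at this
      exact this
    · exact h2
  have hinj : ∀ x ∈ Ω, ∀ i < c, ∀ j < c, π^[i] x = π^[j] x → i = j := by
    intro x hx i hi j hj hij
    have := Function.iterate_injOn_Iio_minimalPeriod (f := π) (x := x)
    rw [hmp x hx] at this
    exact this (Set.mem_Iio.2 hi) (Set.mem_Iio.2 hj) hij
  let g : T → ZMod c → ℕ := fun x j => ν (π^[(-j).val] x)
  have hginj : ∀ x ∈ Ω, Function.Injective (g x) := by
    intro x hx j j' hjj'
    have h1 := hν _ (hiterΩ _ x hx) _ (hiterΩ _ x hx) hjj'
    have h2 := hinj x hx _ (ZMod.val_lt _) _ (ZMod.val_lt _) h1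
    have h3 : -j = -j' := ZMod.val_injective c h2
    exact neg_injective h3
  have hgshift : ∀ x ∈ Ω, ∀ j : ZMod c, g (π x) j = g x (j - 1) := by
    intro x hx j
    show ν (π^[(-j).val] (π x)) = ν (π^[(-(j - 1)).val] x)
    congr 1
    rw [← Function.iterate_succ_apply, iterate_mod_of_periodic π c x (hper x hx)]
    congr 1
    have h1 : ((((-j).val + 1 : ℕ)) : ZMod c) = -(j - 1) := by
      rw [Nat.cast_succ, ZMod.natCast_zmod_val]
      ring
    have h2 : (((-j).val + 1) % c : ℕ) = (-(j - 1)).val := by
      rw [← h1, ZMod.val_natCast]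
    exact h2
  have hmin : ∀ x : T, ∃ j : ZMod c, ∀ j' : ZMod c, g x j ≤ g x j' := by
    intro x
    obtain ⟨j, -, hj⟩ := Finset.exists_min_image (Finset.univ : Finset (ZMod c)) (g x)
      ⟨0, Finset.mem_univ _⟩
    exact ⟨j, fun j' => hj j' (Finset.mem_univ _)⟩
  choose ε hε using hmin
  refine ⟨ε, ?_⟩
  intro x hx
  have h1 := hε (π x) (ε x + 1)
  rw [hgshift x hx, hgshift x hx, add_sub_cancel_right] at h1
  have h2 := hε x (ε (π x) - 1)
  have h3 : g x (ε x) = g x (ε (π x) - 1) := le_antisymm h2 h1
  have h4 := hginj x hx h3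
  rw [h4]
  ring

end Coloring

section Weights

open Cfsg.Agent.Lib.Helper56.HHB

variable {K : Type*} [Field K] {V : Type*} [AddCommGroup V] [Module K V] [FiniteDimensional K V]
variable {ι : Type*}

/-- **the free count for weights**: an operator of prime order `c` permuting the weights of a
commuting family, moving every occurring weight -/
theorem weights_free (f : ι → Module.End K V) (hcomm : ∀ i j, Commute (f i) (f j))
    (htop : ⨆ χ, wt f χ = ⊤) (X : Module.End K V) (σ : Equiv.Perm ι)
    (hX : ∀ i, X * f i = f (σ i) * X) (c : ℕ) (hc : c.Prime) (hXc : X ^ c = 1)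
    (hmoved : ∀ χ : ι → K, wt f χ ≠ ⊥ → twist σ χ ≠ χ) :
    c * finrank K (LinearMap.ker (X - 1)) = finrank K V := by
  classical
  haveI : NeZero c := ⟨hc.ne_zero⟩
  have hind : iSupIndep (wt f) := iSupIndep_wt f hcomm
  have hXinj : Function.Injective X := by
    intro u v huv
    have h1 : (X ^ c) u = (X ^ c) v := by
      obtain ⟨c', rfl⟩ : ∃ c', c = c' + 1 := ⟨c - 1, by have := hc.pos; omega⟩
      rw [pow_succ, Module.End.mul_apply, Module.End.mul_apply, huv]
    rwa [hXc] at h1
  set Ω : Set (ι → K) := {χ | wt f χ ≠ ⊥} with hΩdef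
  have hΩ : Ω.Finite := WellFoundedGT.finite_ne_bot_of_iSupIndep hind
  have hπΩ : ∀ χ ∈ Ω, twist σ χ ∈ Ω := by
    intro χ hχ
    obtain ⟨w, hw, hw0⟩ := (Submodule.ne_bot_iff _).1 hχ
    show wt f (twist σ χ) ≠ ⊥
    rw [Submodule.ne_bot_iff]
    refine ⟨X w, map_wt X σ hX hw, ?_⟩
    intro h0
    apply hw0
    apply hXinj
    rw [h0, map_zero]
  have hper : ∀ χ ∈ Ω, (twist (K := K) σ)^[c] χ = χ := by
    intro χ hχ
    obtain ⟨w, hw, hw0⟩ := (Submodule.ne_bot_iff _).1 hχ
    have h1 := map_pow_wt X σ hX c hw
    rw [hXc, Module.End.one_apply] at h1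
    by_contra hne
    have hdis := hind.pairwiseDisjoint hne
    have h2 : w ∈ wt f ((twist (K := K) σ)^[c] χ) ⊓ wt f χ := ⟨h1, hw⟩
    rw [hdis.eq_bot, Submodule.mem_bot] at h2
    exact hw0 h2
  obtain ⟨ε, hε⟩ := exists_coloring (twist (K := K) σ) Ω hΩ hπΩ c hc hper
    (fun χ hχ => hmoved χ hχ)
  exact colored_free c (wt f) hind htop X hXc (twist (K := K) σ) ε
    (fun χ hχ => hε χ hχ) (fun χ v hv => map_wt X σ hX hv)

end Weights

end Cfsg.Agent.Lib.Helper56.FrobFree
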