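import Cfsg.Agent.Lib.Helper56.FrobGroupA

/-!
# A Frobenius group of order `k c` acting without fixed points on a solvable group of coprime
order: the quotient by the Fitting subgroup is nilpotent
-/

set_option autoImplicit false
set_option linter.unusedSectionVars false
set_option linter.style.haveILetI false

open scoped commutatorElement

namespace Cfsg.Agent.Lib.Helper56.FrobGp

open Cfsg.Agent.Lib.Helper56
open Cfsg.Agent.Lib.Helper56.WardG
open Cfsg.Agent.Lib.Helper56.Ward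
open Cfsg.Agent.Lib.Helper56.FrobL

universe u u' w

section Setting

variable {B : Type w} [Group B] [Finite B] {k c : ℕ} [Fact k.Prime] [Fact c.Prime] {a b : B}
variable {V : Type u} [Group V] [Finite V] {E : Type u'} [Group E] [Finite E]

/-- the pairs hypothesis of the nilpotency criterion -/
theorem pairs_commute_setting' [Nontrivial V] (hcomm : ∀ a b : V, a * b = b * a) (v : ℕ)
    [Fact v.Prime] (hexp : ∀ a : V, a ^ v = 1) (hvk : v ≠ k) (hvc : v ≠ c)
    (hB : IsFrob k c a b (⊤ : Subgroup B)) (hcardB : Nat.card B = k * c)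
    (φ : E →* MulAut V) (hφ : Function.Injective φ) (ψ' : B →* MulAut E) (ξ : B →* MulAut V)
    (hτ : ∀ b e, ξ b * φ e * (ξ b)⁻¹ = φ (ψ' b e))
    (hfpfE : ∀ e : E, (∀ b, ψ' b e = e) → e = 1) (hfpfV : ∀ a : V, (∀ b, ξ b a = a) → a = 1)
    (hirr : ∀ N₁ : Subgroup V, (∀ e, ∀ a ∈ N₁, φ e a ∈ N₁) → (∀ b, ∀ a ∈ N₁, ξ b a ∈ N₁) →
      N₁ = ⊥ ∨ N₁ = ⊤)
    (hkE : ¬ k ∣ Nat.card E) (hcE : ¬ c ∣ Nat.card E)
    (s r : ℕ) [Fact s.Prime] [Fact r.Prime] (hsr : s ≠ r) (N R : Subgroup E)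
    (hNinv : BInv ψ' N) (hNs : IsPGroup s N) (hRr : IsPGroup r R)
    (hRinv : ∀ b, ∀ x ∈ R, ψ' b x ∈ R) :
    ∀ x ∈ N, ∀ y ∈ R, x * y = y * x := by
  have hk : k.Prime := Fact.out
  have hc : c.Prime := Fact.out
  have hv : v.Prime := Fact.out
  haveI : Finite (MulAut V) := Finite.of_injective (fun f : MulAut V => (f : V → V))
    (fun f g h => by ext a; exact congrFun h a)
  by_cases hN1 : N = ⊥
  · intro x hx y _
    rw [hN1, Subgroup.mem_bot] at hx
    rw [hx, one_mul, mul_one]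
  by_cases hR1 : R = ⊥
  · intro x _ y hy
    rw [hR1, Subgroup.mem_bot] at hy
    rw [hy, one_mul, mul_one]
  have hne_s : ∀ q : ℕ, ¬ q ∣ Nat.card E → q ≠ s := by
    rintro q hq rfl
    rcases hNs.card_eq_or_dvd with h | h
    · exact hN1 (Subgroup.card_eq_one.mp h)
    · exact hq (h.trans (Subgroup.card_subgroup_dvd_card N))
  have hne_r : ∀ q : ℕ, ¬ q ∣ Nat.card E → q ≠ r := by
    rintro q hq rfl
    rcases hRr.card_eq_or_dvd with h | h
    · exact hR1 (Subgroup.card_eq_one.mp h)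
    · exact hq (h.trans (Subgroup.card_subgroup_dvd_card R))
  by_cases hvs : v = s
  · subst hvs
    exact absurd (normal_vgroup_trivial v hexp φ hφ ψ' ξ hτ hirr N hNinv hNs) hN1
  have hA : IsFrob k c (ξ a) (ξ b) ξ.range := by
    have h1 := IsFrob.map hB ξ
    rwa [← MonoidHom.range_eq_map] at h1
  have hAv : ¬ v ∣ Nat.card ξ.range := by
    intro hd
    have h1 : Nat.card ξ.range ∣ Nat.card B := Subgroup.card_range_dvd ξ
    rw [hcardB] at h1
    rcases (Nat.Prime.dvd_mul hv).1 (hd.trans h1) with h2 | h2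
    · exact hvk ((Nat.prime_dvd_prime_iff_eq hv hk).1 h2)
    · exact hvc ((Nat.prime_dvd_prime_iff_eq hv hc).1 h2)
  have hNn : N.Normal := hNinv.normal
  have hP : Pair ξ.range (N.map φ) (R.map φ) s r :=
    { hN := hNs.map φ
      hR := hRr.map φ
      AN := conj_map_mem hτ (fun b x hx => (hNinv.inv b x).mpr hx)
      AR := conj_map_mem hτ hRinv
      RN := by
        have h1 : R.map φ ≤ (Subgroup.normalizer (N : Set E)).map φ := by
          apply Subgroup.map_mono
          rw [Subgroup.normalizer_eq_top]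
          exact le_top
        exact h1.trans (Subgroup.le_normalizer_map φ)
      fixN := fix_map_eq_one hφ hτ hfpfE
      fixR := fix_map_eq_one hφ hτ hfpfE }
  have hfixV : ∀ a : V, (∀ α ∈ ξ.range, α a = a) → a = 1 :=
    fun a ha => hfpfV a (fun b => ha (ξ b) ⟨b, rfl⟩)
  letI : CommGroup V := { (inferInstance : Group V) with mul_comm := hcomm }
  have key := frob_pair_mulAut v k c s r hexp (hne_s k hkE) (hne_r k hkE) (hne_s c hcE)
    (hne_r c hcE) hsr hvs hvk hvc hA hAv hP hfixV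
  intro x hx y hy
  apply hφ
  rw [map_mul, map_mul]
  exact key _ (Subgroup.mem_map_of_mem φ hx) _ (Subgroup.mem_map_of_mem φ hy)

end Setting

section Main

variable {B : Type w} [Group B] [Finite B] {k c : ℕ} [Fact k.Prime] [Fact c.Prime] {a b : B}

theorem chief_bot_centralized' (hB : IsFrob k c a b (⊤ : Subgroup B))
    (hcardB : Nat.card B = k * c) (n : ℕ)
    (IH : ∀ (H' : Type u) [Group H'] [Finite H'] [Group.IsSolvable H'] (ψ' : B →* MulAut H'),
      Nat.card H' < n → (Nat.card H').Coprime (k * c) → (∀ g : H', (∀ b, ψ' b g = g) → g = 1) →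
      ∃ j, (⊤ : Subgroup H').lowerCentralSeries j ≤ Cfsg.fittingSubgroup H')
    {H : Type u} [Group H] [Finite H] [Group.IsSolvable H] (ψ : B →* MulAut H)
    (hn : Nat.card H ≤ n) (hcop : (Nat.card H).Coprime (k * c))
    (hfpf : ∀ g : H, (∀ b, ψ b g = g) → g = 1)
    {M : Subgroup H} (hM : IsChiefB ψ M ⊥) :
    ∃ j, ∀ x ∈ (⊤ : Subgroup H).lowerCentralSeries j, ∀ m ∈ M, ⁅m, x⁆ = 1 := by
  classical
  have hk : k.Prime := Fact.out
  have hc : c.Prime := Fact.out
  haveI : M.Normal := hM.1.normal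
  have hcomm := chief_bot_comm hM
  obtain ⟨v, hv, hvd, hexp⟩ := chief_bot_exp hM
  haveI : Fact v.Prime := ⟨hv⟩
  have hkH : ¬ k ∣ Nat.card H := by
    intro hd
    have h1 : k ∣ Nat.gcd (Nat.card H) (k * c) := Nat.dvd_gcd hd (dvd_mul_right k c)
    rw [hcop] at h1
    exact hk.one_lt.ne' (Nat.dvd_one.1 h1)
  have hcH : ¬ c ∣ Nat.card H := by
    intro hd
    have h1 : c ∣ Nat.gcd (Nat.card H) (k * c) := Nat.dvd_gcd hd (dvd_mul_left c k)
    rw [hcop] at h1
    exact hc.one_lt.ne' (Nat.dvd_one.1 h1)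
  have hvk : v ≠ k := by
    rintro rfl
    exact hkH (hvd.trans (Subgroup.card_subgroup_dvd_card M))
  have hvc : v ≠ c := by
    rintro rfl
    exact hcH (hvd.trans (Subgroup.card_subgroup_dvd_card M))
  have hMne : M ≠ ⊥ := bot_lt_iff_ne_bot.mp hM.2.2.1
  let ρ₀ : H →* MulAut ↥M := MulAut.conjNormal
  have hρ₀ : ∀ (g : H) (m : M), ((ρ₀ g m : M) : H) = g * m * g⁻¹ :=
    fun g m => MulAut.conjNormal_apply g m
  have hker : ∀ x, x ∈ ρ₀.ker ↔ ∀ m ∈ M, x * m * x⁻¹ = m := by
    intro x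
    rw [MonoidHom.mem_ker]
    constructor
    · intro h m hm
      have h1 := hρ₀ x ⟨m, hm⟩
      rw [h] at h1
      exact h1.symm
    · intro h
      ext m
      rw [hρ₀]
      exact h m m.2
  have hMsymm : ∀ b, ∀ m ∈ M, (ψ b).symm m ∈ M := by
    intro b m hm
    have h1 := hM.1.inv b ((ψ b).symm m)
    rw [MulEquiv.apply_symm_apply] at h1
    exact h1.mp hm
  have hkerInv : ∀ b x, ψ b x ∈ ρ₀.ker ↔ x ∈ ρ₀.ker := by
    intro b
    apply SG.map_mem_iff
    intro x hx
    rw [hker] at hx ⊢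
    intro m hm
    have h2 := hx _ (hMsymm b m hm)
    have h3 := congrArg (ψ b) h2
    rw [map_mul, map_mul, map_inv, MulEquiv.apply_symm_apply] at h3
    exact h3
  let ψ' : B →* MulAut (H ⧸ ρ₀.ker) := quotAutHom ψ ρ₀.ker hkerInv
  let φ : H ⧸ ρ₀.ker →* MulAut ↥M := QuotientGroup.kerLift ρ₀
  have hφinj : Function.Injective φ := QuotientGroup.kerLift_injective ρ₀
  let ξ : B →* MulAut ↥M :=
    { toFun := fun b => SG.restrictAut (ψ b) M (hM.1.inv b)
      map_one' := by
        ext m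
        rw [SG.restrictAut_apply, map_one]
        rfl
      map_mul' := by
        intro b b'
        ext m
        rw [SG.restrictAut_apply, map_mul]
        rfl }
  have hξ_apply : ∀ (b : B) (m : M), ((ξ b m : M) : H) = ψ b m := fun b m => rfl
  have hξ_symm : ∀ (b : B) (m : M), (((ξ b)⁻¹ m : M) : H) = (ψ b).symm m := fun b m => rfl
  have hτ : ∀ b e, ξ b * φ e * (ξ b)⁻¹ = φ (ψ' b e) := by
    intro b e
    induction e using QuotientGroup.induction_on with
    | H g =>
      have h1 : ψ' b (QuotientGroup.mk g) = QuotientGroup.mk (ψ b g) := rfl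
      have h2 : ∀ g' : H, φ (QuotientGroup.mk g') = ρ₀ g' := fun g' => rfl
      rw [h1, h2, h2]
      ext m
      rw [MulAut.mul_apply, MulAut.mul_apply, hξ_apply, hρ₀, hρ₀, hξ_symm, map_mul, map_mul,
        map_inv, MulEquiv.apply_symm_apply]
  have hfpfE : ∀ e, (∀ b, ψ' b e = e) → e = 1 :=
    frob_quot_fpf hB ψ hkH hcH hfpf ρ₀.ker hkerInv
  have hfpfV : ∀ a : M, (∀ b, ξ b a = a) → a = 1 := by
    intro a ha
    apply Subtype.ext
    apply hfpf
    intro b
    have h1 := congrArg Subtype.val (ha b)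
    rw [hξ_apply] at h1
    exact h1
  have hirr : ∀ N₁ : Subgroup ↥M, (∀ e, ∀ a ∈ N₁, φ e a ∈ N₁) → (∀ b, ∀ a ∈ N₁, ξ b a ∈ N₁) →
      N₁ = ⊥ ∨ N₁ = ⊤ := by
    intro N₁ hE hξ
    have hW : BInv ψ (N₁.map M.subtype) := by
      apply binv_of_forall
      · constructor
        rintro _ ⟨m, hm, rfl⟩ g
        refine ⟨ρ₀ g m, hE (QuotientGroup.mk g) m hm, ?_⟩
        exact hρ₀ g m
      · rintro b _ ⟨m, hm, rfl⟩
        exact ⟨ξ b m, hξ b m hm, rfl⟩
    have hle : N₁.map M.subtype ≤ M := by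
      rintro _ ⟨m, _, rfl⟩
      exact m.2
    rcases hM.2.2.2 _ hW bot_le hle with h | h
    · left
      exact (Subgroup.map_eq_bot_iff_of_injective N₁ M.subtype_injective).mp h
    · right
      rw [eq_top_iff]
      intro a _
      have : (a : H) ∈ N₁.map M.subtype := by rw [h]; exact a.2
      obtain ⟨m, hm, hma⟩ := this
      have : m = a := Subtype.ext hma
      rw [← this]; exact hm
  have hexp' : ∀ a : M, a ^ v = 1 := fun a => Subtype.ext (by simpa using hexp a a.2)
  have hcomm' : ∀ a b : M, a * b = b * a :=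
    fun a b => Subtype.ext (by simpa using hcomm a a.2 b b.2)
  haveI : Nontrivial ↥M := (Subgroup.nontrivial_iff_ne_bot M).mpr hMne
  have hMker : M ≤ ρ₀.ker := by
    intro x hx
    rw [hker]
    intro m hm
    rw [hcomm x hx m hm]
    group
  have hqdvd : Nat.card (H ⧸ ρ₀.ker) ∣ Nat.card H := Subgroup.card_quotient_dvd_card ρ₀.ker
  have hkQ : ¬ k ∣ Nat.card (H ⧸ ρ₀.ker) := fun hd => hkH (hd.trans hqdvd)
  have hcQ : ¬ c ∣ Nat.card (H ⧸ ρ₀.ker) := fun hd => hcH (hd.trans hqdvd)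
  have hcopQ : (Nat.card (H ⧸ ρ₀.ker)).Coprime (k * c) :=
    Nat.Coprime.coprime_dvd_left hqdvd hcop
  have hnil : Group.IsNilpotent (H ⧸ ρ₀.ker) := by
    have hlt : Nat.card (H ⧸ ρ₀.ker) < n := by
      refine lt_of_lt_of_le ?_ hn
      have h1 : Nat.card H = Nat.card (H ⧸ ρ₀.ker) * Nat.card ρ₀.ker :=
        Subgroup.card_eq_card_quotient_mul_card_subgroup ρ₀.ker
      have h2 : 1 < Nat.card ρ₀.ker := by
        rw [Subgroup.one_lt_card_iff_ne_bot]
        intro h
        rw [h, le_bot_iff] at hMker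
        exact hMne hMker
      have h3 : 0 < Nat.card (H ⧸ ρ₀.ker) := Nat.card_pos
      rw [h1]
      nlinarith
    have hF := IH (H ⧸ ρ₀.ker) ψ' hlt hcopQ hfpfE
    have hsyl : ∀ (r : ℕ) [Fact r.Prime], ∃ R : Sylow r (H ⧸ ρ₀.ker),
        ∀ b, ∀ x ∈ R, ψ' b x ∈ R := by
      intro r _
      apply exists_invariant_sylow_coprime ψ' _ (Or.inr inferInstance) r
      rw [hcardB]
      exact hcopQ.symm
    apply nilpotent_of_pairs' ψ' hsyl hF
    intro s r _ _ hsr N R hNinv hNs hRr hRinv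
    exact pairs_commute_setting' hcomm' v hexp' hvk hvc hB hcardB φ hφinj ψ' ξ hτ hfpfE hfpfV hirr
      hkQ hcQ s r hsr N R hNinv hNs hRr hRinv
  obtain ⟨j, hj⟩ := Subgroup.nilpotent_iff_lowerCentralSeries.mp hnil
  refine ⟨j, ?_⟩
  intro x hx m hm
  have h1 : QuotientGroup.mk' ρ₀.ker x ∈ (⊤ : Subgroup (H ⧸ ρ₀.ker)).lowerCentralSeries j := by
    have h2 := Subgroup.map_lowerCentralSeries (⊤ : Subgroup H) (QuotientGroup.mk' ρ₀.ker) j
    rw [← MonoidHom.range_eq_map,
      MonoidHom.range_eq_top.mpr (QuotientGroup.mk'_surjective ρ₀.ker)] at h2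
    rw [← h2]
    exact Subgroup.mem_map_of_mem _ hx
  rw [hj, Subgroup.mem_bot] at h1
  have h3 : x ∈ ρ₀.ker := (QuotientGroup.eq_one_iff x).mp h1
  rw [hker] at h3
  have h4 := h3 m hm
  rw [commutatorElement_def]
  calc m * x * m⁻¹ * x⁻¹ = m * (x * m⁻¹ * x⁻¹) := by group
    _ = m * (x * m * x⁻¹)⁻¹ := by group
    _ = 1 := by rw [h4]; group

/-- **The theorem**: `G / F(G)` is nilpotent. -/
theorem frob_lcs (hB : IsFrob k c a b (⊤ : Subgroup B)) (hcardB : Nat.card B = k * c) :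
    ∀ (n : ℕ) (G : Type u) [Group G] [Finite G] [Group.IsSolvable G] (φ : B →* MulAut G),
      Nat.card G < n → (Nat.card G).Coprime (k * c) → (∀ g : G, (∀ b, φ b g = g) → g = 1) →
      ∃ j, (⊤ : Subgroup G).lowerCentralSeries j ≤ Cfsg.fittingSubgroup G := by
  intro n
  induction n with
  | zero =>
    intro G _ _ _ φ hn
    exact absurd hn (Nat.not_lt_zero _)
  | succ n ih =>
    intro G _ _ _ φ hn hcop hfpf
    have hk : k.Prime := Fact.out
    have hc : c.Prime := Fact.out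
    have hkG : ¬ k ∣ Nat.card G := by
      intro hd
      have h1 : k ∣ Nat.gcd (Nat.card G) (k * c) := Nat.dvd_gcd hd (dvd_mul_right k c)
      rw [hcop] at h1
      exact hk.one_lt.ne' (Nat.dvd_one.1 h1)
    have hcG : ¬ c ∣ Nat.card G := by
      intro hd
      have h1 : c ∣ Nat.gcd (Nat.card G) (k * c) := Nat.dvd_gcd hd (dvd_mul_left c k)
      rw [hcop] at h1
      exact hc.one_lt.ne' (Nat.dvd_one.1 h1)
    have hchief : ∀ UV : Subgroup G × Subgroup G, ∃ j : ℕ, IsChiefB φ UV.1 UV.2 →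
        ∀ x ∈ (⊤ : Subgroup G).lowerCentralSeries j, ∀ u ∈ UV.1, ⁅u, x⁆ ∈ UV.2 := by
      rintro ⟨U, V⟩
      by_cases h : IsChiefB φ U V
      · haveI := h.2.1.normal
        have hchief := chief_quot φ h
        have hfpf' := frob_quot_fpf hB φ hkG hcG hfpf V h.2.1.inv
        have hqdvd : Nat.card (G ⧸ V) ∣ Nat.card G := Subgroup.card_quotient_dvd_card V
        have hcard : Nat.card (G ⧸ V) ≤ n := by
          have h2 := Nat.le_of_dvd Nat.card_pos hqdvd
          omega
        have hcop' : (Nat.card (G ⧸ V)).Coprime (k * c) :=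
          Nat.Coprime.coprime_dvd_left hqdvd hcop
        obtain ⟨j, hj⟩ := chief_bot_centralized' hB hcardB n ih (quotAutHom φ V h.2.1.inv) hcard
          hcop' hfpf' hchief
        refine ⟨j, fun _ x hx u hu => ?_⟩
        have h1 : QuotientGroup.mk' V x ∈ (⊤ : Subgroup (G ⧸ V)).lowerCentralSeries j := by
          have h2 := Subgroup.map_lowerCentralSeries (⊤ : Subgroup G) (QuotientGroup.mk' V) j
          rw [← MonoidHom.range_eq_map,
            MonoidHom.range_eq_top.mpr (QuotientGroup.mk'_surjective V)] at h2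
          rw [← h2]
          exact Subgroup.mem_map_of_mem _ hx
        have h3 := hj _ h1 (QuotientGroup.mk' V u) ⟨u, hu, rfl⟩
        have h4 : (QuotientGroup.mk ⁅u, x⁆ : G ⧸ V) = 1 := by
          rw [← h3]
          rfl
        exact (QuotientGroup.eq_one_iff _).mp h4
      · exact ⟨0, fun h' => absurd h' h⟩
    choose f hf using hchief
    obtain ⟨UV₀, hmax⟩ := Finite.exists_max f
    refine ⟨f UV₀, ?_⟩
    intro x hx
    apply chiefCentB_le_fitting φ
    intro U V h u hu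
    exact hf (U, V) h x (Subgroup.lowerCentralSeries_antitone _ (hmax (U, V)) hx) u hu

end Main

end Cfsg.Agent.Lib.Helper56.FrobGp
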