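import Cfsg.Agent.Lib.Helper56.WardMain

/-!
# Ward's theorem: the pair lemma for automorphisms of an elementary abelian group

`V` a finite elementary abelian `v`-group; `A`, `N`, `R` subgroups of `MulAut V` as in the pair
lemma, `A` without nontrivial fixed points on `V`: then `N` and `R` commute.
-/

set_option autoImplicit false
set_option linter.unusedSectionVars false
set_option linter.style.haveILetI false

namespace Cfsg.Agent.Lib.Helper56.Ward

open Module TensorProduct
open Cfsg.Agent.Lib.Helper56.HH
open Cfsg.Agent.Lib.Helper56.HHB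

universe u

section GroupForm

variable {V : Type u} [CommGroup V] [Finite V]

theorem pair_commute_mulAut_aux (v p s r : ℕ) [Fact v.Prime] [Fact p.Prime] [Fact s.Prime]
    [Fact r.Prime] [Module (ZMod v) (Additive V)]
    (hps : p ≠ s) (hpr : p ≠ r) (hsr : s ≠ r) (hvs : v ≠ s) (hvp : v ≠ p)
    {A N R : Subgroup (MulAut V)} (hA : IsEA2 p A) (hP : Pair A N R s r)
    (hfixV : ∀ a : V, (∀ α ∈ A, α a = a) → a = 1) :
    ∀ x ∈ N, ∀ y ∈ R, x * y = y * x := by
  classical
  have hv : v.Prime := Fact.out
  have hp : p.Prime := Fact.out
  have hs : s.Prime := Fact.out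
  haveI : Finite (Additive V) := inferInstanceAs (Finite V)
  haveI : FiniteDimensional (ZMod v) (Additive V) := Module.Finite.of_finite
  haveI : Finite (MulAut V) := Finite.of_injective (fun f : MulAut V => (f : V → V))
    (fun f g h => by ext a; exact congrFun h a)
  let lin : MulAut V →* Module.End (ZMod v) (Additive V) :=
    { toFun := fun f => (MonoidHom.toAdditive f.toMonoidHom).toZModLinearMap v
      map_one' := by
        apply LinearMap.ext
        intro x
        simp
      map_mul' := by
        intro f g
        apply LinearMap.ext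
        intro x
        simp }
  have hlin_apply : ∀ (f : MulAut V) (x : Additive V),
      lin f x = Additive.ofMul (f (Additive.toMul x)) := fun f x => rfl
  have hlin_inj : Function.Injective lin := by
    intro f g hfg
    ext a
    have := congrArg (fun h : Module.End (ZMod v) (Additive V) => h (Additive.ofMul a)) hfg
    exact congrArg Additive.toMul this
  let L := AlgebraicClosure (ZMod v)
  let bcA := Module.End.baseChangeHom (ZMod v) L (Additive V)
  let bc : Module.End (ZMod v) (Additive V) →* Module.End L (L ⊗[ZMod v] Additive V) :=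
    (bcA : Module.End (ZMod v) (Additive V) →* Module.End L (L ⊗[ZMod v] Additive V))
  have hbc_apply : ∀ f, bc f = bcA f := fun f => rfl
  have hbc_inj : Function.Injective bc := by
    intro f g hfg
    exact LinearMap.baseChangeHom_injective (ZMod v) (Additive V) L hfg
  have hcast : ∀ k : ℕ, ¬ v ∣ k → (k : L) ≠ 0 := by
    intro k hk h0
    have h1 : (k : ZMod v) ≠ 0 := fun h => hk ((ZMod.natCast_eq_zero_iff k v).1 h)
    apply h1
    have : algebraMap (ZMod v) L (k : ZMod v) = 0 := by rw [map_natCast]; exact h0
    exact (map_eq_zero_iff (algebraMap (ZMod v) L) (algebraMap (ZMod v) L).injective).1 this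
  have hpL : (p : L) ≠ 0 :=
    hcast p (fun h => hvp ((Nat.prime_dvd_prime_iff_eq hv hp).1 h))
  have hsL : (s : L) ≠ 0 :=
    hcast s (fun h => hvs ((Nat.prime_dvd_prime_iff_eq hv hs).1 h))
  let g : MulAut V →* Module.End L (L ⊗[ZMod v] Additive V) := bc.comp lin
  have hg_apply : ∀ f : MulAut V, g f = bcA (lin f) := fun f => rfl
  have hg_inj : Function.Injective g := by
    intro f f' h
    apply hlin_inj
    apply hbc_inj
    exact h
  haveI : Fintype A := Fintype.ofFinite A
  -- the sum of the elements of `A` vanishes on `V`
  have hT : ∑ α : A, lin (α : MulAut V) = 0 := by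
    apply LinearMap.ext
    intro x
    rw [LinearMap.sum_apply, LinearMap.zero_apply]
    set y : Additive V := ∑ α : A, lin (α : MulAut V) x with hy
    have hyfix : ∀ α' ∈ A, lin α' y = y := by
      intro α' hα'
      rw [hy, map_sum]
      exact Fintype.sum_equiv (Equiv.mulLeft (⟨α', hα'⟩ : A)) _ _
        (fun b => by
          rw [← Module.End.mul_apply, ← map_mul]
          rfl)
    have h1 : Additive.toMul y = 1 := by
      apply hfixV
      intro α' hα'
      have := hyfix α' hα'
      rw [hlin_apply] at this
      exact congrArg Additive.toMul this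
    exact congrArg Additive.ofMul h1
  have hT' : ∑ α : A, g (α : MulAut V) = 0 := by
    have h1 := congrArg bcA hT
    rw [map_sum, map_zero] at h1
    exact h1
  have hS : Setting g p A :=
    { inj := hg_inj
      ea := hA
      fixW := by
        intro w hw
        have h1 : (∑ α : A, g (α : MulAut V)) w = (Nat.card A : L) • w := by
          rw [LinearMap.sum_apply]
          have h2 : ∀ α ∈ (Finset.univ : Finset A), g (α : MulAut V) w = w :=
            fun α _ => hw α α.2
          rw [Finset.sum_congr rfl h2, Finset.sum_const, Finset.card_univ,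
            Nat.card_eq_fintype_card, Nat.cast_smul_eq_nsmul]
        rw [hT', LinearMap.zero_apply, hA.card] at h1
        have h3 : ((p ^ 2 : ℕ) : L) ≠ 0 := by
          rw [Nat.cast_pow]; exact pow_ne_zero _ hpL
        rcases smul_eq_zero.1 h1.symm with h4 | h4
        · exact absurd h4 h3
        · exact h4 }
  exact pair_commute hps hpr hsr hsL hS hP

/-- **The pair lemma, group form.** -/
theorem pair_commute_mulAut (v p s r : ℕ) [Fact v.Prime] [Fact p.Prime] [Fact s.Prime]
    [Fact r.Prime] (hexp : ∀ a : V, a ^ v = 1)
    (hps : p ≠ s) (hpr : p ≠ r) (hsr : s ≠ r) (hvs : v ≠ s) (hvp : v ≠ p)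
    {A N R : Subgroup (MulAut V)} (hA : IsEA2 p A) (hP : Pair A N R s r)
    (hfixV : ∀ a : V, (∀ α ∈ A, α a = a) → a = 1) :
    ∀ x ∈ N, ∀ y ∈ R, x * y = y * x := by
  letI : Module (ZMod v) (Additive V) := AddCommGroup.zmodModule (n := v) (by
    intro x
    have := hexp (Additive.toMul x)
    exact congrArg Additive.ofMul this)
  exact pair_commute_mulAut_aux v p s r hps hpr hsr hvs hvp hA hP hfixV

end GroupForm

end Cfsg.Agent.Lib.Helper56.Ward
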