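import Cfsg.Agent.Lib.Helper56.WardGroupB
import Cfsg.Agent.Lib.Helper56.WardGroupC

/-!
# Ward's theorem: the group theoretic reduction

`B` elementary abelian of order `p ^ 2` acting without nontrivial fixed points on the finite
solvable group `G`: then `G / F(G)` is nilpotent.
-/

set_option autoImplicit false
set_option linter.unusedSectionVars false
set_option linter.style.haveILetI false

open scoped commutatorElement

namespace Cfsg.Agent.Lib.Helper56.WardG

open Cfsg.Agent.Lib.Helper56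
open Cfsg.Agent.Lib.Helper56.Ward

universe u u' w

/-- an elementary abelian group of order `p ^ 2` -/
structure IsEA2T (p : ℕ) (B : Type w) [Group B] : Prop where
  comm : ∀ a b : B, a * b = b * a
  exp : ∀ a : B, a ^ p = 1
  card : Nat.card B = p ^ 2

section EA

variable {B : Type w} [Group B] {p : ℕ} [Fact p.Prime]

theorem IsEA2T.isPGroup (hB : IsEA2T p B) : IsPGroup p B :=
  fun b => ⟨1, by rw [pow_one]; exact hB.exp b⟩

theorem IsEA2T.finite (hB : IsEA2T p B) : Finite B := by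
  apply Nat.finite_of_card_ne_zero
  rw [hB.card]
  exact pow_ne_zero _ (Fact.out : p.Prime).ne_zero

theorem IsEA2T.top (hB : IsEA2T p B) : IsEA2 p (⊤ : Subgroup B) :=
  ⟨fun a _ b _ => hB.comm a b, fun a _ => hB.exp a, by rw [Subgroup.card_top]; exact hB.card⟩

theorem IsEA2T.range {Γ : Type u} [Group Γ] (hB : IsEA2T p B) (ξ : B →* Γ)
    (hξ : Function.Injective ξ) : IsEA2 p ξ.range := by
  refine ⟨?_, ?_, ?_⟩
  · rintro _ ⟨a, rfl⟩ _ ⟨b, rfl⟩
    rw [← map_mul, ← map_mul, hB.comm]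
  · rintro _ ⟨a, rfl⟩
    rw [← map_pow, hB.exp, map_one]
  · rw [← hB.card]
    exact (Nat.card_congr (MonoidHom.ofInjective hξ).toEquiv).symm

/-- a non faithful fixed point free action of `B`: Thompson's theorem applies -/
theorem nilpotent_of_not_faithful (hB : IsEA2T p B) {H : Type u} [Group H] [Finite H]
    (ψ : B →* MulAut H) (hfpf : ∀ g : H, (∀ b, ψ b g = g) → g = 1) (b₀ : B) (hb₀ : b₀ ≠ 1)
    (hψ : ψ b₀ = 1) : Group.IsNilpotent H := by
  have hp : p.Prime := Fact.out
  haveI := hB.finite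
  obtain ⟨b₁, -, hb₁⟩ := hB.top.exists_not_mem_zpowers hp (Subgroup.mem_top b₀)
  have hle := hB.top.le_of_mem hp (Subgroup.mem_top b₀) (Subgroup.mem_top b₁) hb₀ hb₁
    ((Subgroup.zpowers (ψ b₁)).comap ψ)
    (by rw [Subgroup.mem_comap, hψ]; exact Subgroup.one_mem _)
    (by rw [Subgroup.mem_comap]; exact Subgroup.mem_zpowers _)
  set α : MulAut H := ψ b₁ with hα
  have hfix : ∀ g : H, α g = g → g = 1 := by
    intro g hg
    apply hfpf
    intro b
    have h1 : ψ b ∈ Subgroup.zpowers α := hle (Subgroup.mem_top b)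
    obtain ⟨k, hk⟩ := Subgroup.mem_zpowers_iff.mp h1
    rw [← hk]
    have h2 : ∀ j : ℕ, (α ^ j) g = g := by
      intro j
      induction j with
      | zero => simp
      | succ j ih => rw [pow_succ, MulAut.mul_apply, hg, ih]
    have h3 : ∀ j : ℕ, ((α ^ j)⁻¹) g = g := by
      intro j
      rw [MulAut.inv_apply, MulEquiv.symm_apply_eq]
      exact (h2 j).symm
    rcases Int.eq_nat_or_neg k with ⟨j, rfl | rfl⟩
    · rw [zpow_natCast]; exact h2 j
    · rw [zpow_neg, zpow_natCast]; exact h3 j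
  by_cases hα1 : α = 1
  · haveI : Subsingleton H := ⟨fun a b => by
      rw [hfix a (by rw [hα1]; rfl), hfix b (by rw [hα1]; rfl)]⟩
    infer_instance
  · have hαp : α ^ p = 1 := by rw [hα, ← map_pow, hB.exp, map_one]
    have hord : orderOf α = p := orderOf_eq_prime hαp hα1
    exact Cfsg.Agent.S0033.result α (fun g hg => hfix g hg) p hp hord

end EA

/-! ### A group `E` acting faithfully and irreducibly (with `B`) on an elementary abelian group -/

section Setting

variable {B : Type w} [Group B] {p : ℕ} [Fact p.Prime]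
variable {V : Type u} [Group V] [Finite V] {E : Type u'} [Group E] [Finite E]

/-- normal invariant `v`-subgroups of `E` are trivial -/
theorem normal_vgroup_trivial [Nontrivial V] (v : ℕ) [Fact v.Prime] (hexp : ∀ a : V, a ^ v = 1)
    (φ : E →* MulAut V) (hφ : Function.Injective φ) (ψ' : B →* MulAut E) (ξ : B →* MulAut V)
    (hτ : ∀ b e, ξ b * φ e * (ξ b)⁻¹ = φ (ψ' b e))
    (hirr : ∀ N₁ : Subgroup V, (∀ e, ∀ a ∈ N₁, φ e a ∈ N₁) → (∀ b, ∀ a ∈ N₁, ξ b a ∈ N₁) →
      N₁ = ⊥ ∨ N₁ = ⊤)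
    (N : Subgroup E) (hN : BInv ψ' N) (hNv : IsPGroup v N) : N = ⊥ := by
  have hv : v.Prime := Fact.out
  have hNn : N.Normal := hN.normal
  let P' : Subgroup (MulAut V) := N.map φ
  have hP' : IsPGroup v P' := hNv.map φ
  let N₁ : Subgroup V :=
    { carrier := {a | ∀ x ∈ N, φ x a = a}
      one_mem' := fun x _ => map_one _
      mul_mem' := by
        intro a b ha hb x hx
        rw [map_mul, ha x hx, hb x hx]
      inv_mem' := by
        intro a ha x hx
        rw [map_inv, ha x hx] }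
  have hdvd : v ∣ Nat.card V := by
    obtain ⟨a, ha⟩ := exists_ne (1 : V)
    have h1 : orderOf a ∣ v := orderOf_dvd_of_pow_eq_one (hexp a)
    rcases (Nat.dvd_prime hv).mp h1 with h2 | h2
    · exact absurd (orderOf_eq_one_iff.mp h2) ha
    · rw [← h2]; exact orderOf_dvd_natCard a
  have hfix1 : (1 : V) ∈ MulAction.fixedPoints P' V := by
    intro m
    obtain ⟨m, hm⟩ := m
    show m (1 : V) = 1
    exact map_one m
  obtain ⟨b, hb, hb1⟩ := hP'.exists_fixed_point_of_prime_dvd_card_of_fixed_point V hdvd hfix1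
  have hbN : b ∈ N₁ := by
    intro x hx
    have := hb ⟨φ x, Subgroup.mem_map_of_mem φ hx⟩
    exact this
  have hE : ∀ e, ∀ a ∈ N₁, φ e a ∈ N₁ := by
    intro e a ha x hx
    have h1 : e⁻¹ * x * e⁻¹⁻¹ ∈ N := hNn.conj_mem x hx e⁻¹
    have h2 := ha _ h1
    have h3 : φ x (φ e a) = φ e (φ (e⁻¹ * x * e⁻¹⁻¹) a) := by
      rw [← MulAut.mul_apply, ← MulAut.mul_apply, ← map_mul, ← map_mul]
      congr 2; group
    rw [h3, h2]
  have hξ : ∀ b', ∀ a ∈ N₁, ξ b' a ∈ N₁ := by
    intro b' a ha x hx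
    have h1 : (ψ' b').symm x ∈ N := by
      have := hN.inv b' ((ψ' b').symm x)
      rw [MulEquiv.apply_symm_apply] at this
      exact this.mp hx
    have h2 := ha _ h1
    have h3 := hτ b' ((ψ' b').symm x)
    rw [MulEquiv.apply_symm_apply] at h3
    rw [← h3]
    simp only [MulAut.mul_apply, MulAut.inv_apply, MulEquiv.symm_apply_apply]
    rw [h2]
  rcases hirr N₁ hE hξ with h | h
  · rw [h, Subgroup.mem_bot] at hbN
    exact absurd hbN.symm hb1
  · rw [eq_bot_iff]
    intro x hx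
    rw [Subgroup.mem_bot]
    apply hφ
    rw [map_one]
    ext a
    have : a ∈ N₁ := by rw [h]; trivial
    exact this x hx

theorem conj_map_mem {φ : E →* MulAut V} {ψ' : B →* MulAut E} {ξ : B →* MulAut V}
    (hτ : ∀ b e, ξ b * φ e * (ξ b)⁻¹ = φ (ψ' b e)) {K : Subgroup E}
    (hK : ∀ b, ∀ x ∈ K, ψ' b x ∈ K) :
    ξ.range ≤ Subgroup.normalizer ((K.map φ : Subgroup (MulAut V)) : Set (MulAut V)) := by
  haveI : Finite (MulAut V) := Finite.of_injective (fun f : MulAut V => (f : V → V))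
    (fun f g h => by ext a; exact congrFun h a)
  rintro _ ⟨b, rfl⟩
  apply HHB.mem_normalizer_of_pow_eq_one _ _ (Nat.card (MulAut V)) Nat.card_pos
    (pow_card_eq_one')
  rintro _ ⟨x, hx, rfl⟩
  rw [hτ]
  exact Subgroup.mem_map_of_mem φ (hK b x hx)

theorem fix_map_eq_one {φ : E →* MulAut V} (hφ : Function.Injective φ) {ψ' : B →* MulAut E}
    {ξ : B →* MulAut V} (hτ : ∀ b e, ξ b * φ e * (ξ b)⁻¹ = φ (ψ' b e))
    (hfpfE : ∀ e : E, (∀ b, ψ' b e = e) → e = 1) {K : Subgroup E} :
    ∀ x ∈ K.map φ, (∀ a ∈ ξ.range, a * x = x * a) → x = 1 := by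
  rintro _ ⟨n, -, rfl⟩ h
  have h1 : n = 1 := by
    apply hfpfE
    intro b
    apply hφ
    rw [← hτ, h (ξ b) ⟨b, rfl⟩]
    group
  rw [h1, map_one]

/-- the pairs hypothesis of the nilpotency criterion -/
theorem pairs_commute_setting [Nontrivial V] (hcomm : ∀ a b : V, a * b = b * a) (v : ℕ)
    [Fact v.Prime] (hexp : ∀ a : V, a ^ v = 1) (hvp : v ≠ p) (hB : IsEA2T p B)
    (φ : E →* MulAut V) (hφ : Function.Injective φ) (ψ' : B →* MulAut E) (ξ : B →* MulAut V)
    (hξ : Function.Injective ξ)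
    (hτ : ∀ b e, ξ b * φ e * (ξ b)⁻¹ = φ (ψ' b e))
    (hfpfE : ∀ e : E, (∀ b, ψ' b e = e) → e = 1) (hfpfV : ∀ a : V, (∀ b, ξ b a = a) → a = 1)
    (hirr : ∀ N₁ : Subgroup V, (∀ e, ∀ a ∈ N₁, φ e a ∈ N₁) → (∀ b, ∀ a ∈ N₁, ξ b a ∈ N₁) →
      N₁ = ⊥ ∨ N₁ = ⊤)
    (s r : ℕ) [Fact s.Prime] [Fact r.Prime] (hsr : s ≠ r) (N R : Subgroup E)
    (hNinv : BInv ψ' N) (hNs : IsPGroup s N) (hRr : IsPGroup r R)
    (hRinv : ∀ b, ∀ x ∈ R, ψ' b x ∈ R) :
    ∀ x ∈ N, ∀ y ∈ R, x * y = y * x := by
  have hp : p.Prime := Fact.out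
  have hs : s.Prime := Fact.out
  have hr : r.Prime := Fact.out
  have hBp := hB.isPGroup
  have hpE : ¬ p ∣ Nat.card E := not_dvd_card_of_fpf hBp ψ' hfpfE
  by_cases hN1 : N = ⊥
  · intro x hx y _
    rw [hN1, Subgroup.mem_bot] at hx
    rw [hx, one_mul, mul_one]
  by_cases hR1 : R = ⊥
  · intro x _ y hy
    rw [hR1, Subgroup.mem_bot] at hy
    rw [hy, one_mul, mul_one]
  have hps : p ≠ s := by
    rintro rfl
    rcases hNs.card_eq_or_dvd with h | h
    · exact hN1 (Subgroup.card_eq_one.mp h)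
    · exact hpE (h.trans (Subgroup.card_subgroup_dvd_card N))
  have hpr : p ≠ r := by
    rintro rfl
    rcases hRr.card_eq_or_dvd with h | h
    · exact hR1 (Subgroup.card_eq_one.mp h)
    · exact hpE (h.trans (Subgroup.card_subgroup_dvd_card R))
  by_cases hvs : v = s
  · subst hvs
    exact absurd (normal_vgroup_trivial v hexp φ hφ ψ' ξ hτ hirr N hNinv hNs) hN1
  have hA : IsEA2 p ξ.range := hB.range ξ hξ
  have hNn : N.Normal := hNinv.normal
  have hP : Pair ξ.range (N.map φ) (R.map φ) s r :=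
    { hN := hNs.map φ
      hR := hRr.map φ
      AN := conj_map_mem hτ (fun b x hx => (hNinv.inv b x).mpr hx)
      AR := conj_map_mem hτ hRinv
      RN := by
        have h1 : R.map φ ≤ (Subgroup.normalizer (N : Set E)).map φ := by
          apply Subgroup.map_mono
          rw [Subgroup.normalizer_eq_top]
          exact le_top
        exact h1.trans (Subgroup.le_normalizer_map φ)
      fixN := fix_map_eq_one hφ hτ hfpfE
      fixR := fix_map_eq_one hφ hτ hfpfE }
  have hfixV : ∀ a : V, (∀ α ∈ ξ.range, α a = a) → a = 1 :=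
    fun a ha => hfpfV a (fun b => ha (ξ b) ⟨b, rfl⟩)
  letI : CommGroup V := { (inferInstance : Group V) with mul_comm := hcomm }
  have key := pair_commute_mulAut v p s r hexp hps hpr hsr hvs hvp hA hP hfixV
  intro x hx y hy
  apply hφ
  rw [map_mul, map_mul]
  exact key _ (Subgroup.mem_map_of_mem φ hx) _ (Subgroup.mem_map_of_mem φ hy)

end Setting

/-! ### Minimal invariant normal subgroups are centralized by a term of the lower central series -/

section Main

variable {B : Type w} [Group B] {p : ℕ} [Fact p.Prime]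

theorem chief_bot_centralizedB (hB : IsEA2T p B) (n : ℕ)
    (IH : ∀ (H' : Type u) [Group H'] [Finite H'] [Group.IsSolvable H'] (ψ' : B →* MulAut H'),
      Nat.card H' < n → (∀ g : H', (∀ b, ψ' b g = g) → g = 1) →
      ∃ k, (⊤ : Subgroup H').lowerCentralSeries k ≤ Cfsg.fittingSubgroup H')
    {H : Type u} [Group H] [Finite H] [Group.IsSolvable H] (ψ : B →* MulAut H)
    (hn : Nat.card H ≤ n) (hfpf : ∀ g : H, (∀ b, ψ b g = g) → g = 1)
    {M : Subgroup H} (hM : IsChiefB ψ M ⊥) :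
    ∃ k, ∀ x ∈ (⊤ : Subgroup H).lowerCentralSeries k, ∀ m ∈ M, ⁅m, x⁆ = 1 := by
  classical
  have hp : p.Prime := Fact.out
  haveI := hB.finite
  have hBp := hB.isPGroup
  haveI : M.Normal := hM.1.normal
  have hcomm := chief_bot_comm hM
  obtain ⟨v, hv, hvd, hexp⟩ := chief_bot_exp hM
  haveI : Fact v.Prime := ⟨hv⟩
  have hpH : ¬ p ∣ Nat.card H := not_dvd_card_of_fpf hBp ψ hfpf
  have hvp : v ≠ p := by
    rintro rfl
    exact hpH (hvd.trans (Subgroup.card_subgroup_dvd_card M))
  have hMne : M ≠ ⊥ := bot_lt_iff_ne_bot.mp hM.2.2.1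
  let ρ₀ : H →* MulAut ↥M := MulAut.conjNormal
  have hρ₀ : ∀ (g : H) (m : M), ((ρ₀ g m : M) : H) = g * m * g⁻¹ :=
    fun g m => MulAut.conjNormal_apply g m
  have hker : ∀ x, x ∈ ρ₀.ker ↔ ∀ m ∈ M, x * m * x⁻¹ = m := by
    intro x
    rw [MonoidHom.mem_ker]
    constructor
    · intro h m hm
      have h1 := hρ₀ x ⟨m, hm⟩
      rw [h] at h1
      exact h1.symm
    · intro h
      ext m
      rw [hρ₀]
      exact h m m.2
  have hMsymm : ∀ b, ∀ m ∈ M, (ψ b).symm m ∈ M := by
    intro b m hm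
    have h1 := hM.1.inv b ((ψ b).symm m)
    rw [MulEquiv.apply_symm_apply] at h1
    exact h1.mp hm
  have hkerInv : ∀ b x, ψ b x ∈ ρ₀.ker ↔ x ∈ ρ₀.ker := by
    intro b
    apply SG.map_mem_iff
    intro x hx
    rw [hker] at hx ⊢
    intro m hm
    have h2 := hx _ (hMsymm b m hm)
    have h3 := congrArg (ψ b) h2
    rw [map_mul, map_mul, map_inv, MulEquiv.apply_symm_apply] at h3
    exact h3
  let ψ' : B →* MulAut (H ⧸ ρ₀.ker) := quotAutHom ψ ρ₀.ker hkerInv
  let φ : H ⧸ ρ₀.ker →* MulAut ↥M := QuotientGroup.kerLift ρ₀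
  have hφinj : Function.Injective φ := QuotientGroup.kerLift_injective ρ₀
  let ξ : B →* MulAut ↥M :=
    { toFun := fun b => SG.restrictAut (ψ b) M (hM.1.inv b)
      map_one' := by
        ext m
        rw [SG.restrictAut_apply, map_one]
        rfl
      map_mul' := by
        intro b b'
        ext m
        rw [SG.restrictAut_apply, map_mul]
        rfl }
  have hξ_apply : ∀ (b : B) (m : M), ((ξ b m : M) : H) = ψ b m := fun b m => rfl
  have hξ_symm : ∀ (b : B) (m : M), (((ξ b)⁻¹ m : M) : H) = (ψ b).symm m := fun b m => rfl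
  have hτ : ∀ b e, ξ b * φ e * (ξ b)⁻¹ = φ (ψ' b e) := by
    intro b e
    induction e using QuotientGroup.induction_on with
    | H g =>
      have h1 : ψ' b (QuotientGroup.mk g) = QuotientGroup.mk (ψ b g) := rfl
      have h2 : ∀ g' : H, φ (QuotientGroup.mk g') = ρ₀ g' := fun g' => rfl
      rw [h1, h2, h2]
      ext m
      rw [MulAut.mul_apply, MulAut.mul_apply, hξ_apply, hρ₀, hρ₀, hξ_symm, map_mul, map_mul,
        map_inv, MulEquiv.apply_symm_apply]
  have hfpfE : ∀ e, (∀ b, ψ' b e = e) → e = 1 := quotAutHom_fpf hBp ψ hfpf ρ₀.ker hkerInv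
  have hfpfV : ∀ a : M, (∀ b, ξ b a = a) → a = 1 := by
    intro a ha
    apply Subtype.ext
    apply hfpf
    intro b
    have h1 := congrArg Subtype.val (ha b)
    rw [hξ_apply] at h1
    exact h1
  have hirr : ∀ N₁ : Subgroup ↥M, (∀ e, ∀ a ∈ N₁, φ e a ∈ N₁) → (∀ b, ∀ a ∈ N₁, ξ b a ∈ N₁) →
      N₁ = ⊥ ∨ N₁ = ⊤ := by
    intro N₁ hE hξ
    have hW : BInv ψ (N₁.map M.subtype) := by
      apply binv_of_forall
      · constructor
        rintro _ ⟨m, hm, rfl⟩ g
        refine ⟨ρ₀ g m, hE (QuotientGroup.mk g) m hm, ?_⟩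
        exact hρ₀ g m
      · rintro b _ ⟨m, hm, rfl⟩
        exact ⟨ξ b m, hξ b m hm, rfl⟩
    have hle : N₁.map M.subtype ≤ M := by
      rintro _ ⟨m, _, rfl⟩
      exact m.2
    rcases hM.2.2.2 _ hW bot_le hle with h | h
    · left
      exact (Subgroup.map_eq_bot_iff_of_injective N₁ M.subtype_injective).mp h
    · right
      rw [eq_top_iff]
      intro a _
      have : (a : H) ∈ N₁.map M.subtype := by rw [h]; exact a.2
      obtain ⟨m, hm, hma⟩ := this
      have : m = a := Subtype.ext hma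
      rw [← this]; exact hm
  have hexp' : ∀ a : M, a ^ v = 1 := fun a => Subtype.ext (by simpa using hexp a a.2)
  have hcomm' : ∀ a b : M, a * b = b * a :=
    fun a b => Subtype.ext (by simpa using hcomm a a.2 b b.2)
  haveI : Nontrivial ↥M := (Subgroup.nontrivial_iff_ne_bot M).mpr hMne
  -- `M` is contained in the kernel
  have hMker : M ≤ ρ₀.ker := by
    intro x hx
    rw [hker]
    intro m hm
    rw [hcomm x hx m hm]
    group
  have hnil : Group.IsNilpotent (H ⧸ ρ₀.ker) := by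
    by_cases hξ : Function.Injective ξ
    · have hlt : Nat.card (H ⧸ ρ₀.ker) < n := by
        refine lt_of_lt_of_le ?_ hn
        have h1 : Nat.card H = Nat.card (H ⧸ ρ₀.ker) * Nat.card ρ₀.ker :=
          Subgroup.card_eq_card_quotient_mul_card_subgroup ρ₀.ker
        have h2 : 1 < Nat.card ρ₀.ker := by
          rw [Subgroup.one_lt_card_iff_ne_bot]
          intro h
          rw [h, le_bot_iff] at hMker
          exact hMne hMker
        have h3 : 0 < Nat.card (H ⧸ ρ₀.ker) := Nat.card_pos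
        rw [h1]
        nlinarith
      have hF := IH (H ⧸ ρ₀.ker) ψ' hlt hfpfE
      have hpH' : ¬ p ∣ Nat.card (H ⧸ ρ₀.ker) := not_dvd_card_of_fpf hBp ψ' hfpfE
      apply nilpotent_of_pairs hBp ψ' hpH' hF
      intro s r _ _ hsr N R hNinv hNs hRr hRinv
      exact pairs_commute_setting hcomm' v hexp' hvp hB φ hφinj ψ' ξ hξ hτ hfpfE hfpfV hirr
        s r hsr N R hNinv hNs hRr hRinv
    · have hex : ∃ b₀ : B, b₀ ≠ 1 ∧ ξ b₀ = 1 := by
        by_contra hcon
        push Not at hcon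
        apply hξ
        rw [injective_iff_map_eq_one]
        intro b hb
        by_contra hb1
        exact hcon b hb1 hb
      obtain ⟨b₀, hb₀, hb₀'⟩ := hex
      apply nilpotent_of_not_faithful hB ψ' hfpfE b₀ hb₀
      ext e
      apply hφinj
      rw [← hτ b₀ e, hb₀']
      simp
  obtain ⟨k, hk⟩ := Subgroup.nilpotent_iff_lowerCentralSeries.mp hnil
  refine ⟨k, ?_⟩
  intro x hx m hm
  have h1 : QuotientGroup.mk' ρ₀.ker x ∈ (⊤ : Subgroup (H ⧸ ρ₀.ker)).lowerCentralSeries k := by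
    have h2 := Subgroup.map_lowerCentralSeries (⊤ : Subgroup H) (QuotientGroup.mk' ρ₀.ker) k
    rw [← MonoidHom.range_eq_map,
      MonoidHom.range_eq_top.mpr (QuotientGroup.mk'_surjective ρ₀.ker)] at h2
    rw [← h2]
    exact Subgroup.mem_map_of_mem _ hx
  rw [hk, Subgroup.mem_bot] at h1
  have h3 : x ∈ ρ₀.ker := (QuotientGroup.eq_one_iff x).mp h1
  rw [hker] at h3
  have h4 := h3 m hm
  rw [commutatorElement_def]
  calc m * x * m⁻¹ * x⁻¹ = m * (x * m⁻¹ * x⁻¹) := by group
    _ = m * (x * m * x⁻¹)⁻¹ := by group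
    _ = 1 := by rw [h4]; group

/-- **Ward's theorem**: `G / F(G)` is nilpotent. -/
theorem ward_lcs (hB : IsEA2T p B) :
    ∀ (n : ℕ) (G : Type u) [Group G] [Finite G] [Group.IsSolvable G] (φ : B →* MulAut G),
      Nat.card G < n → (∀ g : G, (∀ b, φ b g = g) → g = 1) →
      ∃ k, (⊤ : Subgroup G).lowerCentralSeries k ≤ Cfsg.fittingSubgroup G := by
  intro n
  induction n with
  | zero =>
    intro G _ _ _ φ hn
    exact absurd hn (Nat.not_lt_zero _)
  | succ n ih =>
    intro G _ _ _ φ hn hfpf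
    have hBp := hB.isPGroup
    -- for each chief factor there is a term of the lower central series centralizing it
    have hchief : ∀ UV : Subgroup G × Subgroup G, ∃ k : ℕ, IsChiefB φ UV.1 UV.2 →
        ∀ x ∈ (⊤ : Subgroup G).lowerCentralSeries k, ∀ u ∈ UV.1, ⁅u, x⁆ ∈ UV.2 := by
      rintro ⟨U, V⟩
      by_cases h : IsChiefB φ U V
      · haveI := h.2.1.normal
        have hchief := chief_quot φ h
        have hfpf' := quotAutHom_fpf hBp φ hfpf V h.2.1.inv
        have hcard : Nat.card (G ⧸ V) ≤ n := by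
          have h1 : Nat.card (G ⧸ V) ∣ Nat.card G := Subgroup.card_quotient_dvd_card V
          have h2 := Nat.le_of_dvd Nat.card_pos h1
          omega
        obtain ⟨k, hk⟩ := chief_bot_centralizedB hB n ih (quotAutHom φ V h.2.1.inv) hcard hfpf'
          hchief
        refine ⟨k, fun _ x hx u hu => ?_⟩
        have h1 : QuotientGroup.mk' V x ∈ (⊤ : Subgroup (G ⧸ V)).lowerCentralSeries k := by
          have h2 := Subgroup.map_lowerCentralSeries (⊤ : Subgroup G) (QuotientGroup.mk' V) k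
          rw [← MonoidHom.range_eq_map,
            MonoidHom.range_eq_top.mpr (QuotientGroup.mk'_surjective V)] at h2
          rw [← h2]
          exact Subgroup.mem_map_of_mem _ hx
        have h3 := hk _ h1 (QuotientGroup.mk' V u) ⟨u, hu, rfl⟩
        have h4 : (QuotientGroup.mk ⁅u, x⁆ : G ⧸ V) = 1 := by
          rw [← h3]
          rfl
        exact (QuotientGroup.eq_one_iff _).mp h4
      · exact ⟨0, fun h' => absurd h' h⟩
    choose f hf using hchief
    obtain ⟨UV₀, hmax⟩ := Finite.exists_max f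
    refine ⟨f UV₀, ?_⟩
    intro x hx
    apply chiefCentB_le_fitting φ
    intro U V h u hu
    exact hf (U, V) h x (Subgroup.lowerCentralSeries_antitone _ (hmax (U, V)) hx) u hu

end Main

end Cfsg.Agent.Lib.Helper56.WardG
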