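import Cfsg.Agent.Lib.Helper56.FrobStruct
import Cfsg.Agent.Lib.Helper56.WardGroupD
import Cfsg.Agent.Lib.Helper01.CoprimeSylow

/-!
# Frobenius groups of automorphisms: invariant Sylow subgroups, quotients, nilpotency criterion
-/

set_option autoImplicit false
set_option linter.unusedSectionVars false
set_option linter.style.haveILetI false

open scoped commutatorElement Pointwise

namespace Cfsg.Agent.Lib.Helper56.FrobGp

open Cfsg.Agent.Lib.Helper56
open Cfsg.Agent.Lib.Helper56.WardG
open Cfsg.Agent.Lib.Helper56.Ward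
open Cfsg.Agent.Lib.Helper56.FrobL

universe u w

section Sylow

variable {H : Type u} [Group H] [Finite H] {B : Type w} [Group B] [Finite B]

/-- coprime action: an invariant Sylow subgroup exists -/
theorem exists_invariant_sylow_coprime (ψ : B →* MulAut H)
    (hcop : (Nat.card B).Coprime (Nat.card H))
    (hsolv : Group.IsSolvable B ∨ Group.IsSolvable H) (r : ℕ) [Fact r.Prime] :
    ∃ R : Sylow r H, ∀ b, ∀ x ∈ R, ψ b x ∈ R := by
  let X := H ⋊[ψ] B
  haveI : Finite X := Finite.of_equiv _ (SemidirectProduct.equivProd (φ := ψ)).symm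
  let iH : H →* X := SemidirectProduct.inl
  let iB : B →* X := SemidirectProduct.inr
  have hiH : Function.Injective iH := SemidirectProduct.inl_injective
  have hiB : Function.Injective iB := SemidirectProduct.inr_injective
  have hconj : ∀ (b : B) (h : H), iB b * iH h * (iB b)⁻¹ = iH (ψ b h) := by
    intro b h
    rw [← map_inv]
    exact (SemidirectProduct.inl_aut b h).symm
  set K : Subgroup X := iH.range with hK
  set A' : Subgroup X := iB.range with hA'
  have hAK : A' ≤ Subgroup.normalizer (K : Set X) := by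
    rintro _ ⟨b, rfl⟩
    apply mem_normalizer_of_conj
    rintro _ ⟨h, rfl⟩
    rw [hconj]
    exact ⟨ψ b h, rfl⟩
  have hcA : Nat.card A' = Nat.card B :=
    (Nat.card_congr (MonoidHom.ofInjective hiB).toEquiv).symm
  have hcK : Nat.card K = Nat.card H :=
    (Nat.card_congr (MonoidHom.ofInjective hiH).toEquiv).symm
  have hsolv' : Group.IsSolvable A' ∨ Group.IsSolvable K := by
    rcases hsolv with h | h
    · left
      exact Group.isSolvable_of_surjective (f := iB.rangeRestrict) iB.rangeRestrict_surjective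
    · right
      exact Group.isSolvable_of_surjective (f := iH.rangeRestrict) iH.rangeRestrict_surjective
  obtain ⟨P, hP, hAP⟩ := Cfsg.Agent.Lib.Helper01.exists_invariant_isSylowIn (A := A') (K := K) r hAK
    (by rw [hcA, hcK]; exact hcop) hsolv'
  obtain ⟨hPK, hPr, hPidx⟩ := hP
  set R₀ : Subgroup H := P.comap iH with hR₀
  have hR₀r : IsPGroup r R₀ := hPr.comap_of_injective iH hiH
  have hidx : ¬ r ∣ R₀.index := by
    rw [hR₀, Subgroup.index_comap]
    exact hPidx
  refine ⟨hR₀r.toSylow hidx, ?_⟩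
  intro b x hx
  have hx' : iH x ∈ P := hx
  have h1 : iB b * iH x * (iB b)⁻¹ ∈ P := conj_mem_of_normalizer (hAP ⟨b, rfl⟩) hx'
  rw [hconj] at h1
  exact h1

/-- **Nilpotency criterion**, with invariant Sylow subgroups as a hypothesis -/
theorem nilpotent_of_pairs' (ψ : B →* MulAut H)
    (hsyl : ∀ (r : ℕ) [Fact r.Prime], ∃ R : Sylow r H, ∀ b, ∀ x ∈ R, ψ b x ∈ R)
    (hF : ∃ k, (⊤ : Subgroup H).lowerCentralSeries k ≤ Cfsg.fittingSubgroup H)
    (hpairs : ∀ (s r : ℕ) [Fact s.Prime] [Fact r.Prime], s ≠ r → ∀ N R : Subgroup H,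
      BInv ψ N → IsPGroup s N → IsPGroup r R → (∀ b, ∀ x ∈ R, ψ b x ∈ R) →
      ∀ x ∈ N, ∀ y ∈ R, x * y = y * x) :
    Group.IsNilpotent H := by
  set F : Subgroup H := Cfsg.fittingSubgroup H with hFdef
  haveI hFn : F.Normal := Cfsg.Agent.Lib.Helper13.fittingSubgroup_normal
  have hQ : Group.IsNilpotent (H ⧸ F) := quotient_isNilpotent_of_lcs_le F hF
  have hall : ∀ (r : ℕ) (_hr : Fact r.Prime) (P : Sylow r H), (P : Subgroup H).Normal := by
    intro r hr P
    obtain ⟨R, hR⟩ := hsyl r
    have hcent : ∀ (s : ℕ) [Fact s.Prime], s ≠ r →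
        ∀ x ∈ Cfsg.pCore s H, ∀ y ∈ (R : Subgroup H), x * y = y * x := by
      intro s _ hsr
      exact hpairs s r hsr (Cfsg.pCore s H) R
        (binv_of_characteristic ψ _ (Cfsg.Agent.Lib.Helper01.pCore_characteristic s))
        (Cfsg.Agent.Lib.Helper01.pCore_isPGroup s) R.isPGroup' hR
    have hFle : F ≤ Subgroup.normalizer ((R : Subgroup H) : Set H) := by
      rw [hFdef, Cfsg.Agent.Lib.Helper01.fitting_eq_iSup_pCore]
      apply iSup_le
      intro s
      haveI : Fact (s : ℕ).Prime := ⟨s.2⟩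
      by_cases hsr : (s : ℕ) = r
      · have h1 : Cfsg.pCore (s : ℕ) H ≤ (R : Subgroup H) := by
          rw [hsr]; exact Cfsg.Agent.Lib.Helper01.pCore_le_sylow R
        exact h1.trans Subgroup.le_normalizer
      · intro x hx
        rw [Subgroup.mem_normalizer_iff]
        intro y
        constructor
        · intro hy
          have h2 := hcent s hsr x hx y hy
          have h3 : x * y * x⁻¹ = y := by rw [h2]; group
          rw [h3]; exact hy
        · intro hy
          have h2 := hcent s hsr x hx _ hy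
          have h3 : x * y * x⁻¹ = y := by
            calc x * y * x⁻¹ = x⁻¹ * (x * (x * y * x⁻¹)) := by group
              _ = x⁻¹ * ((x * y * x⁻¹) * x) := by rw [h2]
              _ = y := by group
          rw [← h3]; exact hy
    let π := QuotientGroup.mk' F
    have hπ : Function.Surjective π := QuotientGroup.mk'_surjective F
    have hall' : ∀ (r : ℕ) (_hr : Fact r.Prime) (P : Sylow r (H ⧸ F)),
        (P : Subgroup (H ⧸ F)).Normal :=
      ((Group.isNilpotent_of_finite_tfae (G := H ⧸ F)).out 0 3).mp hQ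
    have hRbar : ((R.mapSurjective hπ : Sylow r (H ⧸ F)) : Subgroup (H ⧸ F)).Normal :=
      hall' r hr _
    rw [Sylow.coe_mapSurjective] at hRbar
    set T : Subgroup H := ((R : Subgroup H).map π).comap π with hT
    have hTn : T.Normal := hRbar.comap π
    have hRT : (R : Subgroup H) ≤ T := Subgroup.le_comap_map _ _
    have hTle : T ≤ Subgroup.normalizer ((R : Subgroup H) : Set H) := by
      intro x hx
      rw [hT, Subgroup.mem_comap] at hx
      obtain ⟨y, hy, hyx⟩ := hx
      have h1 : y⁻¹ * x ∈ F := QuotientGroup.eq.mp hyx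
      have h2 : x = y * (y⁻¹ * x) := by group
      rw [h2]
      exact Subgroup.mul_mem _ (Subgroup.le_normalizer hy) (hFle h1)
    have hRn : (R : Subgroup H).Normal := by
      constructor
      intro x hx g
      let Rg : Subgroup H := (R : Subgroup H).map (MulAut.conj g).toMonoidHom
      have hRg : IsPGroup r Rg := R.isPGroup'.map _
      have hRgT : Rg ≤ T := by
        rintro _ ⟨y, hy, rfl⟩
        exact hTn.conj_mem y (hRT hy) g
      have hsup : IsPGroup r (Rg ⊔ (R : Subgroup H) : Subgroup H) :=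
        hRg.to_sup_of_normal_right' R.isPGroup' (hRgT.trans hTle)
      have heq : Rg ⊔ (R : Subgroup H) = R := R.is_maximal' hsup le_sup_right
      have : g * x * g⁻¹ ∈ Rg := ⟨x, hx, rfl⟩
      rw [← heq]
      exact (le_sup_left : Rg ≤ Rg ⊔ (R : Subgroup H)) this
    obtain ⟨g, hg⟩ := MulAction.exists_smul_eq H R P
    have : P = R := by
      rw [← hg]
      exact Sylow.smul_eq_of_normal
    rw [this]
    exact hRn
  exact ((Group.isNilpotent_of_finite_tfae (G := H)).out 0 3).mpr hall

end Sylow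

section FrobMap

variable {Γ : Type u} [Group Γ] {Γ' : Type w} [Group Γ'] [Finite Γ'] {k c : ℕ} {a b : Γ}
  {A : Subgroup Γ}

/-- the image of a Frobenius group under a homomorphism -/
theorem IsFrob.map (h : IsFrob k c a b A) (ξ : Γ →* Γ') : IsFrob k c (ξ a) (ξ b) (A.map ξ) where
  ha := Subgroup.mem_map_of_mem ξ h.ha
  hb := Subgroup.mem_map_of_mem ξ h.hb
  ak := by rw [← map_pow, h.ak, map_one]
  bc := by rw [← map_pow, h.bc, map_one]
  norm := by
    apply mem_normalizer_of_conj
    intro e he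
    rw [← MonoidHom.map_zpowers] at he ⊢
    obtain ⟨e₀, he₀, rfl⟩ := he
    refine ⟨b * e₀ * b⁻¹, conj_mem_of_normalizer h.norm he₀, ?_⟩
    rw [map_mul, map_mul, map_inv]
  conj := by
    rintro _ ⟨g₀, hg₀, rfl⟩ hg1
    have hg₀1 : g₀ ≠ 1 := by
      rintro rfl
      exact hg1 (map_one ξ)
    rcases h.conj g₀ hg₀ hg₀1 with h1 | ⟨x, hx, h1⟩
    · left
      rw [← MonoidHom.map_zpowers]
      exact Subgroup.mem_map_of_mem ξ h1
    · right
      refine ⟨ξ x, ?_, ?_⟩
      · rw [← MonoidHom.map_zpowers]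
        exact Subgroup.mem_map_of_mem ξ hx
      · rw [← MonoidHom.map_zpowers]
        refine ⟨x * b * x⁻¹, h1, ?_⟩
        rw [map_mul, map_mul, map_inv]
  gen := by
    have h1 : A.map ξ ≤ (Subgroup.closure ({a, b} : Set Γ)).map ξ := Subgroup.map_mono h.gen
    rw [MonoidHom.map_closure, Set.image_pair] at h1
    exact h1
  dvd := h.dvd

end FrobMap

section Quot

variable {G : Type u} [Group G] [Finite G] {B : Type w} [Group B] {k c : ℕ} [Fact k.Prime]
  [Fact c.Prime] {a b : B}

theorem fix_of_gen (hB : IsFrob k c a b (⊤ : Subgroup B)) (φ : B →* MulAut G) {g : G}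
    (ha : φ a g = g) (hb : φ b g = g) : ∀ x, φ x g = g := by
  let S : Subgroup B :=
    { carrier := {x | φ x g = g}
      one_mem' := by show φ 1 g = g; rw [map_one]; rfl
      mul_mem' := by
        intro x y hx hy
        show φ (x * y) g = g
        rw [map_mul, MulAut.mul_apply, show φ y g = g from hy, show φ x g = g from hx]
      inv_mem' := by
        intro x hx
        show φ x⁻¹ g = g
        rw [map_inv, MulAut.inv_apply, MulEquiv.symm_apply_eq]
        exact (show φ x g = g from hx).symm }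
  have hle := hB.le_of_mem S ha hb
  exact fun x => hle (Subgroup.mem_top x)

theorem zpowers_fix_aut (φ : B →* MulAut G) {g : G} {a : B} (ha : φ a g = g) :
    ∀ x ∈ Subgroup.zpowers a, φ x g = g := by
  let S : Subgroup B :=
    { carrier := {x | φ x g = g}
      one_mem' := by show φ 1 g = g; rw [map_one]; rfl
      mul_mem' := by
        intro x y hx hy
        show φ (x * y) g = g
        rw [map_mul, MulAut.mul_apply, show φ y g = g from hy, show φ x g = g from hx]
      inv_mem' := by
        intro x hx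
        show φ x⁻¹ g = g
        rw [map_inv, MulAut.inv_apply, MulEquiv.symm_apply_eq]
        exact (show φ x g = g from hx).symm }
  have hle : Subgroup.zpowers a ≤ S := by
    rw [Subgroup.zpowers_le]; exact ha
  exact fun x hx => hle hx

/-- fixed point freeness passes to quotients -/
theorem frob_quot_fpf (hB : IsFrob k c a b (⊤ : Subgroup B)) (φ : B →* MulAut G)
    (hkG : ¬ k ∣ Nat.card G) (hcG : ¬ c ∣ Nat.card G)
    (hfpf : ∀ g : G, (∀ x, φ x g = g) → g = 1) (N : Subgroup G) [N.Normal]
    (hN : ∀ x g, φ x g ∈ N ↔ g ∈ N) :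
    ∀ e : G ⧸ N, (∀ x, quotAutHom φ N hN x e = e) → e = 1 := by
  intro e
  induction e using QuotientGroup.induction_on with
  | H g =>
    intro h
    rw [QuotientGroup.eq_one_iff]
    have hcos : ∀ x, g⁻¹ * φ x g ∈ N := by
      intro x
      have h1 := h x
      rw [quotAutHom_mk] at h1
      exact QuotientGroup.eq.mp h1.symm
    have hσa : (φ a) ^ k = 1 := by rw [← map_pow, hB.ak, map_one]
    have hσb : (φ b) ^ c = 1 := by rw [← map_pow, hB.bc, map_one]
    have hkN : ¬ k ∣ Nat.card N := fun hd => hkG (hd.trans (Subgroup.card_subgroup_dvd_card N))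
    obtain ⟨n₁, hn₁, hfix₁⟩ := FrobG.exists_fixed_in_coset_aut (φ a) hσa N
      (fun x hx => (hN a x).2 hx) hkN g (hcos a)
    set g₁ : G := g * n₁ with hg₁
    -- `φ b` preserves the fixed points of `φ a`
    have hba : ∀ x : G, φ a x = x → φ a (φ b x) = φ b x := by
      intro x hx
      have h1 : b⁻¹ * a * b ∈ Subgroup.zpowers a :=
        conj_inv_mem_of_normalizer hB.norm (Subgroup.mem_zpowers a)
      have h2 := zpowers_fix_aut φ hx _ h1
      have h3 : a * b = b * (b⁻¹ * a * b) := by group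
      rw [← MulAut.mul_apply, ← map_mul, h3, map_mul, MulAut.mul_apply, h2]
    let C : Subgroup G :=
      { carrier := {x | x ∈ N ∧ φ a x = x}
        one_mem' := ⟨N.one_mem, map_one _⟩
        mul_mem' := by
          rintro x y ⟨hx, hx'⟩ ⟨hy, hy'⟩
          exact ⟨N.mul_mem hx hy, by rw [map_mul, hx', hy']⟩
        inv_mem' := by
          rintro x ⟨hx, hx'⟩
          exact ⟨N.inv_mem hx, by rw [map_inv, hx']⟩ }
    have hCb : ∀ x ∈ C, φ b x ∈ C := fun x hx => ⟨(hN b x).2 hx.1, hba x hx.2⟩
    have hCle : C ≤ N := fun x hx => hx.1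
    have hcC : ¬ c ∣ Nat.card C := fun hd =>
      hcG ((hd.trans (Subgroup.card_dvd_of_le hCle)).trans (Subgroup.card_subgroup_dvd_card N))
    have hcos₁ : g₁⁻¹ * φ b g₁ ∈ C := by
      refine ⟨?_, ?_⟩
      · have e1 : g₁⁻¹ * φ b g₁ = n₁⁻¹ * (g⁻¹ * φ b g) * φ b n₁ := by
          rw [hg₁, map_mul]; group
        rw [e1]
        exact N.mul_mem (N.mul_mem (N.inv_mem hn₁) (hcos b)) ((hN b n₁).2 hn₁)
      · rw [map_mul, map_inv, hfix₁, hba g₁ hfix₁]
    obtain ⟨n₂, hn₂, hfix₂⟩ := FrobG.exists_fixed_in_coset_aut (φ b) hσb C hCb hcC g₁ hcos₁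
    have hfixa : φ a (g₁ * n₂) = g₁ * n₂ := by rw [map_mul, hfix₁, hn₂.2]
    have h1 : g₁ * n₂ = 1 := hfpf _ (fix_of_gen hB φ hfixa hfix₂)
    have h2 : g = (n₁ * n₂)⁻¹ := by
      have : g * (n₁ * n₂) = 1 := by rw [← mul_assoc]; exact h1
      exact eq_inv_of_mul_eq_one_left this
    rw [h2]
    exact N.inv_mem (N.mul_mem hn₁ hn₂.1)

end Quot

end Cfsg.Agent.Lib.Helper56.FrobGp
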