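import Cfsg.Agent.Lib.Helper56.FrobLinE
import Cfsg.Agent.Lib.Helper56.WardGroupC

/-!
# The Frobenius pair lemma

`A` a Frobenius group of order `k c` (`k`, `c` primes, `c ∣ k - 1`) acting on a vector space `W`
without nonzero fixed vectors, normalizing an `s`-group `N` and an `r`-group `R` of linear maps
with `R` normalizing `N`, and without nontrivial fixed points on `N` and `R`: then `N` and `R`
commute.
-/

set_option autoImplicit false
set_option linter.unusedSectionVars false
set_option linter.style.haveILetI false

open scoped commutatorElement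

namespace Cfsg.Agent.Lib.Helper56.FrobL

open Module TensorProduct
open Cfsg.Agent.Lib.Helper56
open Cfsg.Agent.Lib.Helper56.HH
open Cfsg.Agent.Lib.Helper56.HHB
open Cfsg.Agent.Lib.Helper56.Ward

universe u uK uW

section Main

variable {K : Type uK} [Field K] [IsAlgClosed K] {W : Type uW} [AddCommGroup W] [Module K W]
  [FiniteDimensional K W]
variable {Γ : Type u} [Group Γ] [Finite Γ]

/-- **The Frobenius pair lemma.** -/
theorem frob_pair_commute {ρ : Γ →* Module.End K W} {k c s r : ℕ} [Fact k.Prime] [Fact c.Prime]
    [Fact s.Prime] [Fact r.Prime] (hks : k ≠ s) (hkr : k ≠ r) (hcs : c ≠ s) (hcr : c ≠ r)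
    (hsr : s ≠ r) (hsK : (s : K) ≠ 0) (hkK : (k : K) ≠ 0) (hcK : (c : K) ≠ 0) {a b : Γ}
    {A : Subgroup Γ} (hinj : Function.Injective ρ) (hfrob : IsFrob k c a b A)
    (hfixW : ∀ w : W, (∀ g ∈ A, ρ g w = w) → w = 0) :
    ∀ (n : ℕ) (N R : Subgroup Γ), Nat.card N + Nat.card R ≤ n → Pair A N R s r →
      ∀ x ∈ N, ∀ y ∈ R, x * y = y * x := by
  intro n
  induction n with
  | zero =>
    intro N R hcard
    have : 0 < Nat.card N := Nat.card_pos
    omega
  | succ n ih =>
    intro N R hcard hP
    by_contra hcon
    push Not at hcon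
    have hlt : ∀ {H₀ H : Subgroup Γ}, H₀ ≤ H → H₀ ≠ H → Nat.card H₀ < Nat.card H := by
      intro H₀ H hle hne
      by_contra hge
      push Not at hge
      exact hne (Subgroup.eq_of_le_of_card_ge hle hge)
    have hce : MinCE ρ k c s r a b A N R :=
      { inj := hinj
        frob := hfrob
        fixW := hfixW
        P := hP
        m1 := by
          intro R₀ hle hne hAR₀
          have h1 := hlt hle hne
          exact ih N R₀ (by omega)
            { hN := hP.hN
              hR := hP.hR.to_le hle
              AN := hP.AN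
              AR := hAR₀
              RN := fun g hg => hP.RN (hle hg)
              fixN := hP.fixN
              fixR := fun z hz => hP.fixR z (hle hz) }
        m2 := by
          intro N₀ hle hne hAN₀ hRN₀
          have h1 := hlt hle hne
          exact ih N₀ R (by omega)
            { hN := hP.hN.to_le hle
              hR := hP.hR
              AN := hAN₀
              AR := hP.AR
              RN := hRN₀
              fixN := fun z hz => hP.fixN z (hle hz)
              fixR := hP.fixR }
        ne := hcon
        hks := hks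
        hkr := hkr
        hcs := hcs
        hcr := hcr
        hsr := hsr
        hsK := hsK
        hkK := hkK
        hcK := hcK }
    exact hce.false

end Main

section GroupForm

variable {V : Type u} [CommGroup V] [Finite V]

theorem frob_pair_mulAut_aux (v k c s r : ℕ) [Fact v.Prime] [Fact k.Prime] [Fact c.Prime]
    [Fact s.Prime] [Fact r.Prime] [Module (ZMod v) (Additive V)]
    (hks : k ≠ s) (hkr : k ≠ r) (hcs : c ≠ s) (hcr : c ≠ r) (hsr : s ≠ r) (hvs : v ≠ s)
    (hvk : v ≠ k) (hvc : v ≠ c) {a b : MulAut V} {A N R : Subgroup (MulAut V)}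
    (hA : IsFrob k c a b A) (hAv : ¬ v ∣ Nat.card A) (hP : Pair A N R s r)
    (hfixV : ∀ x : V, (∀ α ∈ A, α x = x) → x = 1) :
    ∀ x ∈ N, ∀ y ∈ R, x * y = y * x := by
  classical
  have hv : v.Prime := Fact.out
  have hk : k.Prime := Fact.out
  have hc : c.Prime := Fact.out
  have hs : s.Prime := Fact.out
  haveI : Finite (Additive V) := inferInstanceAs (Finite V)
  haveI : FiniteDimensional (ZMod v) (Additive V) := Module.Finite.of_finite
  haveI : Finite (MulAut V) := Finite.of_injective (fun f : MulAut V => (f : V → V))
    (fun f g h => by ext a; exact congrFun h a)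
  let lin : MulAut V →* Module.End (ZMod v) (Additive V) :=
    { toFun := fun f => (MonoidHom.toAdditive f.toMonoidHom).toZModLinearMap v
      map_one' := by
        apply LinearMap.ext
        intro x
        simp
      map_mul' := by
        intro f g
        apply LinearMap.ext
        intro x
        simp }
  have hlin_apply : ∀ (f : MulAut V) (x : Additive V),
      lin f x = Additive.ofMul (f (Additive.toMul x)) := fun f x => rfl
  have hlin_inj : Function.Injective lin := by
    intro f g hfg
    ext a
    have := congrArg (fun h : Module.End (ZMod v) (Additive V) => h (Additive.ofMul a)) hfg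
    exact congrArg Additive.toMul this
  let L := AlgebraicClosure (ZMod v)
  let bcA := Module.End.baseChangeHom (ZMod v) L (Additive V)
  let bc : Module.End (ZMod v) (Additive V) →* Module.End L (L ⊗[ZMod v] Additive V) :=
    (bcA : Module.End (ZMod v) (Additive V) →* Module.End L (L ⊗[ZMod v] Additive V))
  have hbc_apply : ∀ f, bc f = bcA f := fun f => rfl
  have hbc_inj : Function.Injective bc := by
    intro f g hfg
    exact LinearMap.baseChangeHom_injective (ZMod v) (Additive V) L hfg
  have hcast : ∀ j : ℕ, ¬ v ∣ j → (j : L) ≠ 0 := by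
    intro j hj h0
    have h1 : (j : ZMod v) ≠ 0 := fun h => hj ((ZMod.natCast_eq_zero_iff j v).1 h)
    apply h1
    have : algebraMap (ZMod v) L (j : ZMod v) = 0 := by rw [map_natCast]; exact h0
    exact (map_eq_zero_iff (algebraMap (ZMod v) L) (algebraMap (ZMod v) L).injective).1 this
  have hkL : (k : L) ≠ 0 :=
    hcast k (fun h => hvk ((Nat.prime_dvd_prime_iff_eq hv hk).1 h))
  have hcL : (c : L) ≠ 0 :=
    hcast c (fun h => hvc ((Nat.prime_dvd_prime_iff_eq hv hc).1 h))
  have hsL : (s : L) ≠ 0 :=
    hcast s (fun h => hvs ((Nat.prime_dvd_prime_iff_eq hv hs).1 h))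
  let g : MulAut V →* Module.End L (L ⊗[ZMod v] Additive V) := bc.comp lin
  have hg_apply : ∀ f : MulAut V, g f = bcA (lin f) := fun f => rfl
  have hg_inj : Function.Injective g := by
    intro f f' h
    apply hlin_inj
    apply hbc_inj
    exact h
  haveI : Fintype A := Fintype.ofFinite A
  -- the sum of the elements of `A` vanishes on `V`
  have hT : ∑ α : A, lin (α : MulAut V) = 0 := by
    apply LinearMap.ext
    intro x
    rw [LinearMap.sum_apply, LinearMap.zero_apply]
    set y : Additive V := ∑ α : A, lin (α : MulAut V) x with hy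
    have hyfix : ∀ α' ∈ A, lin α' y = y := by
      intro α' hα'
      rw [hy, map_sum]
      exact Fintype.sum_equiv (Equiv.mulLeft (⟨α', hα'⟩ : A)) _ _
        (fun b => by
          rw [← Module.End.mul_apply, ← map_mul]
          rfl)
    have h1 : Additive.toMul y = 1 := by
      apply hfixV
      intro α' hα'
      have := hyfix α' hα'
      rw [hlin_apply] at this
      exact congrArg Additive.toMul this
    exact congrArg Additive.ofMul h1
  have hT' : ∑ α : A, g (α : MulAut V) = 0 := by
    have h1 := congrArg bcA hT
    rw [map_sum, map_zero] at h1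
    exact h1
  have hfixW : ∀ w : L ⊗[ZMod v] Additive V, (∀ α ∈ A, g α w = w) → w = 0 := by
    intro w hw
    have h1 : (∑ α : A, g (α : MulAut V)) w = (Nat.card A : L) • w := by
      rw [LinearMap.sum_apply]
      have h2 : ∀ α ∈ (Finset.univ : Finset A), g (α : MulAut V) w = w :=
        fun α _ => hw α α.2
      rw [Finset.sum_congr rfl h2, Finset.sum_const, Finset.card_univ,
        Nat.card_eq_fintype_card, Nat.cast_smul_eq_nsmul]
    rw [hT', LinearMap.zero_apply] at h1
    rcases smul_eq_zero.1 h1.symm with h4 | h4
    · exact absurd h4 (hcast _ hAv)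
    · exact h4
  exact frob_pair_commute hks hkr hcs hcr hsr hsL hkL hcL hg_inj hA hfixW
    (Nat.card N + Nat.card R) N R le_rfl hP

/-- **The Frobenius pair lemma, group form.** -/
theorem frob_pair_mulAut (v k c s r : ℕ) [Fact v.Prime] [Fact k.Prime] [Fact c.Prime]
    [Fact s.Prime] [Fact r.Prime] (hexp : ∀ a : V, a ^ v = 1)
    (hks : k ≠ s) (hkr : k ≠ r) (hcs : c ≠ s) (hcr : c ≠ r) (hsr : s ≠ r) (hvs : v ≠ s)
    (hvk : v ≠ k) (hvc : v ≠ c) {a b : MulAut V} {A N R : Subgroup (MulAut V)}
    (hA : IsFrob k c a b A) (hAv : ¬ v ∣ Nat.card A) (hP : Pair A N R s r)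
    (hfixV : ∀ x : V, (∀ α ∈ A, α x = x) → x = 1) :
    ∀ x ∈ N, ∀ y ∈ R, x * y = y * x := by
  letI : Module (ZMod v) (Additive V) := AddCommGroup.zmodModule (n := v) (by
    intro x
    have := hexp (Additive.toMul x)
    exact congrArg Additive.ofMul this)
  exact frob_pair_mulAut_aux v k c s r hks hkr hcs hcr hsr hvs hvk hvc hA hAv hP hfixV

end GroupForm

end Cfsg.Agent.Lib.Helper56.FrobL
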