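import Cfsg.Agent.Lib.Helper56.FrobWt
import Cfsg.Agent.S0027

/-!
# The Frobenius pair lemma: the minimal counterexample, first reductions
-/

set_option autoImplicit false
set_option linter.unusedSectionVars false
set_option linter.style.haveILetI false

open scoped commutatorElement

namespace Cfsg.Agent.Lib.Helper56.FrobL

open Module
open Cfsg.Agent.Lib.Helper56
open Cfsg.Agent.Lib.Helper56.HH
open Cfsg.Agent.Lib.Helper56.HHB
open Cfsg.Agent.Lib.Helper56.Ward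

universe u uK uW

section Frob

variable {Γ : Type u} [Group Γ]

/-- a Frobenius group of order `k c` generated by `a` of order `k` and `b` of order `c` -/
structure IsFrob (k c : ℕ) (a b : Γ) (A : Subgroup Γ) : Prop where
  ha : a ∈ A
  hb : b ∈ A
  ak : a ^ k = 1
  bc : b ^ c = 1
  norm : b ∈ Subgroup.normalizer ((Subgroup.zpowers a : Subgroup Γ) : Set Γ)
  conj : ∀ g ∈ A, g ≠ 1 → a ∈ Subgroup.zpowers g ∨
    ∃ x ∈ Subgroup.zpowers a, x * b * x⁻¹ ∈ Subgroup.zpowers g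
  gen : A ≤ Subgroup.closure {a, b}
  dvd : c ∣ k - 1

variable {k c : ℕ} {a b : Γ} {A : Subgroup Γ}

theorem IsFrob.le_of_mem (h : IsFrob k c a b A) (P : Subgroup Γ) (ha : a ∈ P) (hb : b ∈ P) :
    A ≤ P := by
  refine h.gen.trans ((Subgroup.closure_le P).2 ?_)
  intro x hx
  rcases hx with rfl | hx
  · exact ha
  · rw [Set.mem_singleton_iff] at hx
    rw [hx]; exact hb

theorem IsFrob.zpowers_b_le (h : IsFrob k c a b A) :
    Subgroup.zpowers b ≤ Subgroup.normalizer ((Subgroup.zpowers a : Subgroup Γ) : Set Γ) := by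
  rw [Subgroup.zpowers_le]; exact h.norm

theorem IsFrob.exc (h : IsFrob k c a b A) (hc : c.Prime) {s : ℕ} (hs : s.Prime) (hcs : c ≠ s) :
    ∀ m : ℕ, 1 ≤ m → k ≠ s ^ m + 1 := by
  intro m _ hk
  have h1 : c ∣ s ^ m := by
    have := h.dvd
    rw [hk, Nat.add_sub_cancel] at this
    exact this
  exact hcs ((Nat.prime_dvd_prime_iff_eq hc hs).1 (hc.dvd_of_dvd_pow h1))

theorem IsFrob.exists_pow [Finite Γ] (h : IsFrob k c a b A) : ∃ t : ℕ, b * a * b⁻¹ = a ^ t := by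
  have h1 : b * a * b⁻¹ ∈ Subgroup.zpowers a :=
    conj_mem_of_normalizer h.norm (Subgroup.mem_zpowers a)
  rw [← mem_powers_iff_mem_zpowers] at h1
  obtain ⟨t, ht⟩ := (Submonoid.mem_powers_iff _ _).1 h1
  exact ⟨t, ht.symm⟩

/-- `b` normalizes the centralizer of `a` -/
theorem IsFrob.b_mem_normalizer_centralizer [Finite Γ] (h : IsFrob k c a b A) :
    b ∈ Subgroup.normalizer ((Subgroup.centralizer ({a} : Set Γ) : Subgroup Γ) : Set Γ) := by
  apply mem_normalizer_of_conj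
  intro z hz
  rw [Subgroup.mem_centralizer_singleton_iff] at hz ⊢
  have h1 : b⁻¹ * a * b ∈ Subgroup.zpowers a :=
    conj_inv_mem_of_normalizer h.norm (Subgroup.mem_zpowers a)
  have h2 : (b⁻¹ * a * b) * z = z * (b⁻¹ * a * b) := zpowers_comm hz.symm _ h1
  calc b * z * b⁻¹ * a = b * (z * (b⁻¹ * a * b)) * b⁻¹ := by group
    _ = b * ((b⁻¹ * a * b) * z) * b⁻¹ := by rw [h2]
    _ = a * (b * z * b⁻¹) := by group

end Frob

section MinCE

variable {K : Type uK} [Field K] [IsAlgClosed K] {W : Type uW} [AddCommGroup W] [Module K W]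
  [FiniteDimensional K W]
variable {Γ : Type u} [Group Γ] [Finite Γ]

/-- the minimal counterexample to the pair lemma -/
structure MinCE (ρ : Γ →* Module.End K W) (k c s r : ℕ) (a b : Γ) (A N R : Subgroup Γ) :
    Prop where
  inj : Function.Injective ρ
  frob : IsFrob k c a b A
  fixW : ∀ w : W, (∀ g ∈ A, ρ g w = w) → w = 0
  P : Pair A N R s r
  m1 : ∀ R₀ : Subgroup Γ, R₀ ≤ R → R₀ ≠ R → A ≤ Subgroup.normalizer (R₀ : Set Γ) →
    ∀ x ∈ N, ∀ y ∈ R₀, x * y = y * x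
  m2 : ∀ N₀ : Subgroup Γ, N₀ ≤ N → N₀ ≠ N → A ≤ Subgroup.normalizer (N₀ : Set Γ) →
    R ≤ Subgroup.normalizer (N₀ : Set Γ) → ∀ x ∈ N₀, ∀ y ∈ R, x * y = y * x
  ne : ∃ x ∈ N, ∃ y ∈ R, x * y ≠ y * x
  hks : k ≠ s
  hkr : k ≠ r
  hcs : c ≠ s
  hcr : c ≠ r
  hsr : s ≠ r
  hsK : (s : K) ≠ 0
  hkK : (k : K) ≠ 0
  hcK : (c : K) ≠ 0

variable {ρ : Γ →* Module.End K W} {k c s r : ℕ} [Fact k.Prime] [Fact c.Prime] [Fact s.Prime]
  [Fact r.Prime] {a b : Γ} {A N R : Subgroup Γ}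

variable (h : MinCE ρ k c s r a b A N R)
include h

theorem MinCE.aN : a ∈ Subgroup.normalizer (N : Set Γ) := h.P.AN h.frob.ha
theorem MinCE.bN : b ∈ Subgroup.normalizer (N : Set Γ) := h.P.AN h.frob.hb
theorem MinCE.aR : a ∈ Subgroup.normalizer (R : Set Γ) := h.P.AR h.frob.ha
theorem MinCE.bR : b ∈ Subgroup.normalizer (R : Set Γ) := h.P.AR h.frob.hb

theorem MinCE.fixN' : ∀ x ∈ N, a * x = x * a → b * x = x * b → x = 1 := by
  intro x hx hax hbx
  apply h.P.fixN x hx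
  intro g hg
  have hle := h.frob.le_of_mem (Subgroup.centralizer ({x} : Set Γ))
    (Subgroup.mem_centralizer_singleton_iff.2 hax) (Subgroup.mem_centralizer_singleton_iff.2 hbx)
  exact Subgroup.mem_centralizer_singleton_iff.1 (hle hg)

theorem MinCE.fixR' : ∀ y ∈ R, a * y = y * a → b * y = y * b → y = 1 := by
  intro x hx hax hbx
  apply h.P.fixR x hx
  intro g hg
  have hle := h.frob.le_of_mem (Subgroup.centralizer ({x} : Set Γ))
    (Subgroup.mem_centralizer_singleton_iff.2 hax) (Subgroup.mem_centralizer_singleton_iff.2 hbx)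
  exact Subgroup.mem_centralizer_singleton_iff.1 (hle hg)

theorem MinCE.fixW' : ∀ w : W, ρ a w = w → ρ b w = w → w = 0 := by
  intro w haw hbw
  apply h.fixW
  intro g hg
  exact h.frob.le_of_mem (fixV ρ w) haw hbw hg

theorem MinCE.powN : ∀ x ∈ N, ∃ i : ℕ, x ^ (s ^ i) = 1 := by
  intro x hx
  obtain ⟨i, hi⟩ := h.P.hN ⟨x, hx⟩
  exact ⟨i, by simpa using congrArg Subtype.val hi⟩

theorem MinCE.powR : ∀ y ∈ R, ∃ j : ℕ, y ^ (r ^ j) = 1 := by
  intro x hx
  obtain ⟨i, hi⟩ := h.P.hR ⟨x, hx⟩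
  exact ⟨i, by simpa using congrArg Subtype.val hi⟩

theorem MinCE.not_dvd_N {q : ℕ} (hq : q.Prime) (hqs : q ≠ s) {N₀ : Subgroup Γ} (hN₀ : N₀ ≤ N) :
    ¬ q ∣ Nat.card N₀ := by
  intro hd
  obtain ⟨i, hi⟩ := (h.P.hN.to_le hN₀).exists_card_eq
  rw [hi] at hd
  exact hqs ((Nat.prime_dvd_prime_iff_eq hq (Fact.out : s.Prime)).1 (hq.dvd_of_dvd_pow hd))

theorem MinCE.not_dvd_R {q : ℕ} (hq : q.Prime) (hqr : q ≠ r) {R₀ : Subgroup Γ} (hR₀ : R₀ ≤ R) :
    ¬ q ∣ Nat.card R₀ := by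
  intro hd
  obtain ⟨i, hi⟩ := (h.P.hR.to_le hR₀).exists_card_eq
  rw [hi] at hd
  exact hqr ((Nat.prime_dvd_prime_iff_eq hq (Fact.out : r.Prime)).1 (hq.dvd_of_dvd_pow hd))

theorem MinCE.coprimeRs : (Nat.card R).Coprime s := by
  obtain ⟨i, hi⟩ := h.P.hR.exists_card_eq
  rw [hi]
  exact Nat.Coprime.pow_left _
    ((Nat.coprime_primes (Fact.out : r.Prime) (Fact.out : s.Prime)).2 (Ne.symm h.hsr))

/-- `N = [N, R]` -/
theorem MinCE.comm_eq : ⁅N, R⁆ = N := by
  have hr : r.Prime := Fact.out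
  have hs : s.Prime := Fact.out
  set N₁ : Subgroup Γ := ⁅N, R⁆ with hN₁
  have hN₁le : N₁ ≤ N := by
    rw [hN₁, ← Subgroup.le_normalizer_iff_commutator_le_left]
    exact h.P.RN
  by_contra hne
  have hAN₁ : A ≤ Subgroup.normalizer (N₁ : Set Γ) := by
    intro g hg
    apply mem_normalizer_of_conj
    exact conj_mem_commutator N R g
      (fun e he => conj_mem_of_normalizer (h.P.AN hg) he)
      (fun e he => conj_mem_of_normalizer (h.P.AR hg) he)
  have hRN₁ : R ≤ Subgroup.normalizer (N₁ : Set Γ) := by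
    intro y hy
    apply mem_normalizer_of_conj
    exact conj_mem_commutator N R y
      (fun e he => conj_mem_of_normalizer (h.P.RN hy) he)
      (fun e he => R.mul_mem (R.mul_mem hy he) (R.inv_mem hy))
  have hcen := h.m2 N₁ hN₁le hne hAN₁ hRN₁
  have hcopRN : (Nat.card R).Coprime (Nat.card N) := by
    obtain ⟨i, hi⟩ := h.P.hR.exists_card_eq
    obtain ⟨j, hj⟩ := h.P.hN.exists_card_eq
    rw [hi, hj]
    exact Nat.Coprime.pow _ _ ((Nat.coprime_primes hr hs).2 (Ne.symm h.hsr))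
  have hN₁R : ⁅N₁, R⁆ = N₁ := by
    haveI : Group.IsNilpotent R := h.P.hR.isNilpotent
    exact Cfsg.Agent.S0027.result R N h.P.RN hcopRN (Or.inl inferInstance)
  have hbot : N₁ = ⊥ := by
    rw [← hN₁R, Subgroup.commutator_eq_bot_iff_le_centralizer]
    intro x hx
    rw [Subgroup.mem_centralizer_iff]
    intro y hy
    exact (hcen x hx y hy).symm
  obtain ⟨x, hx, y, hy, hxy⟩ := h.ne
  apply hxy
  have h1 : ⁅x, y⁆ ∈ N₁ := Subgroup.commutator_mem_commutator hx hy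
  rw [hbot, Subgroup.mem_bot] at h1
  exact commutatorElement_eq_one_iff_mul_comm.1 h1

/-- a subgroup containing all `x⁻¹ x^y` contains `N` -/
theorem MinCE.N_le (P : Subgroup Γ) (hP : ∀ x ∈ N, ∀ y ∈ R, x⁻¹ * (y * x * y⁻¹) ∈ P) : N ≤ P := by
  rw [← h.comm_eq, Subgroup.commutator_le]
  intro x hx y hy
  have h1 := hP x⁻¹ (N.inv_mem hx) y hy
  have h2 : ⁅x, y⁆ = x⁻¹⁻¹ * (y * x⁻¹ * y⁻¹) := by
    rw [commutatorElement_def]; group
  rw [h2]
  exact h1

theorem MinCE.R_ne_bot : R ≠ ⊥ := by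
  intro hR
  obtain ⟨x, hx, y, hy, hxy⟩ := h.ne
  rw [hR, Subgroup.mem_bot] at hy
  apply hxy
  rw [hy, mul_one, one_mul]

/-- the action of `R` on `N` factors through an abelian group -/
theorem MinCE.abelian_image : ∀ y ∈ R, ∀ y' ∈ R, ∀ x ∈ N,
    (y * y') * x * (y * y')⁻¹ = (y' * y) * x * (y' * y)⁻¹ := by
  set R' : Subgroup Γ := ⁅R, R⁆ with hR'
  have hR'le : R' ≤ R := by
    rw [hR', Subgroup.commutator_le]
    intro e he f hf
    rw [commutatorElement_def]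
    exact R.mul_mem (R.mul_mem (R.mul_mem he hf) (R.inv_mem he)) (R.inv_mem hf)
  have hR'ne : R' ≠ R := by
    haveI : Nontrivial R := (Subgroup.nontrivial_iff_ne_bot R).2 h.R_ne_bot
    haveI : Group.IsNilpotent R := h.P.hR.isNilpotent
    have hlt := Group.IsSolvable.commutator_lt_top_of_nontrivial ↥R
    intro heq
    apply hlt.ne
    rw [eq_top_iff]
    intro y _
    have hy : (y : Γ) ∈ R' := by rw [heq]; exact y.2
    have h1 : R' = (commutator ↥R).map R.subtype := by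
      rw [hR', commutator_def, Subgroup.map_commutator, ← MonoidHom.range_eq_map,
        Subgroup.range_subtype]
    rw [h1] at hy
    obtain ⟨y', hy', hyy'⟩ := hy
    have : y' = y := Subtype.ext hyy'
    rw [← this]
    exact hy'
  have hAR' : A ≤ Subgroup.normalizer (R' : Set Γ) := by
    intro g hg
    apply mem_normalizer_of_conj
    exact conj_mem_commutator R R g
      (fun e he => conj_mem_of_normalizer (h.P.AR hg) he)
      (fun e he => conj_mem_of_normalizer (h.P.AR hg) he)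
  have hcen := h.m1 R' hR'le hR'ne hAR'
  intro y hy y' hy' x hx
  have ht : (y' * y)⁻¹ * (y * y') ∈ R' := by
    have e : (y' * y)⁻¹ * (y * y') = ⁅y⁻¹, y'⁻¹⁆ := by
      rw [commutatorElement_def]; group
    rw [e]
    exact Subgroup.commutator_mem_commutator (R.inv_mem hy) (R.inv_mem hy')
  have h1 := hcen x hx _ ht
  calc (y * y') * x * (y * y')⁻¹
      = (y' * y) * (((y' * y)⁻¹ * (y * y')) * x) * (y * y')⁻¹ := by group
    _ = (y' * y) * (x * ((y' * y)⁻¹ * (y * y'))) * (y * y')⁻¹ := by rw [h1]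
    _ = (y' * y) * x * (y' * y)⁻¹ := by group

end MinCE

end Cfsg.Agent.Lib.Helper56.FrobL
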