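import Cfsg.Agent.Lib.Helper56.FrobLinA

/-!
# The Frobenius pair lemma: the dichotomy and the common steps
-/

set_option autoImplicit false
set_option linter.unusedSectionVars false
set_option linter.style.haveILetI false

open scoped commutatorElement

namespace Cfsg.Agent.Lib.Helper56.FrobL

open Module
open Cfsg.Agent.Lib.Helper56
open Cfsg.Agent.Lib.Helper56.HH
open Cfsg.Agent.Lib.Helper56.HHB
open Cfsg.Agent.Lib.Helper56.Ward

universe u uK uW

section MinCE

variable {K : Type uK} [Field K] [IsAlgClosed K] {W : Type uW} [AddCommGroup W] [Module K W]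
  [FiniteDimensional K W]
variable {Γ : Type u} [Group Γ] [Finite Γ]
variable {ρ : Γ →* Module.End K W} {k c s r : ℕ} [Fact k.Prime] [Fact c.Prime] [Fact s.Prime]
  [Fact r.Prime] {a b : Γ} {A N R : Subgroup Γ}

variable (h : MinCE ρ k c s r a b A N R)
include h

/-- either `a` centralizes `R`, or `R = [R, a]` and `C_R(a)` centralizes `N` -/
theorem MinCE.dichotomy : (∀ y ∈ R, a * y = y * a) ∨
    ((∀ P : Subgroup Γ, (∀ y ∈ R, y⁻¹ * (a * y * a⁻¹) ∈ P) → R ≤ P) ∧
      (∀ y ∈ R, a * y = y * a → ∀ x ∈ N, x * y = y * x)) := by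
  have hk : k.Prime := Fact.out
  set R₀ : Subgroup Γ := R ⊓ Subgroup.centralizer ({a} : Set Γ) with hR₀
  set R₁ : Subgroup Γ := commG R a with hR₁
  have hR₁le : R₁ ≤ R := commG_le h.aR
  have hAR₀ : A ≤ Subgroup.normalizer (R₀ : Set Γ) :=
    h.frob.le_of_mem _
      (mem_normalizer_inf h.aR
        (Subgroup.le_normalizer (Subgroup.mem_centralizer_singleton_iff.2 rfl)))
      (mem_normalizer_inf h.bR h.frob.b_mem_normalizer_centralizer)
  obtain ⟨t, ht⟩ := h.frob.exists_pow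
  have hAR₁ : A ≤ Subgroup.normalizer (R₁ : Set Γ) :=
    h.frob.le_of_mem _
      (mem_normalizer_of_conj _ _ (commG_conj h.aR h.aR 1 (by rw [pow_one]; group)))
      (mem_normalizer_of_conj _ _ (commG_conj h.aR h.bR t ht))
  by_cases h0 : R₀ = R
  · left
    intro y hy
    have h1 : y ∈ R₀ := by rw [h0]; exact hy
    exact (Subgroup.mem_centralizer_singleton_iff.1 h1.2).symm
  · have hc0 := h.m1 R₀ inf_le_left h0 hAR₀
    by_cases h1 : R₁ = R
    · right
      refine ⟨fun P hP => ?_, fun y hy hay x hx =>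
        hc0 x hx y ⟨hy, Subgroup.mem_centralizer_singleton_iff.2 hay.symm⟩⟩
      rw [← h1]
      exact commG_le_of P hP
    · exfalso
      have hc1 := h.m1 R₁ hR₁le h1 hAR₁
      obtain ⟨x, hx, y, hy, hxy⟩ := h.ne
      apply hxy
      obtain ⟨n, hn, hfix⟩ := exists_cent_mul k h.frob.ak h.aR (h.not_dvd_R hk h.hkr le_rfl) y hy
      have hyn : y * n ∈ R₀ :=
        ⟨R.mul_mem hy (hR₁le hn), Subgroup.mem_centralizer_singleton_iff.2 hfix.symm⟩
      have e1 := hc0 x hx _ hyn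
      have e2 := hc1 x hx n hn
      have hy' : y ∈ Subgroup.centralizer ({x} : Set Γ) := by
        have h2 : y * n ∈ Subgroup.centralizer ({x} : Set Γ) :=
          Subgroup.mem_centralizer_singleton_iff.2 e1.symm
        have h3 : n ∈ Subgroup.centralizer ({x} : Set Γ) :=
          Subgroup.mem_centralizer_singleton_iff.2 e2.symm
        have h4 := Subgroup.mul_mem _ h2 (Subgroup.inv_mem _ h3)
        rwa [mul_inv_cancel_right] at h4
      exact (Subgroup.mem_centralizer_singleton_iff.1 hy').symm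

/-- `C_N(a)` centralizes `R` when `a` centralizes `R` -/
theorem MinCE.case1_cent (hRa : ∀ y ∈ R, a * y = y * a) :
    ∀ x ∈ N, a * x = x * a → ∀ y ∈ R, x * y = y * x := by
  set N₀ : Subgroup Γ := N ⊓ Subgroup.centralizer ({a} : Set Γ) with hN₀
  have hRN₀ : R ≤ Subgroup.normalizer (N₀ : Set Γ) := fun y hy =>
    mem_normalizer_inf (h.P.RN hy) (mem_normalizer_centralizer_of_comm (hRa y hy).symm)
  have hbN₀ : b ∈ Subgroup.normalizer (N₀ : Set Γ) :=
    mem_normalizer_inf h.bN h.frob.b_mem_normalizer_centralizer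
  have key := thompson_prod (s := s) (r := r) (k := c) h.hsr h.hcs h.hcr
    (h.P.hN.to_le inf_le_left) h.P.hR hRN₀ hbN₀ h.bR h.frob.bc
    (fun x hx hbx => h.fixN' x hx.1 (Subgroup.mem_centralizer_singleton_iff.1 hx.2).symm hbx)
    (fun y hy hby => h.fixR' y hy (hRa y hy) hby)
  intro x hx hax y hy
  exact key x ⟨hx, Subgroup.mem_centralizer_singleton_iff.2 hax.symm⟩ y hy

/-- `C_N(a)` acts trivially on `C_W(a)` -/
theorem MinCE.cent_fix : ∀ x ∈ N, a * x = x * a → ∀ w, ρ a w = w → ρ x w = w := by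
  have hc : c.Prime := Fact.out
  set Q : Subgroup Γ := N ⊓ Subgroup.centralizer ({a} : Set Γ) with hQ
  have hbQ : b ∈ Subgroup.normalizer (Q : Set Γ) :=
    mem_normalizer_inf h.bN h.frob.b_mem_normalizer_centralizer
  have key := lt_apply (ρ := ρ) hc h.hsK (h.P.hN.to_le (inf_le_left : Q ≤ N)) hbQ h.frob.bc
    (fun x hx hbx => h.fixN' x hx.1 (Subgroup.mem_centralizer_singleton_iff.1 hx.2).symm hbx)
    (invS ρ a)
    (by
      intro x hx w hw
      rw [mem_invS] at hw ⊢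
      have h1 : a * x = x * a := (Subgroup.mem_centralizer_singleton_iff.1 hx.2).symm
      rw [← rho_mul_apply, h1, rho_mul_apply, hw])
    (by
      intro w hw
      rw [mem_invS] at hw ⊢
      have h1 : b⁻¹ * a * b ∈ Subgroup.zpowers a :=
        conj_inv_mem_of_normalizer h.frob.norm (Subgroup.mem_zpowers a)
      have h2 : a * b = b * (b⁻¹ * a * b) := by group
      rw [← rho_mul_apply, h2, rho_mul_apply, zpowers_fix ρ hw _ h1])
    (fun w hw hbw => h.fixW' w hw hbw)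
  intro x hx hax w hw
  exact key x ⟨hx, Subgroup.mem_centralizer_singleton_iff.2 hax.symm⟩ w hw

/-- `C_N(a)` acts trivially on the weight spaces of weights moved by `a` -/
theorem MinCE.moved_fix {Z : Subgroup Γ} (hcommZ : ∀ i j : Z, Commute (ρ (i : Γ)) (ρ (j : Γ)))
    (haZ : a ∈ Subgroup.normalizer (Z : Set Γ)) {μ : Γ → K} (hμ : ¬ FixW Z a μ) {x : Γ}
    (hx : x ∈ N) (hxa : a * x = x * a) (hxst : x ∈ stabW Z μ) :
    ∀ u ∈ wtS ρ Z μ, ρ x u = u := by
  intro u hu
  have hk : k.Prime := Fact.out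
  set v : W := ∑ i ∈ Finset.range k, ((ρ a) ^ i) u with hv
  have hva : ρ a v = v := rho_sum_pow_fixed ρ k hk.pos h.frob.ak u
  have hxv : ρ x v = v := h.cent_fix x hx hxa v hva
  have hcomm' : Commute (ρ x) (ρ a) := by
    show ρ x * ρ a = ρ a * ρ x
    rw [← map_mul, ← map_mul, hxa]
  have hxv' : ρ x v = ∑ i ∈ Finset.range k, ((ρ a) ^ i) (ρ x u) := by
    rw [hv, map_sum]
    apply Finset.sum_congr rfl
    intro i _
    have h1 := (hcomm'.pow_right i).eq
    exact congrArg (fun f : Module.End K W => f u) h1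
  have hsum : ∑ i ∈ Finset.range k, ((ρ a) ^ i) (ρ x u - u) = 0 := by
    simp only [map_sub, Finset.sum_sub_distrib]
    rw [← hxv', hxv, sub_self]
  have h0 := sum_pow_eq_zero_of_moved ρ hcommZ haZ k hk h.frob.ak hμ
    (sub_mem (map_wtS_of_mem_stabW ρ hxst hu) hu) hsum
  exact sub_eq_zero.1 h0

/-- if `R` acts trivially on the image of `N` on an invariant subspace, then `N` acts trivially -/
theorem MinCE.N_fix_of_R (U : Submodule K W)
    (hU : ∀ y ∈ R, ∀ x ∈ N, ∀ u ∈ U, ρ (y * x * y⁻¹) u = ρ x u) :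
    ∀ x ∈ N, ∀ u ∈ U, ρ x u = u := by
  have hle : N ≤ fixU ρ U := by
    apply h.N_le
    intro x hx y hy u hu
    rw [rho_mul_apply, hU y hy x hx u hu, rho_inv_apply]
  exact fun x hx u hu => hle hx u hu

/-- the structure of the centre in the nonabelian case -/
theorem MinCE.zen_facts (hnab : ∃ x ∈ N, ∃ x' ∈ N, x * x' ≠ x' * x) :
    A ≤ Subgroup.normalizer ((zen N : Subgroup Γ) : Set Γ) ∧
      R ≤ Subgroup.normalizer ((zen N : Subgroup Γ) : Set Γ) ∧
      (∀ z ∈ zen N, ∀ y ∈ R, z * y = y * z) ∧ zen N ≠ ⊥ := by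
  have hZA : A ≤ Subgroup.normalizer ((zen N : Subgroup Γ) : Set Γ) :=
    fun g hg => normalizer_le_normalizer_zen N (h.P.AN hg)
  have hZR : R ≤ Subgroup.normalizer ((zen N : Subgroup Γ) : Set Γ) :=
    fun g hg => normalizer_le_normalizer_zen N (h.P.RN hg)
  have hZne : zen N ≠ N := by
    intro heq
    obtain ⟨x, hx, x', hx', hxx'⟩ := hnab
    apply hxx'
    have h1 : x' ∈ zen N := by rw [heq]; exact hx'
    exact (mem_zen.1 h1).2 x hx
  refine ⟨hZA, hZR, h.m2 (zen N) (zen_le N) hZne hZA hZR, ?_⟩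
  intro hbot
  have hNne : N ≠ ⊥ := by
    intro hN
    obtain ⟨x, hx, x', hx', hxx'⟩ := hnab
    rw [hN, Subgroup.mem_bot] at hx
    apply hxx'
    rw [hx, one_mul, mul_one]
  haveI : Nontrivial N := (Subgroup.nontrivial_iff_ne_bot N).2 hNne
  haveI hcn : Nontrivial (Subgroup.center ↥N) := h.P.hN.center_nontrivial
  obtain ⟨z, hz1⟩ := exists_ne (1 : Subgroup.center ↥N)
  have hzZ : ((z : ↥N) : Γ) ∈ zen N := by
    rw [mem_zen]
    refine ⟨(z : ↥N).2, ?_⟩
    intro e he
    have h1 := Subgroup.mem_center_iff.1 z.2 ⟨e, he⟩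
    exact congrArg Subtype.val h1
  apply hz1
  apply Subtype.ext
  apply Subtype.ext
  rw [hbot, Subgroup.mem_bot] at hzZ
  exact hzZ

theorem MinCE.zen_ab : ∀ z ∈ zen N, ∀ z' ∈ zen N, z * z' = z' * z :=
  fun z hz z' hz' => (mem_zen.1 hz').2 z (zen_le N hz)

theorem MinCE.N_stab (μ : Γ → K) : ∀ x ∈ N, x ∈ stabW (zen N) μ := by
  intro x hx
  apply central_mem_stabW
  intro z hz
  exact (mem_zen.1 hz).2 x hx

/-- when `a` fixes all weights of the centre: `[N, a]` acts trivially on the nontrivial weight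
spaces -/
theorem MinCE.core_on_weights
    (hZA : A ≤ Subgroup.normalizer ((zen N : Subgroup Γ) : Set Γ))
    (hall : ∀ μ : Γ → K, wtS ρ (zen N) μ ≠ ⊥ → FixW (zen N) a μ) (μ : Γ → K) {w : W}
    (hw : w ∈ wtS ρ (zen N) μ) (hw0 : w ≠ 0) {z₀ : Γ} (hz₀ : z₀ ∈ zen N) (hμ : μ z₀ ≠ 1) :
    ∀ x ∈ N, ∀ u ∈ wtS ρ (zen N) μ, ρ (a * x * a⁻¹) u = ρ x u := by
  classical
  have hc : c.Prime := Fact.out
  have hs : s.Prime := Fact.out
  set Z : Subgroup Γ := zen N with hZ
  have hZs : IsPGroup s Z := h.P.hN.to_le (zen_le N)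
  have hZab := h.zen_ab
  have hcommZ := famS_commute ρ Z hZab
  have haZ : ∀ z ∈ Z, a * z = z * a :=
    commute_of_fix_all h.inj h.hsK hZs hZab (hZA h.frob.ha) hall
  have hbfpf : ∀ z ∈ Z, b * z = z * b → z = 1 :=
    fun z hz hb => h.fixN' z (zen_le N hz) (haZ z hz) hb
  have hbμ : ¬ FixW Z b μ := moved_of_fpf (hZA h.frob.hb) hbfpf hw hw0 hz₀ hμ
  have hast : a ∈ stabW Z μ := central_mem_stabW μ haZ
  set U : Submodule K W := wtS ρ Z μ with hU
  have hfix : ∀ u ∈ U, ρ a u = u → u = 0 := by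
    intro u hu hau
    by_contra hu0
    let A₀ : Subgroup Γ := Subgroup.zpowers b
    haveI : Fintype A₀ := Fintype.ofFinite A₀
    set v : W := ∑ g : A₀, ρ (g : Γ) u with hv
    have hvb : ρ b v = v := rho_sumG_fixed ρ A₀ u b (Subgroup.mem_zpowers b)
    have hva : ρ a v = v := by
      apply rho_sumG_fix_of
      intro g hg
      have h1 : g⁻¹ * a * g ∈ Subgroup.zpowers a :=
        conj_inv_mem_of_normalizer (h.frob.zpowers_b_le hg) (Subgroup.mem_zpowers a)
      exact zpowers_fix ρ hau _ h1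
    have hv0 : v = 0 := h.fixW' v hva hvb
    have hA₀Z : A₀ ≤ Subgroup.normalizer (Z : Set Γ) := by
      rw [Subgroup.zpowers_le]; exact hZA h.frob.hb
    obtain ⟨g, hg, hg1, hgfix⟩ := exists_fix_of_sum_zero A₀ hcommZ hA₀Z hu hu0 hv0
    have hbg : b ∈ Subgroup.zpowers g := mem_zpowers_of_zpow_ne_one hc h.frob.bc hg hg1
    have hgst : g ∈ stabW Z μ := ⟨hA₀Z hg, hgfix⟩
    have hle : Subgroup.zpowers g ≤ stabW Z μ := by
      rw [Subgroup.zpowers_le]; exact hgst
    exact hbμ (hle hbg).2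
  exact core_apply h.hks h.hsK h.hkK h.P.hN h.aN h.frob.ak (h.frob.exc hc hs h.hcs) U
    (fun x hx u hu => map_wtS_of_mem_stabW ρ (h.N_stab μ x hx) hu)
    (fun u hu => map_wtS_of_mem_stabW ρ hast hu) hfix

end MinCE

end Cfsg.Agent.Lib.Helper56.FrobL
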