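import Cfsg.Agent.Lib.Helper56.FrobLinB

/-!
# The Frobenius pair lemma: the case where `a` centralizes `R`
-/

set_option autoImplicit false
set_option linter.unusedSectionVars false
set_option linter.style.haveILetI false

open scoped commutatorElement

namespace Cfsg.Agent.Lib.Helper56.FrobL

open Module
open Cfsg.Agent.Lib.Helper56
open Cfsg.Agent.Lib.Helper56.HH
open Cfsg.Agent.Lib.Helper56.HHB
open Cfsg.Agent.Lib.Helper56.Ward

universe u uK uW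

section General

variable {Γ : Type u} [Group Γ]

theorem pow_eq_one_of_mem_zpowers {a e : Γ} {k : ℕ} (hak : a ^ k = 1)
    (he : e ∈ Subgroup.zpowers a) : e ^ k = 1 := by
  obtain ⟨j, rfl⟩ := Subgroup.mem_zpowers_iff.1 he
  rw [← zpow_natCast, ← zpow_mul, mul_comm, zpow_mul, zpow_natCast, hak, one_zpow]

end General

section MinCE

variable {K : Type uK} [Field K] [IsAlgClosed K] {W : Type uW} [AddCommGroup W] [Module K W]
  [FiniteDimensional K W]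
variable {Γ : Type u} [Group Γ] [Finite Γ]
variable {ρ : Γ →* Module.End K W} {k c s r : ℕ} [Fact k.Prime] [Fact c.Prime] [Fact s.Prime]
  [Fact r.Prime] {a b : Γ} {A N R : Subgroup Γ}

variable (h : MinCE ρ k c s r a b A N R)
include h

/-- an occurring weight is fixed by `a` or by a conjugate of `b` -/
theorem MinCE.fix_cases {Z : Subgroup Γ} (hcommZ : ∀ i j : Z, Commute (ρ (i : Γ)) (ρ (j : Γ)))
    (hAZ : A ≤ Subgroup.normalizer (Z : Set Γ)) {χ : Γ → K} {w : W} (hw : w ∈ wtS ρ Z χ)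
    (hw0 : w ≠ 0) :
    a ∈ stabW Z χ ∨ ∃ x₀ ∈ Subgroup.zpowers a, x₀ * b * x₀⁻¹ ∈ stabW Z χ := by
  classical
  haveI : Fintype A := Fintype.ofFinite A
  have hsum : ∑ g : A, ρ (g : Γ) w = 0 :=
    h.fixW _ (rho_sumG_fixed ρ A w)
  obtain ⟨g, hg, hg1, hgfix⟩ := exists_fix_of_sum_zero A hcommZ hAZ hw hw0 hsum
  have hgst : g ∈ stabW Z χ := ⟨hAZ hg, hgfix⟩
  have hle : Subgroup.zpowers g ≤ stabW Z χ := by
    rw [Subgroup.zpowers_le]; exact hgst
  rcases h.frob.conj g hg hg1 with h1 | ⟨x₀, hx₀, h1⟩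
  · exact Or.inl (hle h1)
  · exact Or.inr ⟨x₀, hx₀, hle h1⟩

theorem MinCE.zpowers_a_le_N : Subgroup.zpowers a ≤ Subgroup.normalizer (N : Set Γ) := by
  rw [Subgroup.zpowers_le]; exact h.aN

/-- weights of `N` fixed by `a` are fixed by `R` -/
theorem MinCE.case1_afix (hRa : ∀ y ∈ R, a * y = y * a) {χ : Γ → K} {w : W}
    (hw : w ∈ wtS ρ N χ) (hw0 : w ≠ 0) (hfix : FixW N a χ) : ∀ y ∈ R, y ∈ stabW N χ := by
  have hk : k.Prime := Fact.out
  intro y hy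
  refine ⟨h.P.RN hy, ?_⟩
  intro z hz
  obtain ⟨n, hn, hfixn⟩ := exists_cent_mul k h.frob.ak h.aN (h.not_dvd_N hk h.hks le_rfl) z hz
  have hnN : n ∈ N := commG_le h.aN hn
  have hz₀ : z * n ∈ N := N.mul_mem hz hnN
  have hcomm := h.case1_cent hRa (z * n) hz₀ hfixn y hy
  have hyi : y⁻¹ ∈ Subgroup.normalizer (N : Set Γ) := Subgroup.inv_mem _ (h.P.RN hy)
  have hn' : y⁻¹ * n⁻¹ * y ∈ commG N a := by
    have h1 := commG_conj h.aN hyi 1 (by
      rw [pow_one, inv_inv]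
      calc y⁻¹ * a * y = y⁻¹ * (a * y) := by group
        _ = y⁻¹ * (y * a) := by rw [hRa y hy]
        _ = a := by group) n⁻¹ (Subgroup.inv_mem _ hn)
    rwa [inv_inv] at h1
  have e1 : y⁻¹ * z * y = (z * n) * (y⁻¹ * n⁻¹ * y) := by
    calc y⁻¹ * z * y = y⁻¹ * ((z * n) * y) * (y⁻¹ * n⁻¹ * y) := by group
      _ = y⁻¹ * (y * (z * n)) * (y⁻¹ * n⁻¹ * y) := by rw [hcomm]
      _ = (z * n) * (y⁻¹ * n⁻¹ * y) := by group
  have e2 : z = (z * n) * n⁻¹ := by group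
  have ht := chi_trivial_on_commG h.aN hw hw0 hfix
  rw [e1, chi_mul ρ hw hw0 hz₀ (commG_le h.aN hn'), ht _ hn', mul_one]
  conv_rhs => rw [e2, chi_mul ρ hw hw0 hz₀ (N.inv_mem hnN), ht _ (Subgroup.inv_mem _ hn), mul_one]

/-- weights of `N` fixed by `b` are fixed by `R` -/
theorem MinCE.case1_bfix (hRa : ∀ y ∈ R, a * y = y * a)
    (hNab : ∀ x ∈ N, ∀ x' ∈ N, x * x' = x' * x) {χ : Γ → K} {w : W}
    (hw : w ∈ wtS ρ N χ) (hw0 : w ≠ 0) (hb : b ∈ stabW N χ) : ∀ y ∈ R, y ∈ stabW N χ := by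
  have hk : k.Prime := Fact.out
  have hc : c.Prime := Fact.out
  have hr : r.Prime := Fact.out
  by_cases ha : FixW N a χ
  · exact h.case1_afix hRa hw hw0 ha
  have hcommN := famS_commute ρ N hNab
  set S : Subgroup Γ := R ⊓ stabW N χ with hS
  have hclaim : ∀ y ∈ R, y⁻¹ * (b * y * b⁻¹) ∈ S := by
    intro y hy
    have hyN := h.P.RN hy
    have hw' : ρ y w ∈ wtS ρ N (cj y χ) := map_wtS ρ hyN hw
    have hw'0 : ρ y w ≠ 0 := rho_ne_zero ρ y hw0
    have hy' : y⁻¹ * (b * y * b⁻¹) ∈ R :=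
      R.mul_mem (R.inv_mem hy) (conj_mem_of_normalizer h.bR hy)
    refine ⟨hy', ?_⟩
    rcases h.fix_cases hcommN h.P.AN hw' hw'0 with h1 | ⟨x₀, hx₀, h1⟩
    · exfalso
      have h2 := (mem_stabW_cj hyN).1 h1
      have e : y⁻¹ * a * y = a := by
        calc y⁻¹ * a * y = y⁻¹ * (a * y) := by group
          _ = y⁻¹ * (y * a) := by rw [hRa y hy]
          _ = a := by group
      rw [e] at h2
      exact ha h2.2
    · have h2 := (mem_stabW_cj hyN).1 h1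
      have h3 : y⁻¹ * (x₀ * b * x₀⁻¹) * y * b⁻¹ ∈ stabW N χ :=
        Subgroup.mul_mem _ h2 (Subgroup.inv_mem _ hb)
      set x₁ : Γ := b * x₀⁻¹ * b⁻¹ with hx₁def
      have hx₁ : x₁ ∈ Subgroup.zpowers a :=
        conj_mem_of_normalizer h.frob.norm (Subgroup.inv_mem _ hx₀)
      have hyx₀ : x₀ * y = y * x₀ := zpowers_comm (hRa y hy) x₀ hx₀
      have hyx₁ : x₁ * y = y * x₁ := zpowers_comm (hRa y hy) x₁ hx₁
      have e0 : y⁻¹ * x₀ = x₀ * y⁻¹ := by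
        calc y⁻¹ * x₀ = y⁻¹ * (x₀ * y) * y⁻¹ := by group
          _ = y⁻¹ * (y * x₀) * y⁻¹ := by rw [hyx₀]
          _ = x₀ * y⁻¹ := by group
      have e1 : y⁻¹ * x₁ = x₁ * y⁻¹ := by
        calc y⁻¹ * x₁ = y⁻¹ * (x₁ * y) * y⁻¹ := by group
          _ = y⁻¹ * (y * x₁) * y⁻¹ := by rw [hyx₁]
          _ = x₁ * y⁻¹ := by group
      have e2 : y⁻¹ * (x₀ * b * x₀⁻¹) * y * b⁻¹ = (x₀ * x₁) * (y⁻¹ * (b * y * b⁻¹)) := by
        calc y⁻¹ * (x₀ * b * x₀⁻¹) * y * b⁻¹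
            = (y⁻¹ * x₀) * (b * x₀⁻¹ * b⁻¹) * (b * y * b⁻¹) := by group
          _ = (x₀ * y⁻¹) * x₁ * (b * y * b⁻¹) := by rw [e0]
          _ = x₀ * (y⁻¹ * x₁) * (b * y * b⁻¹) := by group
          _ = x₀ * (x₁ * y⁻¹) * (b * y * b⁻¹) := by rw [e1]
          _ = (x₀ * x₁) * (y⁻¹ * (b * y * b⁻¹)) := by group
      rw [e2] at h3
      set a'' : Γ := x₀ * x₁ with ha''def
      set y' : Γ := y⁻¹ * (b * y * b⁻¹) with hy'def
      have ha'' : a'' ∈ Subgroup.zpowers a := Subgroup.mul_mem _ hx₀ hx₁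
      have hcomm : a'' * y' = y' * a'' := zpowers_comm (hRa y' hy') a'' ha''
      have ha''k : a'' ^ k = 1 := pow_eq_one_of_mem_zpowers h.frob.ak ha''
      obtain ⟨j, hj⟩ := h.powR y' hy'
      have hcop : k.Coprime (r ^ j) :=
        Nat.Coprime.pow_right _ ((Nat.coprime_primes hk hr).2 h.hkr)
      obtain ⟨i, hi⟩ := exists_pow_eq_of_coprime hcomm ha''k hj hcop
      have h4 : a'' ∈ stabW N χ := by
        rw [← hi]; exact Subgroup.pow_mem _ h3 i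
      have h5 := Subgroup.mul_mem _ (Subgroup.inv_mem _ h4) h3
      rwa [inv_mul_cancel_left] at h5
  intro y hy
  have hbS : b ∈ Subgroup.normalizer (S : Set Γ) :=
    mem_normalizer_inf h.bR (Subgroup.le_normalizer hb)
  obtain ⟨n, hn, hfix⟩ := exists_fixed_in_coset_conj c h.frob.bc S hbS
    (h.not_dvd_R hc h.hcr inf_le_left) y (hclaim y hy)
  have hynR : y * n ∈ R := R.mul_mem hy hn.1
  have hyn1 : y * n = 1 := by
    apply h.fixR' _ hynR (hRa _ hynR)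
    calc b * (y * n) = b * (y * n) * b⁻¹ * b := by group
      _ = (y * n) * b := by rw [hfix]
  have hyeq : y = n⁻¹ := eq_inv_of_mul_eq_one_left hyn1
  rw [hyeq]
  exact Subgroup.inv_mem _ hn.2

/-- all occurring weights of the abelian group `N` are fixed by `R` -/
theorem MinCE.case1_all (hRa : ∀ y ∈ R, a * y = y * a)
    (hNab : ∀ x ∈ N, ∀ x' ∈ N, x * x' = x' * x) {χ : Γ → K} {w : W}
    (hw : w ∈ wtS ρ N χ) (hw0 : w ≠ 0) : ∀ y ∈ R, y ∈ stabW N χ := by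
  have hcommN := famS_commute ρ N hNab
  rcases h.fix_cases hcommN h.P.AN hw hw0 with h1 | ⟨x₀, hx₀, h1⟩
  · exact h.case1_afix hRa hw hw0 h1.2
  · have hx₀N : x₀⁻¹ ∈ Subgroup.normalizer (N : Set Γ) :=
      Subgroup.inv_mem _ (h.zpowers_a_le_N hx₀)
    have hb : b ∈ stabW N (cj x₀⁻¹ χ) := by
      rw [mem_stabW_cj hx₀N, inv_inv]
      exact h1
    have hw' : ρ x₀⁻¹ w ∈ wtS ρ N (cj x₀⁻¹ χ) := map_wtS ρ hx₀N hw
    have hw'0 : ρ x₀⁻¹ w ≠ 0 := rho_ne_zero ρ x₀⁻¹ hw0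
    have key := h.case1_bfix hRa hNab hw' hw'0 hb
    intro y hy
    have h2 := (mem_stabW_cj hx₀N).1 (key y hy)
    rw [inv_inv] at h2
    have hyx₀ : x₀ * y = y * x₀ := zpowers_comm (hRa y hy) x₀ hx₀
    have e : x₀ * y * x₀⁻¹ = y := by rw [hyx₀]; group
    rwa [e] at h2

/-- the case `N` abelian, `a` centralizing `R` -/
theorem MinCE.case1_abelian (hRa : ∀ y ∈ R, a * y = y * a)
    (hNab : ∀ x ∈ N, ∀ x' ∈ N, x * x' = x' * x) : False := by
  have hcommN := famS_commute ρ N hNab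
  have hssN := famS_semisimple ρ N s h.P.hN h.hsK
  have htopN := iSup_wtS_eq_top ρ N hcommN hssN
  obtain ⟨x, hx, y, hy, hxy⟩ := h.ne
  apply hxy
  have h1 : y⁻¹ * x * y = x := by
    apply h.inj
    apply ext_of_wtS ρ htopN
    intro χ w hw
    by_cases hw0 : w = 0
    · rw [hw0, map_zero, map_zero]
    have hyst := h.case1_all hRa hNab hw hw0 y hy
    rw [(mem_wtS ρ).1 hw _ (conj_inv_mem_of_normalizer (h.P.RN hy) hx), (mem_wtS ρ).1 hw x hx,
      hyst.2 x hx]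
  calc x * y = y * (y⁻¹ * x * y) := by group
    _ = y * x := by rw [h1]

end MinCE

end Cfsg.Agent.Lib.Helper56.FrobL
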