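import Cfsg.Agent.Lib.Helper56.FrobLinC

/-!
# The Frobenius pair lemma: `a` centralizes `R`, `N` nonabelian
-/

set_option autoImplicit false
set_option linter.unusedSectionVars false
set_option linter.style.haveILetI false

open scoped commutatorElement

namespace Cfsg.Agent.Lib.Helper56.FrobL

open Module
open Cfsg.Agent.Lib.Helper56
open Cfsg.Agent.Lib.Helper56.HH
open Cfsg.Agent.Lib.Helper56.HHB
open Cfsg.Agent.Lib.Helper56.Ward

universe u uK uW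

section FamFix

variable {K : Type uK} [Field K] {W : Type uW} [AddCommGroup W] [Module K W]
variable {Γ : Type u} [Group Γ]

/-- the elements acting trivially on the weight spaces of the weights satisfying `P` -/
def famFix (ρ : Γ →* Module.End K W) (Z : Subgroup Γ) (P : (Γ → K) → Prop) : Subgroup Γ :=
  ⨅ μ : {μ : Γ → K // P μ}, fixU ρ (wtS ρ Z μ.1)

theorem mem_famFix {ρ : Γ →* Module.End K W} {Z : Subgroup Γ} {P : (Γ → K) → Prop} {x : Γ} :
    x ∈ famFix ρ Z P ↔ ∀ μ, P μ → ∀ u ∈ wtS ρ Z μ, ρ x u = u := by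
  unfold famFix
  rw [Subgroup.mem_iInf]
  constructor
  · intro h μ hμ u hu
    exact h ⟨μ, hμ⟩ u hu
  · intro h μ u hu
    exact h μ.1 μ.2 u hu

theorem famFix_conj {ρ : Γ →* Module.End K W} {Z : Subgroup Γ} {P : (Γ → K) → Prop} {g : Γ}
    (hg : g ∈ Subgroup.normalizer (Z : Set Γ))
    (hP : ∀ μ, P μ → wtS ρ Z μ ≠ ⊥ → P (cj g⁻¹ μ)) :
    ∀ x ∈ famFix ρ Z P, g * x * g⁻¹ ∈ famFix ρ Z P := by
  intro x hx
  rw [mem_famFix] at hx ⊢
  intro μ hμ u hu
  by_cases hu0 : u = 0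
  · rw [hu0, map_zero]
  have hne : wtS ρ Z μ ≠ ⊥ := (Submodule.ne_bot_iff _).2 ⟨u, hu, hu0⟩
  have h1 : ρ g⁻¹ u ∈ wtS ρ Z (cj g⁻¹ μ) := map_wtS ρ (Subgroup.inv_mem _ hg) hu
  have h2 := hx _ (hP μ hμ hne) _ h1
  rw [rho_mul_apply, rho_mul_apply, h2, rho_apply_inv]

end FamFix

section MinCE

variable {K : Type uK} [Field K] [IsAlgClosed K] {W : Type uW} [AddCommGroup W] [Module K W]
  [FiniteDimensional K W]
variable {Γ : Type u} [Group Γ] [Finite Γ]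
variable {ρ : Γ →* Module.End K W} {k c s r : ℕ} [Fact k.Prime] [Fact c.Prime] [Fact s.Prime]
  [Fact r.Prime] {a b : Γ} {A N R : Subgroup Γ}

/-- the nontrivial occurring weights -/
def Good (ρ : Γ →* Module.End K W) (Z : Subgroup Γ) (μ : Γ → K) : Prop :=
  wtS ρ Z μ ≠ ⊥ ∧ ∃ z ∈ Z, μ z ≠ 1

omit [IsAlgClosed K] [FiniteDimensional K W] [Finite Γ] in
theorem good_cj {Z : Subgroup Γ} {g : Γ} (hg : g ∈ Subgroup.normalizer (Z : Set Γ)) (μ : Γ → K)
    (hμ : Good ρ Z μ) : Good ρ Z (cj g⁻¹ μ) := by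
  obtain ⟨hne, z₀, hz₀, hμz⟩ := hμ
  obtain ⟨u, hu, hu0⟩ := (Submodule.ne_bot_iff _).1 hne
  refine ⟨(Submodule.ne_bot_iff _).2
    ⟨ρ g⁻¹ u, map_wtS ρ (Subgroup.inv_mem _ hg) hu, rho_ne_zero ρ g⁻¹ hu0⟩,
    g⁻¹ * z₀ * g, conj_inv_mem_of_normalizer hg hz₀, ?_⟩
  rw [cj_apply]
  have e : g⁻¹⁻¹ * (g⁻¹ * z₀ * g) * g⁻¹ = z₀ := by group
  rw [e]
  exact hμz

variable (h : MinCE ρ k c s r a b A N R)
include h

/-- `a` centralizes `R`, `N` nonabelian, all weights of the centre fixed by `a` -/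
theorem MinCE.case1_nonab_fixed (hRa : ∀ y ∈ R, a * y = y * a)
    (hnab : ∃ x ∈ N, ∃ x' ∈ N, x * x' ≠ x' * x)
    (hall : ∀ μ : Γ → K, wtS ρ (zen N) μ ≠ ⊥ → FixW (zen N) a μ) : False := by
  have hk : k.Prime := Fact.out
  obtain ⟨hZA, hZR, hZRc, hZne⟩ := h.zen_facts hnab
  set Z : Subgroup Γ := zen N with hZ
  have hZs : IsPGroup s Z := h.P.hN.to_le (zen_le N)
  set N₄ : Subgroup Γ := N ⊓ famFix ρ Z (Good ρ Z) with hN₄
  have hnorm : ∀ g, g ∈ Subgroup.normalizer (N : Set Γ) →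
      g ∈ Subgroup.normalizer (N₄ : Set Γ) := by
    intro g hg
    apply mem_normalizer_inf hg
    apply mem_normalizer_of_conj
    exact famFix_conj (normalizer_le_normalizer_zen N hg)
      (fun μ hμ _ => good_cj (normalizer_le_normalizer_zen N hg) μ hμ)
  have hN₄ne : N₄ ≠ N := by
    intro heq
    obtain ⟨μ, w, hw, hw0, z₀, hz₀, hμz⟩ :=
      exists_nontrivial_weight h.inj h.hsK hZs h.zen_ab hZne
    have h1 : z₀ ∈ N₄ := by rw [heq]; exact zen_le N hz₀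
    have hgood : Good ρ Z μ := ⟨(Submodule.ne_bot_iff _).2 ⟨w, hw, hw0⟩, z₀, hz₀, hμz⟩
    have h2 := (mem_famFix.1 h1.2) μ hgood w hw
    rw [(mem_wtS ρ).1 hw z₀ hz₀] at h2
    have h3 : (μ z₀ - 1) • w = 0 := by rw [sub_smul, one_smul, h2, sub_self]
    rcases smul_eq_zero.1 h3 with h4 | h4
    · exact hμz (sub_eq_zero.1 h4)
    · exact hw0 h4
  have hcen := h.m2 N₄ inf_le_left hN₄ne (fun g hg => hnorm g (h.P.AN hg))
    (fun g hg => hnorm g (h.P.RN hg))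
  have hcomm_le : commG N a ≤ N₄ := by
    apply commG_le_of
    intro x hx
    refine ⟨N.mul_mem (N.inv_mem hx) (conj_mem_of_normalizer h.aN hx), ?_⟩
    apply mem_famFix.2
    rintro μ ⟨hne, z₀, hz₀, hμz⟩ u hu
    obtain ⟨w, hw, hw0⟩ := (Submodule.ne_bot_iff _).1 hne
    rw [rho_mul_apply, h.core_on_weights hZA hall μ hw hw0 hz₀ hμz x hx u hu, rho_inv_apply]
  obtain ⟨x, hx, y, hy, hxy⟩ := h.ne
  apply hxy
  obtain ⟨n, hn, hfix⟩ := exists_cent_mul k h.frob.ak h.aN (h.not_dvd_N hk h.hks le_rfl) x hx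
  have hnN : n ∈ N := commG_le h.aN hn
  have e1 := h.case1_cent hRa (x * n) (N.mul_mem hx hnN) hfix y hy
  have e2 := hcen n (hcomm_le hn) y hy
  have hx' : x ∈ Subgroup.centralizer ({y} : Set Γ) := by
    have h2 : x * n ∈ Subgroup.centralizer ({y} : Set Γ) :=
      Subgroup.mem_centralizer_singleton_iff.2 e1
    have h3 : n ∈ Subgroup.centralizer ({y} : Set Γ) :=
      Subgroup.mem_centralizer_singleton_iff.2 e2
    have h4 := Subgroup.mul_mem _ h2 (Subgroup.inv_mem _ h3)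
    rwa [mul_inv_cancel_right] at h4
  exact Subgroup.mem_centralizer_singleton_iff.1 hx'

/-- `a` centralizes `R`, `N` nonabelian, some weight of the centre moved by `a` -/
theorem MinCE.case1_nonab_moved (hRa : ∀ y ∈ R, a * y = y * a)
    (hnab : ∃ x ∈ N, ∃ x' ∈ N, x * x' ≠ x' * x) {μ₀ : Γ → K} (hμ₀ : wtS ρ (zen N) μ₀ ≠ ⊥)
    (hmoved : ¬ FixW (zen N) a μ₀) : False := by
  classical
  have hk : k.Prime := Fact.out
  have hc : c.Prime := Fact.out
  obtain ⟨hZA, hZR, hZRc, hZne⟩ := h.zen_facts hnab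
  set Z : Subgroup Γ := zen N with hZ
  have hcommZ := famS_commute ρ Z h.zen_ab
  obtain ⟨w₀, hw₀, hw₀0⟩ := (Submodule.ne_bot_iff _).1 hμ₀
  have haZ : a ∈ Subgroup.normalizer (Z : Set Γ) := hZA h.frob.ha
  -- a weight fixed by `b` and moved by `a`
  obtain ⟨μ, w, hw, hw0, hbμ, haμ⟩ : ∃ μ : Γ → K, ∃ w ∈ wtS ρ Z μ, w ≠ 0 ∧ b ∈ stabW Z μ ∧
      a ∉ stabW Z μ := by
    rcases h.fix_cases hcommZ hZA hw₀ hw₀0 with h1 | ⟨x₀, hx₀, h1⟩
    · exact absurd h1.2 hmoved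
    · have hx₀Z : x₀⁻¹ ∈ Subgroup.normalizer (Z : Set Γ) := by
        apply Subgroup.inv_mem
        have hle : Subgroup.zpowers a ≤ Subgroup.normalizer (Z : Set Γ) := by
          rw [Subgroup.zpowers_le]; exact haZ
        exact hle hx₀
      refine ⟨cj x₀⁻¹ μ₀, ρ x₀⁻¹ w₀, map_wtS ρ hx₀Z hw₀, rho_ne_zero ρ x₀⁻¹ hw₀0, ?_, ?_⟩
      · rw [mem_stabW_cj hx₀Z, inv_inv]
        exact h1
      · rw [mem_stabW_cj hx₀Z, inv_inv]
        have hcomm : x₀ * a = a * x₀ := zpowers_comm rfl x₀ hx₀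
        have e : x₀ * a * x₀⁻¹ = a := by rw [hcomm]; group
        rw [e]
        exact fun h2 => hmoved h2.2
  set U : Submodule K W := wtS ρ Z μ with hU
  have hfix : ∀ u ∈ U, ρ b u = u → u = 0 := by
    intro u hu hbu
    by_contra hu0
    let A₀ : Subgroup Γ := Subgroup.zpowers a
    haveI : Fintype A₀ := Fintype.ofFinite A₀
    set v : W := ∑ g : A₀, ρ (g : Γ) u with hv
    have hva : ρ a v = v := rho_sumG_fixed ρ A₀ u a (Subgroup.mem_zpowers a)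
    have hvb : ρ b v = v := rho_sumG_conj ρ A₀ u h.frob.norm hbu
    have hv0 : v = 0 := h.fixW' v hva hvb
    have hA₀Z : A₀ ≤ Subgroup.normalizer (Z : Set Γ) := by
      rw [Subgroup.zpowers_le]; exact haZ
    obtain ⟨g, hg, hg1, hgfix⟩ := exists_fix_of_sum_zero A₀ hcommZ hA₀Z hu hu0 hv0
    have hag : a ∈ Subgroup.zpowers g := mem_zpowers_of_zpow_ne_one hk h.frob.ak hg hg1
    have hgst : g ∈ stabW Z μ := ⟨hA₀Z hg, hgfix⟩
    have hle : Subgroup.zpowers g ≤ stabW Z μ := by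
      rw [Subgroup.zpowers_le]; exact hgst
    exact haμ (hle hag)
  have hRst : ∀ y ∈ R, y ∈ stabW Z μ := by
    intro y hy
    apply central_mem_stabW
    intro z hz
    exact (hZRc z hz y hy).symm
  have hres := fb_apply (ρ := ρ) hc (Ne.symm h.hcs) h.hsK h.hcK h.P.hN h.coprimeRs h.P.RN h.bN h.bR
    h.frob.bc (fun y hy hby => h.fixR' y hy (hRa y hy) hby) h.abelian_image U
    (fun x hx u hu => map_wtS_of_mem_stabW ρ (h.N_stab μ x hx) hu)
    (fun y hy u hu => map_wtS_of_mem_stabW ρ (hRst y hy) hu)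
    (fun u hu => map_wtS_of_mem_stabW ρ hbμ hu) hfix
  have htriv := h.N_fix_of_R U hres
  have hμ1 : ∀ z ∈ Z, μ z = 1 := by
    intro z hz
    have h2 := htriv z (zen_le N hz) w hw
    rw [(mem_wtS ρ).1 hw z hz] at h2
    have h3 : (μ z - 1) • w = 0 := by rw [sub_smul, one_smul, h2, sub_self]
    rcases smul_eq_zero.1 h3 with h4 | h4
    · exact sub_eq_zero.1 h4
    · exact absurd h4 hw0
  apply haμ
  refine ⟨haZ, ?_⟩
  intro z hz
  rw [hμ1 z hz, hμ1 _ (conj_inv_mem_of_normalizer haZ hz)]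

/-- the case where `a` centralizes `R` -/
theorem MinCE.case1 (hRa : ∀ y ∈ R, a * y = y * a) : False := by
  by_cases hNab : ∀ x ∈ N, ∀ x' ∈ N, x * x' = x' * x
  · exact h.case1_abelian hRa hNab
  · push Not at hNab
    by_cases hall : ∀ μ : Γ → K, wtS ρ (zen N) μ ≠ ⊥ → FixW (zen N) a μ
    · exact h.case1_nonab_fixed hRa hNab hall
    · push Not at hall
      obtain ⟨μ₀, hμ₀, hmoved⟩ := hall
      exact h.case1_nonab_moved hRa hNab hμ₀ hmoved

end MinCE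

end Cfsg.Agent.Lib.Helper56.FrobL
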