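import Cfsg.Agent.Lib.Helper56.FrobLinD

/-!
# The Frobenius pair lemma: the case `R = [R, a]`
-/

set_option autoImplicit false
set_option linter.unusedSectionVars false
set_option linter.style.haveILetI false

open scoped commutatorElement

namespace Cfsg.Agent.Lib.Helper56.FrobL

open Module
open Cfsg.Agent.Lib.Helper56
open Cfsg.Agent.Lib.Helper56.HH
open Cfsg.Agent.Lib.Helper56.HHB
open Cfsg.Agent.Lib.Helper56.Ward

universe u uK uW

section MinCE

variable {K : Type uK} [Field K] [IsAlgClosed K] {W : Type uW} [AddCommGroup W] [Module K W]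
  [FiniteDimensional K W]
variable {Γ : Type u} [Group Γ] [Finite Γ]
variable {ρ : Γ →* Module.End K W} {k c s r : ℕ} [Fact k.Prime] [Fact c.Prime] [Fact s.Prime]
  [Fact r.Prime] {a b : Γ} {A N R : Subgroup Γ}

variable (h : MinCE ρ k c s r a b A N R)
include h

/-- `N` abelian: the occurring weights are trivial on `C_N(a)` -/
theorem MinCE.case2_ab_weight (hCRa : ∀ y ∈ R, a * y = y * a → ∀ x ∈ N, x * y = y * x)
    (hNab : ∀ x ∈ N, ∀ x' ∈ N, x * x' = x' * x) {χ : Γ → K} {w : W}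
    (hw : w ∈ wtS ρ N χ) (hw0 : w ≠ 0) : ∀ x ∈ N, a * x = x * a → χ x = 1 := by
  classical
  have hk : k.Prime := Fact.out
  have hs : s.Prime := Fact.out
  have hr : r.Prime := Fact.out
  have hcommN := famS_commute ρ N hNab
  -- the case of a moved weight
  have hmovedcase : ∀ (μ : Γ → K) (v : W), v ∈ wtS ρ N μ → v ≠ 0 → ¬ FixW N a μ →
      ∀ x ∈ N, a * x = x * a → μ x = 1 := by
    intro μ v hv hv0 hμ x hx hxa
    have hxst : x ∈ stabW N μ := central_mem_stabW μ (fun z hz => hNab x hx z hz)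
    have h1 := h.moved_fix hcommN h.aN hμ hx hxa hxst v hv
    rw [(mem_wtS ρ).1 hv x hx] at h1
    have h3 : (μ x - 1) • v = 0 := by rw [sub_smul, one_smul, h1, sub_self]
    rcases smul_eq_zero.1 h3 with h4 | h4
    · exact sub_eq_zero.1 h4
    · exact absurd h4 hv0
  by_cases hfix : FixW N a χ
  swap
  · exact hmovedcase χ w hw hw0 hfix
  haveI : Fintype ↥R := Fintype.ofFinite ↥R
  have hconjN : ∀ (y : ↥R) (z : Γ), z ∈ N → (y : Γ)⁻¹ * z * y ∈ N :=
    fun y z hz => conj_inv_mem_of_normalizer (h.P.RN y.2) hz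
  let Pr : Γ → K := fun z => ∏ y : ↥R, χ ((y : Γ)⁻¹ * z * y)
  have hPrmul : ∀ z ∈ N, ∀ z' ∈ N, Pr (z * z') = Pr z * Pr z' := by
    intro z hz z' hz'
    show ∏ y : ↥R, χ ((y : Γ)⁻¹ * (z * z') * y) = _
    rw [← Finset.prod_mul_distrib]
    apply Finset.prod_congr rfl
    intro y _
    have e : (y : Γ)⁻¹ * (z * z') * y = ((y : Γ)⁻¹ * z * y) * ((y : Γ)⁻¹ * z' * y) := by group
    rw [e, chi_mul ρ hw hw0 (hconjN y z hz) (hconjN y z' hz')]
  have hProne : Pr 1 = 1 := by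
    show ∏ y : ↥R, χ ((y : Γ)⁻¹ * 1 * y) = 1
    apply Finset.prod_eq_one
    intro y _
    have e : (y : Γ)⁻¹ * 1 * y = 1 := by group
    rw [e, chi_one ρ hw hw0]
  have hPrR : ∀ y₀ ∈ R, ∀ z, Pr (y₀ * z * y₀⁻¹) = Pr z := by
    intro y₀ hy₀ z
    show ∏ y : ↥R, χ ((y : Γ)⁻¹ * (y₀ * z * y₀⁻¹) * y) = ∏ y : ↥R, χ ((y : Γ)⁻¹ * z * y)
    apply Fintype.prod_equiv (Equiv.mulLeft (⟨y₀⁻¹, R.inv_mem hy₀⟩ : ↥R))
    intro y
    congr 1
    simp only [Equiv.coe_mulLeft, Subgroup.coe_mul]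
    group
  let P : Subgroup Γ :=
    { carrier := {z | z ∈ N ∧ Pr z = 1}
      one_mem' := ⟨N.one_mem, hProne⟩
      mul_mem' := by
        rintro z z' ⟨hz, hz1⟩ ⟨hz', hz'1⟩
        exact ⟨N.mul_mem hz hz', by rw [hPrmul z hz z' hz', hz1, hz'1, one_mul]⟩
      inv_mem' := by
        rintro z ⟨hz, hz1⟩
        refine ⟨N.inv_mem hz, ?_⟩
        have h1 := hPrmul z⁻¹ (N.inv_mem hz) z hz
        rw [inv_mul_cancel, hProne, hz1, mul_one] at h1
        exact h1.symm }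
  have hNP : N ≤ P := by
    apply h.N_le
    intro x hx y hy
    have hc : y * x * y⁻¹ ∈ N := conj_mem_of_normalizer (h.P.RN hy) hx
    refine ⟨N.mul_mem (N.inv_mem hx) hc, ?_⟩
    rw [hPrmul _ (N.inv_mem hx) _ hc, hPrR y hy x, ← hPrmul _ (N.inv_mem hx) _ hx, inv_mul_cancel,
      hProne]
  have hPr1 : ∀ x ∈ N, Pr x = 1 := fun x hx => (hNP hx).2
  intro x hx hxa
  set S : Subgroup Γ := R ⊓ stabW N χ with hS
  have hast : a ∈ stabW N χ := ⟨h.aN, hfix⟩
  have haS : a ∈ Subgroup.normalizer (S : Set Γ) :=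
    mem_normalizer_inf h.aR (Subgroup.le_normalizer hast)
  have hfactor : ∀ y : ↥R, χ ((y : Γ)⁻¹ * x * y) = if (y : Γ) ∈ S then χ x else 1 := by
    intro y
    have hyN := h.P.RN y.2
    split_ifs with hyS
    · exact hyS.2.2 x hx
    · have hw' : ρ (y : Γ) w ∈ wtS ρ N (cj (y : Γ) χ) := map_wtS ρ hyN hw
      have hw'0 : ρ (y : Γ) w ≠ 0 := rho_ne_zero ρ _ hw0
      have hmov : ¬ FixW N a (cj (y : Γ) χ) := by
        intro hf
        apply hyS
        have h1 : a ∈ stabW N (cj (y : Γ) χ) := ⟨h.aN, hf⟩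
        have h2 := (mem_stabW_cj hyN).1 h1
        have h3 : (y : Γ)⁻¹ * (a * y * a⁻¹) ∈ S := by
          refine ⟨R.mul_mem (R.inv_mem y.2) (conj_mem_of_normalizer h.aR y.2), ?_⟩
          have h4 := Subgroup.mul_mem _ h2 (Subgroup.inv_mem _ hast)
          have e : (y : Γ)⁻¹ * a * y * a⁻¹ = (y : Γ)⁻¹ * (a * y * a⁻¹) := by group
          rwa [e] at h4
        obtain ⟨n, hn, hfixn⟩ := exists_fixed_in_coset_conj k h.frob.ak S haS
          (h.not_dvd_R hk h.hkr inf_le_left) (y : Γ) h3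
        have hynR : (y : Γ) * n ∈ R := R.mul_mem y.2 hn.1
        have hcomm : a * ((y : Γ) * n) = ((y : Γ) * n) * a := by
          calc a * ((y : Γ) * n) = a * ((y : Γ) * n) * a⁻¹ * a := by group
            _ = ((y : Γ) * n) * a := by rw [hfixn]
        have hcen := hCRa _ hynR hcomm
        have hynst : (y : Γ) * n ∈ stabW N χ :=
          central_mem_stabW χ (fun z hz => (hcen z hz).symm)
        have h5 := Subgroup.mul_mem _ hynst (Subgroup.inv_mem _ hn.2)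
        rw [mul_inv_cancel_right] at h5
        exact ⟨y.2, h5⟩
      have h6 := hmovedcase _ _ hw' hw'0 hmov x hx hxa
      rw [cj_apply] at h6
      exact h6
  have hprod : Pr x = χ x ^ (Finset.univ.filter (fun y : ↥R => (y : Γ) ∈ S)).card := by
    show ∏ y : ↥R, χ ((y : Γ)⁻¹ * x * y) = _
    rw [Finset.prod_congr rfl (fun y _ => hfactor y), Finset.prod_ite, Finset.prod_const,
      Finset.prod_const_one, mul_one]
  set m := (Finset.univ.filter (fun y : ↥R => (y : Γ) ∈ S)).card with hm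
  have hmdvd : m ∣ Nat.card R := by
    have h1 : m = Nat.card ↥(S.subgroupOf R) := by
      rw [hm, Nat.card_eq_fintype_card, ← Fintype.card_subtype]
      exact Fintype.card_congr (Equiv.subtypeEquivRight (fun y => Subgroup.mem_subgroupOf.symm))
    rw [h1]
    exact Subgroup.card_subgroup_dvd_card _
  obtain ⟨j, hj⟩ := h.P.hR.exists_card_eq
  obtain ⟨i, hi⟩ := h.powN x hx
  have h1 : χ x ^ m = 1 := by rw [← hprod]; exact hPr1 x hx
  have h2 : χ x ^ (s ^ i) = 1 := by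
    rw [← chi_pow ρ hw hw0 hx, hi, chi_one ρ hw hw0]
  have hcop : Nat.Coprime m (s ^ i) := by
    apply Nat.Coprime.coprime_dvd_left hmdvd
    rw [hj]
    exact Nat.Coprime.pow _ _ ((Nat.coprime_primes hr hs).2 (Ne.symm h.hsr))
  have h3 : orderOf (χ x) ∣ Nat.gcd m (s ^ i) :=
    Nat.dvd_gcd (orderOf_dvd_of_pow_eq_one h1) (orderOf_dvd_of_pow_eq_one h2)
  rw [hcop] at h3
  exact orderOf_eq_one_iff.1 (Nat.dvd_one.1 h3)

/-- the case `R = [R, a]`, `N` abelian -/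
theorem MinCE.case2_abelian (hCRa : ∀ y ∈ R, a * y = y * a → ∀ x ∈ N, x * y = y * x)
    (hNab : ∀ x ∈ N, ∀ x' ∈ N, x * x' = x' * x) : False := by
  have hcommN := famS_commute ρ N hNab
  have hssN := famS_semisimple ρ N s h.P.hN h.hsK
  have htopN := iSup_wtS_eq_top ρ N hcommN hssN
  have hCN : ∀ x ∈ N, a * x = x * a → x = 1 := by
    intro x hx hxa
    apply h.inj
    rw [map_one]
    apply ext_of_wtS ρ htopN
    intro χ w hw
    rw [Module.End.one_apply]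
    by_cases hw0 : w = 0
    · rw [hw0, map_zero]
    rw [(mem_wtS ρ).1 hw x hx, h.case2_ab_weight hCRa hNab hw hw0 x hx hxa, one_smul]
  have key := qt_lemma (s := s) (r := r) (k := k) h.hsr h.hks h.hkr h.P.hN h.P.hR h.P.RN h.aN h.aR
    h.frob.ak (N₁ := ⊥) bot_le
    (by rw [Subgroup.normalizer_eq_top]; exact le_top)
    (by rw [Subgroup.normalizer_eq_top]; exact le_top)
    (by rw [Subgroup.normalizer_eq_top]; exact Subgroup.mem_top a)
    (fun x hx hxa => by rw [Subgroup.mem_bot]; exact hCN x hx hxa) hCRa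
  obtain ⟨x, hx, y, hy, hxy⟩ := h.ne
  apply hxy
  have h1 := key x hx y hy
  rw [Subgroup.mem_bot] at h1
  calc x * y = x * (x⁻¹ * (y * x * y⁻¹)) * y := by rw [h1, mul_one]
    _ = y * x := by group

/-- the case `R = [R, a]`, `N` nonabelian, some weight of the centre moved by `a` -/
theorem MinCE.case2_nonab_moved (hCRa : ∀ y ∈ R, a * y = y * a → ∀ x ∈ N, x * y = y * x)
    (hnab : ∃ x ∈ N, ∃ x' ∈ N, x * x' ≠ x' * x) {μ₀ : Γ → K} (hμ₀ : wtS ρ (zen N) μ₀ ≠ ⊥)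
    (hmoved : ¬ FixW (zen N) a μ₀) : False := by
  obtain ⟨hZA, hZR, hZRc, hZne⟩ := h.zen_facts hnab
  set Z : Subgroup Γ := zen N with hZ
  have hcommZ := famS_commute ρ Z h.zen_ab
  have haZ : a ∈ Subgroup.normalizer (Z : Set Γ) := hZA h.frob.ha
  set N₅ : Subgroup Γ := N ⊓ famFix ρ Z (fun μ => ¬ FixW Z a μ) with hN₅
  -- invariance
  have hinv : ∀ g, g ∈ Subgroup.normalizer (N : Set Γ) →
      (∀ μ : Γ → K, g * a * g⁻¹ ∈ stabW Z μ → a ∈ stabW Z μ) →
      g ∈ Subgroup.normalizer (N₅ : Set Γ) := by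
    intro g hgN hg
    have hgZ := normalizer_le_normalizer_zen N hgN
    apply mem_normalizer_inf hgN
    apply mem_normalizer_of_conj
    apply famFix_conj hgZ
    intro μ hμ _ hf
    apply hμ
    have h1 : a ∈ stabW Z (cj g⁻¹ μ) := ⟨haZ, hf⟩
    have h2 := (mem_stabW_cj (Subgroup.inv_mem _ hgZ)).1 h1
    rw [inv_inv] at h2
    exact (hg μ h2).2
  have hcentral : ∀ g, (∀ z ∈ Z, g * z = z * g) → ∀ μ : Γ → K,
      g * a * g⁻¹ ∈ stabW Z μ → a ∈ stabW Z μ := by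
    intro g hg μ h1
    have hgst : g ∈ stabW Z μ := central_mem_stabW μ hg
    have h2 := Subgroup.mul_mem _ (Subgroup.mul_mem _ (Subgroup.inv_mem _ hgst) h1) hgst
    have e : g⁻¹ * (g * a * g⁻¹) * g = a := by group
    rwa [e] at h2
  have hNN₅ : N ≤ Subgroup.normalizer (N₅ : Set Γ) := fun g hg =>
    hinv g (Subgroup.le_normalizer hg) (hcentral g (fun z hz => (mem_zen.1 hz).2 g hg))
  have hRN₅ : R ≤ Subgroup.normalizer (N₅ : Set Γ) := fun g hg =>
    hinv g (h.P.RN hg) (hcentral g (fun z hz => (hZRc z hz g hg).symm))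
  have haN₅ : a ∈ Subgroup.normalizer (N₅ : Set Γ) :=
    hinv a h.aN (fun μ h1 => by
      have e : a * a * a⁻¹ = a := by group
      rwa [e] at h1)
  have hCN : ∀ x ∈ N, a * x = x * a → x ∈ N₅ := by
    intro x hx hxa
    refine ⟨hx, ?_⟩
    apply mem_famFix.2
    intro μ hμ u hu
    exact h.moved_fix hcommZ haZ hμ hx hxa (h.N_stab μ x hx) u hu
  have key := qt_lemma (s := s) (r := r) (k := k) h.hsr h.hks h.hkr h.P.hN h.P.hR h.P.RN h.aN h.aR
    h.frob.ak (N₁ := N₅) inf_le_left hNN₅ hRN₅ haN₅ hCN hCRa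
  have hle : N ≤ N₅ := h.N_le N₅ key
  obtain ⟨w₀, hw₀, hw₀0⟩ := (Submodule.ne_bot_iff _).1 hμ₀
  have hμ1 : ∀ z ∈ Z, μ₀ z = 1 := by
    intro z hz
    have h1 := hle (zen_le N hz)
    have h2 := (mem_famFix.1 h1.2) μ₀ hmoved w₀ hw₀
    rw [(mem_wtS ρ).1 hw₀ z hz] at h2
    have h3 : (μ₀ z - 1) • w₀ = 0 := by rw [sub_smul, one_smul, h2, sub_self]
    rcases smul_eq_zero.1 h3 with h4 | h4
    · exact sub_eq_zero.1 h4
    · exact absurd h4 hw₀0
  apply hmoved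
  intro z hz
  rw [hμ1 z hz, hμ1 _ (conj_inv_mem_of_normalizer haZ hz)]

/-- the case `R = [R, a]`, `N` nonabelian, all weights of the centre fixed by `a` -/
theorem MinCE.case2_nonab_fixed
    (hRgen : ∀ P : Subgroup Γ, (∀ y ∈ R, y⁻¹ * (a * y * a⁻¹) ∈ P) → R ≤ P)
    (hnab : ∃ x ∈ N, ∃ x' ∈ N, x * x' ≠ x' * x)
    (hall : ∀ μ : Γ → K, wtS ρ (zen N) μ ≠ ⊥ → FixW (zen N) a μ) : False := by
  obtain ⟨hZA, hZR, hZRc, hZne⟩ := h.zen_facts hnab
  set Z : Subgroup Γ := zen N with hZ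
  have hZs : IsPGroup s Z := h.P.hN.to_le (zen_le N)
  have haZ : a ∈ Subgroup.normalizer (Z : Set Γ) := hZA h.frob.ha
  obtain ⟨μ, w, hw, hw0, z₀, hz₀, hμz⟩ :=
    exists_nontrivial_weight h.inj h.hsK hZs h.zen_ab hZne
  have hne : wtS ρ Z μ ≠ ⊥ := (Submodule.ne_bot_iff _).2 ⟨w, hw, hw0⟩
  have hcore := h.core_on_weights hZA hall μ hw hw0 hz₀ hμz
  set U : Submodule K W := wtS ρ Z μ with hU
  have hUR : ∀ y ∈ R, ∀ u ∈ U, ρ y u ∈ U := by
    intro y hy u hu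
    exact map_wtS_of_mem_stabW ρ
      (central_mem_stabW μ (fun z hz => (hZRc z hz y hy).symm)) hu
  have hcore' : ∀ x ∈ N, ∀ u ∈ U, ρ (a⁻¹ * x * a) u = ρ x u := by
    intro x hx u hu
    have h1 := hcore _ (conj_inv_mem_of_normalizer h.aN hx) u hu
    have e : a * (a⁻¹ * x * a) * a⁻¹ = x := by group
    rw [e] at h1
    exact h1.symm
  let RU : Subgroup Γ :=
    { carrier := {y | y ∈ R ∧ ∀ x ∈ N, ∀ u ∈ U, ρ (y * x * y⁻¹) u = ρ x u}
      one_mem' := by
        refine ⟨R.one_mem, ?_⟩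
        intro x _ u _
        simp
      mul_mem' := by
        rintro y y' ⟨hy, hy1⟩ ⟨hy', hy'1⟩
        refine ⟨R.mul_mem hy hy', ?_⟩
        intro x hx u hu
        have e : y * y' * x * (y * y')⁻¹ = y * (y' * x * y'⁻¹) * y⁻¹ := by group
        rw [e, hy1 _ (conj_mem_of_normalizer (h.P.RN hy') hx) u hu, hy'1 x hx u hu]
      inv_mem' := by
        rintro y ⟨hy, hy1⟩
        refine ⟨R.inv_mem hy, ?_⟩
        intro x hx u hu
        have h1 := hy1 _ (conj_inv_mem_of_normalizer (h.P.RN hy) hx) u hu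
        have e : y * (y⁻¹ * x * y) * y⁻¹ = x := by group
        rw [e] at h1
        rw [inv_inv]
        exact h1.symm }
  have hgen : ∀ y ∈ R, y⁻¹ * (a * y * a⁻¹) ∈ RU := by
    intro y hy
    refine ⟨R.mul_mem (R.inv_mem hy) (conj_mem_of_normalizer h.aR hy), ?_⟩
    intro x hx u hu
    have hx₁ : a⁻¹ * x * a ∈ N := conj_inv_mem_of_normalizer h.aN hx
    have hx₂ : y * (a⁻¹ * x * a) * y⁻¹ ∈ N := conj_mem_of_normalizer (h.P.RN hy) hx₁
    have e : y⁻¹ * (a * y * a⁻¹) * x * (y⁻¹ * (a * y * a⁻¹))⁻¹ =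
        y⁻¹ * (a * (y * (a⁻¹ * x * a) * y⁻¹) * a⁻¹) * y := by group
    rw [e, rho_mul_apply, rho_mul_apply, hcore _ hx₂ _ (hUR y hy u hu), ← rho_mul_apply,
      ← rho_mul_apply]
    have e2 : y⁻¹ * (y * (a⁻¹ * x * a) * y⁻¹) * y = a⁻¹ * x * a := by group
    rw [e2, hcore' x hx u hu]
  have hRle : R ≤ RU := hRgen RU hgen
  have htriv := h.N_fix_of_R U (fun y hy => (hRle hy).2)
  have h2 := htriv z₀ (zen_le N hz₀) w hw
  rw [(mem_wtS ρ).1 hw z₀ hz₀] at h2
  have h3 : (μ z₀ - 1) • w = 0 := by rw [sub_smul, one_smul, h2, sub_self]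
  rcases smul_eq_zero.1 h3 with h4 | h4
  · exact hμz (sub_eq_zero.1 h4)
  · exact hw0 h4

/-- the minimal counterexample does not exist -/
theorem MinCE.false : False := by
  rcases h.dichotomy with hRa | ⟨hRgen, hCRa⟩
  · exact h.case1 hRa
  · by_cases hNab : ∀ x ∈ N, ∀ x' ∈ N, x * x' = x' * x
    · exact h.case2_abelian hCRa hNab
    · push Not at hNab
      by_cases hall : ∀ μ : Γ → K, wtS ρ (zen N) μ ≠ ⊥ → FixW (zen N) a μ
      · exact h.case2_nonab_fixed hRgen hNab hall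
      · push Not at hall
        obtain ⟨μ₀, hμ₀, hmoved⟩ := hall
        exact h.case2_nonab_moved hCRa hNab hμ₀ hmoved

end MinCE

end Cfsg.Agent.Lib.Helper56.FrobL
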