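import Cfsg.Agent.Lib.Helper56.WardLin
import Cfsg.Agent.Lib.Helper14.NilpHall
import Cfsg.Agent.S0022
import Cfsg.Agent.S0027
import Cfsg.Agent.S0033
import Cfsg.Agent.S0058

/-!
# Ward's theorem: group theoretic tools for an elementary abelian group of order `p ^ 2`

* `IsEA2 p A`: `A` is elementary abelian of order `p ^ 2`; two independent elements generate;
* `thompson_pair`: for `α ∈ A` nontrivial, `C_N(α)` and `C_R(α)` commute (Thompson's theorem);
* `gen_induction`: induction principle from the generation `K = ⟨C_K(a) : a ∈ A#⟩`;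
* `exists_fix_of_occurring`: every occurring weight has a nontrivial stabilizer in `A`.
-/

set_option autoImplicit false
set_option linter.unusedSectionVars false
set_option linter.style.haveILetI false

namespace Cfsg.Agent.Lib.Helper56.Ward

open Module
open Cfsg.Agent.Lib.Helper56.HH
open Cfsg.Agent.Lib.Helper56.HHB
open Cfsg.Agent.Lib.Helper56.HHS
open scoped commutatorElement

universe u uK uW

section EA

variable {Γ : Type u} [Group Γ]

/-- `A` is elementary abelian of order `p ^ 2` -/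
structure IsEA2 (p : ℕ) (A : Subgroup Γ) : Prop where
  comm : ∀ a ∈ A, ∀ b ∈ A, a * b = b * a
  exp : ∀ a ∈ A, a ^ p = 1
  card : Nat.card A = p ^ 2

theorem mem_zpowers_of_zpow_ne_one {g : Γ} {p : ℕ} (hp : p.Prime) (hg : g ^ p = 1) {e : Γ}
    (he : e ∈ Subgroup.zpowers g) (he1 : e ≠ 1) : g ∈ Subgroup.zpowers e := by
  obtain ⟨j, rfl⟩ := Subgroup.mem_zpowers_iff.1 he
  have hpj : ¬ (p : ℤ) ∣ j := by
    rintro ⟨t, rfl⟩
    apply he1
    rw [zpow_mul, zpow_natCast, hg, one_zpow]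
  have hcop : Int.gcd j p = 1 := by
    rw [Int.gcd_comm]
    have h1 : Nat.Coprime p j.natAbs := by
      rw [Nat.Prime.coprime_iff_not_dvd hp]
      intro h
      exact hpj (Int.natCast_dvd.2 h)
    simpa [Int.gcd] using h1
  have hb := Int.gcd_eq_gcd_ab j p
  rw [hcop] at hb
  rw [Subgroup.mem_zpowers_iff]
  refine ⟨Int.gcdA j p, ?_⟩
  have h2 : g = g ^ ((1 : ℕ) : ℤ) := by simp
  rw [← zpow_mul]
  conv_rhs => rw [h2, hb]
  rw [zpow_add, zpow_mul _ (p : ℤ), zpow_natCast, hg, one_zpow, mul_one]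

variable [Finite Γ]

theorem orderOf_eq_of_mem {p : ℕ} (hp : p.Prime) {A : Subgroup Γ} (hA : IsEA2 p A) {c : Γ}
    (hc : c ∈ A) (hc1 : c ≠ 1) : orderOf c = p := by
  haveI : Fact p.Prime := ⟨hp⟩
  exact orderOf_eq_prime (hA.exp c hc) hc1

/-- two independent elements of `A` generate it -/
theorem IsEA2.le_of_mem {p : ℕ} (hp : p.Prime) {A : Subgroup Γ} (hA : IsEA2 p A) {c d : Γ}
    (hc : c ∈ A) (hd : d ∈ A) (hc1 : c ≠ 1) (hdc : d ∉ Subgroup.zpowers c) (H : Subgroup Γ)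
    (hcH : c ∈ H) (hdH : d ∈ H) : A ≤ H := by
  set L : Subgroup Γ := H ⊓ A with hL
  have hLA : L ≤ A := inf_le_right
  have hdvd : Nat.card L ∣ p ^ 2 := by
    rw [← hA.card]; exact Subgroup.card_dvd_of_le hLA
  have hzL : Subgroup.zpowers c ≤ L := by
    rw [Subgroup.zpowers_le]; exact ⟨hcH, hc⟩
  have hcardz : Nat.card (Subgroup.zpowers c) = p := by
    rw [Nat.card_zpowers, orderOf_eq_of_mem hp hA hc hc1]
  have hpL : p ∣ Nat.card L := by
    rw [← hcardz]; exact Subgroup.card_dvd_of_le hzL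
  obtain ⟨k, hk2, hk⟩ := (Nat.dvd_prime_pow hp).1 hdvd
  have hk0 : k ≠ 0 := by
    rintro rfl
    rw [hk, pow_zero] at hpL
    exact hp.one_lt.ne' (Nat.dvd_one.1 hpL)
  have hk1 : k ≠ 1 := by
    rintro rfl
    rw [pow_one] at hk
    have h1 : Subgroup.zpowers c = L :=
      Subgroup.eq_of_le_of_card_ge hzL (by rw [hk, hcardz])
    apply hdc
    rw [h1]
    exact ⟨hdH, hd⟩
  have hk2' : k = 2 := by omega
  rw [hk2'] at hk
  have h2 : L = A := Subgroup.eq_of_le_of_card_ge hLA (by rw [hk, hA.card])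
  rw [← h2]
  exact inf_le_left

/-- the decomposition of the elements of `A` -/
theorem IsEA2.exists_zpow_mul {p : ℕ} (hp : p.Prime) {A : Subgroup Γ} (hA : IsEA2 p A) {c d : Γ}
    (hc : c ∈ A) (hd : d ∈ A) (hc1 : c ≠ 1) (hdc : d ∉ Subgroup.zpowers c) :
    ∀ α ∈ A, ∃ k m : ℤ, α = c ^ k * d ^ m := by
  have hcd : Commute c d := hA.comm c hc d hd
  let H : Subgroup Γ :=
    { carrier := {x | ∃ k m : ℤ, x = c ^ k * d ^ m}
      one_mem' := ⟨0, 0, by simp⟩
      mul_mem' := by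
        rintro x y ⟨k, m, rfl⟩ ⟨k', m', rfl⟩
        refine ⟨k + k', m + m', ?_⟩
        have h1 : d ^ m * c ^ k' = c ^ k' * d ^ m := ((hcd.zpow_zpow k' m).eq).symm
        calc c ^ k * d ^ m * (c ^ k' * d ^ m') = c ^ k * (d ^ m * c ^ k') * d ^ m' := by group
          _ = c ^ k * (c ^ k' * d ^ m) * d ^ m' := by rw [h1]
          _ = c ^ (k + k') * d ^ (m + m') := by rw [zpow_add, zpow_add]; group
      inv_mem' := by
        rintro x ⟨k, m, rfl⟩
        refine ⟨-k, -m, ?_⟩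
        have h1 : d ^ (-m) * c ^ (-k) = c ^ (-k) * d ^ (-m) := ((hcd.zpow_zpow (-k) (-m)).eq).symm
        rw [mul_inv_rev, ← zpow_neg, ← zpow_neg, h1] }
  have hle := hA.le_of_mem hp hc hd hc1 hdc H ⟨1, 0, by simp⟩ ⟨0, 1, by simp⟩
  intro α hα
  exact hle hα

theorem IsEA2.exists_not_mem_zpowers {p : ℕ} (hp : p.Prime) {A : Subgroup Γ} (hA : IsEA2 p A)
    {α : Γ} (hα : α ∈ A) : ∃ a' ∈ A, a' ∉ Subgroup.zpowers α := by
  by_contra hcon
  push Not at hcon
  have hle : A ≤ Subgroup.zpowers α := fun a ha => hcon a ha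
  have h1 := Subgroup.card_dvd_of_le hle
  rw [hA.card, Nat.card_zpowers] at h1
  have h2 : orderOf α ∣ p := orderOf_dvd_of_pow_eq_one (hA.exp α hα)
  have h3 : p ^ 2 ∣ p := h1.trans h2
  have h4 : p ^ 2 ≤ p := Nat.le_of_dvd hp.pos h3
  have h5 : 2 ≤ p := hp.two_le
  nlinarith

theorem IsEA2.not_isCyclic {p : ℕ} (hp : p.Prime) {A : Subgroup Γ} (hA : IsEA2 p A) :
    ¬ IsCyclic A := by
  intro hcyc
  obtain ⟨g, hg⟩ := hcyc.exists_generator
  have h1 : orderOf g = Nat.card A := orderOf_eq_card_of_forall_mem_zpowers hg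
  have h2 : g ^ p = 1 := Subtype.ext (by simpa using hA.exp g g.2)
  have h3 : orderOf g ∣ p := orderOf_dvd_of_pow_eq_one h2
  rw [h1, hA.card] at h3
  have h4 : p ^ 2 ≤ p := Nat.le_of_dvd hp.pos h3
  have h5 : 2 ≤ p := hp.two_le
  nlinarith

theorem IsEA2.isMulCommutative {p : ℕ} {A : Subgroup Γ} (hA : IsEA2 p A) : IsMulCommutative A :=
  ⟨⟨fun a b => Subtype.ext (hA.comm a a.2 b b.2)⟩⟩

theorem IsEA2.coprime_card {p s : ℕ} (hp : p.Prime) [Fact s.Prime] (hps : p ≠ s)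
    {A : Subgroup Γ} (hA : IsEA2 p A) {N : Subgroup Γ} (hN : IsPGroup s N) :
    (Nat.card A).Coprime (Nat.card N) := by
  obtain ⟨n, hn⟩ := hN.exists_card_eq
  rw [hA.card, hn]
  exact Nat.Coprime.pow _ _ ((Nat.coprime_primes hp (Fact.out : s.Prime)).2 hps)

end EA

section Pair

variable {Γ : Type u} [Group Γ]

/-- the hypotheses on a pair of subgroups -/
structure Pair (A N R : Subgroup Γ) (s r : ℕ) : Prop where
  hN : IsPGroup s N
  hR : IsPGroup r R
  AN : A ≤ Subgroup.normalizer (N : Set Γ)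
  AR : A ≤ Subgroup.normalizer (R : Set Γ)
  RN : R ≤ Subgroup.normalizer (N : Set Γ)
  fixN : ∀ x ∈ N, (∀ a ∈ A, a * x = x * a) → x = 1
  fixR : ∀ x ∈ R, (∀ a ∈ A, a * x = x * a) → x = 1

theorem mem_normalizer_inf {N C : Subgroup Γ} {g : Γ}
    (hgN : g ∈ Subgroup.normalizer (N : Set Γ)) (hgC : g ∈ Subgroup.normalizer (C : Set Γ)) :
    g ∈ Subgroup.normalizer ((N ⊓ C : Subgroup Γ) : Set Γ) := by
  rw [Subgroup.mem_normalizer_iff]
  intro z
  rw [Subgroup.mem_inf, Subgroup.mem_inf, ← Subgroup.mem_normalizer_iff.1 hgN z,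
    ← Subgroup.mem_normalizer_iff.1 hgC z]

theorem mem_normalizer_centralizer_of_comm {g α : Γ} (h : g * α = α * g) :
    g ∈ Subgroup.normalizer ((Subgroup.centralizer ({α} : Set Γ) : Subgroup Γ) : Set Γ) :=
  Subgroup.le_normalizer (Subgroup.mem_centralizer_singleton_iff.2 h)

theorem eq_one_of_mem_of_mem {s r : ℕ} [Fact s.Prime] [Fact r.Prime] (hsr : s ≠ r)
    {N R : Subgroup Γ} (hN : IsPGroup s N) (hR : IsPGroup r R) {x : Γ} (hxN : x ∈ N)
    (hxR : x ∈ R) : x = 1 := by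
  obtain ⟨k, hk⟩ := hN ⟨x, hxN⟩
  obtain ⟨j, hj⟩ := hR ⟨x, hxR⟩
  have hk' : x ^ (s ^ k) = 1 := by simpa using congrArg Subtype.val hk
  have hj' : x ^ (r ^ j) = 1 := by simpa using congrArg Subtype.val hj
  have h1 : orderOf x ∣ Nat.gcd (s ^ k) (r ^ j) :=
    Nat.dvd_gcd (orderOf_dvd_of_pow_eq_one hk') (orderOf_dvd_of_pow_eq_one hj')
  have h2 : Nat.Coprime (s ^ k) (r ^ j) :=
    Nat.Coprime.pow _ _ ((Nat.coprime_primes (Fact.out : s.Prime) (Fact.out : r.Prime)).2 hsr)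
  rw [h2] at h1
  exact orderOf_eq_one_iff.1 (Nat.dvd_one.1 h1)

variable [Finite Γ]

/-- **Thompson pair lemma.** -/
theorem thompson_pair {p s r : ℕ} [Fact p.Prime] [Fact s.Prime] [Fact r.Prime] (hsr : s ≠ r)
    {A N R : Subgroup Γ} (hA : IsEA2 p A) (hP : Pair A N R s r) {α : Γ} (hα : α ∈ A)
    (hα1 : α ≠ 1) {x y : Γ} (hx : x ∈ N) (hy : y ∈ R) (hxα : x * α = α * x)
    (hyα : y * α = α * y) : x * y = y * x := by
  have hp : p.Prime := Fact.out
  set C : Subgroup Γ := Subgroup.centralizer ({α} : Set Γ) with hC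
  set N₀ : Subgroup Γ := N ⊓ C with hN₀
  set R₀ : Subgroup Γ := R ⊓ C with hR₀
  have hRN₀ : R₀ ≤ Subgroup.normalizer (N₀ : Set Γ) := by
    intro g hg
    exact mem_normalizer_inf (hP.RN hg.1) (Subgroup.le_normalizer hg.2)
  obtain ⟨a', ha'A, ha'α⟩ := hA.exists_not_mem_zpowers hp hα
  have ha'C : a' ∈ Subgroup.normalizer (C : Set Γ) :=
    mem_normalizer_centralizer_of_comm (hA.comm a' ha'A α hα)
  have ha'N₀ : a' ∈ Subgroup.normalizer (N₀ : Set Γ) := mem_normalizer_inf (hP.AN ha'A) ha'C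
  have ha'R₀ : a' ∈ Subgroup.normalizer (R₀ : Set Γ) := mem_normalizer_inf (hP.AR ha'A) ha'C
  set H : Subgroup Γ := N₀ ⊔ R₀ with hH
  have ha'H : a' ∈ Subgroup.normalizer (H : Set Γ) :=
    Subgroup.normalizer_inf_normalizer_le_normalizer_sup N₀ R₀ ⟨ha'N₀, ha'R₀⟩
  set φ : ↥H ≃* ↥H := conjMul H a' ha'H with hφ
  have hxH : x ∈ H := Subgroup.mem_sup_left ⟨hx, Subgroup.mem_centralizer_singleton_iff.2 hxα⟩
  have hyH : y ∈ H := Subgroup.mem_sup_right ⟨hy, Subgroup.mem_centralizer_singleton_iff.2 hyα⟩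
  -- fixed point freeness
  have hcentA : ∀ z : Γ, z * α = α * z → a' * z * a'⁻¹ = z → ∀ a ∈ A, a * z = z * a := by
    intro z hzα hza' a ha
    have hle := hA.le_of_mem hp hα ha'A hα1 ha'α (Subgroup.centralizer ({z} : Set Γ))
      (Subgroup.mem_centralizer_singleton_iff.2 hzα.symm)
      (Subgroup.mem_centralizer_singleton_iff.2 (by
        calc a' * z = a' * z * a'⁻¹ * a' := by group
          _ = z * a' := by rw [hza']))
    exact Subgroup.mem_centralizer_singleton_iff.1 (hle ha)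
  have hfpf : ∀ h : H, φ h = h → h = 1 := by
    intro h hh
    have hh' : a' * (h : Γ) * a'⁻¹ = h := congrArg Subtype.val hh
    have hmem : (h : Γ) ∈ ((N₀ ⊔ R₀ : Subgroup Γ) : Set Γ) := h.2
    rw [Subgroup.coe_mul_of_right_le_normalizer_left N₀ R₀ hRN₀] at hmem
    obtain ⟨n, hn, t, ht, hnt⟩ := Set.mem_mul.1 hmem
    have hn' : a' * n * a'⁻¹ ∈ N₀ := (Subgroup.mem_normalizer_iff.1 ha'N₀ n).1 hn
    have ht' : a' * t * a'⁻¹ ∈ R₀ := (Subgroup.mem_normalizer_iff.1 ha'R₀ t).1 ht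
    have h1 : (a' * n * a'⁻¹) * (a' * t * a'⁻¹) = n * t := by
      rw [hnt, ← hh', ← hnt]; group
    have h2 : n⁻¹ * (a' * n * a'⁻¹) = t * (a' * t * a'⁻¹)⁻¹ := by
      have : a' * n * a'⁻¹ = n * t * (a' * t * a'⁻¹)⁻¹ := by rw [← h1]; group
      rw [this]; group
    have h3 : n⁻¹ * (a' * n * a'⁻¹) = 1 := by
      apply eq_one_of_mem_of_mem hsr hP.hN hP.hR
      · exact N.mul_mem (N.inv_mem hn.1) hn'.1
      · rw [h2]; exact R.mul_mem ht.1 (R.inv_mem ht'.1)
    have hnfix : a' * n * a'⁻¹ = n := by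
      have := congrArg (fun z => n * z) h3
      simpa using this
    have htfix : a' * t * a'⁻¹ = t := by
      rw [h3] at h2
      exact (mul_inv_eq_one.1 h2.symm).symm
    have hn1 : n = 1 := hP.fixN n hn.1
      (hcentA n (Subgroup.mem_centralizer_singleton_iff.1 hn.2) hnfix)
    have ht1 : t = 1 := hP.fixR t ht.1
      (hcentA t (Subgroup.mem_centralizer_singleton_iff.1 ht.2) htfix)
    apply Subtype.ext
    rw [← hnt, hn1, ht1]
    simp
  by_cases hφ1 : φ = 1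
  · have hx1 : (⟨x, hxH⟩ : H) = 1 := hfpf _ (by rw [hφ1]; rfl)
    have : x = 1 := congrArg Subtype.val hx1
    rw [this, one_mul, mul_one]
  have hφp : φ ^ p = 1 := by
    ext h
    rw [hφ, conjMul_pow_apply, hA.exp a' ha'A]
    simp
  have hord : orderOf φ = p := orderOf_eq_prime hφp hφ1
  have hnil : Group.IsNilpotent ↥H :=
    Cfsg.Agent.S0033.result φ (fun g hg => hfpf g hg) p hp hord
  apply Cfsg.Agent.Lib.Helper14.commute_of_mem_nilpotent hnil hxH hyH
  obtain ⟨k, hk⟩ := hP.hN ⟨x, hx⟩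
  obtain ⟨j, hj⟩ := hP.hR ⟨y, hy⟩
  have hk' : x ^ (s ^ k) = 1 := by simpa using congrArg Subtype.val hk
  have hj' : y ^ (r ^ j) = 1 := by simpa using congrArg Subtype.val hj
  have h2 : Nat.Coprime (s ^ k) (r ^ j) :=
    Nat.Coprime.pow _ _ ((Nat.coprime_primes (Fact.out : s.Prime) (Fact.out : r.Prime)).2 hsr)
  exact Nat.Coprime.coprime_dvd_left (orderOf_dvd_of_pow_eq_one hk')
    (Nat.Coprime.coprime_dvd_right (orderOf_dvd_of_pow_eq_one hj') h2)

/-- induction along the generation of `K` by the centralizers of the nonidentity elements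
of `A` -/
theorem gen_induction {p : ℕ} [Fact p.Prime] {A K : Subgroup Γ} (hA : IsEA2 p A)
    (hAK : A ≤ Subgroup.normalizer (K : Set Γ)) (hcop : (Nat.card A).Coprime (Nat.card K))
    {P : Γ → Prop} (h1 : P 1) (hmul : ∀ x y, P x → P y → P (x * y))
    (hmem : ∀ a ∈ A, a ≠ 1 → ∀ x ∈ K, a * x = x * a → P x) : ∀ x ∈ K, P x := by
  have hp : p.Prime := Fact.out
  haveI := hA.isMulCommutative
  have hgen := Cfsg.Agent.S0058.result A K (hA.not_isCyclic hp) hAK hcop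
  intro x hx
  rw [← hgen] at hx
  refine Subgroup.iSup_induction (C := P) _ hx ?_ h1 hmul
  intro a z hz
  refine Subgroup.iSup_induction (C := P) _ hz ?_ h1 hmul
  intro ha z' hz'
  obtain ⟨haA, ha1⟩ := ha
  exact hmem a haA ha1 z' hz'.1 (Subgroup.mem_centralizer_singleton_iff.1 hz'.2).symm

end Pair

end Cfsg.Agent.Lib.Helper56.Ward
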