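import Cfsg.Agent.Lib.Helper56.FrobCoprime
import Cfsg.Agent.Lib.Helper56.WardPair

/-!
# Group theoretic preliminaries for the Frobenius pair lemma

Commutator subgroups `[H, g]` inside an ambient group, coprime action of an element of prime
order, and the quotient lemma.
-/

set_option autoImplicit false
set_option linter.unusedSectionVars false
set_option linter.style.haveILetI false

open scoped commutatorElement

namespace Cfsg.Agent.Lib.Helper56.FrobL

open Cfsg.Agent.Lib.Helper56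
open Cfsg.Agent.Lib.Helper56.HHB
open Cfsg.Agent.Lib.Helper56.Ward

universe u

section Basic

variable {Γ : Type u} [Group Γ]

theorem mem_normalizer_of_conj [Finite Γ] (P : Subgroup Γ) (t : Γ)
    (h : ∀ e ∈ P, t * e * t⁻¹ ∈ P) : t ∈ Subgroup.normalizer (P : Set Γ) :=
  mem_normalizer_of_pow_eq_one P t (Nat.card Γ) Nat.card_pos pow_card_eq_one' h

/-- the subgroup `[H, g]` -/
def commG (H : Subgroup Γ) (g : Γ) : Subgroup Γ :=
  Subgroup.closure {z | ∃ h ∈ H, z = h⁻¹ * (g * h * g⁻¹)}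

theorem mem_commG {H : Subgroup Γ} {g h : Γ} (hh : h ∈ H) : h⁻¹ * (g * h * g⁻¹) ∈ commG H g :=
  Subgroup.subset_closure ⟨h, hh, rfl⟩

theorem commG_le_of {H : Subgroup Γ} {g : Γ} (P : Subgroup Γ)
    (hP : ∀ h ∈ H, h⁻¹ * (g * h * g⁻¹) ∈ P) : commG H g ≤ P := by
  unfold commG
  rw [Subgroup.closure_le]
  rintro _ ⟨h, hh, rfl⟩
  exact hP h hh

theorem commG_le {H : Subgroup Γ} {g : Γ} (hg : g ∈ Subgroup.normalizer (H : Set Γ)) :
    commG H g ≤ H :=
  commG_le_of H (fun h hh => H.mul_mem (H.inv_mem hh) (conj_mem_of_normalizer hg hh))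

theorem pow_comm_mem {H : Subgroup Γ} {g : Γ} (hg : g ∈ Subgroup.normalizer (H : Set Γ))
    (i : ℕ) : ∀ h ∈ H, h⁻¹ * (g ^ i * h * (g ^ i)⁻¹) ∈ commG H g := by
  induction i with
  | zero =>
    intro h _
    simp only [pow_zero, one_mul, inv_one, mul_one, inv_mul_cancel]
    exact Subgroup.one_mem _
  | succ i ih =>
    intro h hh
    have h1 : h⁻¹ * (g ^ (i + 1) * h * (g ^ (i + 1))⁻¹) =
        (h⁻¹ * (g ^ i * h * (g ^ i)⁻¹)) *
          ((g ^ i * h * (g ^ i)⁻¹)⁻¹ * (g * (g ^ i * h * (g ^ i)⁻¹) * g⁻¹)) := by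
      rw [pow_succ']; group
    rw [h1]
    have h2 : g ^ i * h * (g ^ i)⁻¹ ∈ H :=
      conj_mem_of_normalizer (Subgroup.pow_mem _ hg i) hh
    exact Subgroup.mul_mem _ (ih h hh) (mem_commG h2)

/-- `[H, g]` is invariant under elements normalizing `H` and the cyclic group of `g` -/
theorem commG_conj {H : Subgroup Γ} {g t : Γ} (hg : g ∈ Subgroup.normalizer (H : Set Γ))
    (ht : t ∈ Subgroup.normalizer (H : Set Γ)) (i : ℕ) (hti : t * g * t⁻¹ = g ^ i) :
    ∀ z ∈ commG H g, t * z * t⁻¹ ∈ commG H g := by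
  intro z hz
  unfold commG at hz
  induction hz using Subgroup.closure_induction with
  | mem z hz =>
    obtain ⟨h, hh, rfl⟩ := hz
    have h1 : t * (h⁻¹ * (g * h * g⁻¹)) * t⁻¹ =
        (t * h * t⁻¹)⁻¹ * ((t * g * t⁻¹) * (t * h * t⁻¹) * (t * g * t⁻¹)⁻¹) := by group
    rw [h1, hti]
    exact pow_comm_mem hg i _ (conj_mem_of_normalizer ht hh)
  | one => simp only [mul_one, mul_inv_cancel]; exact Subgroup.one_mem _
  | mul a b _ _ ha hb =>
    have h1 : t * (a * b) * t⁻¹ = (t * a * t⁻¹) * (t * b * t⁻¹) := by group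
    rw [h1]; exact Subgroup.mul_mem _ ha hb
  | inv a _ ha =>
    have h1 : t * a⁻¹ * t⁻¹ = (t * a * t⁻¹)⁻¹ := by group
    rw [h1]; exact Subgroup.inv_mem _ ha

theorem conj_pow_eq (g t : Γ) (i : ℕ) (h : t * g * t⁻¹ = g ^ i) (j : ℕ) :
    t * g ^ j * t⁻¹ = (g ^ j) ^ i := by
  have h1 : t * g ^ j * t⁻¹ = (t * g * t⁻¹) ^ j := by
    induction j with
    | zero => simp
    | succ j ih =>
      rw [pow_succ, pow_succ, ← ih]; group
  rw [h1, h, ← pow_mul, ← pow_mul, mul_comm]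

/-- commuting elements of coprime orders are powers of their product -/
theorem exists_pow_eq_of_coprime {g h : Γ} (hc : g * h = h * g) {m n : ℕ} (hg : g ^ m = 1)
    (hh : h ^ n = 1) (hmn : m.Coprime n) : ∃ j : ℕ, (g * h) ^ j = g := by
  obtain ⟨j, hj1, hj0⟩ := Nat.chineseRemainder hmn 1 0
  refine ⟨j, ?_⟩
  rw [(show Commute g h from hc).mul_pow]
  have h1 : g ^ j = g ^ 1 := by
    rw [pow_eq_pow_iff_modEq]
    exact hj1.of_dvd (orderOf_dvd_of_pow_eq_one hg)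
  have h2 : h ^ j = h ^ 0 := by
    rw [pow_eq_pow_iff_modEq]
    exact hj0.of_dvd (orderOf_dvd_of_pow_eq_one hh)
  rw [h1, h2, pow_one, pow_zero, mul_one]

/-- a commutator `x⁻¹ x^y` centralized by `y` is trivial, for coprime orders -/
theorem comm_eq_one_of_commute {x y : Γ} {m n : ℕ}
    (hu : y * (x⁻¹ * (y * x * y⁻¹)) = (x⁻¹ * (y * x * y⁻¹)) * y)
    (hm : (x⁻¹ * (y * x * y⁻¹)) ^ m = 1) (hn : y ^ n = 1) (hmn : m.Coprime n) :
    x⁻¹ * (y * x * y⁻¹) = 1 := by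
  set u := x⁻¹ * (y * x * y⁻¹) with hudef
  have hx : y * x * y⁻¹ = x * u := by rw [hudef]; group
  have hyu : ∀ j : ℕ, y * u ^ j * y⁻¹ = u ^ j := by
    intro j
    have h1 : Commute y (u ^ j) := (show Commute y u from hu).pow_right j
    rw [h1.eq]; group
  have hpow : ∀ j : ℕ, y ^ j * x * (y ^ j)⁻¹ = x * u ^ j := by
    intro j
    induction j with
    | zero => simp
    | succ j ih =>
      have h1 : y ^ (j + 1) * x * (y ^ (j + 1))⁻¹ = y * (y ^ j * x * (y ^ j)⁻¹) * y⁻¹ := by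
        rw [pow_succ']; group
      rw [h1, ih]
      have h2 : y * (x * u ^ j) * y⁻¹ = (y * x * y⁻¹) * (y * u ^ j * y⁻¹) := by group
      rw [h2, hx, hyu, pow_succ', mul_assoc]
  have h1 := hpow n
  rw [hn] at h1
  have h2 : u ^ n = 1 := by
    have : x = x * u ^ n := by simpa using h1
    exact (mul_eq_left.1 this.symm)
  have h3 : orderOf u ∣ Nat.gcd m n :=
    Nat.dvd_gcd (orderOf_dvd_of_pow_eq_one hm) (orderOf_dvd_of_pow_eq_one h2)
  rw [hmn] at h3
  exact orderOf_eq_one_iff.1 (Nat.dvd_one.1 h3)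

end Basic

section Coprime

variable {Γ : Type u} [Group Γ] [Finite Γ]

/-- an invariant coset contains a fixed point -/
theorem exists_fixed_in_coset_conj (p : ℕ) [Fact p.Prime] {g : Γ} (hgp : g ^ p = 1)
    (S : Subgroup Γ) (hgS : g ∈ Subgroup.normalizer (S : Set Γ)) (hpS : ¬ p ∣ Nat.card S)
    (y : Γ) (hy : y⁻¹ * (g * y * g⁻¹) ∈ S) : ∃ n ∈ S, g * (y * n) * g⁻¹ = y * n := by
  have hσ : (MulAut.conj g) ^ p = 1 := by
    rw [← map_pow, hgp, map_one]
  obtain ⟨n, hn, hfix⟩ := FrobG.exists_fixed_in_coset_aut (MulAut.conj g) hσ S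
    (fun x hx => by
      rw [MulAut.conj_apply]
      exact conj_mem_of_normalizer hgS hx) hpS y (by
      rw [MulAut.conj_apply]
      exact hy)
  refine ⟨n, hn, ?_⟩
  rw [MulAut.conj_apply] at hfix
  exact hfix

/-- `H = C_H(g) [H, g]` for a coprime element `g` of prime order -/
theorem exists_cent_mul (p : ℕ) [Fact p.Prime] {g : Γ} (hgp : g ^ p = 1) {H : Subgroup Γ}
    (hg : g ∈ Subgroup.normalizer (H : Set Γ)) (hpH : ¬ p ∣ Nat.card H) :
    ∀ h ∈ H, ∃ n ∈ commG H g, g * (h * n) = (h * n) * g := by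
  intro h hh
  have hgS : g ∈ Subgroup.normalizer ((commG H g : Subgroup Γ) : Set Γ) := by
    apply mem_normalizer_of_conj
    exact commG_conj hg hg 1 (by rw [pow_one]; group)
  have hpS : ¬ p ∣ Nat.card (commG H g) := by
    intro hd
    exact hpH (hd.trans (Subgroup.card_dvd_of_le (commG_le hg)))
  obtain ⟨n, hn, hfix⟩ := exists_fixed_in_coset_conj p hgp (commG H g) hgS hpS h (mem_commG hh)
  refine ⟨n, hn, ?_⟩
  calc g * (h * n) = g * (h * n) * g⁻¹ * g := by group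
    _ = (h * n) * g := by rw [hfix]

end Coprime

section QT

/-- abstract quotient lemma: an automorphism of prime order whose fixed points lie in the normal
invariant subgroup `D` of coprime order: the quotient is nilpotent -/
theorem quot_nilpotent {H : Type u} [Group H] [Finite H] (σ : MulAut H) (q : ℕ) [Fact q.Prime]
    (hσ : σ ^ q = 1) (D : Subgroup H) [D.Normal] (hD : ∀ x ∈ D, σ x ∈ D)
    (hqD : ¬ q ∣ Nat.card D) (hC : ∀ h, σ h = h → h ∈ D) : Group.IsNilpotent (H ⧸ D) := by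
  have hq : q.Prime := Fact.out
  have hDiff : ∀ x, σ x ∈ D ↔ x ∈ D := fun x => SG.map_mem_iff σ D hD x
  set σ' : MulAut (H ⧸ D) := SG.quotAut σ D hDiff with hσ'
  have hfpf : ∀ x : H ⧸ D, σ' x = x → x = 1 := by
    intro x
    induction x using QuotientGroup.induction_on with
    | H g =>
      intro hx
      rw [hσ', SG.quotAut_mk] at hx
      have h1 : g⁻¹ * σ g ∈ D := QuotientGroup.eq.1 hx.symm
      obtain ⟨n, hn, hfix⟩ := FrobG.exists_fixed_in_coset_aut σ hσ D hD hqD g h1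
      have h2 : g * n ∈ D := hC _ hfix
      have h3 : g ∈ D := by
        have := D.mul_mem h2 (D.inv_mem hn)
        simpa using this
      exact (QuotientGroup.eq_one_iff g).2 h3
  have hσ'q : σ' ^ q = 1 := by
    apply SG.quotAut_pow_eq_one
    intro g
    rw [hσ, MulAut.one_apply, inv_mul_cancel]
    exact D.one_mem
  by_cases h1 : σ' = 1
  · haveI : Subsingleton (H ⧸ D) := ⟨fun a b => by
      rw [hfpf a (by rw [h1]; rfl), hfpf b (by rw [h1]; rfl)]⟩
    infer_instance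
  · have hord : orderOf σ' = q := orderOf_eq_prime hσ'q h1
    exact Cfsg.Agent.S0033.result σ' (fun g hg => hfpf g hg) q hq hord

variable {Γ : Type u} [Group Γ]

theorem mul_pow_of_normalizer {N : Subgroup Γ} {x y : Γ} (hx : x ∈ N)
    (hy : y ∈ Subgroup.normalizer (N : Set Γ)) (n : ℕ) : ∃ x' ∈ N, (x * y) ^ n = x' * y ^ n := by
  induction n with
  | zero => exact ⟨1, N.one_mem, by simp⟩
  | succ n ih =>
    obtain ⟨x', hx', h1⟩ := ih
    refine ⟨x' * (y ^ n * x * (y ^ n)⁻¹), N.mul_mem hx'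
      (conj_mem_of_normalizer (Subgroup.pow_mem _ hy n) hx), ?_⟩
    rw [pow_succ, h1, pow_succ]
    group

variable [Finite Γ]

theorem sup_decomp {N R : Subgroup Γ} (hRN : R ≤ Subgroup.normalizer (N : Set Γ)) :
    ∀ h ∈ N ⊔ R, ∃ x ∈ N, ∃ y ∈ R, h = x * y := by
  intro h hh
  have hmem : h ∈ ((N ⊔ R : Subgroup Γ) : Set Γ) := hh
  rw [Subgroup.coe_mul_of_right_le_normalizer_left N R hRN] at hmem
  obtain ⟨n, hn, t, ht, hnt⟩ := Set.mem_mul.1 hmem
  exact ⟨n, hn, t, ht, hnt.symm⟩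

theorem not_dvd_card_sup {s r k : ℕ} [Fact s.Prime] [Fact r.Prime] [Fact k.Prime] (hks : k ≠ s)
    (hkr : k ≠ r) {N R : Subgroup Γ} (hN : IsPGroup s N) (hR : IsPGroup r R)
    (hRN : R ≤ Subgroup.normalizer (N : Set Γ)) : ¬ k ∣ Nat.card ↥(N ⊔ R) := by
  have hk : k.Prime := Fact.out
  have hs : s.Prime := Fact.out
  have hr : r.Prime := Fact.out
  intro hdvd
  obtain ⟨h, hh⟩ := exists_prime_orderOf_dvd_card' k hdvd
  obtain ⟨x, hx, y, hy, hxy⟩ := sup_decomp hRN (h : Γ) h.2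
  obtain ⟨j, hj⟩ := hR ⟨y, hy⟩
  have hj' : y ^ (r ^ j) = 1 := by simpa using congrArg Subtype.val hj
  obtain ⟨x', hx', h1⟩ := mul_pow_of_normalizer hx (hRN hy) (r ^ j)
  rw [hj', mul_one] at h1
  obtain ⟨i, hi⟩ := hN ⟨x', hx'⟩
  have hi' : x' ^ (s ^ i) = 1 := by simpa using congrArg Subtype.val hi
  have h2 : (h : Γ) ^ (r ^ j * s ^ i) = 1 := by
    rw [hxy, pow_mul, h1, hi']
  have h3 : orderOf (h : Γ) = k := by rw [Subgroup.orderOf_coe]; exact hh
  have h4 : k ∣ r ^ j * s ^ i := by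
    rw [← h3]; exact orderOf_dvd_of_pow_eq_one h2
  rcases (Nat.Prime.dvd_mul hk).1 h4 with h5 | h5
  · exact hkr ((Nat.prime_dvd_prime_iff_eq hk hr).1 (hk.dvd_of_dvd_pow h5))
  · exact hks ((Nat.prime_dvd_prime_iff_eq hk hs).1 (hk.dvd_of_dvd_pow h5))

theorem mem_normalizer_centralizer {N : Subgroup Γ} {t : Γ}
    (ht : t ∈ Subgroup.normalizer (N : Set Γ)) :
    t ∈ Subgroup.normalizer ((Subgroup.centralizer (N : Set Γ) : Subgroup Γ) : Set Γ) := by
  apply mem_normalizer_of_conj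
  intro z hz
  rw [Subgroup.mem_centralizer_iff] at hz ⊢
  intro x hx
  have h1 := hz _ (conj_inv_mem_of_normalizer ht hx)
  calc x * (t * z * t⁻¹) = t * ((t⁻¹ * x * t) * z) * t⁻¹ := by group
    _ = t * (z * (t⁻¹ * x * t)) * t⁻¹ := by rw [h1]
    _ = t * z * t⁻¹ * x := by group

/-- **The quotient lemma.** -/
theorem qt_lemma {s r k : ℕ} [Fact s.Prime] [Fact r.Prime] [Fact k.Prime] (hsr : s ≠ r)
    (hks : k ≠ s) (hkr : k ≠ r) {N R N₁ : Subgroup Γ} (hN : IsPGroup s N) (hR : IsPGroup r R)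
    (hRN : R ≤ Subgroup.normalizer (N : Set Γ)) {a : Γ}
    (haN : a ∈ Subgroup.normalizer (N : Set Γ)) (haR : a ∈ Subgroup.normalizer (R : Set Γ))
    (hak : a ^ k = 1) (hN₁ : N₁ ≤ N) (hNN₁ : N ≤ Subgroup.normalizer (N₁ : Set Γ))
    (hRN₁ : R ≤ Subgroup.normalizer (N₁ : Set Γ))
    (haN₁ : a ∈ Subgroup.normalizer (N₁ : Set Γ))
    (hCN : ∀ x ∈ N, a * x = x * a → x ∈ N₁)
    (hCR : ∀ y ∈ R, a * y = y * a → ∀ x ∈ N, x * y = y * x) :
    ∀ x ∈ N, ∀ y ∈ R, x⁻¹ * (y * x * y⁻¹) ∈ N₁ := by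
  classical
  set C : Subgroup Γ := R ⊓ Subgroup.centralizer (N : Set Γ) with hCdef
  have hCmem : ∀ y, y ∈ C ↔ y ∈ R ∧ ∀ x ∈ N, x * y = y * x := by
    intro y
    rw [hCdef, Subgroup.mem_inf, Subgroup.mem_centralizer_iff]
    rfl
  set H : Subgroup Γ := N ⊔ R with hH
  set D₀ : Subgroup Γ := N₁ ⊔ C with hD₀
  have hCN₁ : C ≤ Subgroup.normalizer (N₁ : Set Γ) := fun y hy => hRN₁ hy.1
  have hHdec : ∀ h ∈ H, ∃ x ∈ N, ∃ y ∈ R, h = x * y := sup_decomp hRN
  have hDdec : ∀ d ∈ D₀, ∃ x ∈ N₁, ∃ y ∈ C, d = x * y := sup_decomp hCN₁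
  have huniq : ∀ x ∈ N, ∀ y ∈ R, ∀ x' ∈ N, ∀ y' ∈ R, x * y = x' * y' → x = x' ∧ y = y' := by
    intro x hx y hy x' hx' y' hy' h
    have h1 : x'⁻¹ * x = y' * y⁻¹ := by
      have : x = x' * y' * y⁻¹ := by rw [← h]; group
      rw [this]; group
    have h2 : x'⁻¹ * x = 1 := by
      apply eq_one_of_mem_of_mem hsr hN hR (N.mul_mem (N.inv_mem hx') hx)
      rw [h1]; exact R.mul_mem hy' (R.inv_mem hy)
    have h3 : x = x' := by
      have := congrArg (fun z => x' * z) h2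
      simpa using this
    refine ⟨h3, ?_⟩
    rw [h2] at h1
    exact (mul_inv_eq_one.1 h1.symm).symm
  -- normalizers
  have hNC : N ≤ Subgroup.normalizer (C : Set Γ) := by
    intro x hx
    apply mem_normalizer_of_conj
    intro y hy
    have h1 := ((hCmem y).1 hy).2 x hx
    have h2 : x * y * x⁻¹ = y := by rw [h1]; group
    rw [h2]; exact hy
  have hnormC : ∀ t, t ∈ Subgroup.normalizer (N : Set Γ) → t ∈ Subgroup.normalizer (R : Set Γ) →
      t ∈ Subgroup.normalizer (C : Set Γ) := by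
    intro t htN htR
    exact mem_normalizer_inf htR (mem_normalizer_centralizer htN)
  have hND₀ : N ≤ Subgroup.normalizer (D₀ : Set Γ) := fun x hx =>
    Subgroup.normalizer_inf_normalizer_le_normalizer_sup N₁ C ⟨hNN₁ hx, hNC hx⟩
  have hRD₀ : R ≤ Subgroup.normalizer (D₀ : Set Γ) := fun y hy =>
    Subgroup.normalizer_inf_normalizer_le_normalizer_sup N₁ C
      ⟨hRN₁ hy, hnormC y (hRN hy) (Subgroup.le_normalizer hy)⟩
  have haD₀ : a ∈ Subgroup.normalizer (D₀ : Set Γ) :=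
    Subgroup.normalizer_inf_normalizer_le_normalizer_sup N₁ C ⟨haN₁, hnormC a haN haR⟩
  have haH : a ∈ Subgroup.normalizer (H : Set Γ) :=
    Subgroup.normalizer_inf_normalizer_le_normalizer_sup N R ⟨haN, haR⟩
  have hHD₀ : H ≤ Subgroup.normalizer (D₀ : Set Γ) := sup_le hND₀ hRD₀
  let D : Subgroup ↥H := D₀.subgroupOf H
  haveI hDn : D.Normal := Subgroup.normal_subgroupOf_of_le_normalizer hHD₀
  have hDmem : ∀ h : ↥H, h ∈ D ↔ (h : Γ) ∈ D₀ := fun h => Subgroup.mem_subgroupOf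
  set σ : MulAut ↥H := conjMul H a haH with hσ
  have hσk : σ ^ k = 1 := by
    ext h
    rw [hσ, conjMul_pow_apply, hak]
    simp
  have hDσ : ∀ x ∈ D, σ x ∈ D := by
    intro x hx
    rw [hDmem] at hx ⊢
    rw [hσ, conjMul_apply]
    exact conj_mem_of_normalizer haD₀ hx
  have hkH : ¬ k ∣ Nat.card ↥H := not_dvd_card_sup hks hkr hN hR hRN
  have hkD : ¬ k ∣ Nat.card D := fun hd => hkH (hd.trans (Subgroup.card_subgroup_dvd_card D))
  have hfixD : ∀ h : ↥H, σ h = h → h ∈ D := by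
    intro h hh
    rw [hDmem]
    have hh' : a * (h : Γ) * a⁻¹ = h := congrArg Subtype.val hh
    obtain ⟨x, hx, y, hy, hxy⟩ := hHdec (h : Γ) h.2
    have hx' : a * x * a⁻¹ ∈ N := conj_mem_of_normalizer haN hx
    have hy' : a * y * a⁻¹ ∈ R := conj_mem_of_normalizer haR hy
    have h1 : (a * x * a⁻¹) * (a * y * a⁻¹) = x * y := by
      rw [← hxy, ← hh', hxy]; group
    obtain ⟨h2, h3⟩ := huniq _ hx' _ hy' _ hx _ hy h1
    have hxN₁ : x ∈ N₁ := by
      apply hCN x hx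
      calc a * x = a * x * a⁻¹ * a := by group
        _ = x * a := by rw [h2]
    have hyC : y ∈ C := by
      rw [hCmem]
      refine ⟨hy, hCR y hy ?_⟩
      calc a * y = a * y * a⁻¹ * a := by group
        _ = y * a := by rw [h3]
    rw [hxy]
    exact Subgroup.mul_mem _ (Subgroup.mem_sup_left hxN₁) (Subgroup.mem_sup_right hyC)
  have hnil : Group.IsNilpotent (↥H ⧸ D) := quot_nilpotent σ k hσk D hDσ hkD hfixD
  intro x hx y hy
  have hxH : x ∈ H := Subgroup.mem_sup_left hx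
  have hyH : y ∈ H := Subgroup.mem_sup_right hy
  set x' : ↥H := ⟨x, hxH⟩ with hx'
  set y' : ↥H := ⟨y, hyH⟩ with hy'
  obtain ⟨i, hi⟩ := hN ⟨x, hx⟩
  obtain ⟨j, hj⟩ := hR ⟨y, hy⟩
  have hi' : x' ^ (s ^ i) = 1 := by
    apply Subtype.ext
    simpa using congrArg Subtype.val hi
  have hj' : y' ^ (r ^ j) = 1 := by
    apply Subtype.ext
    simpa using congrArg Subtype.val hj
  have hcop : (orderOf (QuotientGroup.mk x' : ↥H ⧸ D)).Coprime
      (orderOf (QuotientGroup.mk y' : ↥H ⧸ D)) := by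
    have h1 : orderOf (QuotientGroup.mk x' : ↥H ⧸ D) ∣ s ^ i := by
      apply orderOf_dvd_of_pow_eq_one
      rw [← QuotientGroup.mk_pow, hi']
      rfl
    have h2 : orderOf (QuotientGroup.mk y' : ↥H ⧸ D) ∣ r ^ j := by
      apply orderOf_dvd_of_pow_eq_one
      rw [← QuotientGroup.mk_pow, hj']
      rfl
    have h3 : Nat.Coprime (s ^ i) (r ^ j) :=
      Nat.Coprime.pow _ _ ((Nat.coprime_primes (Fact.out : s.Prime) (Fact.out : r.Prime)).2 hsr)
    exact Nat.Coprime.coprime_dvd_left h1 (Nat.Coprime.coprime_dvd_right h2 h3)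
  have hcomm := Cfsg.Agent.Lib.Helper14.commute_of_coprime_orderOf (↥H ⧸ D) _ _ hcop
  have h1 : (QuotientGroup.mk (x'⁻¹ * (y' * x' * y'⁻¹)) : ↥H ⧸ D) = 1 := by
    rw [QuotientGroup.mk_mul, QuotientGroup.mk_mul, QuotientGroup.mk_mul, QuotientGroup.mk_inv,
      QuotientGroup.mk_inv, ← hcomm.eq]
    group
  have h2 : x'⁻¹ * (y' * x' * y'⁻¹) ∈ D := (QuotientGroup.eq_one_iff _).1 h1
  rw [hDmem] at h2
  have h3 : x⁻¹ * (y * x * y⁻¹) ∈ D₀ := h2
  obtain ⟨n₁, hn₁, y₁, hy₁, hd⟩ := hDdec _ h3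
  have hdN : x⁻¹ * (y * x * y⁻¹) ∈ N :=
    N.mul_mem (N.inv_mem hx) (conj_mem_of_normalizer (hRN hy) hx)
  have hy₁1 : y₁ = 1 := by
    apply eq_one_of_mem_of_mem hsr hN hR _ ((hCmem y₁).1 hy₁).1
    have : y₁ = n₁⁻¹ * (x⁻¹ * (y * x * y⁻¹)) := by rw [hd]; group
    rw [this]
    exact N.mul_mem (N.inv_mem (hN₁ hn₁)) hdN
  rw [hd, hy₁1, mul_one]
  exact hn₁

/-- **Thompson's product lemma**: the special case of the quotient lemma with no fixed points -/
theorem thompson_prod {s r k : ℕ} [Fact s.Prime] [Fact r.Prime] [Fact k.Prime] (hsr : s ≠ r)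
    (hks : k ≠ s) (hkr : k ≠ r) {N R : Subgroup Γ} (hN : IsPGroup s N) (hR : IsPGroup r R)
    (hRN : R ≤ Subgroup.normalizer (N : Set Γ)) {a : Γ}
    (haN : a ∈ Subgroup.normalizer (N : Set Γ)) (haR : a ∈ Subgroup.normalizer (R : Set Γ))
    (hak : a ^ k = 1) (hCN : ∀ x ∈ N, a * x = x * a → x = 1)
    (hCR : ∀ y ∈ R, a * y = y * a → y = 1) : ∀ x ∈ N, ∀ y ∈ R, x * y = y * x := by
  have h := qt_lemma hsr hks hkr hN hR hRN haN haR hak (N₁ := ⊥) bot_le
    (by rw [Subgroup.normalizer_eq_top]; exact le_top)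
    (by rw [Subgroup.normalizer_eq_top]; exact le_top)
    (by rw [Subgroup.normalizer_eq_top]; exact Subgroup.mem_top a)
    (fun x hx hxa => by rw [Subgroup.mem_bot]; exact hCN x hx hxa)
    (fun y hy hya x _ => by rw [hCR y hy hya, one_mul, mul_one])
  intro x hx y hy
  have h1 := h x hx y hy
  rw [Subgroup.mem_bot] at h1
  calc x * y = x * (x⁻¹ * (y * x * y⁻¹)) * y := by rw [h1, mul_one]
    _ = y * x := by group

end QT

end Cfsg.Agent.Lib.Helper56.FrobL
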