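import Cfsg.Agent.Lib.Helper56.FrobLin

/-!
# Nonabelian groups of order `p q` are Frobenius groups
-/

set_option autoImplicit false
set_option linter.unusedSectionVars false
set_option linter.style.haveILetI false

open scoped commutatorElement

namespace Cfsg.Agent.Lib.Helper56.FrobL

open Cfsg.Agent.Lib.Helper56
open Cfsg.Agent.Lib.Helper56.HHB
open Cfsg.Agent.Lib.Helper56.Ward

universe u

section Struct

variable {A : Type u} [Group A] [Finite A]

/-- a nonabelian group of order `p q`, `p < q`, is a Frobenius group -/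
theorem exists_isFrob (p q : ℕ) (hp : p.Prime) (hq : q.Prime) (hpq : p < q)
    (hcard : Nat.card A = p * q) (hna : ∃ x y : A, x * y ≠ y * x) :
    ∃ a b : A, IsFrob q p a b (⊤ : Subgroup A) := by
  classical
  haveI := Fact.mk hp
  haveI := Fact.mk hq
  have hpnq : ¬ p ∣ q := fun h => hpq.ne ((Nat.prime_dvd_prime_iff_eq hp hq).mp h)
  have hqnp : ¬ q ∣ p := fun h => hpq.ne' ((Nat.prime_dvd_prime_iff_eq hq hp).mp h)
  have hcardQ : ∀ Q : Sylow q A, Nat.card Q = q := by
    intro Q
    rw [Q.card_eq_multiplicity, hcard, Nat.factorization_mul hp.ne_zero hq.ne_zero,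
      Finsupp.add_apply, hq.factorization_self, Nat.factorization_eq_zero_of_not_dvd hqnp, zero_add,
      pow_one]
  obtain ⟨Q⟩ : Nonempty (Sylow q A) := inferInstance
  have hQidx : (Q : Subgroup A).index = p := by
    have h1 := Subgroup.card_mul_index (Q : Subgroup A)
    rw [hcardQ Q, hcard, mul_comm p q] at h1
    exact Nat.eq_of_mul_eq_mul_left hq.pos h1
  have hnq : Nat.card (Sylow q A) = 1 := by
    have h1 : Nat.card (Sylow q A) ∣ p := by rw [← hQidx]; exact Q.card_dvd_index
    have h2 : Nat.card (Sylow q A) ≡ 1 [MOD q] := card_sylow_modEq_one q A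
    rcases (Nat.dvd_prime hp).mp h1 with h3 | h3
    · exact h3
    · exfalso
      rw [h3] at h2
      have h4 : p % q = 1 % q := h2
      rw [Nat.mod_eq_of_lt hpq, Nat.mod_eq_of_lt hq.one_lt] at h4
      exact hp.one_lt.ne' h4
  haveI : Subsingleton (Sylow q A) := (Nat.card_eq_one_iff_unique.mp hnq).1
  haveI hQn : (Q : Subgroup A).Normal := Sylow.normal_of_subsingleton Q
  -- the generator `a`
  have hQne : (Q : Subgroup A) ≠ ⊥ := by
    intro h
    have h1 := hcardQ Q
    have h2 : Nat.card (Q : Subgroup A) = 1 := by rw [h]; exact Subgroup.card_bot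
    have h3 : Nat.card (Q : Subgroup A) = q := h1
    rw [h2] at h3
    exact hq.one_lt.ne h3
  obtain ⟨a', ha'1⟩ := (Subgroup.ne_bot_iff_exists_ne_one).1 hQne
  obtain ⟨a, haQ, ha1⟩ : ∃ a : A, a ∈ (Q : Subgroup A) ∧ a ≠ 1 :=
    ⟨(a' : A), a'.2, fun h => ha'1 (Subtype.ext h)⟩
  have hoa : orderOf a = q := by
    have h1 : orderOf a ∣ q := by
      have := Subgroup.orderOf_dvd_natCard (Q : Subgroup A) haQ
      rwa [show Nat.card (Q : Subgroup A) = q from hcardQ Q] at this
    rcases (Nat.dvd_prime hq).mp h1 with h | h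
    · exact absurd (orderOf_eq_one_iff.mp h) ha1
    · exact h
  have hzQ : Subgroup.zpowers a = (Q : Subgroup A) := by
    apply Subgroup.eq_of_le_of_card_ge ((Subgroup.zpowers_le).mpr haQ)
    rw [Nat.card_zpowers, hoa]
    exact (hcardQ Q).le
  have hak : a ^ q = 1 := by rw [← hoa]; exact pow_orderOf_eq_one a
  -- the element `b`
  have hpdvd : p ∣ Nat.card A := by rw [hcard]; exact dvd_mul_right p q
  obtain ⟨b, hob⟩ := exists_prime_orderOf_dvd_card' p hpdvd
  have hbp : b ^ p = 1 := by rw [← hob]; exact pow_orderOf_eq_one b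
  have hb1 : b ≠ 1 := by
    intro h
    rw [h, orderOf_one] at hob
    exact hp.one_lt.ne hob
  -- generation
  have hgen : Subgroup.closure ({a, b} : Set A) = ⊤ := by
    apply (Subgroup.card_eq_iff_eq_top _).1
    apply Nat.dvd_antisymm (Subgroup.card_subgroup_dvd_card _)
    rw [hcard]
    apply Nat.Coprime.mul_dvd_of_dvd_of_dvd ((Nat.coprime_primes hp hq).2 hpq.ne)
    · rw [← hob]
      exact Subgroup.orderOf_dvd_natCard _ (Subgroup.subset_closure (by simp))
    · rw [← hoa]
      exact Subgroup.orderOf_dvd_natCard _ (Subgroup.subset_closure (by simp))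
  have hle_of : ∀ P : Subgroup A, a ∈ P → b ∈ P → P = ⊤ := by
    intro P haP hbP
    rw [eq_top_iff, ← hgen, Subgroup.closure_le]
    intro x hx
    rcases hx with rfl | hx
    · exact haP
    · rw [Set.mem_singleton_iff] at hx
      rw [hx]; exact hbP
  -- `a` and `b` do not commute
  have hab : a * b ≠ b * a := by
    intro hcomm
    obtain ⟨x, y, hxy⟩ := hna
    apply hxy
    have hcen : Subgroup.center A = ⊤ := by
      apply hle_of
      · rw [Subgroup.mem_center_iff]
        intro g
        have h1 : Subgroup.centralizer ({a} : Set A) = ⊤ :=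
          hle_of _ (Subgroup.mem_centralizer_singleton_iff.2 rfl)
            (Subgroup.mem_centralizer_singleton_iff.2 hcomm.symm)
        have h2 : g ∈ Subgroup.centralizer ({a} : Set A) := by rw [h1]; trivial
        exact Subgroup.mem_centralizer_singleton_iff.1 h2
      · rw [Subgroup.mem_center_iff]
        intro g
        have h1 : Subgroup.centralizer ({b} : Set A) = ⊤ :=
          hle_of _ (Subgroup.mem_centralizer_singleton_iff.2 hcomm)
            (Subgroup.mem_centralizer_singleton_iff.2 rfl)
        have h2 : g ∈ Subgroup.centralizer ({b} : Set A) := by rw [h1]; trivial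
        exact Subgroup.mem_centralizer_singleton_iff.1 h2
    have hy : y ∈ Subgroup.center A := by rw [hcen]; trivial
    exact (Subgroup.mem_center_iff.1 hy x)
  -- fixed point freeness
  have hfpf : ∀ e ∈ Subgroup.zpowers b, e ≠ 1 → ∀ x ∈ Subgroup.zpowers a, e * x = x * e →
      x = 1 := by
    intro e he he1 x hx hex
    by_contra hx1
    have h1 : a ∈ Subgroup.zpowers x := mem_zpowers_of_zpow_ne_one hq hak hx hx1
    have h2 : b ∈ Subgroup.zpowers e := mem_zpowers_of_zpow_ne_one hp hbp he he1
    have h3 : b * x = x * b := zpowers_comm hex b h2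
    have h4 : a * b = b * a := zpowers_comm h3.symm a h1
    exact hab h4
  have hnormQ : ∀ g : A, g ∈ Subgroup.normalizer ((Subgroup.zpowers a : Subgroup A) : Set A) := by
    intro g
    rw [hzQ, Subgroup.normalizer_eq_top]
    trivial
  -- divisibility
  have hdvd : p ∣ q - 1 := by
    let B : Subgroup A := Subgroup.zpowers b
    have hB : IsPGroup p B := by
      intro e
      refine ⟨1, ?_⟩
      apply Subtype.ext
      rw [pow_one, Subgroup.coe_pow, Subgroup.coe_one]
      exact pow_eq_one_of_mem_zpowers hbp e.2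
    let φ : B →* MulAut ↥(Q : Subgroup A) := (MulAut.conjNormal).comp B.subtype
    letI : MulAction B ↥(Q : Subgroup A) := MulAction.compHom _ φ
    have hsmul : ∀ (e : B) (x : ↥(Q : Subgroup A)), ((e • x : ↥(Q : Subgroup A)) : A) =
        (e : A) * x * (e : A)⁻¹ := fun e x => rfl
    have h1 := hB.card_modEq_card_fixedPoints ↥(Q : Subgroup A)
    have h2 : Nat.card (MulAction.fixedPoints B ↥(Q : Subgroup A)) = 1 := by
      rw [Nat.card_eq_one_iff_unique]
      refine ⟨⟨?_⟩, ⟨⟨1, fun e => by
        apply Subtype.ext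
        rw [hsmul]
        simp⟩⟩⟩
      rintro ⟨x, hx⟩ ⟨y, hy⟩
      have key : ∀ z : ↥(Q : Subgroup A), z ∈ MulAction.fixedPoints B ↥(Q : Subgroup A) →
          z = 1 := by
        intro z hz
        apply Subtype.ext
        apply hfpf b (Subgroup.mem_zpowers b) hb1 (z : A) (by rw [hzQ]; exact z.2)
        have h3 := congrArg Subtype.val (hz ⟨b, Subgroup.mem_zpowers b⟩)
        rw [hsmul] at h3
        calc b * (z : A) = b * z * b⁻¹ * b := by group
          _ = z * b := by rw [h3]
      apply Subtype.ext
      show x = y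
      rw [key x hx, key y hy]
    rw [h2, show Nat.card ↥(Q : Subgroup A) = q from hcardQ Q] at h1
    exact (Nat.modEq_iff_dvd' hq.one_lt.le).1 h1.symm
  refine ⟨a, b, ?_⟩
  exact
    { ha := Subgroup.mem_top a
      hb := Subgroup.mem_top b
      ak := hak
      bc := hbp
      norm := hnormQ b
      conj := by
        intro g _ hg1
        by_cases hgQ : g ∈ Subgroup.zpowers a
        · exact Or.inl (mem_zpowers_of_zpow_ne_one hq hak hgQ hg1)
        right
        have hsup : Subgroup.zpowers a ⊔ Subgroup.zpowers b = ⊤ :=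
          hle_of _ (Subgroup.mem_sup_left (Subgroup.mem_zpowers a))
            (Subgroup.mem_sup_right (Subgroup.mem_zpowers b))
        have hgsup : g ∈ Subgroup.zpowers a ⊔ Subgroup.zpowers b := by rw [hsup]; trivial
        obtain ⟨x₀, hx₀, e, he, hge⟩ :=
          sup_decomp (N := Subgroup.zpowers a) (R := Subgroup.zpowers b)
            (fun y _ => hnormQ y) g hgsup
        have he1 : e ≠ 1 := by
          intro h
          apply hgQ
          rw [hge, h, mul_one]
          exact hx₀
        set σ : MulAut ↥(Subgroup.zpowers a) := conjMul (Subgroup.zpowers a) e (hnormQ e) with hσ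
        have hσfpf : ∀ z : ↥(Subgroup.zpowers a), σ z = z → z = 1 := by
          intro z hz
          have h1 : e * (z : A) * e⁻¹ = z := congrArg Subtype.val hz
          apply Subtype.ext
          apply hfpf e he he1 _ z.2
          calc e * (z : A) = e * z * e⁻¹ * e := by group
            _ = z * e := by rw [h1]
        have hsurj := Finite.surjective_of_injective (SG.fpf_inj σ hσfpf)
        obtain ⟨y, hy⟩ := hsurj ⟨x₀, hx₀⟩
        have hy' : (y : A)⁻¹ * (e * y * e⁻¹) = x₀ := congrArg Subtype.val hy
        refine ⟨(y : A)⁻¹, Subgroup.inv_mem _ y.2, ?_⟩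
        have hbe : b ∈ Subgroup.zpowers e := mem_zpowers_of_zpow_ne_one hp hbp he he1
        obtain ⟨j, hj⟩ := Subgroup.mem_zpowers_iff.1 hbe
        have hconj : (y : A)⁻¹ * e * (y : A)⁻¹⁻¹ = g := by
          rw [hge, ← hy']
          group
        rw [← hj, Subgroup.mem_zpowers_iff]
        refine ⟨j, ?_⟩
        rw [← hconj]
        exact conj_zpow
      gen := by rw [hgen]
      dvd := hdvd }

end Struct

end Cfsg.Agent.Lib.Helper56.FrobL
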