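import Cfsg.Agent.Lib.Helper56.HHSReduce

/-!
# The coprime Hall–Higman / Shult theorem for an operator of prime order

`Q` is a finite `q`-group of linear maps of `W` over an algebraically closed field, normalized by
`X` of prime order `p` (`p`, `q` invertible in the field).  If `X` does not centralize `Q` then
either `X` fixes a nonzero vector or `p = q ^ m + 1`.
-/

set_option autoImplicit false
set_option linter.unusedSectionVars false
set_option linter.style.haveILetI false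

namespace Cfsg.Agent.Lib.Helper56.ShultP

open Module
open Cfsg.Agent.Lib.Helper56
open Cfsg.Agent.Lib.Helper56.HH
open Cfsg.Agent.Lib.Helper56.HHB
open Cfsg.Agent.Lib.Helper56.HHS
open scoped commutatorElement

universe uK uW

theorem prime_arith (p q j I d m₀ : ℕ) (hp : p.Prime) (hq : q.Prime) (hId : I = d ^ 2)
    (hI1 : 1 < I) (hle : I ≤ (p - 1) ^ 2) (hmod : p * m₀ + 1 = I) (hdvd : I ∣ q ^ j) :
    ∃ m : ℕ, 1 ≤ m ∧ p = q ^ m + 1 := by
  have hp2 : 2 ≤ p := hp.two_le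
  have hd2 : 2 ≤ d := by
    by_contra h
    have : d = 0 ∨ d = 1 := by omega
    rcases this with rfl | rfl <;> simp at hId <;> omega
  have hdle : d ≤ p - 1 := by
    rw [hId] at hle
    exact (Nat.pow_le_pow_iff_left (by norm_num : (2:ℕ) ≠ 0)).1 hle
  have hdvd2 : p ∣ (d - 1) * (d + 1) := by
    have h7 : (d - 1) * (d + 1) = p * m₀ := by
      have : (d - 1) * (d + 1) + 1 = d ^ 2 := by
        obtain ⟨e, rfl⟩ : ∃ e, d = e + 1 := ⟨d - 1, by omega⟩
        simp only [Nat.add_sub_cancel]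
        ring
      omega
    exact ⟨m₀, h7⟩
  have hd1 : d + 1 = p := by
    rcases (Nat.Prime.dvd_mul hp).1 hdvd2 with h | h
    · have h8 : d - 1 = 0 := Nat.eq_zero_of_dvd_of_lt h (by omega)
      omega
    · have h8 : p ≤ d + 1 := Nat.le_of_dvd (by omega) h
      omega
  have hdq : d ∣ q ^ j := by
    have h1 : d ∣ I := by rw [hId]; exact Dvd.intro_left (d ^ 1) (by ring)
    exact h1.trans hdvd
  obtain ⟨m, -, hm⟩ := (Nat.dvd_prime_pow hq).1 hdq
  refine ⟨m, ?_, ?_⟩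
  · by_contra h0
    have : m = 0 := by omega
    rw [this, pow_zero] at hm
    omega
  · rw [← hm]; omega

section SpecialP

variable {K : Type uK} [Field K] [IsAlgClosed K] {W : Type uW} [AddCommGroup W] [Module K W]
  [FiniteDimensional K W]

theorem special_case_prime (p q : ℕ) [Fact p.Prime] [Fact q.Prime] (hpq : p ≠ q)
    (hpK : (p : K) ≠ 0) (hqK : (q : K) ≠ 0)
    (Q : Subgroup (Module.End K W)ˣ) [Finite Q] (hQ : IsPGroup q Q)
    (X : (Module.End K W)ˣ) (hXQ : ∀ e ∈ Q, X * e * X⁻¹ ∈ Q) (n : ℕ) (hn1 : n = 1)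
    (hXn : X ^ (p ^ n) = 1)
    (hY : ∃ t ∈ Q, X ^ (p ^ (n - 1)) * t ≠ t * X ^ (p ^ (n - 1)))
    (hi : ∀ e ∈ Q, ∀ f ∈ Q, ⁅e, f⁆ ∈ zen Q)
    (hii : ∀ z ∈ zen Q, X ^ (p ^ (n - 1)) * z = z * X ^ (p ^ (n - 1)))
    (hiii : ∀ e ∈ Q, (X ^ (p ^ (n - 1)) * e * (X ^ (p ^ (n - 1)))⁻¹)⁻¹ * e ∈ zen Q → e ∈ zen Q)
    (hexc : ∀ m : ℕ, 1 ≤ m → p ≠ q ^ m + 1) :
    ∃ w : W, w ≠ 0 ∧ (X : Module.End K W) w = w := by
  have hn : 1 ≤ n := by omega
  classical
  by_contra hno
  push Not at hno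
  have hp : p.Prime := Fact.out
  have hq : q.Prime := Fact.out
  have hNpos : 0 < p ^ n := pos_of_ne_zero (pow_ne_zero _ hp.ne_zero)
  have hXN : X ∈ Subgroup.normalizer (Q : Set (Module.End K W)ˣ) :=
    mem_normalizer_of_pow_eq_one Q X (p ^ n) hNpos hXn hXQ
  set Y := X ^ (p ^ (n - 1)) with hYdef
  have hYN : Y ∈ Subgroup.normalizer (Q : Set (Module.End K W)ˣ) := Subgroup.pow_mem _ hXN _
  have hYp : Y ^ p = 1 := by
    rw [hYdef, ← pow_mul, ← pow_succ, Nat.sub_add_cancel hn, hXn]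
  set Z := zen Q with hZdef
  have hZle : Z ≤ Q := zen_le Q
  haveI : Finite Z := Finite.of_injective (Subgroup.inclusion hZle) (Subgroup.inclusion_injective _)
  have hZq : IsPGroup q Z := hQ.to_le hZle
  have hZab : ∀ a ∈ Z, ∀ b ∈ Z, a * b = b * a := by
    intro a ha b hb
    exact (mem_zen.1 hb).2 a (hZle ha)
  have hXZ : ∀ z ∈ Z, X * z * X⁻¹ ∈ Z := conj_mem_zen Q X hXN
  have hXNZ : X ∈ Subgroup.normalizer (Z : Set (Module.End K W)ˣ) :=
    mem_normalizer_of_pow_eq_one Z X (p ^ n) hNpos hXn hXZ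
  set σ := conjPerm Z X hXNZ with hσ
  set f := fam Z with hf
  have hcomm : ∀ i j, Commute (f i) (f j) := fam_commute Z hZab
  have htop : ⨆ χ, wt f χ = ⊤ := iSup_wt_eq_top f hcomm (fam_semisimple Z hZq hqK)
  have hXf : ∀ i, (X : Module.End K W) * f i = f (σ i) * (X : Module.End K W) :=
    fam_twist Z X hXNZ
  set π := twist (K := K) σ with hπ
  have hσY : σ ^ (p ^ (n - 1)) = 1 := by
    apply Equiv.ext
    intro a
    apply Subtype.ext
    rw [hσ, conjPerm_pow_apply, ← hYdef, hii a a.2]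
    simp
  have hπY : ∀ χ : Z → K, π^[p ^ (n - 1)] χ = χ := by
    intro χ
    rw [hπ, twist_iterate, hσY]
    rfl
  -- choose the weight
  obtain ⟨t, htQ, ht⟩ := hY
  obtain ⟨μ, w, hwμ, hw⟩ : ∃ μ : Z → K, ∃ w ∈ wt f μ,
      ((Y * t : (Module.End K W)ˣ) : Module.End K W) w ≠
        ((t * Y : (Module.End K W)ˣ) : Module.End K W) w := by
    by_contra hcon
    push Not at hcon
    apply ht
    apply Units.ext
    exact ext_of_wt htop hcon
  have hw0 : w ≠ 0 := by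
    rintro rfl
    apply hw
    rw [map_zero, map_zero]
  obtain ⟨a, han, hmp⟩ := prime_pow_period π μ p (n - 1) hp (hπY μ)
  have hper : π^[p ^ a] μ = μ := by
    have := Function.isPeriodicPt_minimalPeriod π μ
    rw [hmp] at this
    exact this
  have hinj : ∀ i < p ^ a, ∀ j < p ^ a, π^[i] μ = π^[j] μ → i = j := by
    intro i hi j hj hij
    have := Function.iterate_injOn_Iio_minimalPeriod (f := π) (x := μ)
    rw [hmp] at this
    exact this (Set.mem_Iio.2 hi) (Set.mem_Iio.2 hj) hij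
  have htpos : 0 < p ^ a := pos_of_ne_zero (pow_ne_zero _ hp.ne_zero)
  set U := wt f μ with hUdef
  set n₁ := n - a with hn₁
  have hn₁pos : 1 ≤ n₁ := by omega
  have hna : n₁ + a = n := by omega
  set Xt := X ^ (p ^ a) with hXt
  have hXtval : (Xt : Module.End K W) = (X : Module.End K W) ^ (p ^ a) := by
    rw [hXt, Units.val_pow_eq_pow_val]
  have hXtpow : Xt ^ (p ^ n₁) = 1 := by
    rw [hXt, ← pow_mul, ← pow_add, add_comm, hna, hXn]
  have hXtY : Xt ^ (p ^ (n₁ - 1)) = Y := by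
    rw [hXt, ← pow_mul, ← pow_add, hYdef]
    congr 2
    omega
  have hUX : ∀ w ∈ U, (Xt : Module.End K W) w ∈ U := by
    intro w hw
    rw [hXtval]
    have := map_pow_wt (X : Module.End K W) σ hXf (p ^ a) hw
    rwa [hper] at this
  have hUXpow : ∀ j : ℕ, ∀ w ∈ U, ((Xt ^ j : (Module.End K W)ˣ) : Module.End K W) w ∈ U := by
    intro j
    induction j with
    | zero => intro w hw; simpa using hw
    | succ j ih =>
      intro w hw
      rw [pow_succ', Units.val_mul, Module.End.mul_apply]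
      exact hUX _ (ih w hw)
  have hUX' : ∀ w ∈ U, ((Xt⁻¹ : (Module.End K W)ˣ) : Module.End K W) w ∈ U := by
    have h1 : Xt⁻¹ = Xt ^ (p ^ n₁ - 1) := by
      apply inv_eq_of_mul_eq_one_right
      rw [← pow_succ', Nat.sub_add_cancel (pos_of_ne_zero (pow_ne_zero _ hp.ne_zero)), hXtpow]
    rw [h1]
    exact hUXpow _
  -- no fixed vectors on `U`
  have hfixU : ∀ v ∈ U, (Xt : Module.End K W) v = v → v = 0 := by
    intro v hv hXv
    by_contra hv0
    obtain ⟨w', hw'0, hw'⟩ := exists_fixed_of_orbit hcomm (X : Module.End K W) σ hXf μ (p ^ a)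
      htpos hinj v hv hv0 (by rw [← hXtval]; exact hXv)
    exact hno w' hw'0 hw'
  set ρ := rhoChi Q μ with hρ
  set X₁ := resUnit Xt U hUX hUX' with hX₁
  have hX₁pow : X₁ ^ (p ^ n₁) = 1 := by
    apply Units.ext
    apply LinearMap.ext
    intro v
    apply Subtype.ext
    rw [hX₁, resUnit_pow_apply, hXtpow]
    rfl
  have hfix₁ : ∀ v : U, (X₁ : Module.End K U) v = v → v = 0 := by
    intro v hv
    apply Subtype.ext
    apply hfixU v v.2
    have := congrArg Subtype.val hv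
    rwa [hX₁, resUnit_apply] at this
  have hXtN : Xt ∈ Subgroup.normalizer (Q : Set (Module.End K W)ˣ) := by
    rw [hXt]; exact Subgroup.pow_mem _ hXN _
  haveI : Fintype Q := Fintype.ofFinite Q
  set τ := conjMul Q Xt hXtN with hτ
  set y := conjMul Q Y hYN with hy
  have hτy : ∀ e : Q, (τ ^ (p ^ (n₁ - 1))) e = y e := by
    intro e
    apply Subtype.ext
    rw [hτ, conjMul_pow_apply, hXtY, hy, conjMul_apply]
  have hτN : ∀ e : Q, (τ ^ (p ^ n₁)) e = e := by
    intro e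
    apply Subtype.ext
    rw [hτ, conjMul_pow_apply, hXtpow]
    simp
  have hTw : Twists ρ X₁ τ := by
    intro e
    apply LinearMap.ext
    intro v
    apply Subtype.ext
    have e3 : ((Xt⁻¹ : (Module.End K W)ˣ) : Module.End K W) ((Xt : Module.End K W) (v : W)) =
        (v : W) := by
      rw [← Module.End.mul_apply, Units.inv_mul, Module.End.one_apply]
    show (Xt : Module.End K W) (((e : (Module.End K W)ˣ) : Module.End K W) (v : W)) =
      (((τ e : Q) : (Module.End K W)ˣ) : Module.End K W) ((Xt : Module.End K W) (v : W))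
    rw [hτ, conjMul_apply, Units.val_mul, Units.val_mul, Module.End.mul_apply,
      Module.End.mul_apply, e3]
  -- the product trick
  have hP : ∀ (χ : Z → K) (e : Q), e⁻¹ * y e ∈ Schi Q χ → e ∈ Schi Q χ := by
    intro χ e he
    exact mem_Schi_of_comm Q q hQ p hp hpq Y hYN hYp hii hi hiii χ e he
  have hSdef : scalSubgroup ρ = Schi Q μ := rfl
  obtain ⟨j, hj⟩ := IsPGroup.iff_card.1 hQ
  have hE : (Fintype.card Q : K) ≠ 0 := by
    rw [← Nat.card_eq_fintype_card, hj, Nat.cast_pow]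
    exact pow_ne_zero _ hqK
  -- commuting elements
  have hcommρ : ∀ e f' : Q, ρ ⁅e, f'⁆ = 1 → ρ e * ρ f' = ρ f' * ρ e := by
    intro e f' h1
    have h2 : e * f' = ⁅e, f'⁆ * f' * e := by rw [commutatorElement_def]; group
    rw [← map_mul, h2, map_mul, map_mul, h1, one_mul]
  -- the centralizer of `ρ Q`
  let C : Subgroup Q :=
    { carrier := {x | ∀ f' : Q, ρ x * ρ f' = ρ f' * ρ x}
      one_mem' := by intro f'; simp
      mul_mem' := by
        intro x x' hx hx' f'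
        rw [map_mul, mul_assoc, hx' f', ← mul_assoc, hx f', mul_assoc]
      inv_mem' := by
        intro x hx f'
        have h1 := hx f'
        calc ρ x⁻¹ * ρ f' = ρ x⁻¹ * (ρ f' * ρ x) * ρ x⁻¹ := by
              rw [mul_assoc, mul_assoc, rho_mul_inv, mul_one]
          _ = ρ x⁻¹ * (ρ x * ρ f') * ρ x⁻¹ := by rw [h1]
          _ = ρ f' * ρ x⁻¹ := by rw [← mul_assoc, rho_inv_mul, one_mul] }
  have hCmem : ∀ x : Q, x ∈ C ↔ ∀ f' : Q, ρ x * ρ f' = ρ f' * ρ x := fun x => Iff.rfl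
  have hτC : ∀ x ∈ C, τ x ∈ C := by
    intro x hx f'
    have h1 := hx (τ.symm f')
    have h2 := hTw.conj x
    have h3 := hTw.conj (τ.symm f')
    rw [MulEquiv.apply_symm_apply] at h3
    rw [h2, h3]
    calc (X₁ : Module.End K U) * ρ x * ((X₁⁻¹ : (Module.End K U)ˣ) : Module.End K U) *
          ((X₁ : Module.End K U) * ρ (τ.symm f') * ((X₁⁻¹ : (Module.End K U)ˣ) : Module.End K U))
        = (X₁ : Module.End K U) * (ρ x * ρ (τ.symm f')) *
          ((X₁⁻¹ : (Module.End K U)ˣ) : Module.End K U) := by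
          simp only [mul_assoc]
          rw [← mul_assoc ((X₁⁻¹ : (Module.End K U)ˣ) : Module.End K U), Units.inv_mul, one_mul]
      _ = (X₁ : Module.End K U) * (ρ (τ.symm f') * ρ x) *
          ((X₁⁻¹ : (Module.End K U)ˣ) : Module.End K U) := by rw [h1]
      _ = _ := by
          simp only [mul_assoc]
          rw [← mul_assoc ((X₁⁻¹ : (Module.End K U)ˣ) : Module.End K U), Units.inv_mul, one_mul]
  have hτCpow : ∀ (k : ℕ) (x : Q), x ∈ C → (τ ^ k) x ∈ C := fun k x hx =>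
    pow_mem_of_map_mem C τ hτC k x hx
  have hτsymm : ∀ x : Q, τ.symm x = (τ ^ (p ^ n₁ - 1)) x := by
    intro x
    apply τ.injective
    rw [MulEquiv.apply_symm_apply, ← MulAut.mul_apply, ← pow_succ',
      Nat.sub_add_cancel (pos_of_ne_zero (pow_ne_zero _ hp.ne_zero)), hτN]
  let σ' : Equiv.Perm C :=
    { toFun := fun x => ⟨τ x, hτC x x.2⟩
      invFun := fun x => ⟨τ.symm x, by rw [hτsymm]; exact hτCpow _ x x.2⟩
      left_inv := by intro x; apply Subtype.ext; simp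
      right_inv := by intro x; apply Subtype.ext; simp }
  have hσ'pow : ∀ (k : ℕ) (x : C), (((σ' ^ k) x : C) : Q) = (τ ^ k) x := by
    intro k
    induction k with
    | zero => intro x; simp
    | succ k ih =>
      intro x
      rw [pow_succ', Equiv.Perm.mul_apply, pow_succ', MulAut.mul_apply, ← ih]
      rfl
  let f' : C → Module.End K U := fun x => ρ x
  have hcomm' : ∀ i j, Commute (f' i) (f' j) := fun i j => i.2 j
  have hss' : ∀ i, (f' i).IsSemisimple := by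
    intro i
    apply isSemisimple_of_pow_eq_one (f' i) (Nat.card Q)
    · rw [hj, Nat.cast_pow]; exact pow_ne_zero _ hqK
    · show (ρ i) ^ (Nat.card Q) = 1
      rw [← map_pow, pow_card_eq_one', map_one]
  have hXf' : ∀ i, (X₁ : Module.End K U) * f' i = f' (σ' i) * (X₁ : Module.End K U) :=
    fun i => hTw i
  have hσ'n : σ' ^ (p ^ n₁) = 1 := by
    apply Equiv.ext
    intro x
    apply Subtype.ext
    rw [hσ'pow, hτN]
    rfl
  have hnomove : ∀ x : C, ρ (y x) = ρ x := by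
    by_contra hm
    push Not at hm
    obtain ⟨x, hx⟩ := hm
    have hm' : ∃ i, f' ((σ' ^ (p ^ (n₁ - 1))) i) ≠ f' i := by
      refine ⟨x, ?_⟩
      show ρ (((σ' ^ (p ^ (n₁ - 1))) x : C) : Q) ≠ ρ x
      rw [hσ'pow, hτy]
      exact hx
    obtain ⟨v, hv0, hv⟩ := exists_fixed_of_moved f' hcomm' hss' X₁ σ' hXf' p n₁ hp hn₁pos
      hX₁pow hσ'n hm'
    exact hv0 (hfix₁ v hv)
  -- the hypotheses of the count
  have hZscal : ∀ g : Q, (g : (Module.End K W)ˣ) ∈ Z → IsScal (ρ g) :=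
    fun g hg => ⟨_, rhoChi_zen Q μ g hg⟩
  have hHyp : Hyp ρ := by
    constructor
    · intro e f'
      apply hZscal
      exact hi e e.2 f' f'.2
    · intro e he
      have heC : e ∈ C := fun f' => hcommρ e f' (he f')
      have h1 := hnomove ⟨e, heC⟩
      have h2 : e⁻¹ * y e ∈ Schi Q μ := by
        show IsScal (ρ (e⁻¹ * y e))
        rw [map_mul, h1, rho_inv_mul]
        exact isScal_one
      exact hP μ e h2
  have hfpf : ∀ e, ((τ ^ (p ^ (n₁ - 1))) e)⁻¹ * e ∈ scalSubgroup ρ → e ∈ scalSubgroup ρ := by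
    intro e he
    rw [hτy] at he
    rw [hSdef] at he ⊢
    apply hP μ e
    have := (Schi Q μ).inv_mem he
    simpa using this
  haveI : Nontrivial U := ⟨⟨⟨w, hwμ⟩, 0, fun h => hw0 (congrArg Subtype.val h)⟩⟩
  obtain ⟨hle, ⟨m₀, hmod⟩, ⟨d, hsq⟩⟩ := thmS hHyp hE hTw p n₁ hp hn₁pos hpK hX₁pow hfpf hfix₁
  have htS : (⟨t, htQ⟩ : Q) ∉ scalSubgroup ρ := by
    rintro ⟨c, hc⟩
    apply hw
    have hYw : (Y : Module.End K W) w ∈ U := by
      have := hUXpow (p ^ (n₁ - 1)) w hwμ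
      rwa [hXtY] at this
    have h1 : ((t : (Module.End K W)ˣ) : Module.End K W) w = c • w :=
      congrArg (fun φ : Module.End K U => ((φ ⟨w, hwμ⟩ : U) : W)) hc
    have h2 : ((t : (Module.End K W)ˣ) : Module.End K W) ((Y : Module.End K W) w) =
        c • (Y : Module.End K W) w :=
      congrArg (fun φ : Module.End K U => ((φ ⟨_, hYw⟩ : U) : W)) hc
    rw [Units.val_mul, Units.val_mul, Module.End.mul_apply, Module.End.mul_apply, h1, h2, map_smul]
  have hI : 1 < (scalSubgroup ρ).index := by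
    have hne : scalSubgroup ρ ≠ ⊤ := by
      intro htop'
      apply htS
      rw [htop']
      trivial
    have h1 : (scalSubgroup ρ).index ≠ 1 := fun h => hne (Subgroup.index_eq_one.1 h)
    have h0 : (scalSubgroup ρ).index ≠ 0 := Subgroup.index_ne_zero_of_finite
    omega
  have hdvd : (scalSubgroup ρ).index ∣ q ^ j := by
    rw [← hj]; exact Subgroup.index_dvd_card _
  have hn₁1 : n₁ = 1 := by omega
  rw [hn₁1, pow_one] at hle hmod
  obtain ⟨m, hm1, hpm⟩ := prime_arith p q j _ d m₀ hp hq hsq hI hle hmod hdvd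
  exact hexc m hm1 hpm

end SpecialP

section MainP

variable {K : Type uK} [Field K] [IsAlgClosed K] {W : Type uW} [AddCommGroup W] [Module K W]
  [FiniteDimensional K W]

theorem thmSG_prime_aux (p q : ℕ) [Fact p.Prime] [Fact q.Prime] (hpq : p ≠ q)
    (hpK : (p : K) ≠ 0) (hqK : (q : K) ≠ 0)
    (Q : Subgroup (Module.End K W)ˣ) [Finite Q] (hQ : IsPGroup q Q)
    (X : (Module.End K W)ˣ) (hXQ : ∀ e ∈ Q, X * e * X⁻¹ ∈ Q) (n : ℕ) (hn1 : n = 1)
    (hXn : X ^ (p ^ n) = 1)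
    (hY : ∃ t ∈ Q, X ^ (p ^ (n - 1)) * t ≠ t * X ^ (p ^ (n - 1)))
    (hexc : ∀ m : ℕ, 1 ≤ m → p ≠ q ^ m + 1) :
    ∃ w : W, w ≠ 0 ∧ (X : Module.End K W) w = w := by
  classical
  have hn : 1 ≤ n := by omega
  have hp : p.Prime := Fact.out
  have hNpos : 0 < p ^ n := pos_of_ne_zero (pow_ne_zero _ hp.ne_zero)
  let 𝒮 : Set (Subgroup (Module.End K W)ˣ) := {Q₁ | Q₁ ≤ Q ∧ (∀ e ∈ Q₁, X * e * X⁻¹ ∈ Q₁) ∧
    ∃ t ∈ Q₁, X ^ (p ^ (n - 1)) * t ≠ t * X ^ (p ^ (n - 1))}
  have hQ𝒮 : Q ∈ 𝒮 := ⟨le_rfl, hXQ, hY⟩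
  obtain ⟨Q₁, hQ₁𝒮, hQ₁min⟩ := WellFounded.has_min
    (measure (fun Q₁ : Subgroup (Module.End K W)ˣ => Nat.card Q₁)).wf 𝒮 ⟨Q, hQ𝒮⟩
  obtain ⟨hQ₁le, hXQ₁, hY₁⟩ := hQ₁𝒮
  haveI : Finite Q₁ :=
    Finite.of_injective (Subgroup.inclusion hQ₁le) (Subgroup.inclusion_injective _)
  have hQ₁q : IsPGroup q Q₁ := hQ.to_le hQ₁le
  have hmin : ∀ Q₂ : Subgroup (Module.End K W)ˣ, Q₂ < Q₁ → (∀ e ∈ Q₂, X * e * X⁻¹ ∈ Q₂) →
      ∀ t ∈ Q₂, X ^ (p ^ (n - 1)) * t = t * X ^ (p ^ (n - 1)) := by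
    intro Q₂ hlt hX₂
    by_contra hcon
    push Not at hcon
    have h𝒮 : Q₂ ∈ 𝒮 := ⟨hlt.le.trans hQ₁le, hX₂, hcon⟩
    apply hQ₁min Q₂ h𝒮
    show Nat.card Q₂ < Nat.card Q₁
    by_contra hge
    push Not at hge
    exact (ne_of_lt hlt) (Subgroup.eq_of_le_of_card_ge hlt.le hge)
  by_cases hab : ∀ e ∈ Q₁, ∀ f ∈ Q₁, e * f = f * e
  · exact abelian_caseS p q hqK Q₁ hQ₁q hab X hXQ₁ n hn hXn hY₁
  · push Not at hab
    have hXN : X ∈ Subgroup.normalizer (Q₁ : Set (Module.End K W)ˣ) :=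
      mem_normalizer_of_pow_eq_one Q₁ X (p ^ n) hNpos hXn hXQ₁
    have hYX : X ^ (p ^ (n - 1)) ∈ Subgroup.zpowers X := Subgroup.npow_mem_zpowers X _
    have hYm : (X ^ (p ^ (n - 1))) ^ (p ^ n) = 1 := by
      rw [← pow_mul, mul_comm, pow_mul, hXn, one_pow]
    have hmq : Nat.Coprime (p ^ n) q :=
      Nat.Coprime.pow_left _ ((Nat.coprime_primes hp (Fact.out : q.Prime)).2 hpq)
    obtain ⟨hi, hii, hiii⟩ := minimal_structure Q₁ hQ₁q X (X ^ (p ^ (n - 1))) hXN hYX (p ^ n) hYm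
      hmq hmin hY₁ hab
    exact special_case_prime p q hpq hpK hqK Q₁ hQ₁q X hXQ₁ n hn1 hXn hY₁ hi hii hiii hexc

/-- **Shult's theorem for an operator of prime order**, for a group of linear maps -/
theorem thmSG_prime (p q : ℕ) [Fact p.Prime] [Fact q.Prime] (hpq : p ≠ q)
    (hpK : (p : K) ≠ 0) (hqK : (q : K) ≠ 0)
    (Q : Subgroup (Module.End K W)ˣ) [Finite Q] (hQ : IsPGroup q Q)
    (X : (Module.End K W)ˣ) (hXQ : ∀ e ∈ Q, X * e * X⁻¹ ∈ Q)
    (hXp : X ^ p = 1) (hY : ∃ t ∈ Q, X * t ≠ t * X)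
    (hexc : ∀ m : ℕ, 1 ≤ m → p ≠ q ^ m + 1) :
    ∃ w : W, w ≠ 0 ∧ (X : Module.End K W) w = w := by
  apply thmSG_prime_aux p q hpq hpK hqK Q hQ X hXQ 1 rfl _ _ hexc
  · rw [pow_one]; exact hXp
  · simpa using hY

/-- **Shult's theorem for an operator of prime order**, abstract form: an `s`-group `M` acting on
`U`, an automorphism `β` implemented by a fixed point free operator `D` of prime order `q` with
`q` not of the form `s ^ m + 1`: then `β` acts trivially modulo the kernel. -/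
theorem shultPrime (s q : ℕ) [Fact s.Prime] [Fact q.Prime] (hsq : q ≠ s)
    (hsK : (s : K) ≠ 0) (hqK : (q : K) ≠ 0)
    {M : Type*} [Group M] [Finite M] (hM : IsPGroup s M)
    (ρ : M →* Module.End K W) (β : MulAut M) (D : Module.End K W) (hDq : D ^ q = 1)
    (hD : ∀ x, D * ρ x = ρ (β x) * D) (hfix : ∀ w, D w = w → w = 0)
    (hexc : ∀ m : ℕ, 1 ≤ m → q ≠ s ^ m + 1) : ∀ x, ρ (β x) = ρ x := by
  classical
  have hq : q.Prime := Fact.out
  by_contra hcon
  push Not at hcon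
  obtain ⟨x₀, hx₀⟩ := hcon
  set ρu : M →* (Module.End K W)ˣ := ρ.toHomUnits with hρu
  have hρuval : ∀ x, ((ρu x : (Module.End K W)ˣ) : Module.End K W) = ρ x := fun x => rfl
  set Q : Subgroup (Module.End K W)ˣ := ρu.range with hQdef
  haveI : Finite Q := by
    rw [hQdef]
    exact Finite.of_surjective ρu.rangeRestrict ρu.rangeRestrict_surjective
  have hQ : IsPGroup s Q := by
    rintro ⟨e, he⟩
    obtain ⟨x, rfl⟩ := he
    obtain ⟨k, hk⟩ := hM x
    refine ⟨k, ?_⟩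
    apply Subtype.ext
    show (ρu x) ^ (s ^ k) = 1
    rw [← map_pow, hk, map_one]
  set X : (Module.End K W)ˣ := Units.ofPowEqOne D q hDq hq.ne_zero with hX
  have hXval : (X : Module.End K W) = D := Units.val_ofPowEqOne _ _ _ _
  have hXq : X ^ q = 1 := by
    apply Units.ext
    rw [Units.val_pow_eq_pow_val, hXval, hDq, Units.val_one]
  have hconj : ∀ x, X * ρu x * X⁻¹ = ρu (β x) := by
    intro x
    rw [mul_inv_eq_iff_eq_mul]
    apply Units.ext
    rw [Units.val_mul, Units.val_mul, hXval, hρuval, hρuval]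
    exact hD x
  have hXQ : ∀ e ∈ Q, X * e * X⁻¹ ∈ Q := by
    rintro e ⟨x, rfl⟩
    exact ⟨β x, (hconj x).symm⟩
  have hY : ∃ t ∈ Q, X * t ≠ t * X := by
    refine ⟨ρu x₀, ⟨x₀, rfl⟩, ?_⟩
    intro h1
    apply hx₀
    have h2 : X * ρu x₀ * X⁻¹ = ρu x₀ := by rw [h1]; group
    rw [hconj] at h2
    rw [← hρuval, h2, hρuval]
  obtain ⟨w, hw0, hw⟩ := thmSG_prime q s hsq hqK hsK Q hQ X hXQ hXq hY hexc
  rw [hXval] at hw
  exact hw0 (hfix w hw)

end MainP

end Cfsg.Agent.Lib.Helper56.ShultP
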