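import Cfsg.Agent.Lib.Helper56.WardAb

/-!
# Ward's theorem: the pair lemma

`A` elementary abelian of order `p ^ 2` inside the finite group `Γ`, acting faithfully on the
space `W` via `ρ`, without nonzero fixed vectors; `N` an `s`-group and `R` an `r`-group
normalized by `A`, `R` normalizing `N`, `A` fixed point free on both: then `N` and `R` commute.
-/

set_option autoImplicit false
set_option linter.unusedSectionVars false
set_option linter.style.haveILetI false

namespace Cfsg.Agent.Lib.Helper56.Ward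

open Module
open Cfsg.Agent.Lib.Helper56.HH
open Cfsg.Agent.Lib.Helper56.HHB
open Cfsg.Agent.Lib.Helper56.HHS
open scoped commutatorElement

universe u uK uW

section Aux

variable {K : Type uK} [Field K] {W : Type uW} [AddCommGroup W] [Module K W]
variable {Γ : Type u} [Group Γ]

theorem restrict_pow_apply (f : Module.End K W) (U : Submodule K W) (hf : ∀ w ∈ U, f w ∈ U)
    (n : ℕ) (u : U) : ((((f.restrict hf) ^ n) u : U) : W) = (f ^ n) (u : W) := by
  induction n generalizing u with
  | zero => simp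
  | succ n ih =>
    rw [pow_succ, pow_succ, Module.End.mul_apply, Module.End.mul_apply, ih]
    rfl

/-- the pointwise stabilizer of a submodule -/
def fixU (ρ : Γ →* Module.End K W) (U : Submodule K W) : Subgroup Γ where
  carrier := {g | ∀ u ∈ U, ρ g u = u}
  one_mem' := fun u _ => rho_one_apply ρ u
  mul_mem' := by
    intro a b ha hb u hu
    rw [rho_mul_apply, hb u hu, ha u hu]
  inv_mem' := by
    intro a ha u hu
    have h := rho_inv_apply ρ a u
    rwa [ha u hu] at h

theorem normalizer_le_normalizer_zen (N : Subgroup Γ) :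
    Subgroup.normalizer (N : Set Γ) ≤ Subgroup.normalizer ((zen N : Subgroup Γ) : Set Γ) := by
  intro g hg
  rw [Subgroup.mem_normalizer_iff]
  intro z
  constructor
  · exact conj_mem_zen N g hg z
  · intro hz
    have h1 := conj_mem_zen N g⁻¹ (Subgroup.inv_mem _ hg) _ hz
    have h2 : g⁻¹ * (g * z * g⁻¹) * g⁻¹⁻¹ = z := by group
    rwa [h2] at h1

end Aux

section LTApply

variable {K : Type uK} [Field K] [IsAlgClosed K] {W : Type uW} [AddCommGroup W] [Module K W]
  [FiniteDimensional K W]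
variable {Γ : Type u} [Group Γ] [Finite Γ]

/-- for `d ∈ A` moving the weight `μ` of `Z` fixed by `c`, the centralizer of `d` in `N` acts
trivially on the weight space -/
theorem centralizer_acts_trivially {ρ : Γ →* Module.End K W} {p s : ℕ} [Fact p.Prime]
    [Fact s.Prime] (hsK : (s : K) ≠ 0) {A N : Subgroup Γ} (hS : Setting ρ p A)
    (hN : IsPGroup s N) (hAN : A ≤ Subgroup.normalizer (N : Set Γ))
    (hfixN : ∀ x ∈ N, (∀ a ∈ A, a * x = x * a) → x = 1)
    {Z : Subgroup Γ} (hcommZ : ∀ i j : Z, Commute (ρ (i : Γ)) (ρ (j : Γ)))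
    (hAZ : A ≤ Subgroup.normalizer (Z : Set Γ)) {μ : Γ → K} (hNst : ∀ x ∈ N, x ∈ stabW Z μ)
    {c d : Γ} (hc : c ∈ A) (hc1 : c ≠ 1) (hcμ : FixW Z c μ) (hd : d ∈ A)
    (hdc : d ∉ Subgroup.zpowers c) (hdμ : ¬ FixW Z d μ) :
    ∀ x ∈ N, x * d = d * x → ∀ w ∈ wtS ρ Z μ, ρ x w = w := by
  have hp : p.Prime := Fact.out
  have hA := hS.ea
  set U : Submodule K W := wtS ρ Z μ with hU
  set Q : Subgroup Γ := N ⊓ Subgroup.centralizer ({d} : Set Γ) with hQ
  have hQs : IsPGroup s Q := hN.to_le inf_le_left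
  set ρQ : ↥Q →* Module.End K W := ρ.comp Q.subtype with hρQ
  have hUQ : ∀ e : Q, ∀ w ∈ U, ρQ e w ∈ U := fun e w hw =>
    map_wtS_of_mem_stabW ρ (hNst e e.2.1) hw
  set ρU : ↥Q →* Module.End K U := resRep ρQ U hUQ with hρU
  have hcst : c ∈ stabW Z μ := ⟨hAZ hc, hcμ⟩
  have hcU : ∀ w ∈ U, ρ c w ∈ U := fun w hw => map_wtS_of_mem_stabW ρ hcst hw
  set D : Module.End K U := (ρ c).restrict hcU with hD
  have hcd : c * d = d * c := hA.comm c hc d hd
  have hcQ : c ∈ Subgroup.normalizer (Q : Set Γ) :=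
    mem_normalizer_inf (hAN hc) (mem_normalizer_centralizer_of_comm hcd)
  set τ : MulAut ↥Q := conjMul Q c hcQ with hτ
  have hcp : c ^ p = 1 := hA.exp c hc
  have hdp : d ^ p = 1 := hA.exp d hd
  have hDp : D ^ p = 1 := by
    apply LinearMap.ext
    intro u
    apply Subtype.ext
    rw [hD, restrict_pow_apply, ← map_pow, hcp, map_one]
    rfl
  have hτp : τ ^ p = 1 := by
    ext q
    rw [hτ, conjMul_pow_apply, hcp]
    simp
  have hX : ∀ x : Q, D * ρU x = ρU (τ x) * D := by
    intro x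
    apply LinearMap.ext
    intro u
    apply Subtype.ext
    show ρ c (ρ (x : Γ) (u : W)) = ρ (c * (x : Γ) * c⁻¹) (ρ c (u : W))
    rw [← rho_mul_apply, ← rho_mul_apply]
    congr 2
    group
  have hfpf : ∀ q : Q, τ q = q → q = 1 := by
    intro q hq
    have hq' : c * (q : Γ) * c⁻¹ = q := congrArg Subtype.val hq
    apply Subtype.ext
    apply hfixN _ q.2.1
    have hle := hA.le_of_mem hp hc hd hc1 hdc (Subgroup.centralizer ({(q : Γ)} : Set Γ))
      (Subgroup.mem_centralizer_singleton_iff.2 (by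
        calc c * (q : Γ) = c * q * c⁻¹ * c := by group
          _ = q * c := by rw [hq']))
      (Subgroup.mem_centralizer_singleton_iff.2
        (Subgroup.mem_centralizer_singleton_iff.1 q.2.2).symm)
    intro a ha
    exact Subgroup.mem_centralizer_singleton_iff.1 (hle ha)
  have hfix : ∀ u : U, D u = u → u = 0 := by
    intro u hu
    have hu' : ρ c (u : W) = u := congrArg Subtype.val hu
    set v : W := ∑ i ∈ Finset.range p, ((ρ d) ^ i) (u : W) with hv
    have hvd : ρ d v = v := rho_sum_pow_fixed ρ p hp.pos hdp (u : W)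
    have hcomm' : Commute (ρ c) (ρ d) := by
      show ρ c * ρ d = ρ d * ρ c
      rw [← map_mul, ← map_mul, hcd]
    have hvc : ρ c v = v := by
      rw [hv, map_sum]
      apply Finset.sum_congr rfl
      intro i _
      have h1 := (hcomm'.pow_right i).eq
      have h2 := congrArg (fun f : Module.End K W => f (u : W)) h1
      simp only [Module.End.mul_apply] at h2
      rw [h2, hu']
    have hle := hA.le_of_mem hp hc hd hc1 hdc (fixV ρ v) hvc hvd
    have hv0 : v = 0 := hS.fixW v (fun a ha => hle ha)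
    have hu0 : (u : W) = 0 :=
      sum_pow_eq_zero_of_moved ρ hcommZ (hAZ hd) p hp hdp hdμ u.2 hv0
    exact Subtype.ext hu0
  have hres := linThompson s p hp hsK (Nat.card Q) ↥Q le_rfl hQs ρU τ D hDp hτp hX hfpf hfix
  intro x hx hxd w hw
  have hxQ : x ∈ Q := ⟨hx, Subgroup.mem_centralizer_singleton_iff.2 hxd⟩
  have h1 := hres ⟨x, hxQ⟩
  have h2 := congrArg (fun f : Module.End K U => ((f ⟨w, hw⟩ : U) : W)) h1
  exact h2

end LTApply

section Main

variable {K : Type uK} [Field K] [IsAlgClosed K] {W : Type uW} [AddCommGroup W] [Module K W]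
  [FiniteDimensional K W]
variable {Γ : Type u} [Group Γ] [Finite Γ]

/-- the weights of the centre of `N = [N, R]` are trivial -/
theorem zen_weight_trivial {ρ : Γ →* Module.End K W} {p s r : ℕ} [Fact p.Prime] [Fact s.Prime]
    [Fact r.Prime] (hps : p ≠ s) (hsr : s ≠ r) (hsK : (s : K) ≠ 0)
    {A N R : Subgroup Γ} (hS : Setting ρ p A) (hP : Pair A N R s r) (hNR : ⁅N, R⁆ = N)
    {β : Γ} (hβ : β ∈ A) (hβ1 : β ≠ 1) (hRβ : ∀ y ∈ R, y * β = β * y)
    (hZR : ∀ z ∈ zen N, ∀ y ∈ R, z * y = y * z)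
    {μ : Γ → K} {w : W} (hw : w ∈ wtS ρ (zen N) μ) (hw0 : w ≠ 0) :
    ∀ z ∈ zen N, μ z = 1 := by
  have hp : p.Prime := Fact.out
  have hA := hS.ea
  set Z : Subgroup Γ := zen N with hZ
  set U : Submodule K W := wtS ρ Z μ with hU
  have hZle : Z ≤ N := zen_le N
  have hZab : ∀ a ∈ Z, ∀ b ∈ Z, a * b = b * a := fun a ha b hb => (mem_zen.1 hb).2 a (hZle ha)
  have hcommZ := famS_commute ρ Z hZab
  have hAZ : A ≤ Subgroup.normalizer (Z : Set Γ) :=
    fun a ha => normalizer_le_normalizer_zen N (hP.AN ha)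
  have hRZ : R ≤ Subgroup.normalizer (Z : Set Γ) :=
    fun a ha => normalizer_le_normalizer_zen N (hP.RN ha)
  have hNst : ∀ x ∈ N, x ∈ stabW Z μ := by
    intro x hx
    refine ⟨normalizer_le_normalizer_zen N (Subgroup.le_normalizer hx), ?_⟩
    intro z hz
    have h1 := (mem_zen.1 hz).2 x hx
    have h2 : x⁻¹ * z * x = z := by rw [mul_assoc, ← h1]; group
    rw [h2]
  have hRst : ∀ y ∈ R, y ∈ stabW Z μ := by
    intro y hy
    refine ⟨hRZ hy, ?_⟩
    intro z hz
    have h1 := hZR z hz y hy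
    have h2 : y⁻¹ * z * y = z := by rw [mul_assoc, h1]; group
    rw [h2]
  have hmul : ∀ {z z' : Γ}, z ∈ Z → z' ∈ Z → μ (z * z') = μ z * μ z' :=
    fun hz hz' => chi_mul ρ hw hw0 hz hz'
  have hone : μ 1 = 1 := chi_one ρ hw hw0
  have hinv : ∀ {z : Γ}, z ∈ Z → μ z * μ z⁻¹ = 1 := by
    intro z hz
    rw [← hmul hz (Z.inv_mem hz), mul_inv_cancel, hone]
  by_cases hall : ∀ a ∈ A, FixW Z a μ
  · -- the weight is fixed by all of `A`
    let Kμ : Subgroup Γ :=
      { carrier := {z | z ∈ Z ∧ μ z = 1}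
        one_mem' := ⟨Z.one_mem, hone⟩
        mul_mem' := by
          rintro a b ⟨ha, ha'⟩ ⟨hb, hb'⟩
          exact ⟨Z.mul_mem ha hb, by rw [hmul ha hb, ha', hb', one_mul]⟩
        inv_mem' := by
          rintro a ⟨ha, ha'⟩
          refine ⟨Z.inv_mem ha, ?_⟩
          have := hinv ha
          rwa [ha', one_mul] at this }
    have hKμle : Kμ ≤ Z := fun z hz => hz.1
    have hconjA : ∀ a ∈ A, ∀ e ∈ Z, μ (a * e * a⁻¹) = μ e := by
      intro a ha e he
      have h1 := hall a⁻¹ (A.inv_mem ha) e he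
      rwa [inv_inv] at h1
    have hZK : Z ≤ Subgroup.normalizer (Kμ : Set Γ) := by
      intro z' hz'
      apply mem_normalizer_of_pow_eq_one Kμ z' (orderOf z') (orderOf_pos z') (pow_orderOf_eq_one z')
      rintro e ⟨he, he'⟩
      have h1 : z' * e * z'⁻¹ = e := by
        rw [hZab z' hz' e he]; group
      rw [h1]
      exact ⟨he, he'⟩
    have hAK : A ≤ Subgroup.normalizer (Kμ : Set Γ) := by
      intro a ha
      apply mem_normalizer_of_pow_eq_one Kμ a p hp.pos (hA.exp a ha)
      rintro e ⟨he, he'⟩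
      exact ⟨conj_mem_of_normalizer (hAZ ha) he, by rw [hconjA a ha e he, he']⟩
    intro z hz
    have hsolv : Group.IsSolvable A :=
      Group.isSolvable_of_comm (fun a b => Subtype.ext (hA.comm a a.2 b b.2))
    obtain ⟨c, hc, hzc⟩ := Cfsg.Agent.S0022.result A Z hAZ
      (hA.coprime_card hp hps (hP.hN.to_le hZle)) (Or.inl hsolv) Kμ hKμle hZK hAK z hz
      (by
        intro a ha
        refine ⟨Z.mul_mem (conj_mem_of_normalizer (hAZ ha) hz) (Z.inv_mem hz), ?_⟩
        rw [hmul (conj_mem_of_normalizer (hAZ ha) hz) (Z.inv_mem hz), hconjA a ha z hz]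
        exact hinv hz)
    have hc1 : c = 1 := hP.fixN c (hZle hc.1)
      (fun a ha => Subgroup.mem_centralizer_iff.1 hc.2 a ha)
    rw [hc1, mul_one] at hzc
    have h1 := hinv hz
    rw [hzc.2, mul_one] at h1
    exact h1
  · -- some element of `A` moves the weight
    push Not at hall
    obtain ⟨d₀, hd₀A, hd₀μ⟩ := hall
    obtain ⟨c, hcA, hc1, hcμ⟩ := exists_fix_of_occurring hS hcommZ hAZ hw hw0
    have hcst : c ∈ stabW Z μ := ⟨hAZ hcA, hcμ⟩
    have hcp : c ^ p = 1 := hA.exp c hcA
    have hc1' : ∀ d ∈ A, d ∉ Subgroup.zpowers c → ¬ FixW Z d μ := by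
      intro d hdA hdc hfix
      have hle := hA.le_of_mem hp hcA hdA hc1 hdc (stabW Z μ) hcst ⟨hAZ hdA, hfix⟩
      exact hd₀μ (hle hd₀A).2
    have hc2 : ∀ d ∈ A, d ∉ Subgroup.zpowers c → ∀ x ∈ N, x * d = d * x → ∀ u ∈ U, ρ x u = u :=
      fun d hdA hdc => centralizer_acts_trivially hsK hS hP.hN hP.AN hP.fixN hcommZ hAZ hNst
        hcA hc1 hcμ hdA hdc (hc1' d hdA hdc)
    have hcopN : (Nat.card A).Coprime (Nat.card N) := hA.coprime_card hp hps hP.hN
    have hNU : ∀ x ∈ N, ∀ u ∈ U, ρ x u ∈ U := fun x hx u hu =>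
      map_wtS_of_mem_stabW ρ (hNst x hx) hu
    have hRU : ∀ y ∈ R, ∀ u ∈ U, ρ y u ∈ U := fun y hy u hu =>
      map_wtS_of_mem_stabW ρ (hRst y hy) hu
    -- `N` and `R` commute on the weight space
    have hcommNR : ∀ x ∈ N, ∀ y ∈ R, ∀ u ∈ U, ρ y (ρ x u) = ρ x (ρ y u) := by
      by_cases hβc : β ∈ Subgroup.zpowers c
      · -- type 1
        have hcβ : c ∈ Subgroup.zpowers β := mem_zpowers_of_zpow_ne_one hp hcp hβc hβ1
        have hRc : ∀ a ∈ Subgroup.zpowers c, ∀ y ∈ R, y * a = a * y := by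
          intro a ha y hy
          have hle : Subgroup.zpowers β ≤ Subgroup.centralizer ({y} : Set Γ) := by
            rw [Subgroup.zpowers_le]
            exact Subgroup.mem_centralizer_singleton_iff.2 (hRβ y hy).symm
          have hle2 : Subgroup.zpowers c ≤ Subgroup.zpowers β := by
            rw [Subgroup.zpowers_le]; exact hcβ
          exact (Subgroup.mem_centralizer_singleton_iff.1 (hle (hle2 ha))).symm
        have hgen : ∀ x ∈ N, ∀ u ∈ U, ρ x u ∈ U ∧ ∀ y ∈ R, ρ y (ρ x u) = ρ x (ρ y u) := by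
          apply gen_induction
            (P := fun x => ∀ u ∈ U, ρ x u ∈ U ∧ ∀ y ∈ R, ρ y (ρ x u) = ρ x (ρ y u))
            hA hP.AN hcopN
          · intro u hu
            rw [rho_one_apply]
            exact ⟨hu, fun y _ => by rw [rho_one_apply]⟩
          · intro x x' hx hx' u hu
            obtain ⟨h1, h2⟩ := hx' u hu
            obtain ⟨h3, h4⟩ := hx _ h1
            rw [rho_mul_apply]
            refine ⟨h3, ?_⟩
            intro y hy
            rw [h4 y hy, h2 y hy, rho_mul_apply]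
          · intro a haA ha1 x hx hax u hu
            refine ⟨hNU x hx u hu, ?_⟩
            intro y hy
            by_cases hac : a ∈ Subgroup.zpowers c
            · have hxy := thompson_pair hsr hA hP haA ha1 hx hy hax.symm (hRc a hac y hy)
              rw [← rho_mul_apply, ← rho_mul_apply, hxy]
            · rw [hc2 a haA hac x hx hax.symm u hu,
                hc2 a haA hac x hx hax.symm _ (hRU y hy u hu)]
        intro x hx y hy u hu
        exact (hgen x hx u hu).2 y hy
      · -- type 2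
        have hcR : c ∈ Subgroup.normalizer (R : Set Γ) := hP.AR hcA
        set σ₀ : MulAut ↥R := conjMul R c hcR with hσ₀
        have hfpfR : ∀ z : R, σ₀ z = z → z = 1 := by
          intro z hz
          have hz' : c * (z : Γ) * c⁻¹ = z := congrArg Subtype.val hz
          apply Subtype.ext
          apply hP.fixR _ z.2
          have hle := hA.le_of_mem hp hcA hβ hc1 hβc (Subgroup.centralizer ({(z : Γ)} : Set Γ))
            (Subgroup.mem_centralizer_singleton_iff.2 (by
              calc c * (z : Γ) = c * z * c⁻¹ * c := by group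
                _ = z * c := by rw [hz']))
            (Subgroup.mem_centralizer_singleton_iff.2 (hRβ z z.2).symm)
          intro a ha
          exact Subgroup.mem_centralizer_singleton_iff.1 (hle ha)
        have hsurj := Finite.surjective_of_injective (SG.fpf_inj σ₀ hfpfR)
        have hgen : ∀ x ∈ N, ∀ u ∈ U, ρ x u ∈ U ∧ ρ c (ρ x u) = ρ x (ρ c u) := by
          apply gen_induction
            (P := fun x => ∀ u ∈ U, ρ x u ∈ U ∧ ρ c (ρ x u) = ρ x (ρ c u))
            hA hP.AN hcopN
          · intro u hu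
            rw [rho_one_apply]
            exact ⟨hu, by rw [rho_one_apply]⟩
          · intro x x' hx hx' u hu
            obtain ⟨h1, h2⟩ := hx' u hu
            obtain ⟨h3, h4⟩ := hx _ h1
            rw [rho_mul_apply]
            refine ⟨h3, ?_⟩
            rw [h4, h2, rho_mul_apply]
          · intro a haA ha1 x hx hax u hu
            refine ⟨hNU x hx u hu, ?_⟩
            by_cases hac : a ∈ Subgroup.zpowers c
            · have hca : c ∈ Subgroup.zpowers a := mem_zpowers_of_zpow_ne_one hp hcp hac ha1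
              have hle : Subgroup.zpowers a ≤ Subgroup.centralizer ({x} : Set Γ) := by
                rw [Subgroup.zpowers_le]
                exact Subgroup.mem_centralizer_singleton_iff.2 hax
              have hcx : c * x = x * c := Subgroup.mem_centralizer_singleton_iff.1 (hle hca)
              rw [← rho_mul_apply, ← rho_mul_apply, hcx]
            · rw [hc2 a haA hac x hx hax.symm u hu,
                hc2 a haA hac x hx hax.symm _ (map_wtS_of_mem_stabW ρ hcst hu)]
        have hcinvU : ∀ u ∈ U, ρ c⁻¹ u ∈ U := fun u hu =>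
          map_wtS_of_mem_stabW ρ (Subgroup.inv_mem _ hcst) hu
        have hconj : ∀ x ∈ N, ∀ u ∈ U, ρ (c * x * c⁻¹) u = ρ x u := by
          intro x hx u hu
          rw [rho_mul_apply, rho_mul_apply, (hgen x hx _ (hcinvU u hu)).2, rho_apply_inv]
        have hconj' : ∀ x ∈ N, ∀ u ∈ U, ρ (c⁻¹ * x * c) u = ρ x u := by
          intro x hx u hu
          have hx₁ : c⁻¹ * x * c ∈ N := conj_inv_mem_of_normalizer (hP.AN hcA) hx
          have h1 := hconj _ hx₁ u hu
          have h2 : c * (c⁻¹ * x * c) * c⁻¹ = x := by group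
          rw [h2] at h1
          exact h1.symm
        have hyx : ∀ x ∈ N, ∀ y ∈ R, ∀ u ∈ U, ρ (y * x * y⁻¹) u = ρ x u := by
          intro x hx y hy u hu
          obtain ⟨σ, hσ⟩ := hsurj ⟨y, hy⟩
          have hyσ : y = (σ : Γ)⁻¹ * (c * σ * c⁻¹) := by
            have := congrArg Subtype.val hσ
            exact this.symm
          set x₁ := c⁻¹ * x * c with hx₁
          have hx₁N : x₁ ∈ N := conj_inv_mem_of_normalizer (hP.AN hcA) hx
          set x₂ := (σ : Γ) * x₁ * (σ : Γ)⁻¹ with hx₂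
          have hx₂N : x₂ ∈ N := conj_mem_of_normalizer (hP.RN σ.2) hx₁N
          have h1 : y * x * y⁻¹ = (σ : Γ)⁻¹ * (c * x₂ * c⁻¹) * σ := by
            rw [hyσ, hx₂, hx₁]; group
          have hσu : ρ (σ : Γ) u ∈ U := hRU σ σ.2 u hu
          rw [h1, rho_mul_apply, rho_mul_apply, hconj x₂ hx₂N _ hσu, ← rho_mul_apply,
            ← rho_mul_apply]
          have h2 : (σ : Γ)⁻¹ * x₂ * σ = x₁ := by rw [hx₂]; group
          rw [h2, hconj' x hx u hu]
        intro x hx y hy u hu
        have h1 : y * x = (y * x * y⁻¹) * y := by group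
        rw [← rho_mul_apply, h1, rho_mul_apply, hyx x hx y hy _ (hRU y hy u hu)]
    -- `N = [N, R]` acts trivially on the weight space
    have hfix : N ≤ fixU ρ U := by
      rw [← hNR, Subgroup.commutator_le]
      intro x hx y hy u hu
      rw [commutatorElement_def, rho_mul_apply, rho_mul_apply, rho_mul_apply]
      have hu₁ : ρ y⁻¹ u ∈ U := hRU y⁻¹ (R.inv_mem hy) u hu
      have h1 := hcommNR x⁻¹ (N.inv_mem hx) y hy _ hu₁
      rw [rho_apply_inv] at h1
      rw [h1, rho_apply_inv]
    intro z hz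
    have h1 : ρ z w = w := hfix (hZle hz) w hw
    have h2 := (mem_wtS ρ).1 hw z hz
    rw [h1] at h2
    have h3 : (μ z - 1) • w = 0 := by rw [sub_smul, one_smul, ← h2, sub_self]
    rcases smul_eq_zero.1 h3 with h4 | h4
    · exact sub_eq_zero.1 h4
    · exact absurd h4 hw0

/-- the pair lemma when `R` is centralized by an element `β` of `A` -/
theorem pair_of_centralized {ρ : Γ →* Module.End K W} {p s r : ℕ} [Fact p.Prime] [Fact s.Prime]
    [Fact r.Prime] (hps : p ≠ s) (hpr : p ≠ r) (hsr : s ≠ r) (hsK : (s : K) ≠ 0)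
    {A N R : Subgroup Γ} (hS : Setting ρ p A) (hP : Pair A N R s r)
    {β : Γ} (hβ : β ∈ A) (hβ1 : β ≠ 1) (hRβ : ∀ y ∈ R, y * β = β * y) :
    ∀ x ∈ N, ∀ y ∈ R, x * y = y * x := by
  have hp : p.Prime := Fact.out
  have hr : r.Prime := Fact.out
  have hs : s.Prime := Fact.out
  have hA := hS.ea
  set N₁ : Subgroup Γ := ⁅N, R⁆ with hN₁
  have hN₁le : N₁ ≤ N := by
    rw [hN₁, ← Subgroup.le_normalizer_iff_commutator_le_left]
    exact hP.RN
  have hAN₁ : A ≤ Subgroup.normalizer (N₁ : Set Γ) := by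
    intro a ha
    apply mem_normalizer_of_pow_eq_one N₁ a p hp.pos (hA.exp a ha)
    exact conj_mem_commutator N R a
      (fun e he => conj_mem_of_normalizer (hP.AN ha) he)
      (fun e he => conj_mem_of_normalizer (hP.AR ha) he)
  have hRN₁ : R ≤ Subgroup.normalizer (N₁ : Set Γ) := by
    intro y hy
    apply mem_normalizer_of_pow_eq_one N₁ y (orderOf y) (orderOf_pos y) (pow_orderOf_eq_one y)
    exact conj_mem_commutator N R y
      (fun e he => conj_mem_of_normalizer (hP.RN hy) he)
      (fun e he => R.mul_mem (R.mul_mem hy he) (R.inv_mem hy))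
  have hP₁ : Pair A N₁ R s r :=
    { hN := hP.hN.to_le hN₁le
      hR := hP.hR
      AN := hAN₁
      AR := hP.AR
      RN := hRN₁
      fixN := fun x hx => hP.fixN x (hN₁le hx)
      fixR := hP.fixR }
  have hcopRN : (Nat.card R).Coprime (Nat.card N) := by
    obtain ⟨i, hi⟩ := hP.hR.exists_card_eq
    obtain ⟨j, hj⟩ := hP.hN.exists_card_eq
    rw [hi, hj]
    exact Nat.Coprime.pow _ _ ((Nat.coprime_primes hr hs).2 (Ne.symm hsr))
  have hN₁R : ⁅N₁, R⁆ = N₁ := by
    haveI : Group.IsNilpotent R := hP.hR.isNilpotent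
    exact Cfsg.Agent.S0027.result R N hP.RN hcopRN (Or.inl inferInstance)
  -- it suffices to show that `N₁` is trivial
  suffices hbot : N₁ = ⊥ by
    intro x hx y hy
    have h1 : ⁅x, y⁆ ∈ N₁ := Subgroup.commutator_mem_commutator hx hy
    rw [hbot, Subgroup.mem_bot] at h1
    exact commutatorElement_eq_one_iff_mul_comm.1 h1
  by_contra hne
  set Z : Subgroup Γ := zen N₁ with hZ
  have hZle : Z ≤ N₁ := zen_le N₁
  have hZab : ∀ a ∈ Z, ∀ b ∈ Z, a * b = b * a := fun a ha b hb => (mem_zen.1 hb).2 a (hZle ha)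
  have hPZ : Pair A Z R s r :=
    { hN := hP₁.hN.to_le hZle
      hR := hP.hR
      AN := fun a ha => normalizer_le_normalizer_zen N₁ (hAN₁ ha)
      AR := hP.AR
      RN := fun a ha => normalizer_le_normalizer_zen N₁ (hRN₁ ha)
      fixN := fun x hx => hP₁.fixN x (hZle hx)
      fixR := hP.fixR }
  have hZR : ∀ z ∈ Z, ∀ y ∈ R, z * y = y * z :=
    abelian_case hps hpr hsr hsK hS hPZ hZab hβ hβ1 hRβ
  have hcommZ := famS_commute ρ Z hZab
  have hssZ := famS_semisimple ρ Z s hPZ.hN hsK
  have htopZ := iSup_wtS_eq_top ρ Z hcommZ hssZ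
  -- the centre is trivial
  have hZbot : ∀ z ∈ Z, z = 1 := by
    intro z hz
    apply hS.inj
    rw [map_one]
    apply ext_of_wtS ρ htopZ
    intro μ w hw
    rw [Module.End.one_apply]
    by_cases hw0 : w = 0
    · rw [hw0, map_zero]
    have h1 := zen_weight_trivial hps hsr hsK hS hP₁ hN₁R hβ hβ1 hRβ hZR hw hw0 z hz
    rw [(mem_wtS ρ).1 hw z hz, h1, one_smul]
  -- but the centre of a nontrivial `s`-group is nontrivial
  haveI : Nontrivial N₁ := (Subgroup.nontrivial_iff_ne_bot N₁).2 hne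
  haveI hcn : Nontrivial (Subgroup.center ↥N₁) := hP₁.hN.center_nontrivial
  obtain ⟨z, hz1⟩ := exists_ne (1 : Subgroup.center ↥N₁)
  have hzZ : ((z : ↥N₁) : Γ) ∈ Z := by
    rw [hZ, mem_zen]
    refine ⟨(z : ↥N₁).2, ?_⟩
    intro e he
    have h1 := Subgroup.mem_center_iff.1 z.2 ⟨e, he⟩
    exact congrArg Subtype.val h1
  apply hz1
  apply Subtype.ext
  apply Subtype.ext
  exact hZbot _ hzZ

/-- **The pair lemma.** -/
theorem pair_commute {ρ : Γ →* Module.End K W} {p s r : ℕ} [Fact p.Prime] [Fact s.Prime]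
    [Fact r.Prime] (hps : p ≠ s) (hpr : p ≠ r) (hsr : s ≠ r) (hsK : (s : K) ≠ 0)
    {A N R : Subgroup Γ} (hS : Setting ρ p A) (hP : Pair A N R s r) :
    ∀ x ∈ N, ∀ y ∈ R, x * y = y * x := by
  have hp : p.Prime := Fact.out
  have hA := hS.ea
  intro x hx
  have hcopR : (Nat.card A).Coprime (Nat.card R) := hA.coprime_card hp hpr hP.hR
  apply gen_induction (P := fun y => x * y = y * x) hA hP.AR hcopR
  · rw [mul_one, one_mul]
  · intro y y' hy hy'
    rw [← mul_assoc, hy, mul_assoc, hy', mul_assoc]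
  · intro β hβ hβ1 y hy hβy
    set R₀ : Subgroup Γ := R ⊓ Subgroup.centralizer ({β} : Set Γ) with hR₀
    have hP₀ : Pair A N R₀ s r :=
      { hN := hP.hN
        hR := hP.hR.to_le inf_le_left
        AN := hP.AN
        AR := fun a ha => mem_normalizer_inf (hP.AR ha)
          (mem_normalizer_centralizer_of_comm (hA.comm a ha β hβ))
        RN := fun a ha => hP.RN ha.1
        fixN := hP.fixN
        fixR := fun z hz => hP.fixR z hz.1 }
    exact pair_of_centralized hps hpr hsr hsK hS hP₀ hβ hβ1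
      (fun z hz => Subgroup.mem_centralizer_singleton_iff.1 hz.2) x hx y
      ⟨hy, Subgroup.mem_centralizer_singleton_iff.2 hβy.symm⟩

end Main

end Cfsg.Agent.Lib.Helper56.Ward
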