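import Cfsg.Agent.Lib.Helper56.FrobPre
import Cfsg.Agent.Lib.Helper56.FrobFBInd
import Cfsg.Agent.Lib.Helper56.ShultPrime
import Cfsg.Agent.Lib.Helper56.WardMain

/-!
# Weight space lemmas for the Frobenius pair lemma
-/

set_option autoImplicit false
set_option linter.unusedSectionVars false
set_option linter.style.haveILetI false

open scoped commutatorElement

namespace Cfsg.Agent.Lib.Helper56.FrobL

open Module
open Cfsg.Agent.Lib.Helper56
open Cfsg.Agent.Lib.Helper56.HH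
open Cfsg.Agent.Lib.Helper56.HHB
open Cfsg.Agent.Lib.Helper56.Ward

universe u uK uW

section Sums

variable {K : Type uK} [Field K] {W : Type uW} [AddCommGroup W] [Module K W]
variable {Γ : Type u} [Group Γ]

theorem zpowers_fix (ρ : Γ →* Module.End K W) {g : Γ} {w : W} (h : ρ g w = w) :
    ∀ e ∈ Subgroup.zpowers g, ρ e w = w := by
  intro e he
  have h1 : Subgroup.zpowers g ≤ fixV ρ w := by
    rw [Subgroup.zpowers_le]; exact h
  exact h1 he

theorem zpowers_comm {g x : Γ} (h : g * x = x * g) :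
    ∀ e ∈ Subgroup.zpowers g, e * x = x * e := by
  intro e he
  have h1 : Subgroup.zpowers g ≤ Subgroup.centralizer ({x} : Set Γ) := by
    rw [Subgroup.zpowers_le]
    exact Subgroup.mem_centralizer_singleton_iff.2 h
  exact Subgroup.mem_centralizer_singleton_iff.1 (h1 he)

variable [Finite Γ]

/-- a weight vector whose sum of translates under the subgroup `A₀` vanishes: some nonidentity
element of `A₀` fixes the weight -/
theorem exists_fix_of_sum_zero {ρ : Γ →* Module.End K W} (A₀ : Subgroup Γ) [Fintype A₀]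
    {Z : Subgroup Γ} (hcomm : ∀ i j : Z, Commute (ρ (i : Γ)) (ρ (j : Γ)))
    (hAZ : A₀ ≤ Subgroup.normalizer (Z : Set Γ)) {χ : Γ → K} {w : W}
    (hw : w ∈ wtS ρ Z χ) (hw0 : w ≠ 0) (hsum : ∑ a : A₀, ρ (a : Γ) w = 0) :
    ∃ c ∈ A₀, c ≠ 1 ∧ FixW Z c χ := by
  classical
  by_contra hcon
  push Not at hcon
  let f : Z → Module.End K W := fun z => ρ (z : Γ)
  let ψ : A₀ → (Z → K) := fun a z => cj (a : Γ) χ (z : Γ)
  have hψ : Function.Injective ψ := by
    intro a a' haa'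
    by_contra hne
    have hγA : (a' : Γ)⁻¹ * a ∈ A₀ := A₀.mul_mem (A₀.inv_mem a'.2) a.2
    have hγ1 : (a' : Γ)⁻¹ * a ≠ 1 := by
      intro h
      apply hne
      apply Subtype.ext
      have : (a : Γ) = a' := by
        have := congrArg (fun z => (a' : Γ) * z) h
        simpa using this
      exact this
    apply hcon _ hγA hγ1
    intro z hz
    have hz' : (a' : Γ) * z * (a' : Γ)⁻¹ ∈ Z := conj_mem_of_normalizer (hAZ a'.2) hz
    have h1 := congrFun haa' ⟨_, hz'⟩
    simp only [ψ, cj_apply] at h1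
    have h2 : ((a' : Γ)⁻¹ * a)⁻¹ * z * ((a' : Γ)⁻¹ * a) =
        (a : Γ)⁻¹ * ((a' : Γ) * z * (a' : Γ)⁻¹) * a := by group
    have h3 : (a' : Γ)⁻¹ * ((a' : Γ) * z * (a' : Γ)⁻¹) * a' = z := by group
    rw [h2, h1, h3]
  have hind := (iSupIndep_wt f hcomm).comp hψ
  rw [iSupIndep_iff_finsetSum_eq_zero_imp_eq_zero] at hind
  have h0 := hind Finset.univ (fun a => ρ (a : Γ) w)
    (fun a _ => map_wtS ρ (hAZ a.2) hw) hsum 1 (Finset.mem_univ _)
  apply hw0
  have h1 : ρ ((1 : A₀) : Γ) w = w := by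
    rw [Subgroup.coe_one]; exact rho_one_apply ρ w
  rw [← h1]
  exact h0

/-- the sum of the translates is fixed by the subgroup -/
theorem rho_sumG_fixed (ρ : Γ →* Module.End K W) (A₀ : Subgroup Γ) [Fintype A₀] (w : W) :
    ∀ a ∈ A₀, ρ a (∑ g : A₀, ρ (g : Γ) w) = ∑ g : A₀, ρ (g : Γ) w := by
  intro a ha
  rw [map_sum]
  exact Fintype.sum_equiv (Equiv.mulLeft (⟨a, ha⟩ : A₀)) _ _
    (fun b => by rw [← rho_mul_apply]; rfl)

/-- the sum of the translates is fixed by a normalizing element fixing the vector -/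
theorem rho_sumG_conj (ρ : Γ →* Module.End K W) (A₀ : Subgroup Γ) [Fintype A₀] (w : W) {t : Γ}
    (ht : t ∈ Subgroup.normalizer (A₀ : Set Γ)) (htw : ρ t w = w) :
    ρ t (∑ g : A₀, ρ (g : Γ) w) = ∑ g : A₀, ρ (g : Γ) w := by
  rw [map_sum]
  apply Fintype.sum_equiv (conjPerm A₀ t ht)
  intro g
  rw [conjPerm_apply]
  have h1 : t * (g : Γ) * t⁻¹ * t = t * g := by group
  calc ρ t (ρ (g : Γ) w) = ρ (t * g) w := (rho_mul_apply ρ t g w).symm
    _ = ρ (t * (g : Γ) * t⁻¹ * t) w := by rw [h1]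
    _ = ρ (t * (g : Γ) * t⁻¹) (ρ t w) := rho_mul_apply ρ _ t w
    _ = ρ (t * (g : Γ) * t⁻¹) w := by rw [htw]

/-- the sum of the translates is fixed by an element whose conjugates fix the vector -/
theorem rho_sumG_fix_of (ρ : Γ →* Module.End K W) (A₀ : Subgroup Γ) [Fintype A₀] (w : W) {t : Γ}
    (htw : ∀ g ∈ A₀, ρ (g⁻¹ * t * g) w = w) :
    ρ t (∑ g : A₀, ρ (g : Γ) w) = ∑ g : A₀, ρ (g : Γ) w := by
  rw [map_sum]
  apply Finset.sum_congr rfl
  intro g _
  have h1 : t * (g : Γ) = g * ((g : Γ)⁻¹ * t * g) := by group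
  rw [← rho_mul_apply, h1, rho_mul_apply, htw g g.2]

/-- conjugating the stabilizer of a weight -/
theorem mem_stabW_cj {Z : Subgroup Γ} {χ : Γ → K} {g y : Γ}
    (hy : y ∈ Subgroup.normalizer (Z : Set Γ)) :
    g ∈ stabW Z (cj y χ) ↔ y⁻¹ * g * y ∈ stabW Z χ := by
  rw [mem_stabW, mem_stabW]
  have hyi : y⁻¹ ∈ Subgroup.normalizer (Z : Set Γ) := Subgroup.inv_mem _ hy
  constructor
  · rintro ⟨h1, h2⟩
    refine ⟨Subgroup.mul_mem _ (Subgroup.mul_mem _ hyi h1) hy, ?_⟩
    intro z hz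
    have h3 := h2 _ (conj_mem_of_normalizer hy hz)
    simp only [cj_apply] at h3
    have e1 : y⁻¹ * (g⁻¹ * (y * z * y⁻¹) * g) * y = (y⁻¹ * g * y)⁻¹ * z * (y⁻¹ * g * y) := by group
    have e2 : y⁻¹ * (y * z * y⁻¹) * y = z := by group
    rw [e1, e2] at h3
    exact h3
  · rintro ⟨h1, h2⟩
    have hg : g ∈ Subgroup.normalizer (Z : Set Γ) := by
      have h3 := Subgroup.mul_mem _ (Subgroup.mul_mem _ hy h1) hyi
      have e : y * (y⁻¹ * g * y) * y⁻¹ = g := by group
      rwa [e] at h3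
    refine ⟨hg, ?_⟩
    intro z hz
    simp only [cj_apply]
    have h3 := h2 _ (conj_inv_mem_of_normalizer hy hz)
    have e1 : (y⁻¹ * g * y)⁻¹ * (y⁻¹ * z * y) * (y⁻¹ * g * y) = y⁻¹ * (g⁻¹ * z * g) * y := by group
    rw [e1] at h3
    exact h3

theorem central_mem_stabW {Z : Subgroup Γ} (χ : Γ → K) {x : Γ} (h : ∀ z ∈ Z, x * z = z * x) :
    x ∈ stabW Z χ := by
  rw [mem_stabW]
  have hx : x ∈ Subgroup.normalizer (Z : Set Γ) := by
    apply mem_normalizer_of_conj
    intro z hz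
    have : x * z * x⁻¹ = z := by rw [h z hz]; group
    rw [this]; exact hz
  refine ⟨hx, ?_⟩
  intro z hz
  have : x⁻¹ * z * x = z := by rw [mul_assoc, ← h z hz]; group
  rw [this]

end Sums

section Weights

variable {K : Type uK} [Field K] [IsAlgClosed K] {W : Type uW} [AddCommGroup W] [Module K W]
  [FiniteDimensional K W]
variable {Γ : Type u} [Group Γ] [Finite Γ]

/-- an element fixing all occurring weights of the abelian `s`-group `Z` centralizes it -/
theorem commute_of_fix_all {ρ : Γ →* Module.End K W} (hinj : Function.Injective ρ) {s : ℕ}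
    [Fact s.Prime] (hsK : (s : K) ≠ 0) {Z : Subgroup Γ} (hZs : IsPGroup s Z)
    (hZab : ∀ a ∈ Z, ∀ b ∈ Z, a * b = b * a) {g : Γ}
    (hg : g ∈ Subgroup.normalizer (Z : Set Γ))
    (hfix : ∀ χ : Γ → K, wtS ρ Z χ ≠ ⊥ → FixW Z g χ) : ∀ z ∈ Z, g * z = z * g := by
  have hcommZ := famS_commute ρ Z hZab
  have hssZ := famS_semisimple ρ Z s hZs hsK
  have htopZ := iSup_wtS_eq_top ρ Z hcommZ hssZ
  intro z hz
  have h1 : g⁻¹ * z * g = z := by
    apply hinj
    apply ext_of_wtS ρ htopZ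
    intro χ w hw
    by_cases hw0 : w = 0
    · rw [hw0, map_zero, map_zero]
    have hne : wtS ρ Z χ ≠ ⊥ := (Submodule.ne_bot_iff _).2 ⟨w, hw, hw0⟩
    rw [(mem_wtS ρ).1 hw _ (conj_inv_mem_of_normalizer hg hz), (mem_wtS ρ).1 hw z hz,
      hfix χ hne z hz]
  calc g * z = g * (g⁻¹ * z * g) := by rw [h1]
    _ = z * g := by group

/-- a nontrivial abelian `s`-subgroup has an occurring weight which is nontrivial on it -/
theorem exists_nontrivial_weight {ρ : Γ →* Module.End K W} (hinj : Function.Injective ρ) {s : ℕ}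
    [Fact s.Prime] (hsK : (s : K) ≠ 0) {Z : Subgroup Γ} (hZs : IsPGroup s Z)
    (hZab : ∀ a ∈ Z, ∀ b ∈ Z, a * b = b * a) (hZne : Z ≠ ⊥) :
    ∃ χ : Γ → K, ∃ w ∈ wtS ρ Z χ, w ≠ 0 ∧ ∃ z ∈ Z, χ z ≠ 1 := by
  have hcommZ := famS_commute ρ Z hZab
  have hssZ := famS_semisimple ρ Z s hZs hsK
  have htopZ := iSup_wtS_eq_top ρ Z hcommZ hssZ
  by_contra hcon
  push Not at hcon
  apply hZne
  rw [eq_bot_iff]
  intro z hz
  rw [Subgroup.mem_bot]
  apply hinj
  rw [map_one]
  apply ext_of_wtS ρ htopZ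
  intro χ w hw
  rw [Module.End.one_apply]
  by_cases hw0 : w = 0
  · rw [hw0, map_zero]
  rw [(mem_wtS ρ).1 hw z hz, hcon χ w hw hw0 z hz, one_smul]

omit [IsAlgClosed K] [FiniteDimensional K W] in
/-- a fixed point free element moves the nontrivial weights -/
theorem moved_of_fpf {ρ : Γ →* Module.End K W} {Z : Subgroup Γ} {g : Γ}
    (hg : g ∈ Subgroup.normalizer (Z : Set Γ)) (hfpf : ∀ z ∈ Z, g * z = z * g → z = 1)
    {χ : Γ → K} {w : W} (hw : w ∈ wtS ρ Z χ) (hw0 : w ≠ 0) {z₀ : Γ} (hz₀ : z₀ ∈ Z)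
    (hχ : χ z₀ ≠ 1) : ¬ FixW Z g χ := by
  intro hfix
  set σ : MulAut ↥Z := conjMul Z g hg with hσ
  have hσfpf : ∀ z : ↥Z, σ z = z → z = 1 := by
    intro z hz
    have h1 : g * (z : Γ) * g⁻¹ = z := congrArg Subtype.val hz
    apply Subtype.ext
    apply hfpf _ z.2
    calc g * (z : Γ) = g * z * g⁻¹ * g := by group
      _ = z * g := by rw [h1]
  have hsurj := Finite.surjective_of_injective (SG.fpf_inj σ hσfpf)
  obtain ⟨z, hz⟩ := hsurj ⟨z₀, hz₀⟩
  have hz' : (z : Γ)⁻¹ * (g * z * g⁻¹) = z₀ := congrArg Subtype.val hz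
  have hgz : g * (z : Γ) * g⁻¹ ∈ Z := conj_mem_of_normalizer hg z.2
  have h1 : χ (g * (z : Γ) * g⁻¹) = χ z := by
    have h2 := hfix _ hgz
    have e : g⁻¹ * (g * (z : Γ) * g⁻¹) * g = z := by group
    rw [e] at h2
    exact h2.symm
  apply hχ
  rw [← hz', chi_mul ρ hw hw0 (Z.inv_mem z.2) hgz, h1, ← chi_mul ρ hw hw0 (Z.inv_mem z.2) z.2,
    inv_mul_cancel, chi_one ρ hw hw0]

omit [IsAlgClosed K] [FiniteDimensional K W] in
/-- an occurring weight fixed by `a` is trivial on `[N, a]` -/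
theorem chi_trivial_on_commG {ρ : Γ →* Module.End K W} {N : Subgroup Γ} {a : Γ}
    (haN : a ∈ Subgroup.normalizer (N : Set Γ)) {χ : Γ → K} {w : W} (hw : w ∈ wtS ρ N χ)
    (hw0 : w ≠ 0) (hfix : FixW N a χ) : ∀ n ∈ commG N a, χ n = 1 := by
  have key : ∀ n ∈ commG N a, n ∈ N ∧ χ n = 1 := by
    intro n hn
    unfold commG at hn
    induction hn using Subgroup.closure_induction with
    | mem z hz =>
      obtain ⟨h, hh, rfl⟩ := hz
      have hc : a * h * a⁻¹ ∈ N := conj_mem_of_normalizer haN hh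
      refine ⟨N.mul_mem (N.inv_mem hh) hc, ?_⟩
      have h1 : χ (a * h * a⁻¹) = χ h := by
        have h2 := hfix _ hc
        have e : a⁻¹ * (a * h * a⁻¹) * a = h := by group
        rw [e] at h2
        exact h2.symm
      rw [chi_mul ρ hw hw0 (N.inv_mem hh) hc, h1, ← chi_mul ρ hw hw0 (N.inv_mem hh) hh,
        inv_mul_cancel, chi_one ρ hw hw0]
    | one => exact ⟨N.one_mem, chi_one ρ hw hw0⟩
    | mul x y _ _ hx hy =>
      exact ⟨N.mul_mem hx.1 hy.1, by rw [chi_mul ρ hw hw0 hx.1 hy.1, hx.2, hy.2, one_mul]⟩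
    | inv x _ hx =>
      refine ⟨N.inv_mem hx.1, ?_⟩
      have h1 := chi_mul ρ hw hw0 (N.inv_mem hx.1) hx.1
      rw [inv_mul_cancel, chi_one ρ hw hw0, hx.2, mul_one] at h1
      exact h1.symm
  exact fun n hn => (key n hn).2

end Weights

section Apply

variable {K : Type uK} [Field K] {W : Type uW} [AddCommGroup W] [Module K W]
variable {Γ : Type u} [Group Γ]

/-- restriction of `ρ` to a subgroup and an invariant submodule -/
def resQU (ρ : Γ →* Module.End K W) (Q : Subgroup Γ) (U : Submodule K W)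
    (h : ∀ e ∈ Q, ∀ w ∈ U, ρ e w ∈ U) : ↥Q →* Module.End K U :=
  resRep (ρ.comp Q.subtype) U (fun e w hw => h e e.2 w hw)

theorem resQU_apply (ρ : Γ →* Module.End K W) (Q : Subgroup Γ) (U : Submodule K W)
    (h : ∀ e ∈ Q, ∀ w ∈ U, ρ e w ∈ U) (e : Q) (u : U) :
    ((resQU ρ Q U h e u : U) : W) = ρ (e : Γ) (u : W) := rfl

/-- the fixed space of an element -/
def invS (ρ : Γ →* Module.End K W) (g : Γ) : Submodule K W where
  carrier := {w | ρ g w = w}
  add_mem' := by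
    intro x y hx hy
    show ρ g (x + y) = x + y
    rw [map_add, show ρ g x = x from hx, show ρ g y = y from hy]
  zero_mem' := map_zero _
  smul_mem' := by
    intro c x hx
    show ρ g (c • x) = c • x
    rw [map_smul, show ρ g x = x from hx]

theorem mem_invS {ρ : Γ →* Module.End K W} {g : Γ} {w : W} : w ∈ invS ρ g ↔ ρ g w = w := Iff.rfl

/-- the conjugation action of a subgroup on a subgroup it normalizes -/
def conjHom (N R : Subgroup Γ) (hRN : R ≤ Subgroup.normalizer (N : Set Γ)) :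
    ↥R →* MulAut ↥N where
  toFun := fun y => conjMul N (y : Γ) (hRN y.2)
  map_one' := by
    ext x
    rw [conjMul_apply]
    simp
  map_mul' := by
    intro y y'
    ext x
    rw [MulAut.mul_apply, conjMul_apply, conjMul_apply, conjMul_apply]
    simp only [Subgroup.coe_mul]
    group

theorem conjHom_apply (N R : Subgroup Γ) (hRN : R ≤ Subgroup.normalizer (N : Set Γ)) (y : R)
    (x : N) : ((conjHom N R hRN y x : N) : Γ) = y * x * (y : Γ)⁻¹ := rfl

end Apply

section ApplyMain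

variable {K : Type uK} [Field K] [IsAlgClosed K] {W : Type uW} [AddCommGroup W] [Module K W]
  [FiniteDimensional K W]
variable {Γ : Type u} [Group Γ] [Finite Γ]

/-- the linear Thompson lemma, applied -/
theorem lt_apply {ρ : Γ →* Module.End K W} {s c : ℕ} [Fact s.Prime] (hc : c.Prime)
    (hsK : (s : K) ≠ 0) {Q : Subgroup Γ} (hQ : IsPGroup s Q) {b : Γ}
    (hbQ : b ∈ Subgroup.normalizer (Q : Set Γ)) (hbc : b ^ c = 1)
    (hfpf : ∀ x ∈ Q, b * x = x * b → x = 1)
    (U : Submodule K W) (hUQ : ∀ x ∈ Q, ∀ w ∈ U, ρ x w ∈ U) (hUb : ∀ w ∈ U, ρ b w ∈ U)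
    (hfix : ∀ w ∈ U, ρ b w = w → w = 0) : ∀ x ∈ Q, ∀ w ∈ U, ρ x w = w := by
  set ρU : ↥Q →* Module.End K U := resQU ρ Q U hUQ with hρU
  set D : Module.End K U := (ρ b).restrict hUb with hD
  set τ : MulAut ↥Q := conjMul Q b hbQ with hτ
  have hDp : D ^ c = 1 := by
    apply LinearMap.ext
    intro u
    apply Subtype.ext
    rw [hD, restrict_pow_apply, ← map_pow, hbc, map_one]
    rfl
  have hτp : τ ^ c = 1 := by
    ext q
    rw [hτ, conjMul_pow_apply, hbc]
    simp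
  have hX : ∀ x : Q, D * ρU x = ρU (τ x) * D := by
    intro x
    apply LinearMap.ext
    intro u
    apply Subtype.ext
    show ρ b (ρ (x : Γ) (u : W)) = ρ (b * (x : Γ) * b⁻¹) (ρ b (u : W))
    rw [← rho_mul_apply, ← rho_mul_apply]
    congr 2
    group
  have hfpf' : ∀ q : Q, τ q = q → q = 1 := by
    intro q hq
    have hq' : b * (q : Γ) * b⁻¹ = q := congrArg Subtype.val hq
    apply Subtype.ext
    apply hfpf _ q.2
    calc b * (q : Γ) = b * q * b⁻¹ * b := by group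
      _ = q * b := by rw [hq']
  have hfix' : ∀ u : U, D u = u → u = 0 := by
    intro u hu
    apply Subtype.ext
    exact hfix _ u.2 (congrArg Subtype.val hu)
  have hres := linThompson s c hc hsK (Nat.card Q) ↥Q le_rfl hQ ρU τ D hDp hτp hX hfpf' hfix'
  intro x hx w hw
  have h1 := hres ⟨x, hx⟩
  exact congrArg (fun f : Module.End K U => ((f ⟨w, hw⟩ : U) : W)) h1

/-- Shult's theorem, applied -/
theorem core_apply {ρ : Γ →* Module.End K W} {s k : ℕ} [Fact s.Prime] [Fact k.Prime]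
    (hks : k ≠ s) (hsK : (s : K) ≠ 0) (hkK : (k : K) ≠ 0) {N : Subgroup Γ} (hN : IsPGroup s N)
    {a : Γ} (haN : a ∈ Subgroup.normalizer (N : Set Γ)) (hak : a ^ k = 1)
    (hexc : ∀ m : ℕ, 1 ≤ m → k ≠ s ^ m + 1)
    (U : Submodule K W) (hUN : ∀ x ∈ N, ∀ w ∈ U, ρ x w ∈ U) (hUa : ∀ w ∈ U, ρ a w ∈ U)
    (hfix : ∀ w ∈ U, ρ a w = w → w = 0) :
    ∀ x ∈ N, ∀ w ∈ U, ρ (a * x * a⁻¹) w = ρ x w := by
  set ρU : ↥N →* Module.End K U := resQU ρ N U hUN with hρU
  set D : Module.End K U := (ρ a).restrict hUa with hD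
  set β : MulAut ↥N := conjMul N a haN with hβ
  have hDp : D ^ k = 1 := by
    apply LinearMap.ext
    intro u
    apply Subtype.ext
    rw [hD, restrict_pow_apply, ← map_pow, hak, map_one]
    rfl
  have hX : ∀ x : N, D * ρU x = ρU (β x) * D := by
    intro x
    apply LinearMap.ext
    intro u
    apply Subtype.ext
    show ρ a (ρ (x : Γ) (u : W)) = ρ (a * (x : Γ) * a⁻¹) (ρ a (u : W))
    rw [← rho_mul_apply, ← rho_mul_apply]
    congr 2
    group
  have hfix' : ∀ u : U, D u = u → u = 0 := by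
    intro u hu
    apply Subtype.ext
    exact hfix _ u.2 (congrArg Subtype.val hu)
  have hres := ShultP.shultPrime s k hks hsK hkK hN ρU β D hDp hX hfix' hexc
  intro x hx w hw
  have h1 := hres ⟨x, hx⟩
  exact congrArg (fun f : Module.End K U => ((f ⟨w, hw⟩ : U) : W)) h1

/-- the Frobenius lemma, applied -/
theorem fb_apply {ρ : Γ →* Module.End K W} {s c : ℕ} [Fact s.Prime] (hc : c.Prime) (hsc : s ≠ c)
    (hsK : (s : K) ≠ 0) (hcK : (c : K) ≠ 0) {N R : Subgroup Γ} (hN : IsPGroup s N)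
    (hRs : (Nat.card R).Coprime s) (hRN : R ≤ Subgroup.normalizer (N : Set Γ)) {b : Γ}
    (hbN : b ∈ Subgroup.normalizer (N : Set Γ)) (hbR : b ∈ Subgroup.normalizer (R : Set Γ))
    (hbc : b ^ c = 1) (hfpfR : ∀ y ∈ R, b * y = y * b → y = 1)
    (hab : ∀ y ∈ R, ∀ y' ∈ R, ∀ x ∈ N, (y * y') * x * (y * y')⁻¹ = (y' * y) * x * (y' * y)⁻¹)
    (U : Submodule K W) (hUN : ∀ x ∈ N, ∀ w ∈ U, ρ x w ∈ U)
    (hUR : ∀ y ∈ R, ∀ w ∈ U, ρ y w ∈ U) (hUb : ∀ w ∈ U, ρ b w ∈ U)
    (hfix : ∀ w ∈ U, ρ b w = w → w = 0) :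
    ∀ y ∈ R, ∀ x ∈ N, ∀ w ∈ U, ρ (y * x * y⁻¹) w = ρ x w := by
  set ρU : ↥N →* Module.End K U := resQU ρ N U hUN with hρU
  set T : ↥R →* Module.End K U := resQU ρ R U hUR with hT
  set D : Module.End K U := (ρ b).restrict hUb with hD
  set β : MulAut ↥N := conjMul N b hbN with hβ
  set θ : MulAut ↥R := conjMul R b hbR with hθ
  set ψ : ↥R →* MulAut ↥N := conjHom N R hRN with hψ
  have hdata : FrobFB.FBData c θ ρU ψ β T D :=
    { Dc := by
        apply LinearMap.ext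
        intro u
        apply Subtype.ext
        rw [hD, restrict_pow_apply, ← map_pow, hbc, map_one]
        rfl
      βc := by
        ext q
        rw [hβ, conjMul_pow_apply, hbc]
        simp
      hD := by
        intro x
        apply LinearMap.ext
        intro u
        apply Subtype.ext
        show ρ b (ρ (x : Γ) (u : W)) = ρ (b * (x : Γ) * b⁻¹) (ρ b (u : W))
        rw [← rho_mul_apply, ← rho_mul_apply]
        congr 2
        group
      hT := by
        intro y x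
        apply LinearMap.ext
        intro u
        apply Subtype.ext
        show ρ (y : Γ) (ρ (x : Γ) (u : W)) = ρ ((y : Γ) * (x : Γ) * (y : Γ)⁻¹) (ρ (y : Γ) (u : W))
        rw [← rho_mul_apply, ← rho_mul_apply]
        congr 2
        group
      βψ := by
        intro y
        ext x
        show b * ((y : Γ) * (b⁻¹ * (x : Γ) * b) * (y : Γ)⁻¹) * b⁻¹ =
          (b * (y : Γ) * b⁻¹) * (x : Γ) * (b * (y : Γ) * b⁻¹)⁻¹
        group
      ab := by
        intro y y'
        ext x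
        show (y : Γ) * ((y' : Γ) * (x : Γ) * (y' : Γ)⁻¹) * (y : Γ)⁻¹ =
          (y' : Γ) * ((y : Γ) * (x : Γ) * (y : Γ)⁻¹) * (y' : Γ)⁻¹
        have h1 := hab y y.2 y' y'.2 x x.2
        calc (y : Γ) * ((y' : Γ) * (x : Γ) * (y' : Γ)⁻¹) * (y : Γ)⁻¹
            = ((y : Γ) * y') * x * ((y : Γ) * y')⁻¹ := by group
          _ = ((y' : Γ) * y) * x * ((y' : Γ) * y)⁻¹ := h1
          _ = _ := by group
      fix := by
        intro u hu
        apply Subtype.ext
        exact hfix _ u.2 (congrArg Subtype.val hu) }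
  have hθfpf : ∀ y : ↥R, θ y = y → y = 1 := by
    intro y hy
    have hy' : b * (y : Γ) * b⁻¹ = y := congrArg Subtype.val hy
    apply Subtype.ext
    apply hfpfR _ y.2
    calc b * (y : Γ) = b * y * b⁻¹ * b := by group
      _ = y * b := by rw [hy']
  have hres := FrobFB.lemmaFB hc hsc hsK hcK hRs hθfpf hN hdata
  intro y hy x hx w hw
  have h1 := hres ⟨y, hy⟩ ⟨x, hx⟩
  exact congrArg (fun f : Module.End K U => ((f ⟨w, hw⟩ : U) : W)) h1

end ApplyMain

end Cfsg.Agent.Lib.Helper56.FrobL
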