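import Mathlib
import Cfsg.Prelude.Def_Solvable

/-!
K-GAG leaf G10 `lift_involution` (pack for S4839): an involution of `G/N` inverting a nontrivial
element of odd order lifts to an involution of `G` outside the normal `2`-subgroup `N`, when
nontrivial odd-order elements act fixed-point-freely on `N`.  Route without Schur–Zassenhaus
conjugacy: a fixed-point-free `x` makes `n ↦ n⁻¹ x n x⁻¹` a bijection of `N`.
-/

set_option autoImplicit false

namespace Cfsg.Agent.Lib.Helper56.Gag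

variable {G : Type*} [Group G] [Finite G]

theorem lift_involution (N : Subgroup G) [N.Normal] (hN2 : IsPGroup 2 N)
    (u : G) (hu : u ∉ N) (hu2 : u * u ∈ N)
    (xb : G ⧸ N) (hxb1 : xb ≠ 1) (hodd : Odd (orderOf xb))
    (hinv : (u : G ⧸ N) * xb * (u : G ⧸ N)⁻¹ = xb⁻¹)
    (hfpf : ∀ y : G, y ≠ 1 → Odd (orderOf y) → ∀ n ∈ N, y * n = n * y → n = 1) :
    ∃ s : G, s ∉ N ∧ s * s = 1 := by
  obtain ⟨x0, rfl⟩ := QuotientGroup.mk_surjective xb
  obtain ⟨j, hj⟩ := IsPGroup.iff_card.1 hN2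
  set k := orderOf (x0 : G ⧸ N) with hk
  set c := Nat.card N with hc
  -- the lift of odd order
  set x : G := x0 ^ c with hx
  have hx0k : x0 ^ k ∈ N := by
    rw [← QuotientGroup.eq_one_iff, QuotientGroup.mk_pow, hk, pow_orderOf_eq_one]
  have hxk : x ^ k = 1 := by
    rw [hx, ← pow_mul, mul_comm, pow_mul]
    have h1 : (⟨x0 ^ k, hx0k⟩ : N) ^ Nat.card N = 1 := pow_card_eq_one'
    have h2 : (((⟨x0 ^ k, hx0k⟩ : N) ^ Nat.card N : N) : G) = ((1 : N) : G) := congrArg Subtype.val h1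
    rw [Subgroup.coe_pow, Subgroup.coe_one] at h2
    exact h2
  have hxodd : Odd (orderOf x) := Odd.of_dvd_nat hodd (orderOf_dvd_of_pow_eq_one hxk)
  have hXimg : ((x : G) : G ⧸ N) = (x0 : G ⧸ N) ^ c := by
    rw [hx, QuotientGroup.mk_pow]
  have hX1 : (x0 : G ⧸ N) ^ c ≠ 1 := by
    intro h
    have hdvd : k ∣ c := orderOf_dvd_of_pow_eq_one h
    rw [hj] at hdvd
    have hcop : Nat.Coprime k (2 ^ j) := (Nat.Coprime.pow_right j hodd.coprime_two_right)
    have hk1 : k = 1 := Nat.Coprime.eq_one_of_dvd hcop hdvd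
    exact hxb1 (orderOf_eq_one_iff.1 hk1)
  have hx1 : x ≠ 1 := by
    intro h
    apply hX1
    rw [← hXimg, h]
    rfl
  -- the image is inverted
  have hXinv : (u : G ⧸ N) * ((x : G) : G ⧸ N) * (u : G ⧸ N)⁻¹ = ((x : G) : G ⧸ N)⁻¹ := by
    rw [hXimg, ← conj_pow, hinv, inv_pow]
  -- w = u x⁻¹ u⁻¹ lies in N x
  have hw : u * x⁻¹ * u⁻¹ * x⁻¹ ∈ N := by
    rw [← QuotientGroup.eq_one_iff]
    have h1 : ((u * x⁻¹ * u⁻¹ * x⁻¹ : G) : G ⧸ N) =
        ((u : G ⧸ N) * ((x : G) : G ⧸ N) * (u : G ⧸ N)⁻¹)⁻¹ * ((x : G) : G ⧸ N)⁻¹ := by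
      simp only [QuotientGroup.mk_mul, QuotientGroup.mk_inv]
      group
    rw [h1, hXinv, inv_inv, mul_inv_cancel]
  -- the bijection n ↦ n⁻¹ x n x⁻¹ of N
  let f : N → N := fun n => ⟨(n : G)⁻¹ * x * n * x⁻¹, by
    have h1 : x * (n : G) * x⁻¹ ∈ N := Subgroup.Normal.conj_mem inferInstance _ n.2 x
    have h2 : (n : G)⁻¹ * x * n * x⁻¹ = (n : G)⁻¹ * (x * n * x⁻¹) := by group
    rw [h2]
    exact N.mul_mem (N.inv_mem n.2) h1⟩
  have hfinj : Function.Injective f := by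
    intro n m hnm
    have h1 : (n : G)⁻¹ * x * n * x⁻¹ = (m : G)⁻¹ * x * m * x⁻¹ := congrArg Subtype.val hnm
    have h2 : (n : G)⁻¹ * x * n = (m : G)⁻¹ * x * m := mul_right_cancel h1
    have h3 : x * ((m : G) * (n : G)⁻¹) = ((m : G) * (n : G)⁻¹) * x := by
      have : (m : G) * ((n : G)⁻¹ * x * n) * (n : G)⁻¹ = (m : G) * ((m : G)⁻¹ * x * m) * (n : G)⁻¹ := by
        rw [h2]
      have e1 : (m : G) * ((n : G)⁻¹ * x * n) * (n : G)⁻¹ = ((m : G) * (n : G)⁻¹) * x := by group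
      have e2 : (m : G) * ((m : G)⁻¹ * x * m) * (n : G)⁻¹ = x * ((m : G) * (n : G)⁻¹) := by group
      rw [e1, e2] at this
      exact this.symm
    have h4 := hfpf x hx1 hxodd ((m : G) * (n : G)⁻¹) (N.mul_mem m.2 (N.inv_mem n.2)) h3
    apply Subtype.ext
    have : (m : G) = n := by
      have := mul_inv_eq_one.1 h4
      exact this
    exact this.symm
  have hfsurj : Function.Surjective f := Finite.injective_iff_surjective.1 hfinj
  obtain ⟨n, hn⟩ := hfsurj ⟨u * x⁻¹ * u⁻¹ * x⁻¹, hw⟩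
  have hn1 : (n : G)⁻¹ * x * n * x⁻¹ = u * x⁻¹ * u⁻¹ * x⁻¹ := congrArg Subtype.val hn
  have hn2 : (n : G)⁻¹ * x * n = u * x⁻¹ * u⁻¹ := mul_right_cancel hn1
  -- the involution
  refine ⟨(n : G) * u, ?_, ?_⟩
  · intro h
    apply hu
    have : u = (n : G)⁻¹ * ((n : G) * u) := by group
    rw [this]
    exact N.mul_mem (N.inv_mem n.2) h
  · set s : G := (n : G) * u with hs
    have hs1 : s * x⁻¹ * s⁻¹ = x := by
      have : s * x⁻¹ * s⁻¹ = (n : G) * (u * x⁻¹ * u⁻¹) * (n : G)⁻¹ := by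
        rw [hs]; group
      rw [this, ← hn2]
      group
    have hs2 : s * x * s⁻¹ = x⁻¹ := by
      have : s * x * s⁻¹ = (s * x⁻¹ * s⁻¹)⁻¹ := by group
      rw [this, hs1]
    have hcomm : x * (s * s) = (s * s) * x := by
      have h1 : (s * s) * x * (s * s)⁻¹ = s * (s * x * s⁻¹) * s⁻¹ := by group
      rw [hs2, hs1] at h1
      exact (mul_inv_eq_iff_eq_mul.1 h1).symm
    have hmem : s * s ∈ N := by
      have h1 : s * s = (n : G) * (u * n * u⁻¹) * (u * u) := by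
        rw [hs]; group
      rw [h1]
      exact N.mul_mem (N.mul_mem n.2 (Subgroup.Normal.conj_mem inferInstance _ n.2 u)) hu2
    exact hfpf x hx1 hxodd (s * s) hmem hcomm

end Cfsg.Agent.Lib.Helper56.Gag
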