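import Cfsg.Agent.Lib.Helper56.GrossSG2b

/-!
# Base change of the automorphisms of an elementary abelian group to the algebraic closure
-/

set_option autoImplicit false
set_option linter.unusedSectionVars false
set_option linter.style.haveILetI false

namespace Cfsg.Agent.Lib.Helper56.Gross

open Module TensorProduct

section BC

variable (v : ℕ) [Fact v.Prime] (N : Type*) [CommGroup N] [Finite N]
  [Module (ZMod v) (Additive N)]

/-- the algebraic closure of the prime field -/
abbrev bcL : Type := AlgebraicClosure (ZMod v)

/-- the base change of an elementary abelian group -/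
abbrev bcW : Type _ := bcL v ⊗[ZMod v] Additive N

/-- an automorphism as a linear map over the prime field -/
noncomputable def linHom : MulAut N →* Module.End (ZMod v) (Additive N) where
  toFun f := (MonoidHom.toAdditive f.toMonoidHom).toZModLinearMap v
  map_one' := by
    apply LinearMap.ext
    intro x
    simp
  map_mul' f g := by
    apply LinearMap.ext
    intro x
    simp

theorem linHom_apply (f : MulAut N) (x : Additive N) :
    linHom v N f x = Additive.ofMul (f (Additive.toMul x)) := rfl

theorem linHom_injective : Function.Injective (linHom v N) := by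
  intro f g hfg
  ext a
  have := congrArg (fun h : Module.End (ZMod v) (Additive N) => h (Additive.ofMul a)) hfg
  exact congrArg Additive.toMul this

/-- the base change homomorphism -/
noncomputable def bcEnd : Module.End (ZMod v) (Additive N) →* Module.End (bcL v) (bcW v N) :=
  (Module.End.baseChangeHom (ZMod v) (bcL v) (Additive N) :
    Module.End (ZMod v) (Additive N) →* Module.End (bcL v) (bcW v N))

theorem bcEnd_injective : Function.Injective (bcEnd v N) := by
  intro f g hfg
  exact LinearMap.baseChangeHom_injective (ZMod v) (Additive N) (bcL v) hfg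

theorem bcEnd_apply (f : Module.End (ZMod v) (Additive N)) :
    bcEnd v N f = LinearMap.baseChange (bcL v) f := rfl

/-- automorphisms as units of the endomorphism ring of the base change -/
noncomputable def bcHom : MulAut N →* (Module.End (bcL v) (bcW v N))ˣ :=
  ((bcEnd v N).comp (linHom v N)).toHomUnits

theorem bcHom_val (f : MulAut N) :
    ((bcHom v N f : (Module.End (bcL v) (bcW v N))ˣ) : Module.End (bcL v) (bcW v N)) =
      bcEnd v N (linHom v N f) := rfl

theorem bcHom_injective : Function.Injective (bcHom v N) := by
  intro f f' h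
  apply linHom_injective v N
  apply bcEnd_injective v N
  rw [← bcHom_val, ← bcHom_val, h]

theorem bcL_natCast_ne_zero (k : ℕ) (hk : ¬ v ∣ k) : (k : bcL v) ≠ 0 := by
  intro h0
  have h1 : (k : ZMod v) ≠ 0 := fun h => hk ((ZMod.natCast_eq_zero_iff k v).1 h)
  apply h1
  have : algebraMap (ZMod v) (bcL v) (k : ZMod v) = 0 := by rw [map_natCast]; exact h0
  exact (map_eq_zero_iff (algebraMap (ZMod v) (bcL v)) (algebraMap (ZMod v) (bcL v)).injective).1
    this

theorem bcL_prime_ne_zero (q : ℕ) [Fact q.Prime] (hvq : v ≠ q) : (q : bcL v) ≠ 0 :=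
  bcL_natCast_ne_zero v q (fun h =>
    hvq ((Nat.prime_dvd_prime_iff_eq (Fact.out : v.Prime) (Fact.out : q.Prime)).1 h))

instance bcW_finite : FiniteDimensional (bcL v) (bcW v N) := by
  haveI : Finite (Additive N) := inferInstanceAs (Finite N)
  haveI : FiniteDimensional (ZMod v) (Additive N) := Module.Finite.of_finite
  infer_instance

/-- a fixed vector of the base change descends -/
theorem exists_fixed_of_bcHom (ξ : MulAut N) (w : bcW v N) (hw0 : w ≠ 0)
    (hw : ((bcHom v N ξ : (Module.End (bcL v) (bcW v N))ˣ) : Module.End (bcL v) (bcW v N)) w = w) :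
    ∃ a : N, a ≠ 1 ∧ ξ a = a := by
  haveI : Finite (Additive N) := inferInstanceAs (Finite N)
  haveI : FiniteDimensional (ZMod v) (Additive N) := Module.Finite.of_finite
  by_contra hno
  push Not at hno
  have hinj : Function.Injective ⇑((linHom v N ξ : Module.End (ZMod v) (Additive N)) - 1) := by
    rw [← LinearMap.ker_eq_bot, LinearMap.ker_eq_bot']
    intro m hm
    rw [LinearMap.sub_apply, Module.End.one_apply, sub_eq_zero] at hm
    by_contra hm0
    have h5 : Additive.toMul m ≠ 1 := fun h => hm0 (congrArg Additive.ofMul h)
    apply hno _ h5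
    have := congrArg Additive.toMul hm
    rwa [linHom_apply] at this
  have hunit : IsUnit ((linHom v N ξ : Module.End (ZMod v) (Additive N)) - 1) :=
    (Module.End.isUnit_iff _).2 ⟨hinj, LinearMap.surjective_of_injective hinj⟩
  have hunit' : IsUnit (bcEnd v N ((linHom v N ξ : Module.End (ZMod v) (Additive N)) - 1)) :=
    hunit.map (bcEnd v N)
  have hbcsub : bcEnd v N ((linHom v N ξ : Module.End (ZMod v) (Additive N)) - 1) =
      bcEnd v N (linHom v N ξ) - 1 := by
    show LinearMap.baseChange (bcL v) ((linHom v N ξ : Module.End (ZMod v) (Additive N)) - 1) =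
      LinearMap.baseChange (bcL v) (linHom v N ξ : Module.End (ZMod v) (Additive N)) - 1
    rw [LinearMap.baseChange_sub, LinearMap.baseChange_one]
  rw [hbcsub] at hunit'
  have hinj' := ((Module.End.isUnit_iff _).1 hunit').1
  apply hw0
  apply hinj'
  rw [map_zero, LinearMap.sub_apply, Module.End.one_apply, sub_eq_zero, ← bcHom_val]
  exact hw

/-- the rank of `ξ - 1` after base change -/
theorem finrank_range_bcHom_le (ξ : MulAut N) (B : Subgroup N) (hB : ∀ a : N, ξ a * a⁻¹ ∈ B)
    (k : ℕ) (hBk : Nat.card B ≤ v ^ k) :
    Module.finrank (bcL v) (LinearMap.range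
      (((bcHom v N ξ : (Module.End (bcL v) (bcW v N))ˣ) : Module.End (bcL v) (bcW v N)) - 1)) ≤
      k := by
  classical
  have hv : v.Prime := Fact.out
  haveI : Finite (Additive N) := inferInstanceAs (Finite N)
  haveI : FiniteDimensional (ZMod v) (Additive N) := Module.Finite.of_finite
  set f : Module.End (ZMod v) (Additive N) := linHom v N ξ - 1 with hf
  set R := LinearMap.range f with hR
  -- the range injects into `B`
  have hRB : ∀ x : R, Additive.toMul (x : Additive N) ∈ B := by
    rintro ⟨_, ⟨y, rfl⟩⟩
    have h1 := hB (Additive.toMul y)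
    have h2 : Additive.toMul (f y) = ξ (Additive.toMul y) * (Additive.toMul y)⁻¹ := by
      rw [hf, LinearMap.sub_apply, Module.End.one_apply, linHom_apply, toMul_sub, div_eq_mul_inv]
      rfl
    show Additive.toMul (f y) ∈ B
    rw [h2]
    exact h1
  have hcard : Nat.card R ≤ Nat.card B := by
    apply Nat.card_le_card_of_injective (fun x : R => (⟨Additive.toMul (x : Additive N), hRB x⟩ : B))
    intro x y hxy
    apply Subtype.ext
    have := congrArg Subtype.val hxy
    exact this
  have hRcard : Nat.card R = v ^ Module.finrank (ZMod v) R := by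
    rw [Module.natCard_eq_pow_finrank (K := ZMod v) (V := R), Nat.card_zmod]
  have hfr : Module.finrank (ZMod v) R ≤ k := by
    have h1 : v ^ Module.finrank (ZMod v) R ≤ v ^ k := by
      rw [← hRcard]; exact hcard.trans hBk
    exact (Nat.pow_le_pow_iff_right hv.one_lt).1 h1
  -- factor through the range
  have hfac : f = R.subtype ∘ₗ f.rangeRestrict := by
    apply LinearMap.ext
    intro x
    rfl
  have hbc : ((bcHom v N ξ : (Module.End (bcL v) (bcW v N))ˣ) : Module.End (bcL v) (bcW v N)) - 1 =
      LinearMap.baseChange (bcL v) f := by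
    rw [hf, LinearMap.baseChange_sub, LinearMap.baseChange_one, bcHom_val, bcEnd_apply]
  rw [hbc, hfac, LinearMap.baseChange_comp]
  calc Module.finrank (bcL v) (LinearMap.range
        (LinearMap.baseChange (bcL v) R.subtype ∘ₗ LinearMap.baseChange (bcL v) f.rangeRestrict))
      ≤ Module.finrank (bcL v) (LinearMap.range (LinearMap.baseChange (bcL v) R.subtype)) :=
        Submodule.finrank_mono (LinearMap.range_comp_le_range _ _)
    _ ≤ Module.finrank (bcL v) (bcL v ⊗[ZMod v] R) := LinearMap.finrank_range_le _
    _ = Module.finrank (ZMod v) R := Module.finrank_baseChange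
    _ ≤ k := hfr

end BC

end Cfsg.Agent.Lib.Helper56.Gross
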