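import Cfsg.Agent.Lib.Helper56.GrossCount

/-!
# In the extremal case the operator centralizes the fixed points of its involution

`E` acts on `W` with `Hyp ρ`; `X` twists by `τ`, `X ^ N = 1` (`N = p ^ k`), `X` has no fixed
vector.  If `|E / S| ≥ (N - 1)^2 |C_{E/S}(τ^{N/p})|` then `τ` fixes every point of `E / S` fixed by
`τ ^ (N / p)`.
-/

set_option autoImplicit false
set_option linter.unusedSectionVars false
set_option linter.style.haveILetI false

namespace Cfsg.Agent.Lib.Helper56.Gross

open Module
open Cfsg.Agent.Lib.Helper56.HH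
open Cfsg.Agent.Lib.Helper56.HHS

section Orbits

/-- orbit representatives and Burnside's count for a single permutation -/
theorem exists_reps_burnside {Q : Type*} [Fintype Q] [DecidableEq Q] (σ : Equiv.Perm Q) :
    ∃ R : Finset Q, (∀ q, ∃ q₀ ∈ R, ∃ i : ℕ, q = (σ ^ i) q₀) ∧
      ∑ g : Subgroup.zpowers σ, Fintype.card (MulAction.fixedBy Q g) = R.card * orderOf σ := by
  classical
  let G := Subgroup.zpowers σ
  have hG : Fintype.card G = orderOf σ := by
    rw [← Nat.card_eq_fintype_card, Nat.card_zpowers]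
  have hB := MulAction.sum_card_fixedBy_eq_card_orbits_mul_card_group G Q
  have hrep : ∀ q : Q, ∃ i : ℕ, q = (σ ^ i)
      ((Quotient.mk'' q : MulAction.orbitRel.Quotient G Q).out) := by
    intro q
    have h1 : (Quotient.mk'' ((Quotient.mk'' q : MulAction.orbitRel.Quotient G Q).out) :
        MulAction.orbitRel.Quotient G Q) = Quotient.mk'' q := Quotient.out_eq' _
    have h2 := Quotient.exact' h1
    rw [MulAction.orbitRel_apply] at h2
    obtain ⟨g, hg⟩ := h2
    have hgm : ((g⁻¹ : G) : Equiv.Perm Q) ∈ Subgroup.zpowers σ := (g⁻¹).2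
    rw [← mem_powers_iff_mem_zpowers] at hgm
    obtain ⟨n, hn⟩ := (Submonoid.mem_powers_iff _ _).1 hgm
    refine ⟨n, ?_⟩
    rw [hn, ← hg]
    show q = (g⁻¹ : G) • (g • q)
    rw [smul_smul, inv_mul_cancel, one_smul]
  let Rall : Finset Q := Finset.univ.image (fun ω : MulAction.orbitRel.Quotient G Q => ω.out)
  have hRall : Rall.card = Fintype.card (MulAction.orbitRel.Quotient G Q) := by
    rw [Finset.card_image_of_injective _ (fun a b h => by
      have := congrArg (Quotient.mk'' : Q → MulAction.orbitRel.Quotient G Q) h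
      simpa using this), Finset.card_univ]
  refine ⟨Rall, ?_, ?_⟩
  · intro q
    obtain ⟨i, hi⟩ := hrep q
    exact ⟨_, Finset.mem_image_of_mem _ (Finset.mem_univ _), i, hi⟩
  · rw [hRall, ← hG]
    exact hB

end Orbits

section Eig

variable {L : Type*} [Field L] [IsAlgClosed L] {W : Type*} [AddCommGroup W] [Module L W]
  [FiniteDimensional L W]

/-- an operator of order dividing `N` without fixed vectors has a large centralizer -/
theorem sq_finrank_le_mul_cent (X : (Module.End L W)ˣ) (N : ℕ) (hNpos : 0 < N)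
    (hNL : ((N : ℕ) : L) ≠ 0) (hXN : X ^ N = 1)
    (hfix : ∀ w : W, (X : Module.End L W) w = w → w = 0) :
    (Module.finrank L W) ^ 2 ≤ (N - 1) * Module.finrank L (cent X) := by
  classical
  set f : Module.End L W := (X : Module.End L W) with hf
  have hfr : f ^ N = 1 := by
    rw [hf, ← Units.val_pow_eq_pow_val, hXN, Units.val_one]
  have hss : f.IsSemisimple := by
    apply Module.End.isSemisimple_of_squarefree_aeval_eq_zero
      (p := (Polynomial.X ^ N - Polynomial.C (1 : L)))
    · exact (Polynomial.separable_X_pow_sub_C (1 : L) hNL one_ne_zero).squarefree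
    · simp [hfr]
  let s : Finset L := (Polynomial.nthRootsFinset N (1 : L)).erase 1
  have hs : ∀ μ, f.HasEigenvalue μ → μ ∈ s := by
    intro μ hμ
    obtain ⟨w, hw⟩ := hμ.exists_hasEigenvector
    have hw0 : w ≠ 0 := hw.2
    have hfw : f w = μ • w := Module.End.mem_eigenspace_iff.1 hw.1
    have hpow : ∀ n : ℕ, (f ^ n) w = μ ^ n • w := by
      intro n
      induction n with
      | zero => simp
      | succ n ih =>
        rw [pow_succ, Module.End.mul_apply, hfw, map_smul, ih, smul_smul, pow_succ, mul_comm]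
    rw [Finset.mem_erase, Polynomial.mem_nthRootsFinset hNpos]
    constructor
    · rintro rfl
      apply hw0
      apply hfix
      rw [hfw, one_smul]
    · have h1 := hpow N
      rw [hfr, Module.End.one_apply] at h1
      have h2 : (μ ^ N - 1) • w = 0 := by rw [sub_smul, ← h1, one_smul, sub_self]
      rcases smul_eq_zero.1 h2 with h3 | h3
      · exact sub_eq_zero.1 h3
      · exact absurd h3 hw0
  have hscard : s.card ≤ N - 1 := by
    have h1 : (1 : L) ∈ Polynomial.nthRootsFinset N (1 : L) := by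
      rw [Polynomial.mem_nthRootsFinset hNpos]; simp
    rw [Finset.card_erase_of_mem h1]
    apply Nat.sub_le_sub_right
    unfold Polynomial.nthRootsFinset
    exact (Multiset.toFinset_card_le _).trans (Polynomial.card_nthRoots N 1)
  have h4 := sq_finrank_le_card_mul_finrank_centE f hss s hs
  exact h4.trans (Nat.mul_le_mul_right _ hscard)

end Eig

section Main

variable {L : Type*} [Field L] [IsAlgClosed L] {W : Type*} [AddCommGroup W] [Module L W]
  [FiniteDimensional L W]
variable {E : Type*} [Group E] [Fintype E]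
variable {ρ : E →* Module.End L W} {X : (Module.End L W)ˣ} {τ : E ≃* E}

/-- **Claim (1).** -/
theorem tau_fixes_of_psi_fixes [Nontrivial W] (h : Hyp ρ) (hE : (Fintype.card E : L) ≠ 0)
    (hX : Twists ρ X τ) (p k : ℕ) (hp : p.Prime) (hk : 1 ≤ k)
    (hpL : (p : L) ≠ 0) (hXN : X ^ (p ^ k) = 1)
    (hfix : ∀ w : W, (X : Module.End L W) w = w → w = 0)
    (hbig : (p ^ k - 1) ^ 2 *
      Nat.card {q : E ⧸ scalSubgroup ρ // (tauBar hX ^ (p ^ (k - 1))) q = q} ≤
        (scalSubgroup ρ).index) :
    ∀ q : E ⧸ scalSubgroup ρ, (tauBar hX ^ (p ^ (k - 1))) q = q → tauBar hX q = q := by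
  classical
  haveI : Fintype (E ⧸ scalSubgroup ρ) := Fintype.ofFinite _
  set Ω := E ⧸ scalSubgroup ρ with hΩ
  set σ := tauBar hX with hσ
  set N := p ^ k with hN
  by_contra hcon
  push Not at hcon
  obtain ⟨q₀, hq₀ψ, hq₀σ⟩ := hcon
  have hNpos : 0 < N := pos_of_ne_zero (pow_ne_zero _ hp.ne_zero)
  have hN2 : 2 ≤ N := by
    calc 2 ≤ p := hp.two_le
      _ = p ^ 1 := (pow_one p).symm
      _ ≤ p ^ k := Nat.pow_le_pow_right hp.pos hk
  have hNL : ((N : ℕ) : L) ≠ 0 := by
    rw [hN, Nat.cast_pow]
    exact pow_ne_zero _ hpL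
  have hσN : σ ^ N = 1 := hX.tauBar_pow_eq_one N hXN
  have hidx : (scalSubgroup ρ).index = Fintype.card Ω := by
    rw [Subgroup.index_eq_card, Nat.card_eq_fintype_card]
  set Ωp := {q : Ω // (σ ^ (p ^ (k - 1))) q = q} with hΩp
  have hcardΩp : Nat.card Ωp = Fintype.card Ωp := Nat.card_eq_fintype_card
  rw [hcardΩp, hidx] at hbig
  set I := Fintype.card Ω with hI
  set Ip := Fintype.card Ωp with hIp
  -- two moved points in Ωp
  have hq₁ψ : (σ ^ (p ^ (k - 1))) (σ q₀) = σ q₀ := by
    rw [← Equiv.Perm.mul_apply, ← pow_succ, pow_succ', Equiv.Perm.mul_apply, hq₀ψ]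
  have hq₁σ : σ (σ q₀) ≠ σ q₀ := fun h => hq₀σ (σ.injective h)
  -- the order of σ
  have hord : orderOf σ = N := by
    have h1 : orderOf σ ∣ p ^ k := orderOf_dvd_of_pow_eq_one hσN
    obtain ⟨j, hj, hjo⟩ := (Nat.dvd_prime_pow hp).1 h1
    rcases lt_or_eq_of_le hj with hlt | rfl
    · exfalso
      have h2 : σ ^ (p ^ (k - 1)) = 1 := by
        apply orderOf_dvd_iff_pow_eq_one.1
        rw [hjo]
        exact pow_dvd_pow p (by omega)
      have h3 : Ip = I := by
        rw [hIp, hI]
        apply Fintype.card_congr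
        exact Equiv.subtypeUnivEquiv (fun q => by rw [h2]; rfl)
      rw [h3] at hbig
      have hIpos : 0 < I := Fintype.card_pos_iff.2 ⟨q₀⟩
      have h4 : (N - 1) ^ 2 ≤ 1 := by
        by_contra h5
        push Not at h5
        have : 2 * I ≤ (N - 1) ^ 2 * I := Nat.mul_le_mul_right _ h5
        omega
      have h5 : N - 1 ≤ 1 := by
        by_contra h6
        push Not at h6
        have : 2 ^ 2 ≤ (N - 1) ^ 2 := Nat.pow_le_pow_left h6 2
        omega
      have h6 : N = 2 := by omega
      have h7 : k = 1 := by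
        by_contra h8
        have h9 : 2 ≤ k := by omega
        have : p ^ 2 ≤ p ^ k := Nat.pow_le_pow_right hp.pos h9
        have : 2 ^ 2 ≤ p ^ 2 := Nat.pow_le_pow_left hp.two_le 2
        omega
      rw [h7] at h2
      simp only [Nat.sub_self, pow_zero, pow_one] at h2
      apply hq₀σ
      rw [h2]
      rfl
    · exact hjo
  -- Burnside
  obtain ⟨R, hRcov, hRsum⟩ := exists_reps_burnside σ
  rw [hord] at hRsum
  let G := Subgroup.zpowers σ
  have hGcard : Fintype.card G = N := by
    rw [← Nat.card_eq_fintype_card, Nat.card_zpowers, hord]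
  let g₀ : G := ⟨σ, Subgroup.mem_zpowers σ⟩
  have hg₀1 : g₀ ≠ 1 := by
    intro h1
    have h2 : σ = 1 := congrArg Subtype.val h1
    apply hq₀σ
    rw [h2]
    rfl
  -- fixed points of nonidentity elements lie in Ωp
  have hfixsub : ∀ g : G, g ≠ 1 → ∀ q : Ω, g • q = q → (σ ^ (p ^ (k - 1))) q = q := by
    intro g hg q hq
    have hgm : (g : Equiv.Perm Ω) ∈ Subgroup.zpowers σ := g.2
    rw [← mem_powers_iff_mem_zpowers] at hgm
    obtain ⟨n, hn⟩ := (Submonoid.mem_powers_iff _ _).1 hgm
    have hn' : σ ^ (n % N) = (g : Equiv.Perm Ω) := by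
      rw [← hn, ← hord, pow_mod_orderOf]
    have hpos : 0 < n % N := by
      rcases Nat.eq_zero_or_pos (n % N) with h0 | h0
      · exfalso
        apply hg
        apply Subtype.ext
        rw [← hn', h0, pow_zero]
        rfl
      · exact h0
    have hlt : n % N < N := Nat.mod_lt _ hNpos
    set i := n % N with hi
    have hqi : (σ ^ i) q = q := by rw [hn']; exact hq
    have hp1 : Function.IsPeriodicPt σ i q := by
      show σ^[i] q = q
      rw [Equiv.Perm.iterate_eq_pow]; exact hqi
    have hp2 : Function.IsPeriodicPt σ N q := by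
      show σ^[N] q = q
      rw [Equiv.Perm.iterate_eq_pow, hσN]; rfl
    have hp3 := hp1.gcd hp2
    obtain ⟨a, ha, hga⟩ := (Nat.dvd_prime_pow hp).1 (Nat.gcd_dvd_right i N)
    have hak : a < k := by
      rcases lt_or_eq_of_le ha with h1 | h1
      · exact h1
      · exfalso
        have h2 : Nat.gcd i N ≤ i := Nat.le_of_dvd hpos (Nat.gcd_dvd_left i N)
        rw [hga, h1] at h2
        omega
    have hp4 : Function.IsPeriodicPt σ (p ^ (k - 1)) q := by
      apply hp3.trans_dvd
      rw [hga]
      exact pow_dvd_pow p (by omega)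
    rw [← Equiv.Perm.iterate_eq_pow]
    exact hp4
  have hfixle : ∀ g : G, g ≠ 1 → Fintype.card (MulAction.fixedBy Ω g) ≤ Ip := by
    intro g hg
    apply Fintype.card_le_of_injective
      (fun x : MulAction.fixedBy Ω g => (⟨x.1, hfixsub g hg x.1 x.2⟩ : Ωp))
    intro x y hxy
    apply Subtype.ext
    exact congrArg (fun z : Ωp => (z : Ω)) hxy
  have hfixg₀ : Fintype.card (MulAction.fixedBy Ω g₀) + 2 ≤ Ip := by
    let e : Option (Option (MulAction.fixedBy Ω g₀)) → Ωp := fun o =>
      match o with
      | none => ⟨q₀, hq₀ψ⟩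
      | some none => ⟨σ q₀, hq₁ψ⟩
      | some (some x) => ⟨x.1, hfixsub g₀ hg₀1 x.1 x.2⟩
    have he : Function.Injective e := by
      intro o₁ o₂ h12
      match o₁, o₂ with
      | none, none => rfl
      | none, some none =>
        exfalso
        have : q₀ = σ q₀ := congrArg (fun z : Ωp => (z : Ω)) h12
        exact hq₀σ this.symm
      | none, some (some x) =>
        exfalso
        have h1 : q₀ = x.1 := congrArg (fun z : Ωp => (z : Ω)) h12
        have h2 : g₀ • x.1 = x.1 := x.2
        rw [← h1] at h2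
        exact hq₀σ h2
      | some none, none =>
        exfalso
        have : σ q₀ = q₀ := congrArg (fun z : Ωp => (z : Ω)) h12
        exact hq₀σ this
      | some none, some none => rfl
      | some none, some (some x) =>
        exfalso
        have h1 : σ q₀ = x.1 := congrArg (fun z : Ωp => (z : Ω)) h12
        have h2 : g₀ • x.1 = x.1 := x.2
        rw [← h1] at h2
        exact hq₁σ h2
      | some (some x), none =>
        exfalso
        have h1 : x.1 = q₀ := congrArg (fun z : Ωp => (z : Ω)) h12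
        have h2 : g₀ • x.1 = x.1 := x.2
        rw [h1] at h2
        exact hq₀σ h2
      | some (some x), some none =>
        exfalso
        have h1 : x.1 = σ q₀ := congrArg (fun z : Ωp => (z : Ω)) h12
        have h2 : g₀ • x.1 = x.1 := x.2
        rw [h1] at h2
        exact hq₁σ h2
      | some (some x), some (some y) =>
        have h1 : x.1 = y.1 := congrArg (fun z : Ωp => (z : Ω)) h12
        have : x = y := Subtype.ext h1
        rw [this]
    have := Fintype.card_le_of_injective e he
    rw [Fintype.card_option, Fintype.card_option] at this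
    exact this
  have hsum : ∑ g : G, Fintype.card (MulAction.fixedBy Ω g) + 2 ≤ I + (N - 1) * Ip := by
    rw [← Finset.add_sum_erase Finset.univ _ (Finset.mem_univ (1 : G))]
    have h1 : Fintype.card (MulAction.fixedBy Ω (1 : G)) = I := by
      apply Fintype.card_congr
      exact (Equiv.subtypeUnivEquiv (fun q => by simp))
    rw [h1]
    have hg₀mem : g₀ ∈ Finset.univ.erase (1 : G) :=
      Finset.mem_erase.2 ⟨hg₀1, Finset.mem_univ _⟩
    rw [← Finset.add_sum_erase _ _ hg₀mem]
    have h2 : ∑ g ∈ (Finset.univ.erase (1 : G)).erase g₀, Fintype.card (MulAction.fixedBy Ω g) ≤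
        ∑ _g ∈ (Finset.univ.erase (1 : G)).erase g₀, Ip := by
      apply Finset.sum_le_sum
      intro g hg
      exact hfixle g (Finset.mem_erase.1 (Finset.mem_erase.1 hg).2).1
    rw [Finset.sum_const, Finset.card_erase_of_mem hg₀mem,
      Finset.card_erase_of_mem (Finset.mem_univ _), Finset.card_univ, hGcard, smul_eq_mul] at h2
    obtain ⟨t, ht⟩ : ∃ t, N = t + 2 := ⟨N - 2, by omega⟩
    rw [ht] at h2 ⊢
    have h3 : t + 2 - 1 = t + 1 := by omega
    have h4 : t + 2 - 1 - 1 = t := by omega
    rw [h3]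
    rw [h4] at h2
    have : (t + 1) * Ip = Ip + t * Ip := by ring
    rw [this]
    omega
  rw [hRsum] at hsum
  -- lift the representatives
  have hcover : ∀ e : E, ∃ e₀ ∈ R.image Quotient.out, ∃ i : ℕ, ∃ t ∈ scalSubgroup ρ,
      e = (τ ^ i) e₀ * t := by
    intro e
    obtain ⟨q₁, hq₁, i, hi⟩ := hRcov (QuotientGroup.mk e)
    refine ⟨Quotient.out q₁, Finset.mem_image_of_mem _ hq₁, i,
      ((τ ^ i) (Quotient.out q₁))⁻¹ * e, ?_, by group⟩
    rw [← QuotientGroup.eq, ← tauBar_pow_mk hX, QuotientGroup.out_eq']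
    exact hi.symm
  have hC := hX.finrank_cent_le h hE _ hcover
  have hRle : (R.image Quotient.out).card ≤ R.card := Finset.card_image_le
  have hD := sq_finrank_le_mul_cent X N hNpos hNL hXN hfix
  have A2 := h.index_mul_finrank_eq hE
  rw [hidx] at A2
  have A3 : 1 ≤ Module.finrank L (commutant ρ) := by
    rw [Submodule.one_le_finrank_iff]
    intro hbot
    have h1 : (1 : Module.End L W) ∈ commutant ρ := by
      intro e
      rw [mul_one, one_mul]
    rw [hbot, Submodule.mem_bot] at h1
    exact one_ne_zero h1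
  set c := Module.finrank L (commutant ρ) with hc
  set C := Module.finrank L (cent X) with hC'
  set D := Module.finrank L W with hD'
  set r := R.card with hr
  have hC2 : C ≤ r * c := hC.trans (Nat.mul_le_mul_right _ hRle)
  obtain ⟨t, ht⟩ : ∃ t, N = t + 1 := ⟨N - 1, by omega⟩
  rw [ht] at hD hsum hbig
  simp only [Nat.add_sub_cancel] at hD hsum hbig
  have ht1 : 1 ≤ t := by omega
  -- (t+1) * I * c = (t+1) D^2 ≤ (t+1) t C ≤ t (t+1) r c ≤ t (I + t Ip - 2) c
  have h1 : (t + 1) * (I * c) ≤ t * ((r * (t + 1)) * c) := by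
    calc (t + 1) * (I * c) = (t + 1) * D ^ 2 := by rw [A2]
      _ ≤ (t + 1) * (t * C) := Nat.mul_le_mul_left _ hD
      _ ≤ (t + 1) * (t * (r * c)) := Nat.mul_le_mul_left _ (Nat.mul_le_mul_left _ hC2)
      _ = t * ((r * (t + 1)) * c) := by ring
  have h2 : (t + 1) * I ≤ t * (r * (t + 1)) := by
    have : ((t + 1) * I) * c ≤ (t * (r * (t + 1))) * c := by
      calc ((t + 1) * I) * c = (t + 1) * (I * c) := by ring
        _ ≤ t * ((r * (t + 1)) * c) := h1
        _ = (t * (r * (t + 1))) * c := by ring
    exact Nat.le_of_mul_le_mul_right this A3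
  -- r (t+1) + 2 ≤ I + t Ip, t^2 Ip ≤ I
  nlinarith

end Main

end Cfsg.Agent.Lib.Helper56.Gross
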