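import Cfsg.Agent.Lib.Helper56.HHSCount

/-!
# The sharp semisimple count

In the situation of `HHS.thmS` the index of the scalar subgroup is either `1` or exactly
`(N - 1)^2`.
-/

set_option autoImplicit false
set_option linter.unusedSectionVars false
set_option linter.style.haveILetI false

namespace Cfsg.Agent.Lib.Helper56.Gross

open Module
open Cfsg.Agent.Lib.Helper56.HH
open Cfsg.Agent.Lib.Helper56.HHS

section CentE

variable {L : Type*} [Field L] [IsAlgClosed L] {W : Type*} [AddCommGroup W] [Module L W]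
  [FiniteDimensional L W]

/-- the centralizer of a semisimple endomorphism has dimension at least `dim W` -/
theorem finrank_le_finrank_centE (f : Module.End L W) (hss : f.IsSemisimple) :
    Module.finrank L W ≤ Module.finrank L (centE f) := by
  classical
  let s : Finset L := f.finite_hasEigenvalue.toFinset
  have hs : ∀ μ, f.HasEigenvalue μ → μ ∈ s := by
    intro μ hμ
    exact (Set.Finite.mem_toFinset _).2 hμ
  have hind : iSupIndep (fun μ : s => f.eigenspace (μ : L)) :=
    (f.eigenspaces_iSupIndep).comp Subtype.val_injective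
  have hsup : ⨆ μ : s, f.eigenspace (μ : L) = ⊤ := by
    rw [eq_top_iff, ← hss.iSup_eigenspace_eq_top]
    apply iSup_le
    intro μ
    by_cases hμ : f.HasEigenvalue μ
    · exact le_iSup (fun μ : s => f.eigenspace (μ : L)) ⟨μ, hs μ hμ⟩
    · rw [Module.End.hasEigenvalue_iff, not_not] at hμ
      rw [hμ]; exact bot_le
  have hint : DirectSum.IsInternal (fun μ : s => f.eigenspace (μ : L)) :=
    DirectSum.isInternal_submodule_of_iSupIndep_of_iSup_eq_top hind hsup
  let m : s → ℕ := fun μ => Module.finrank L (f.eigenspace (μ : L))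
  let b := hint.collectedBasis (fun μ => Module.finBasis L (f.eigenspace (μ : L)))
  have hb : ∀ i, f (b i) = (i.1 : L) • b i := by
    intro i
    have := hint.collectedBasis_mem (fun μ => Module.finBasis L (f.eigenspace (μ : L))) i
    exact Module.End.mem_eigenspace_iff.1 this
  have hcoord : ∀ (j : Σ μ : s, Fin (m μ)) (w : W), b.coord j (f w) = (j.1 : L) * b.coord j w := by
    intro j
    have : (b.coord j) ∘ₗ f = (j.1 : L) • b.coord j := by
      apply b.ext
      intro k
      rw [LinearMap.comp_apply, hb k, LinearMap.smul_apply, map_smul, smul_eq_mul, smul_eq_mul]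
      by_cases hkj : k = j
      · rw [hkj]
      · rw [Basis.coord_apply, Basis.repr_self, Finsupp.single_apply, if_neg hkj, mul_zero, mul_zero]
    intro w
    have := congrArg (fun g => g w) this
    simpa using this
  let P := Σ μ : s, Fin (m μ) × Fin (m μ)
  let u : P → Module.End L W := fun p => (b.coord ⟨p.1, p.2.2⟩).smulRight (b ⟨p.1, p.2.1⟩)
  have hu : ∀ p, u p ∈ centE f := by
    intro p
    show f * u p = u p * f
    apply LinearMap.ext
    intro w
    simp only [u, Module.End.mul_apply, LinearMap.smulRight_apply, map_smul, hb, hcoord]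
    rw [smul_smul, mul_comm]
  have hli : LinearIndependent L (fun p : P => (⟨u p, hu p⟩ : centE f)) := by
    rw [Fintype.linearIndependent_iff]
    intro g hg p₀
    have h1 := congrArg (fun a : centE f => b.coord ⟨p₀.1, p₀.2.1⟩ ((a : Module.End L W) (b ⟨p₀.1, p₀.2.2⟩))) hg
    simp only [Submodule.coe_sum, Submodule.coe_smul, LinearMap.sum_apply, LinearMap.smul_apply,
      map_sum, map_smul, Submodule.coe_zero, LinearMap.zero_apply, map_zero, u,
      LinearMap.smulRight_apply, Basis.coord_apply, Basis.repr_self, smul_eq_mul] at h1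
    rw [Finset.sum_eq_single p₀] at h1
    · simpa using h1
    · intro p _ hp
      by_cases h2 : (⟨p.1, p.2.2⟩ : Σ μ : s, Fin (m μ)) = ⟨p₀.1, p₀.2.2⟩
      · by_cases h3 : (⟨p.1, p.2.1⟩ : Σ μ : s, Fin (m μ)) = ⟨p₀.1, p₀.2.1⟩
        · exfalso
          apply hp
          obtain ⟨μ, a, c⟩ := p
          obtain ⟨μ₀, a₀, c₀⟩ := p₀
          simp only [Sigma.mk.injEq] at h2 h3
          obtain ⟨rfl, h2⟩ := h2
          obtain ⟨_, h3⟩ := h3
          simp only [heq_eq_eq] at h2 h3
          subst h2 h3
          rfl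
        · simp [Finsupp.single_apply, h3]
      · have : (⟨p₀.1, p₀.2.2⟩ : Σ μ : s, Fin (m μ)) ≠ ⟨p.1, p.2.2⟩ := fun h => h2 h.symm
        simp [Finsupp.single_apply, this]
    · intro h; exact absurd (Finset.mem_univ _) h
  have h1 := hli.fintype_card_le_finrank
  have hP : Fintype.card P = ∑ μ : s, (m μ) ^ 2 := by
    rw [Fintype.card_sigma]
    apply Finset.sum_congr rfl
    intro μ _
    rw [Fintype.card_prod, Fintype.card_fin, sq]
  have hW : Module.finrank L W = ∑ μ : s, m μ := by
    rw [Module.finrank_eq_card_basis b, Fintype.card_sigma]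
    apply Finset.sum_congr rfl
    intro μ _
    rw [Fintype.card_fin]
  rw [hW]
  calc ∑ μ : s, m μ ≤ ∑ μ : s, (m μ) ^ 2 := by
        apply Finset.sum_le_sum
        intro μ _
        exact Nat.le_self_pow (by norm_num) _
    _ = Fintype.card P := hP.symm
    _ ≤ Module.finrank L (centE f) := h1

end CentE

section Irr

variable {L : Type*} [Field L] [IsAlgClosed L] {W : Type*} [AddCommGroup W] [Module L W]
  [FiniteDimensional L W]
variable {E : Type*} [Group E] [Fintype E]
variable {ρ : E →* Module.End L W} {X : (Module.End L W)ˣ} {τ : E ≃* E}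

/-- the sharp semisimple count, irreducible case -/
theorem thmS2_irr [Nontrivial W] (h : Hyp ρ) (hE : (Fintype.card E : L) ≠ 0)
    (hX : Twists ρ X τ) (hirr : IrrEX ρ X) (p k : ℕ) (hp : p.Prime) (hk : 1 ≤ k)
    (hpL : (p : L) ≠ 0) (hXN : X ^ (p ^ k) = 1)
    (hfpf : ∀ e, ((τ ^ (p ^ (k - 1))) e)⁻¹ * e ∈ scalSubgroup ρ → e ∈ scalSubgroup ρ)
    (hfix : ∀ w : W, (X : Module.End L W) w = w → w = 0) :
    (scalSubgroup ρ).index = 1 ∨ (scalSubgroup ρ).index = (p ^ k - 1) ^ 2 := by
  classical
  set N := p ^ k with hN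
  have hNpos : 0 < N := pos_of_ne_zero (pow_ne_zero _ hp.ne_zero)
  have hNL : ((N : ℕ) : L) ≠ 0 := by
    rw [hN, Nat.cast_pow]
    exact pow_ne_zero _ hpL
  have A1 := hX.refined_count h hE p k hp hk hXN hfpf (schur_finrank_le_one hirr)
  have A2 := h.index_mul_finrank_eq hE
  have A3 : 1 ≤ Module.finrank L (commutant ρ) := by
    rw [Submodule.one_le_finrank_iff]
    intro hbot
    have h1 : (1 : Module.End L W) ∈ commutant ρ := by
      intro e
      rw [mul_one, one_mul]
    rw [hbot, Submodule.mem_bot] at h1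
    exact one_ne_zero h1
  set f : Module.End L W := (X : Module.End L W) with hf
  have hfr : f ^ N = 1 := by
    rw [hf, ← Units.val_pow_eq_pow_val, hXN, Units.val_one]
  have hss : f.IsSemisimple := by
    apply Module.End.isSemisimple_of_squarefree_aeval_eq_zero
      (p := (Polynomial.X ^ N - Polynomial.C (1 : L)))
    · exact (Polynomial.separable_X_pow_sub_C (1 : L) hNL one_ne_zero).squarefree
    · simp [hfr]
  let s : Finset L := (Polynomial.nthRootsFinset N (1 : L)).erase 1
  have hs : ∀ μ, f.HasEigenvalue μ → μ ∈ s := by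
    intro μ hμ
    obtain ⟨w, hw⟩ := hμ.exists_hasEigenvector
    have hw0 : w ≠ 0 := hw.2
    have hfw : f w = μ • w := Module.End.mem_eigenspace_iff.1 hw.1
    have hpow : ∀ n : ℕ, (f ^ n) w = μ ^ n • w := by
      intro n
      induction n with
      | zero => simp
      | succ n ih =>
        rw [pow_succ, Module.End.mul_apply, hfw, map_smul, ih, smul_smul, pow_succ, mul_comm]
    rw [Finset.mem_erase, Polynomial.mem_nthRootsFinset hNpos]
    constructor
    · rintro rfl
      apply hw0
      apply hfix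
      rw [hfw, one_smul]
    · have h1 := hpow N
      rw [hfr, Module.End.one_apply] at h1
      have h2 : (μ ^ N - 1) • w = 0 := by rw [sub_smul, ← h1, one_smul, sub_self]
      rcases smul_eq_zero.1 h2 with h3 | h3
      · exact sub_eq_zero.1 h3
      · exact absurd h3 hw0
  have hscard : s.card ≤ N - 1 := by
    have h1 : (1 : L) ∈ Polynomial.nthRootsFinset N (1 : L) := by
      rw [Polynomial.mem_nthRootsFinset hNpos]; simp
    rw [Finset.card_erase_of_mem h1]
    apply Nat.sub_le_sub_right
    unfold Polynomial.nthRootsFinset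
    exact (Multiset.toFinset_card_le _).trans (Polynomial.card_nthRoots N 1)
  have h4 := sq_finrank_le_card_mul_finrank_centE f hss s hs
  have h5' := finrank_le_finrank_centE f hss
  set I := (scalSubgroup ρ).index with hI
  set c := Module.finrank L (commutant ρ) with hc
  set C := Module.finrank L (cent X) with hC
  set D := Module.finrank L W with hD
  have hDpos : 0 < D := Module.finrank_pos
  have hIpos : 0 < I := Nat.pos_of_ne_zero Subgroup.index_ne_zero_of_finite
  obtain ⟨t, ht⟩ : ∃ t, N = t + 1 := ⟨N - 1, by omega⟩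
  rw [← hN] at A1
  rw [ht] at A1 hscard ⊢
  simp only [Nat.add_sub_cancel] at hscard ⊢
  have h5 : D ^ 2 ≤ t * C := h4.trans (Nat.mul_le_mul_right _ hscard)
  have h6 : D ≤ C := h5'
  -- A1 : (t+1) * C + c ≤ (t+1) + I * c ;  A2 : I * c = D^2
  by_cases hD1 : D = 1
  · left
    rw [hD1] at A2
    have : I * c = 1 := by rw [A2]; norm_num
    exact Nat.eq_one_of_mul_eq_one_right this
  · right
    have hD2 : 2 ≤ D := by omega
    -- (t+1) D + c ≤ (t+1) + D^2
    have B1 : (t + 1) * D + c ≤ (t + 1) + D ^ 2 := by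
      calc (t + 1) * D + c ≤ (t + 1) * C + c := by
            apply Nat.add_le_add_right (Nat.mul_le_mul_left _ h6)
        _ ≤ (t + 1) + I * c := A1
        _ = (t + 1) + D ^ 2 := by rw [A2]
    -- t + 1 ≤ D + 1
    have B2 : t ≤ D := by
      by_contra hlt
      push Not at hlt
      have : D + 1 ≤ t := hlt
      nlinarith
    -- D ≤ t
    have B3 : D ≤ t := by
      have h7 : (t + 1) * D ^ 2 ≤ t * ((t + 1) * C) := by
        calc (t + 1) * D ^ 2 ≤ (t + 1) * (t * C) := Nat.mul_le_mul_left _ h5
          _ = t * ((t + 1) * C) := by ring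
      have h8 : (t + 1) * C ≤ (t + 1) + D ^ 2 - c := by
        have : (t + 1) * C + c ≤ (t + 1) + D ^ 2 := by rw [← A2]; exact A1
        omega
      have h9 : (t + 1) * C ≤ t + D ^ 2 := by omega
      have h10 : (t + 1) * D ^ 2 ≤ t * (t + D ^ 2) := h7.trans (Nat.mul_le_mul_left _ h9)
      nlinarith
    have hDt : D = t := le_antisymm B3 B2
    -- c = 1
    have hc1 : c = 1 := by
      rw [hDt] at B1
      have : c + (t + 1) * t ≤ (t + 1) + t ^ 2 := by linarith
      have h11 : c ≤ 1 := by nlinarith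
      omega
    rw [hc1, mul_one] at A2
    rw [A2, hDt]

end Irr

section General

variable {L : Type*} [Field L] [IsAlgClosed L] {W : Type*} [AddCommGroup W] [Module L W]
  [FiniteDimensional L W]
variable {E : Type*} [Group E] [Fintype E]
variable {ρ : E →* Module.End L W} {X : (Module.End L W)ˣ} {τ : E ≃* E}

/-- **The sharp semisimple count.** -/
theorem thmS2 [Nontrivial W] (h : Hyp ρ) (hE : (Fintype.card E : L) ≠ 0)
    (hX : Twists ρ X τ) (p k : ℕ) (hp : p.Prime) (hk : 1 ≤ k)
    (hpL : (p : L) ≠ 0) (hXN : X ^ (p ^ k) = 1)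
    (hfpf : ∀ e, ((τ ^ (p ^ (k - 1))) e)⁻¹ * e ∈ scalSubgroup ρ → e ∈ scalSubgroup ρ)
    (hfix : ∀ w : W, (X : Module.End L W) w = w → w = 0) :
    (scalSubgroup ρ).index = 1 ∨ (scalSubgroup ρ).index = (p ^ k - 1) ^ 2 := by
  classical
  set N := p ^ k with hN
  have hNpos : 0 < N := pos_of_ne_zero (pow_ne_zero _ hp.ne_zero)
  let 𝒮 : Set (Submodule L W) := {U | U ≠ ⊥ ∧ (∀ e, ∀ w ∈ U, ρ e w ∈ U) ∧
    (∀ w ∈ U, (X : Module.End L W) w ∈ U)}
  have htop : (⊤ : Submodule L W) ∈ 𝒮 :=
    ⟨top_ne_bot, fun _ _ _ => trivial, fun _ _ => trivial⟩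
  obtain ⟨U, hU𝒮, hUmin⟩ := WellFounded.has_min
    (measure (fun U : Submodule L W => Module.finrank L U)).wf 𝒮 ⟨⊤, htop⟩
  obtain ⟨hUne, hUE, hUX⟩ := hU𝒮
  have hXinv : ((X⁻¹ : (Module.End L W)ˣ) : Module.End L W) = (X : Module.End L W) ^ (N - 1) := by
    have h1 : X⁻¹ = X ^ (N - 1) := by
      apply inv_eq_of_mul_eq_one_right
      rw [← pow_succ', Nat.sub_add_cancel hNpos, hXN]
    rw [h1, Units.val_pow_eq_pow_val]
  have hUpow : ∀ j : ℕ, ∀ w ∈ U, ((X : Module.End L W) ^ j) w ∈ U := by
    intro j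
    induction j with
    | zero => intro w hw; simpa using hw
    | succ j ih =>
      intro w hw
      rw [pow_succ', Module.End.mul_apply]
      exact hUX _ (ih w hw)
  have hUX' : ∀ w ∈ U, ((X⁻¹ : (Module.End L W)ˣ) : Module.End L W) w ∈ U := by
    intro w hw
    rw [hXinv]
    exact hUpow _ w hw
  set ρ' := resRep ρ U hUE with hρ'
  set X' := resUnit X U hUX hUX' with hX'
  obtain ⟨w₀, hw₀U, hw₀⟩ := (Submodule.ne_bot_iff _).1 hUne
  haveI : Nontrivial U := by
    refine ⟨⟨⟨w₀, hw₀U⟩, 0, ?_⟩⟩
    intro h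
    exact hw₀ (congrArg Subtype.val h)
  have hHyp : Hyp ρ' := h.restrict U hUE hUne
  have hS : scalSubgroup ρ' = scalSubgroup ρ := h.scalSubgroup_resRep U hUE hUne
  have hTw : Twists ρ' X' τ := by
    intro e
    apply LinearMap.ext
    intro w
    apply Subtype.ext
    have := congrArg (fun φ : Module.End L W => φ (w : W)) (hX e)
    simp only [Module.End.mul_apply] at this
    simp only [Module.End.mul_apply, resUnit_apply, resRep_apply, hX', hρ']
    exact this
  have hXN' : X' ^ N = 1 := by
    apply Units.ext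
    apply LinearMap.ext
    intro w
    apply Subtype.ext
    rw [hX', resUnit_pow_apply, hXN]
    rfl
  have hirr : IrrEX ρ' X' := by
    intro U' hU'E hU'X
    by_cases hb : U' = ⊥
    · exact Or.inl hb
    right
    let U'' : Submodule L W := U'.map U.subtype
    have hle : U'' ≤ U := by
      rintro _ ⟨v, _, rfl⟩
      exact v.2
    have hU''𝒮 : U'' ∈ 𝒮 := by
      refine ⟨?_, ?_, ?_⟩
      · intro h0
        apply hb
        rw [eq_bot_iff]
        intro v hv
        have h1 : (v : W) ∈ U'' := ⟨v, hv, rfl⟩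
        rw [h0, Submodule.mem_bot] at h1
        rw [Submodule.mem_bot]
        exact Subtype.ext h1
      · rintro e _ ⟨v, hv, rfl⟩
        exact ⟨ρ' e v, hU'E e v hv, rfl⟩
      · rintro _ ⟨v, hv, rfl⟩
        exact ⟨(X' : Module.End L U) v, hU'X v hv, rfl⟩
    have h1 : ¬ Module.finrank L U'' < Module.finrank L U := hUmin U'' hU''𝒮
    have h2 : U'' = U := Submodule.eq_of_le_of_finrank_le hle (not_lt.1 h1)
    rw [eq_top_iff]
    intro v _
    have h3 : (v : W) ∈ U'' := by rw [h2]; exact v.2
    obtain ⟨v', hv', hvv'⟩ := h3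
    have : v' = v := Subtype.ext hvv'
    rw [← this]
    exact hv'
  have hfpf' : ∀ e, ((τ ^ (p ^ (k - 1))) e)⁻¹ * e ∈ scalSubgroup ρ' → e ∈ scalSubgroup ρ' := by
    rw [hS]
    exact hfpf
  have hfix' : ∀ w : U, (X' : Module.End L U) w = w → w = 0 := by
    intro w hw
    apply Subtype.ext
    apply hfix
    have := congrArg Subtype.val hw
    rwa [hX', resUnit_apply] at this
  have := thmS2_irr hHyp hE hTw hirr p k hp hk hpL hXN' hfpf' hfix'
  rwa [hS] at this

end General

end Cfsg.Agent.Lib.Helper56.Gross
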