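import Cfsg.Agent.Lib.Helper56.GrossQuot

/-!
# The endgame of the pair theorem

`Q` nonabelian of class two with scalar centre, `Q / Z(Q)` irreducible under `X` and `S`.
-/

set_option autoImplicit false
set_option linter.unusedSectionVars false
set_option linter.style.haveILetI false
set_option maxHeartbeats 1600000

namespace Cfsg.Agent.Lib.Helper56.Gross

open Module
open Cfsg.Agent.Lib.Helper56.HH
open Cfsg.Agent.Lib.Helper56.HHB
open Cfsg.Agent.Lib.Helper56.HHS
open Cfsg.Agent.Lib.Helper56.SG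
open scoped commutatorElement

universe uK uW

section End

variable {K : Type uK} [Field K] [IsAlgClosed K] {W : Type uW} [AddCommGroup W] [Module K W]
  [FiniteDimensional K W]

/-- the involution in `⟨X⟩` centralizes every `X`-invariant abelian `q`-group -/
theorem psi_comm_of_abelian (q : ℕ) [Fact q.Prime] (hqK : (q : K) ≠ 0)
    (A : Subgroup (Module.End K W)ˣ) [Finite A] (hA : IsPGroup q A)
    (hab : ∀ a ∈ A, ∀ b ∈ A, a * b = b * a)
    (X : (Module.End K W)ˣ) (hXA : ∀ e ∈ A, X * e * X⁻¹ ∈ A) (n : ℕ) (hn : 1 ≤ n)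
    (hXn : X ^ (2 ^ n) = 1) (hfix : ∀ w : W, (X : Module.End K W) w = w → w = 0) :
    ∀ t ∈ A, X ^ (2 ^ (n - 1)) * t = t * X ^ (2 ^ (n - 1)) := by
  haveI : Fact (Nat.Prime 2) := ⟨Nat.prime_two⟩
  by_contra hcon
  push Not at hcon
  obtain ⟨t, ht, hne⟩ := hcon
  obtain ⟨w, hw0, hw⟩ := abelian_caseS 2 q hqK A hA hab X hXA n hn hXn ⟨t, ht, hne⟩
  exact hw0 (hfix w hw)

theorem pair_endgame (q s : ℕ) [Fact q.Prime] [Fact s.Prime] (hqs : q ≠ s) (hq2 : q ≠ 2)
    (hs2 : s ≠ 2) (h2K : (2 : K) ≠ 0) (hqK : (q : K) ≠ 0)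
    (Q S : Subgroup (Module.End K W)ˣ) (X : (Module.End K W)ˣ) (n : ℕ) (hn : 1 ≤ n)
    (h : PairHyp q s Q S X n)
    (hi : ∀ e ∈ Q, ∀ f ∈ Q, ⁅e, f⁆ ∈ zen Q)
    (hii : ∀ z ∈ zen Q, ∀ y ∈ S, y * z = z * y)
    (hirr : ∀ R : Subgroup (Module.End K W)ˣ, R < Q → zen Q ≤ R → (∀ e ∈ R, X * e * X⁻¹ ∈ R) →
      (∀ y ∈ S, ∀ e ∈ R, y * e * y⁻¹ ∈ R) → R = zen Q)
    (hψZ : ∀ z ∈ zen Q, X ^ (2 ^ (n - 1)) * z = z * X ^ (2 ^ (n - 1)))
    (hZscal : ∀ z ∈ zen Q, IsScal ((z : (Module.End K W)ˣ) : Module.End K W))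
    (hnab : ∃ e ∈ Q, ∃ f ∈ Q, e * f ≠ f * e)
    (hnc : ∃ t ∈ Q, ∃ y ∈ S, y * t ≠ t * y) : False := by
  classical
  haveI := h.finQ
  haveI := h.finS
  have hq : q.Prime := Fact.out
  have hs : s.Prime := Fact.out
  have hqodd : Odd q := hq.odd_of_ne_two hq2
  have hsodd : Odd s := hs.odd_of_ne_two hs2
  have hNpos : 0 < 2 ^ n := by positivity
  have h2K' : ((2 : ℕ) : K) ≠ 0 := by simpa using h2K
  set ψ := X ^ (2 ^ (n - 1)) with hψ
  have hψ2 : ψ ^ 2 = 1 := by
    rw [hψ, ← pow_mul, ← pow_succ, Nat.sub_add_cancel hn, h.hXn]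
  have hXN : X ∈ Subgroup.normalizer (Q : Set (Module.End K W)ˣ) :=
    mem_normalizer_of_pow_eq_one Q X (2 ^ n) hNpos h.hXn h.hXQ
  have hSord : ∀ y ∈ S, ∃ k, y ^ (s ^ k) = 1 := by
    intro y hy
    obtain ⟨k, hk⟩ := h.hS ⟨y, hy⟩
    refine ⟨k, ?_⟩
    have := congrArg Subtype.val hk
    simpa using this
  have hSN : S ≤ Subgroup.normalizer (Q : Set (Module.End K W)ˣ) := by
    intro y hy
    obtain ⟨k, hk⟩ := hSord y hy
    exact mem_normalizer_of_pow_eq_one Q y (s ^ k) (pos_of_ne_zero (pow_ne_zero _ hs.ne_zero)) hk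
      (h.hSQ y hy)
  have hψN : ψ ∈ Subgroup.normalizer (Q : Set (Module.End K W)ˣ) := Subgroup.pow_mem _ hXN _
  have hodd : ∀ y ∈ S, ∃ m, Odd m ∧ y ^ m = 1 := by
    intro y hy
    obtain ⟨k, hk⟩ := hSord y hy
    exact ⟨s ^ k, hsodd.pow, hk⟩
  have hcop : ∀ y ∈ S, ∃ m, y ^ m = 1 ∧ Nat.Coprime m q := by
    intro y hy
    obtain ⟨k, hk⟩ := hSord y hy
    exact ⟨s ^ k, hk, Nat.Coprime.pow_left _ ((Nat.coprime_primes hs hq).2 (fun h => hqs h.symm))⟩
  haveI : Nontrivial W := by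
    by_contra hW
    rw [not_nontrivial_iff_subsingleton] at hW
    obtain ⟨t, _, y, _, hty⟩ := hnc
    apply hty
    apply Units.ext
    apply LinearMap.ext
    intro w
    exact Subsingleton.elim _ _
  haveI : Fintype Q := Fintype.ofFinite Q
  set ρ := rho0 Q with hρ
  have hZs : ∀ e : Q, e ∈ Zs Q ↔ (e : (Module.End K W)ˣ) ∈ zen Q := by
    intro e
    constructor
    · intro he
      rw [mem_zen]
      refine ⟨e.2, ?_⟩
      intro f hf
      apply Units.ext
      rw [Units.val_mul, Units.val_mul]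
      exact ((mem_Zs Q).1 he).commute _ |>.symm
    · intro he
      exact hZscal _ he
  have hHyp : Hyp ρ := by
    constructor
    · intro e f
      exact hZscal _ (hi e e.2 f f.2)
    · intro e he
      apply (hZs e).2
      rw [mem_zen]
      refine ⟨e.2, fun f hf => ?_⟩
      have h1 := he ⟨f, hf⟩
      have h2 : ⁅e, (⟨f, hf⟩ : Q)⁆ = 1 := rho0_injective Q (by rw [h1, map_one])
      have h3 := commutatorElement_eq_one_iff_mul_comm.1 h2
      have h4 := congrArg Subtype.val h3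
      exact h4.symm
  -- the quotient
  let N := Q ⧸ Zs Q
  letI : CommGroup N := { (inferInstance : Group N) with
    mul_comm := by
      intro a b
      induction a using QuotientGroup.induction_on with
      | H a =>
        induction b using QuotientGroup.induction_on with
        | H b =>
          rw [← QuotientGroup.mk_mul, ← QuotientGroup.mk_mul, QuotientGroup.eq]
          have h1 : (a * b)⁻¹ * (b * a) = ⁅b⁻¹, a⁻¹⁆ := by rw [commutatorElement_def]; group
          rw [h1]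
          exact hHyp.scal _ _ }
  haveI : Finite N := inferInstanceAs (Finite (Q ⧸ Zs Q))
  set Xn : Subgroup.normalizer (Q : Set (Module.End K W)ˣ) := ⟨X, hXN⟩ with hXn'
  set Xb : MulAut N := barHom Q Xn with hXb
  set ψb : MulAut N := Xb ^ (2 ^ (n - 1)) with hψb
  have hbar_mk : ∀ (g : (Module.End K W)ˣ)
      (hg : g ∈ Subgroup.normalizer (Q : Set (Module.End K W)ˣ)) (e : Q),
      barHom Q ⟨g, hg⟩ (QuotientGroup.mk e : N) = QuotientGroup.mk (conjMul Q g hg e) :=
    fun g hg e => rfl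
  have hψb_eq : ψb = barHom Q ⟨ψ, hψN⟩ := by
    rw [hψb, hXb, ← map_pow]
    rfl
  have hψb2 : ∀ x : N, ψb (ψb x) = x := by
    intro x
    have h1 : ψb * ψb = 1 := by
      rw [hψb_eq, ← map_mul]
      have : (⟨ψ, hψN⟩ : Subgroup.normalizer (Q : Set (Module.End K W)ˣ)) * ⟨ψ, hψN⟩ = 1 := by
        apply Subtype.ext
        show ψ * ψ = 1
        rw [← pow_two, hψ2]
      rw [this, map_one]
    have h2 := congrArg (fun α : MulAut N => α x) h1
    exact h2
  have hXψ : ∀ x : N, Xb (ψb x) = ψb (Xb x) := by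
    intro x
    rw [hψb, ← MulAut.mul_apply, ← MulAut.mul_apply, ← pow_succ', ← pow_succ]
  have hXbN : Xb ^ (2 ^ n) = 1 := by
    rw [hXb, ← map_pow]
    have : Xn ^ (2 ^ n) = 1 := by
      apply Subtype.ext
      rw [Subgroup.coe_pow]
      exact h.hXn
    rw [this, map_one]
  have hmk_eq_one : ∀ e : Q, (QuotientGroup.mk e : N) = 1 ↔ (e : (Module.End K W)ˣ) ∈ zen Q := by
    intro e
    rw [QuotientGroup.eq_one_iff]
    exact hZs e
  -- exponent `q`
  have hexpN : ∀ x : N, x ^ q = 1 := by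
    by_contra hcon
    push Not at hcon
    obtain ⟨x₀, hx₀⟩ := hcon
    let R : Subgroup (Module.End K W)ˣ :=
      (((powMonoidHom q : N →* N).ker).comap (QuotientGroup.mk' (Zs Q))).map Q.subtype
    have hRmem : ∀ e : (Module.End K W)ˣ, e ∈ R ↔
        ∃ he : e ∈ Q, (QuotientGroup.mk (⟨e, he⟩ : Q) : N) ^ q = 1 := by
      intro e
      constructor
      · rintro ⟨e', he', rfl⟩
        exact ⟨e'.2, he'⟩
      · rintro ⟨he, h1⟩
        exact ⟨⟨e, he⟩, h1, rfl⟩
    have hRle : R ≤ Q := by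
      intro e he
      exact ((hRmem e).1 he).1
    have hRne : R ≠ Q := by
      intro hRQ
      induction x₀ using QuotientGroup.induction_on with
      | H e₀ =>
        have h1 : (e₀ : (Module.End K W)ˣ) ∈ R := by rw [hRQ]; exact e₀.2
        obtain ⟨_, h2⟩ := (hRmem _).1 h1
        exact hx₀ h2
    have hZR : zen Q ≤ R := by
      intro z hz
      refine (hRmem z).2 ⟨zen_le Q hz, ?_⟩
      rw [(hmk_eq_one ⟨z, zen_le Q hz⟩).2 hz, one_pow]
    have hRconj : ∀ (g : (Module.End K W)ˣ)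
        (hg : g ∈ Subgroup.normalizer (Q : Set (Module.End K W)ˣ)), ∀ e ∈ R, g * e * g⁻¹ ∈ R := by
      intro g hg e he
      obtain ⟨heQ, h1⟩ := (hRmem e).1 he
      refine (hRmem _).2 ⟨(Subgroup.mem_normalizer_iff.1 hg e).1 heQ, ?_⟩
      have h2 := hbar_mk g hg ⟨e, heQ⟩
      have h3 : (QuotientGroup.mk (⟨g * e * g⁻¹, (Subgroup.mem_normalizer_iff.1 hg e).1 heQ⟩ : Q) : N)
          = barHom Q ⟨g, hg⟩ (QuotientGroup.mk (⟨e, heQ⟩ : Q) : N) := h2.symm
      rw [h3, ← map_pow, h1, map_one]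
    have hR := hirr R (lt_of_le_of_ne hRle hRne) hZR (hRconj X hXN)
      (fun y hy => hRconj y (hSN hy))
    have hNq : IsPGroup q N := h.hQ.to_quotient (Zs Q)
    have hdvd : q ∣ Nat.card N := by
      obtain ⟨k, hk⟩ := IsPGroup.iff_card.1 hNq
      rcases Nat.eq_zero_or_pos k with rfl | hk0
      · exfalso
        rw [pow_zero] at hk
        haveI : Subsingleton N := (Nat.card_eq_one_iff_unique.1 hk).1
        apply hx₀
        exact Subsingleton.elim _ _
      · rw [hk]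
        exact dvd_pow_self q (by omega)
    obtain ⟨x, hx⟩ := exists_prime_orderOf_dvd_card' (G := N) q hdvd
    have hxq : x ^ q = 1 := by rw [← hx]; exact pow_orderOf_eq_one x
    induction x using QuotientGroup.induction_on with
    | H e =>
      have h1 : (e : (Module.End K W)ˣ) ∈ R := (hRmem _).2 ⟨e.2, hxq⟩
      rw [hR] at h1
      have h2 := (hmk_eq_one e).2 h1
      rw [h2, orderOf_one] at hx
      exact hq.one_lt.ne hx
  have hsq : ∀ x : N, x ^ 2 = 1 → x = 1 := by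
    intro x hx2
    obtain ⟨t, ht⟩ := hqodd
    have h1 := hexpN x
    rw [ht, pow_succ, pow_mul, hx2, one_pow, one_mul] at h1
    exact h1
  -- the inverted part
  let Nm : Subgroup N :=
    { carrier := {x | ψb x = x⁻¹}
      one_mem' := by simp
      mul_mem' := by
        intro a b ha hb
        show ψb (a * b) = (a * b)⁻¹
        rw [map_mul, ha, hb, mul_inv]
      inv_mem' := by
        intro a ha
        show ψb a⁻¹ = a⁻¹⁻¹
        rw [map_inv, ha] }
  have hNm_mem : ∀ x : N, x ∈ Nm ↔ ψb x = x⁻¹ := fun x => Iff.rfl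
  have hNmX : ∀ x ∈ Nm, Xb x ∈ Nm := by
    intro x hx
    rw [hNm_mem] at hx ⊢
    rw [← hXψ, hx, map_inv]
  let φ : N →* N :=
    { toFun := fun x => x⁻¹ * ψb x
      map_one' := by simp
      map_mul' := by
        intro a b
        rw [map_mul, mul_inv]
        exact mul_mul_mul_comm _ _ _ _ }
  have hφ_apply : ∀ x, φ x = x⁻¹ * ψb x := fun x => rfl
  have hφker : ∀ x, x ∈ φ.ker ↔ ψb x = x := by
    intro x
    rw [MonoidHom.mem_ker, hφ_apply, inv_mul_eq_one]
    exact eq_comm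
  have hφNm : ∀ x, φ x ∈ Nm := by
    intro x
    rw [hNm_mem, hφ_apply, map_mul, map_inv, hψb2, mul_inv, inv_inv, mul_comm]
  have hφrange : φ.range = Nm := by
    apply le_antisymm
    · rintro _ ⟨x, rfl⟩
      exact hφNm x
    · intro b hb
      obtain ⟨t, ht⟩ := hqodd
      refine ⟨b ^ t, ?_⟩
      have hb' : ψb b = b⁻¹ := hb
      rw [hφ_apply, map_pow, hb', inv_pow, ← mul_inv, ← pow_add]
      have h1 : b ^ (t + t) * b = 1 := by
        rw [← pow_succ, ← two_mul, ← ht]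
        exact hexpN b
      exact inv_eq_of_mul_eq_one_right h1
  have hcardN : Nat.card N = Nat.card φ.ker * Nat.card Nm := by
    rw [← hφrange, ← Subgroup.index_ker, Subgroup.card_mul_index]
  -- the preimage of the inverted part
  let Qm : Subgroup (Module.End K W)ˣ := (Nm.comap (QuotientGroup.mk' (Zs Q))).map Q.subtype
  have hQm_mem : ∀ e : (Module.End K W)ˣ, e ∈ Qm ↔
      ∃ he : e ∈ Q, (QuotientGroup.mk (⟨e, he⟩ : Q) : N) ∈ Nm := by
    intro e
    constructor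
    · rintro ⟨e', he', rfl⟩
      exact ⟨e'.2, he'⟩
    · rintro ⟨he, h1⟩
      exact ⟨⟨e, he⟩, h1, rfl⟩
  have hQmle : Qm ≤ Q := fun e he => ((hQm_mem e).1 he).1
  haveI : Finite Qm :=
    Finite.of_injective (Subgroup.inclusion hQmle) (Subgroup.inclusion_injective _)
  haveI : Fintype Qm := Fintype.ofFinite Qm
  have hQmq : IsPGroup q Qm := h.hQ.to_le hQmle
  have hXQm : ∀ e ∈ Qm, X * e * X⁻¹ ∈ Qm := by
    intro e he
    obtain ⟨heQ, hem⟩ := (hQm_mem e).1 he
    refine (hQm_mem _).2 ⟨h.hXQ e heQ, ?_⟩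
    exact hNmX _ hem
  have hXNm : X ∈ Subgroup.normalizer (Qm : Set (Module.End K W)ˣ) :=
    mem_normalizer_of_pow_eq_one Qm X (2 ^ n) hNpos h.hXn hXQm
  set ρm := rho0 Qm with hρm
  set τm := conjMul Qm X hXNm with hτm
  have hTwm : Twists ρm X τm := twists_rho0 Qm X hXNm
  have hscalm : ∀ e : Qm, e ∈ scalSubgroup ρm ↔ (e : (Module.End K W)ˣ) ∈ zen Q := by
    intro e
    constructor
    · intro he
      exact (hZs ⟨e, hQmle e.2⟩).1 he
    · intro he
      exact hZscal _ he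
  -- `ψ` inverts `Qm` modulo the centre
  have hψmk : ∀ (e : (Module.End K W)ˣ) (he : e ∈ Q),
      ψb (QuotientGroup.mk (⟨e, he⟩ : Q) : N) =
        QuotientGroup.mk (⟨ψ * e * ψ⁻¹, (Subgroup.mem_normalizer_iff.1 hψN e).1 he⟩ : Q) := by
    intro e he
    rw [hψb_eq]
    rfl
  have hsq_mem : ∀ e : Qm, (e : (Module.End K W)ˣ) * e ∈ zen Q → (e : (Module.End K W)ˣ) ∈ zen Q := by
    intro e he
    have heQ := hQmle e.2
    rw [← hmk_eq_one ⟨_, Q.mul_mem heQ heQ⟩] at he
    rw [← hmk_eq_one ⟨e, heQ⟩]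
    apply hsq
    rw [pow_two, ← QuotientGroup.mk_mul]
    exact he
  have hHypm : Hyp ρm := by
    constructor
    · intro e f
      exact hZscal _ (hi e (hQmle e.2) f (hQmle f.2))
    · intro e he
      apply (hscalm e).2
      -- `e` is central in `Qm`
      have hez : (e : (Module.End K W)ˣ) ∈ zen Qm := by
        rw [mem_zen]
        refine ⟨e.2, fun f hf => ?_⟩
        have h1 := he ⟨f, hf⟩
        have h2 : ⁅e, (⟨f, hf⟩ : Qm)⁆ = 1 := rho0_injective Qm (by rw [h1, map_one])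
        have h3 := commutatorElement_eq_one_iff_mul_comm.1 h2
        have h4 := congrArg Subtype.val h3
        exact h4.symm
      haveI : Finite (zen Qm) :=
        Finite.of_injective (Subgroup.inclusion (zen_le Qm)) (Subgroup.inclusion_injective _)
      have hcomm : ψ * (e : (Module.End K W)ˣ) = e * ψ :=
        psi_comm_of_abelian q hqK (zen Qm) (hQmq.to_le (zen_le Qm))
          (fun a ha b hb => (mem_zen.1 hb).2 a (zen_le Qm ha)) X (conj_mem_zen Qm X hXNm) n hn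
          h.hXn h.hfix _ hez
      obtain ⟨heQ, hem⟩ := (hQm_mem _).1 e.2
      rw [hNm_mem, hψmk] at hem
      have h5 : ψ * (e : (Module.End K W)ˣ) * ψ⁻¹ = e := by rw [hcomm]; group
      have h6 : (QuotientGroup.mk (⟨(e : (Module.End K W)ˣ), heQ⟩ : Q) : N) =
          (QuotientGroup.mk (⟨(e : (Module.End K W)ˣ), heQ⟩ : Q) : N)⁻¹ := by
        rw [← hem]
        congr 1
        apply Subtype.ext
        exact h5.symm
      rw [← hmk_eq_one ⟨e, heQ⟩]
      apply hsq
      rw [pow_two]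
      nth_rewrite 1 [h6]
      rw [inv_mul_cancel]
  have hfpfm : ∀ e, ((τm ^ (2 ^ (n - 1))) e)⁻¹ * e ∈ scalSubgroup ρm → e ∈ scalSubgroup ρm := by
    intro e he
    rw [hscalm] at he ⊢
    have h1 : (((((τm ^ (2 ^ (n - 1))) e)⁻¹ * e : Qm)) : (Module.End K W)ˣ) =
        (ψ * e * ψ⁻¹)⁻¹ * e := by
      rw [Subgroup.coe_mul, Subgroup.coe_inv, hτm, conjMul_pow_apply]
    rw [h1] at he
    obtain ⟨heQ, hem⟩ := (hQm_mem _).1 e.2
    rw [hNm_mem, hψmk] at hem
    have hcQ : ψ * (e : (Module.End K W)ˣ) * ψ⁻¹ ∈ Q := (Subgroup.mem_normalizer_iff.1 hψN e).1 heQ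
    -- both `(ψeψ⁻¹)⁻¹ e` and `(ψeψ⁻¹) e` are central
    have h2 : (QuotientGroup.mk (⟨(ψ * (e : (Module.End K W)ˣ) * ψ⁻¹)⁻¹ * e,
        Q.mul_mem (Q.inv_mem hcQ) heQ⟩ : Q) : N) = 1 := (hmk_eq_one _).2 he
    have h3 : (QuotientGroup.mk (⟨(ψ * (e : (Module.End K W)ˣ) * ψ⁻¹)⁻¹ * e,
        Q.mul_mem (Q.inv_mem hcQ) heQ⟩ : Q) : N) =
        (QuotientGroup.mk (⟨ψ * (e : (Module.End K W)ˣ) * ψ⁻¹, hcQ⟩ : Q) : N)⁻¹ *
          QuotientGroup.mk (⟨(e : (Module.End K W)ˣ), heQ⟩ : Q) := rfl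
    rw [h3, hem, inv_inv, ← pow_two] at h2
    exact (hmk_eq_one ⟨e, heQ⟩).1 (hsq _ h2)
  have hEm : (Fintype.card Qm : K) ≠ 0 := by
    obtain ⟨j, hj⟩ := IsPGroup.iff_card.1 hQmq
    rw [← Nat.card_eq_fintype_card, hj, Nat.cast_pow]
    exact pow_ne_zero _ hqK
  have hcount := thmS2 hHypm hEm hTwm 2 n Nat.prime_two hn h2K' h.hXn hfpfm h.hfix
  let κ : Qm →* N := (QuotientGroup.mk' (Zs Q)).comp (Subgroup.inclusion hQmle)
  have hκker : κ.ker = scalSubgroup ρm := by
    ext e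
    rw [MonoidHom.mem_ker, hscalm]
    exact hmk_eq_one ⟨e, hQmle e.2⟩
  have hκrange : κ.range = Nm := by
    apply le_antisymm
    · rintro _ ⟨e, rfl⟩
      obtain ⟨heQ, hem⟩ := (hQm_mem _).1 e.2
      exact hem
    · intro x hx
      induction x using QuotientGroup.induction_on with
      | H e =>
        have h1 : (e : (Module.End K W)ˣ) ∈ Qm := (hQm_mem _).2 ⟨e.2, hx⟩
        exact ⟨⟨e, h1⟩, rfl⟩
  have hidx : (scalSubgroup ρm).index = Nat.card Nm := by
    rw [← hκker, Subgroup.index_ker, hκrange]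
  rw [hidx] at hcount
  -- if `ψ` centralizes `Q / Z` we are done
  have hcase1 : Nat.card Nm ≠ 1 := by
    intro hc1
    have hNm1 : ∀ x ∈ Nm, x = 1 := by
      intro x hx
      haveI : Subsingleton Nm := (Nat.card_eq_one_iff_unique.1 hc1).1
      have := Subsingleton.elim (⟨x, hx⟩ : Nm) 1
      exact congrArg Subtype.val this
    have hψall : ∀ x : N, ψb x = x := by
      intro x
      have h1 := hNm1 _ (hφNm x)
      rw [hφ_apply, inv_mul_eq_one] at h1
      exact h1.symm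
    have hψQ : ∀ e ∈ Q, ψ * e = e * ψ := by
      intro e he
      have h1 := hψall (QuotientGroup.mk (⟨e, he⟩ : Q))
      rw [hψmk] at h1
      have h2 := QuotientGroup.eq.1 h1.symm
      have h3 : e⁻¹ * (ψ * e * ψ⁻¹) ∈ zen Q := (hZs _).1 h2
      have hψm : ψ ^ 2 = 1 := hψ2
      exact comm_of_comm_of_coprime Q h.hQ ψ 2 hψm
        ((Nat.coprime_primes Nat.prime_two hq).2 (fun h => hq2 h.symm)) e (zen_le Q h3)
        (hψZ _ h3)
    obtain ⟨t, htQ, y, hyS, hty⟩ := hnc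
    exact hty (centralizes_of_inverted Q S ψ hψQ h.hSQ hodd h.hgen t htQ y hyS)
  have hcardNm : Nat.card Nm = (2 ^ n - 1) ^ 2 := by
    rcases hcount with h1 | h1
    · exact absurd h1 hcase1
    · exact h1
  -- `2 ^ n - 1 = q`
  have hNmq : IsPGroup q Nm := (h.hQ.to_quotient (Zs Q)).to_subgroup Nm
  obtain ⟨m, hm⟩ := IsPGroup.iff_card.1 hNmq
  have hMq : 2 ^ n - 1 = q := by
    have h1 : 2 ^ n - 1 ∣ q ^ m := by
      rw [← hm, hcardNm]
      exact dvd_pow_self _ (by norm_num)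
    obtain ⟨j, -, hj⟩ := (Nat.dvd_prime_pow hq).1 h1
    have hj1 : 1 ≤ j := by
      by_contra h0
      have h0' : j = 0 := by omega
      rw [h0', pow_zero] at hj
      rw [hj] at hcardNm
      exact hcase1 (by rw [hcardNm]; norm_num)
    have h2 : q ^ j + 1 = 2 ^ n := by
      rw [← hj]
      omega
    have hq3 : 3 ≤ q := by
      have := hq.two_le
      omega
    have hj' := mersenne_prime_pow q j n hq3 hqodd hj1 h2
    rw [hj', pow_one] at hj
    exact hj
  have hn2 : 2 ≤ n := by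
    by_contra hlt
    have hn1 : n = 1 := by omega
    rw [hn1] at hMq
    have := hq.two_le
    omega
  -- claim (1): `X` centralizes the fixed points of `ψ` on `Q / Z`
  have hE : (Fintype.card Q : K) ≠ 0 := by
    obtain ⟨j, hj⟩ := IsPGroup.iff_card.1 h.hQ
    rw [← Nat.card_eq_fintype_card, hj, Nat.cast_pow]
    exact pow_ne_zero _ hqK
  have hTw : Twists ρ X (conjMul Q X hXN) := twists_rho0 Q X hXN
  have htb : ∀ (i : ℕ) (x : N), (tauBar hTw ^ i) x = (Xb ^ i) x := by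
    intro i x
    induction x using QuotientGroup.induction_on with
    | H e =>
      rw [tauBar_pow_mk, hXb, ← map_pow]
      have h1 : Xn ^ i = ⟨X ^ i, Subgroup.pow_mem _ hXN i⟩ := Subtype.ext (by rw [Subgroup.coe_pow])
      rw [h1, hbar_mk]
      congr 1
      apply Subtype.ext
      rw [conjMul_pow_apply, conjMul_apply]
  have hbig : (2 ^ n - 1) ^ 2 *
      Nat.card {x : Q ⧸ scalSubgroup ρ // (tauBar hTw ^ (2 ^ (n - 1))) x = x} ≤
        (scalSubgroup ρ).index := by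
    have h1 : Nat.card {x : Q ⧸ scalSubgroup ρ // (tauBar hTw ^ (2 ^ (n - 1))) x = x} =
        Nat.card φ.ker := by
      apply Nat.card_congr
      apply Equiv.subtypeEquivRight
      intro x
      rw [htb, hφker]
    have h2 : (scalSubgroup ρ).index = Nat.card N := Subgroup.index_eq_card _
    rw [h1, h2, hcardN, hcardNm, mul_comm]
  have hclaim := tau_fixes_of_psi_fixes hHyp hE hTw 2 n Nat.prime_two hn h2K' h.hXn h.hfix hbig
  have hXfix : ∀ x : N, ψb x = x → Xb x = x := by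
    intro x hx
    have h1 := hclaim x (by rw [htb]; exact hx)
    have h2 := htb 1 x
    rw [pow_one, pow_one] at h2
    rw [← h2]
    exact h1
  -- `[N, X] ≤ Nm`
  have hB : ∀ a : N, Xb a * a⁻¹ ∈ Nm := by
    intro a
    set pp := a * ψb a with hpp
    set pm := a * (ψb a)⁻¹ with hpm
    have hppfix : ψb pp = pp := by rw [hpp, map_mul, hψb2, mul_comm]
    have hpmNm : pm ∈ Nm := by
      rw [hNm_mem, hpm, map_mul, map_inv, hψb2, mul_inv, inv_inv, mul_comm]
    have ha2 : a ^ 2 = pp * pm := by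
      rw [hpp, hpm, pow_two]
      calc a * a = a * a * (ψb a * (ψb a)⁻¹) := by rw [mul_inv_cancel, mul_one]
        _ = a * ψb a * (a * (ψb a)⁻¹) := by
          rw [mul_mul_mul_comm]
    set d := Xb a * a⁻¹ with hd
    have hd2 : d ^ 2 = Xb pm * pm⁻¹ := by
      have h1 : d ^ 2 = Xb (a ^ 2) * (a ^ 2)⁻¹ := by
        rw [hd, mul_pow, map_pow, inv_pow]
      rw [h1, ha2, map_mul, hXfix pp hppfix, mul_inv]
      calc pp * Xb pm * (pp⁻¹ * pm⁻¹) = (pp * pp⁻¹) * (Xb pm * pm⁻¹) := by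
            rw [mul_mul_mul_comm]
        _ = Xb pm * pm⁻¹ := by rw [mul_inv_cancel, one_mul]
    have hd2m : d ^ 2 ∈ Nm := by
      rw [hd2]
      exact Nm.mul_mem (hNmX _ hpmNm) (Nm.inv_mem hpmNm)
    obtain ⟨t, ht⟩ := hqodd
    have h3 : d = (d ^ 2) ^ (t + 1) := by
      rw [← pow_mul]
      have : 2 * (t + 1) = q + 1 := by omega
      rw [this, pow_succ, hexpN, one_mul]
    rw [h3]
    exact Nm.pow_mem hd2m _
  -- the image of `S`
  let Sb : Subgroup (MulAut N) :=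
    (S.subgroupOf (Subgroup.normalizer (Q : Set (Module.End K W)ˣ))).map (barHom Q)
  have hSbs : IsPGroup s Sb := (h.hS.comap_subtype).map _
  have hSb_mem : ∀ y (hy : y ∈ S), barHom Q ⟨y, hSN hy⟩ ∈ Sb := by
    intro y hy
    exact ⟨⟨y, hSN hy⟩, hy, rfl⟩
  have hXSb : ∀ e ∈ Sb, Xb * e * Xb⁻¹ ∈ Sb := by
    rintro _ ⟨y, hy, rfl⟩
    have hy' : ((y : Subgroup.normalizer (Q : Set (Module.End K W)ˣ)) : (Module.End K W)ˣ) ∈ S := hy
    refine ⟨Xn * y * Xn⁻¹, ?_, ?_⟩
    · show ((Xn * y * Xn⁻¹ : Subgroup.normalizer (Q : Set (Module.End K W)ˣ)) :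
        (Module.End K W)ˣ) ∈ S
      exact h.hXS _ hy'
    · rw [map_mul, map_mul, map_inv]
  have hYb : ∃ t ∈ Sb, Xb ^ (2 ^ (n - 1)) * t ≠ t * Xb ^ (2 ^ (n - 1)) := by
    -- a generator not centralizing `Q`
    have hexy : ∃ y, y ∈ S ∧ ψ * y * ψ⁻¹ = y⁻¹ ∧ ∃ t ∈ Q, y * t ≠ t * y := by
      by_contra hall
      push Not at hall
      have hle : S ≤ Subgroup.centralizer (Q : Set (Module.End K W)ˣ) := by
        refine h.hgen.trans ?_
        rw [Subgroup.closure_le]
        rintro y ⟨hyS, hy⟩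
        rw [SetLike.mem_coe, Subgroup.mem_centralizer_iff]
        intro t ht
        exact (hall y hyS hy t ht).symm
      obtain ⟨t, htQ, y, hyS, hty⟩ := hnc
      exact hty ((Subgroup.mem_centralizer_iff.1 (hle hyS) t htQ).symm)
    obtain ⟨y, hyS, hyinv, t, htQ, hty⟩ := hexy
    set yb := barHom Q ⟨y, hSN hyS⟩ with hyb
    have hyb1 : yb ≠ 1 := by
      intro h1
      apply hty
      obtain ⟨m, hym, hmq⟩ := hcop y hyS
      have h2 := congrArg (fun α : MulAut N => α (QuotientGroup.mk (⟨t, htQ⟩ : Q))) h1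
      simp only [MulAut.one_apply] at h2
      rw [hyb, hbar_mk] at h2
      have h3 := QuotientGroup.eq.1 h2.symm
      have h4 : t⁻¹ * (y * t * y⁻¹) ∈ zen Q := (hZs _).1 h3
      exact comm_of_comm_of_coprime Q h.hQ y m hym hmq t (zen_le Q h4) (hii _ h4 y hyS)
    have hconj : ψb * yb * ψb⁻¹ = yb⁻¹ := by
      rw [hψb_eq, hyb, ← map_inv, ← map_mul, ← map_mul, ← map_inv]
      congr 1
      apply Subtype.ext
      exact hyinv
    refine ⟨yb, hSb_mem y hyS, ?_⟩
    intro hcomm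
    apply hyb1
    have h1 : yb = yb⁻¹ := by
      rw [← hconj]
      have : ψb * yb = yb * ψb := hcomm
      rw [this]
      group
    have h2 : yb ^ 2 = 1 := by
      rw [pow_two]
      nth_rewrite 1 [h1]
      rw [inv_mul_cancel]
    obtain ⟨k, hk⟩ := hSord y hyS
    have h3 : yb ^ (s ^ k) = 1 := by
      rw [hyb, ← map_pow]
      have : (⟨y, hSN hyS⟩ : Subgroup.normalizer (Q : Set (Module.End K W)ˣ)) ^ (s ^ k) = 1 := by
        apply Subtype.ext
        rw [Subgroup.coe_pow]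
        exact hk
      rw [this, map_one]
    have hodd' : Odd (s ^ k) := hsodd.pow
    obtain ⟨t', ht'⟩ := hodd'
    rw [ht', pow_succ, pow_mul, h2, one_pow, one_mul] at h3
    exact h3
  have hBc : Nat.card Nm ≤ q ^ 2 := by
    rw [hcardNm, hMq]
  obtain ⟨j, hj⟩ := thmSG2c_group q s hexpN hs2 hq2 hqs Sb hSbs Xb hXSb n hn2 hXbN hYb Nm hB hBc
  rw [hMq] at hj
  have hj0 : j ≠ 0 := by
    rintro rfl
    rw [pow_zero] at hj
    exact hq.one_lt.ne hj
  have hsq' : s ∣ q := by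
    rw [← hj]
    exact dvd_pow_self s hj0
  exact hqs ((Nat.prime_dvd_prime_iff_eq hs hq).1 hsq').symm

end End

end Cfsg.Agent.Lib.Helper56.Gross
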