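import Cfsg.Agent.Lib.Helper56.WardGroupA
import Cfsg.Agent.Lib.Helper01.PPrimeCore

/-!
# Ward's theorem: invariant Sylow subgroups and a nilpotency criterion

`B` a `p`-group acting on the `p'`-group `H`: there are `B`-invariant Sylow subgroups; if `H / F(H)`
is nilpotent and invariant Sylow subgroups centralize the cores of the other primes, then `H` is
nilpotent.
-/

set_option autoImplicit false
set_option linter.unusedSectionVars false
set_option linter.style.haveILetI false

open scoped commutatorElement Pointwise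

namespace Cfsg.Agent.Lib.Helper56.WardG

open Cfsg.Agent.Lib.Helper56

universe u w

variable {H : Type u} [Group H] [Finite H] {B : Type w} [Group B] {p : ℕ} [Fact p.Prime]

theorem exists_invariant_sylow (hB : IsPGroup p B) (ψ : B →* MulAut H)
    (hpH : ¬ p ∣ Nat.card H) (r : ℕ) [Fact r.Prime] :
    ∃ R : Sylow r H, ∀ b, ∀ x ∈ R, ψ b x ∈ R := by
  letI : MulAction B (Sylow r H) := MulAction.compHom (Sylow r H) ψ
  have hsmul : ∀ (b : B) (R : Sylow r H), b • R = ψ b • R := fun b R => rfl
  have hcard : ¬ p ∣ Nat.card (Sylow r H) := by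
    intro h
    have P : Sylow r H := default
    exact hpH ((h.trans P.card_dvd_index).trans (Subgroup.index_dvd_card _))
  obtain ⟨R, hR⟩ := hB.nonempty_fixed_point_of_prime_not_dvd_card (Sylow r H) hcard
  refine ⟨R, ?_⟩
  intro b x hx
  have h1 : ψ b • R = R := by rw [← hsmul]; exact hR b
  have h2 : ψ b • x ∈ ψ b • R := by
    show ψ b • x ∈ (ψ b • (R : Subgroup H))
    exact Subgroup.smul_mem_pointwise_smul x (ψ b) R hx
  rw [h1] at h2
  exact h2

/-- the quotient by a subgroup containing a term of the lower central series is nilpotent -/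
theorem quotient_isNilpotent_of_lcs_le (F : Subgroup H) [F.Normal]
    (hF : ∃ k, (⊤ : Subgroup H).lowerCentralSeries k ≤ F) : Group.IsNilpotent (H ⧸ F) := by
  rw [Subgroup.nilpotent_iff_lowerCentralSeries]
  obtain ⟨k, hk⟩ := hF
  refine ⟨k, ?_⟩
  have h1 := Subgroup.map_lowerCentralSeries (⊤ : Subgroup H) (QuotientGroup.mk' F) k
  rw [← MonoidHom.range_eq_map, MonoidHom.range_eq_top.mpr (QuotientGroup.mk'_surjective F)] at h1
  rw [← h1, eq_bot_iff]
  calc ((⊤ : Subgroup H).lowerCentralSeries k).map (QuotientGroup.mk' F)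
      ≤ F.map (QuotientGroup.mk' F) := Subgroup.map_mono hk
    _ = ⊥ := QuotientGroup.map_mk'_self F

/-- **Nilpotency criterion.** -/
theorem nilpotent_of_pairs (hB : IsPGroup p B) (ψ : B →* MulAut H) (hpH : ¬ p ∣ Nat.card H)
    (hF : ∃ k, (⊤ : Subgroup H).lowerCentralSeries k ≤ Cfsg.fittingSubgroup H)
    (hpairs : ∀ (s r : ℕ) [Fact s.Prime] [Fact r.Prime], s ≠ r → ∀ N R : Subgroup H,
      BInv ψ N → IsPGroup s N → IsPGroup r R → (∀ b, ∀ x ∈ R, ψ b x ∈ R) →
      ∀ x ∈ N, ∀ y ∈ R, x * y = y * x) :
    Group.IsNilpotent H := by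
  set F : Subgroup H := Cfsg.fittingSubgroup H with hFdef
  haveI hFn : F.Normal := Cfsg.Agent.Lib.Helper13.fittingSubgroup_normal
  have hQ : Group.IsNilpotent (H ⧸ F) := quotient_isNilpotent_of_lcs_le F hF
  have hall : ∀ (r : ℕ) (_hr : Fact r.Prime) (P : Sylow r H), (P : Subgroup H).Normal := by
    intro r hr P
    obtain ⟨R, hR⟩ := exists_invariant_sylow hB ψ hpH r
    have hcent : ∀ (s : ℕ) [Fact s.Prime], s ≠ r →
        ∀ x ∈ Cfsg.pCore s H, ∀ y ∈ (R : Subgroup H), x * y = y * x := by
      intro s _ hsr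
      exact hpairs s r hsr (Cfsg.pCore s H) R
        (binv_of_characteristic ψ _ (Cfsg.Agent.Lib.Helper01.pCore_characteristic s))
        (Cfsg.Agent.Lib.Helper01.pCore_isPGroup s) R.isPGroup' hR
    have hFle : F ≤ Subgroup.normalizer ((R : Subgroup H) : Set H) := by
      rw [hFdef, Cfsg.Agent.Lib.Helper01.fitting_eq_iSup_pCore]
      apply iSup_le
      intro s
      haveI : Fact (s : ℕ).Prime := ⟨s.2⟩
      by_cases hsr : (s : ℕ) = r
      · have h1 : Cfsg.pCore (s : ℕ) H ≤ (R : Subgroup H) := by
          rw [hsr]; exact Cfsg.Agent.Lib.Helper01.pCore_le_sylow R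
        exact h1.trans Subgroup.le_normalizer
      · intro x hx
        rw [Subgroup.mem_normalizer_iff]
        intro y
        constructor
        · intro hy
          have h2 := hcent s hsr x hx y hy
          have h3 : x * y * x⁻¹ = y := by rw [h2]; group
          rw [h3]; exact hy
        · intro hy
          have h2 := hcent s hsr x hx _ hy
          have h3 : x * y * x⁻¹ = y := by
            calc x * y * x⁻¹ = x⁻¹ * (x * (x * y * x⁻¹)) := by group
              _ = x⁻¹ * ((x * y * x⁻¹) * x) := by rw [h2]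
              _ = y := by group
          rw [← h3]; exact hy
    -- the image of `R` in `H / F` is normal
    let π := QuotientGroup.mk' F
    have hπ : Function.Surjective π := QuotientGroup.mk'_surjective F
    have hall' : ∀ (r : ℕ) (_hr : Fact r.Prime) (P : Sylow r (H ⧸ F)),
        (P : Subgroup (H ⧸ F)).Normal :=
      ((Group.isNilpotent_of_finite_tfae (G := H ⧸ F)).out 0 3).mp hQ
    have hRbar : ((R.mapSurjective hπ : Sylow r (H ⧸ F)) : Subgroup (H ⧸ F)).Normal :=
      hall' r hr _
    rw [Sylow.coe_mapSurjective] at hRbar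
    set T : Subgroup H := ((R : Subgroup H).map π).comap π with hT
    have hTn : T.Normal := hRbar.comap π
    have hRT : (R : Subgroup H) ≤ T := Subgroup.le_comap_map _ _
    have hTle : T ≤ Subgroup.normalizer ((R : Subgroup H) : Set H) := by
      intro x hx
      rw [hT, Subgroup.mem_comap] at hx
      obtain ⟨y, hy, hyx⟩ := hx
      have h1 : y⁻¹ * x ∈ F := QuotientGroup.eq.mp hyx
      have h2 : x = y * (y⁻¹ * x) := by group
      rw [h2]
      exact Subgroup.mul_mem _ (Subgroup.le_normalizer hy) (hFle h1)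
    have hRn : (R : Subgroup H).Normal := by
      constructor
      intro x hx g
      -- the conjugate of `R` by `g`
      let Rg : Subgroup H := (R : Subgroup H).map (MulAut.conj g).toMonoidHom
      have hRg : IsPGroup r Rg := R.isPGroup'.map _
      have hRgT : Rg ≤ T := by
        rintro _ ⟨y, hy, rfl⟩
        exact hTn.conj_mem y (hRT hy) g
      have hsup : IsPGroup r (Rg ⊔ (R : Subgroup H) : Subgroup H) :=
        hRg.to_sup_of_normal_right' R.isPGroup' (hRgT.trans hTle)
      have heq : Rg ⊔ (R : Subgroup H) = R := R.is_maximal' hsup le_sup_right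
      have : g * x * g⁻¹ ∈ Rg := ⟨x, hx, rfl⟩
      rw [← heq]
      exact (le_sup_left : Rg ≤ Rg ⊔ (R : Subgroup H)) this
    obtain ⟨g, hg⟩ := MulAction.exists_smul_eq H R P
    have : P = R := by
      rw [← hg]
      exact Sylow.smul_eq_of_normal
    rw [this]
    exact hRn
  exact ((Group.isNilpotent_of_finite_tfae (G := H)).out 0 3).mpr hall

end Cfsg.Agent.Lib.Helper56.WardG
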