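import Cfsg.Agent.Lib.Helper56.GrossPairGroup
import Cfsg.Agent.Lib.Helper56.SGGroup
import Cfsg.Agent.Lib.Helper56.WardGroupB
import Cfsg.Agent.Lib.Helper26.Rank2Tower

/-!
# The linear lemmas for a fixed point free automorphism of order a power of two

`E` acts faithfully on the elementary abelian group `N`, irreducibly together with `ξ`; `τ` on `E`
and `ξ` on `N` are fixed point free and compatible, `ξ ^ (2 ^ (n+1)) = 1`, `ψ = τ ^ (2 ^ n)`.
* `lin2A`: if `n + 1 ≤ 2` then `ψ = 1`;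
* `lin2B`: `ψ` acts trivially on `E / F(E)`.
-/

set_option autoImplicit false
set_option linter.unusedSectionVars false
set_option linter.style.haveILetI false
set_option maxHeartbeats 1600000

open scoped commutatorElement

namespace Cfsg.Agent.Lib.Helper56.Gross

open Cfsg.Agent.Lib.Helper56.SG
open Cfsg.Agent.Lib.Helper26.Rank2Tower

section FC

variable {E : Type*} [Group E] [Finite E]

/-- a normal subgroup which is a `q`-group modulo `F(E)` meets the centralizer of `O_{q'}(F(E))`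
inside `F(E)` -/
theorem inf_centralizer_fq'_le_fitting (q : ℕ) [Fact q.Prime] (T : Subgroup E) [T.Normal]
    (hT : ∀ x ∈ T, ∃ k, x ^ (q ^ k) ∈ Cfsg.fittingSubgroup E) :
    T ⊓ Subgroup.centralizer ((fq' q E : Subgroup E) : Set E) ≤ Cfsg.fittingSubgroup E := by
  set R := fq' q E with hR
  haveI hRn : R.Normal := fq'_normal q
  set D := T ⊓ Subgroup.centralizer (R : Set E) with hD
  have hDn : D.Normal := inferInstance
  apply Cfsg.Agent.Lib.Helper13.le_fittingSubgroup D hDn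
  let f : ↥D →* (E ⧸ R) := (QuotientGroup.mk' R).comp D.subtype
  have hker : f.ker ≤ Subgroup.center ↥D := by
    intro d hd
    rw [MonoidHom.mem_ker] at hd
    have hdR : (d : E) ∈ R := (QuotientGroup.eq_one_iff _).1 hd
    rw [Subgroup.mem_center_iff]
    intro d'
    apply Subtype.ext
    have h1 : (d' : E) ∈ Subgroup.centralizer (R : Set E) := d'.2.2
    exact ((Subgroup.mem_centralizer_iff.1 h1) (d : E) hdR).symm
  have hrange : IsPGroup q f.range := by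
    rintro ⟨_, ⟨d, rfl⟩⟩
    obtain ⟨k₁, hk₁⟩ := hT d d.2.1
    have h1 := fitting_le_sup q hk₁
    obtain ⟨a, ha, b, hb, hab⟩ := Subgroup.mem_sup_of_normal_right.1 h1
    obtain ⟨k₂, hk₂⟩ := (Cfsg.Agent.Lib.Helper01.pCore_isPGroup (G := E) q) ⟨a, ha⟩
    refine ⟨k₁ + k₂, Subtype.ext ?_⟩
    show (f d) ^ (q ^ (k₁ + k₂)) = 1
    rw [pow_add, pow_mul, ← map_pow]
    have h2 : f (d ^ (q ^ k₁)) = QuotientGroup.mk a := by
      show QuotientGroup.mk' R ((d ^ (q ^ k₁) : D) : E) = _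
      rw [Subgroup.coe_pow, ← hab, QuotientGroup.mk'_apply, QuotientGroup.mk_mul,
        (QuotientGroup.eq_one_iff b).2 hb, mul_one]
    rw [h2, ← QuotientGroup.mk_pow]
    have h3 : a ^ (q ^ k₂) = 1 := by
      have := congrArg Subtype.val hk₂
      simpa using this
    rw [h3, QuotientGroup.mk_one]
  haveI : Group.IsNilpotent f.range := hrange.isNilpotent
  have hker' : f.rangeRestrict.ker ≤ Subgroup.center ↥D := by
    rw [MonoidHom.ker_rangeRestrict]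
    exact hker
  exact Subgroup.isNilpotent_of_ker_le_center f.rangeRestrict hker'

end FC

section LIN

variable {N : Type*} [CommGroup N] [Finite N] {E : Type*} [Group E] [Finite E]

theorem two_not_dvd_of_exp [Nontrivial N] (v : ℕ) [Fact v.Prime] (hexp : ∀ a : N, a ^ v = 1)
    (h2N : ¬ 2 ∣ Nat.card N) : v ≠ 2 := by
  rintro rfl
  apply h2N
  obtain ⟨a, ha⟩ := exists_ne (1 : N)
  have h1 : orderOf a ∣ 2 := orderOf_dvd_of_pow_eq_one (hexp a)
  rcases (Nat.dvd_prime Nat.prime_two).mp h1 with h2 | h2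
  · exact absurd (orderOf_eq_one_iff.mp h2) ha
  · rw [← h2]; exact orderOf_dvd_natCard a

/-- **The linear lemma, `σ ^ 4 = 1`.** -/
theorem lin2A [Group.IsSolvable E] (v : ℕ) [Fact v.Prime]
    (hexp : ∀ a : N, a ^ v = 1)
    (φ : E →* MulAut N) (hφ : Function.Injective φ) (τ : MulAut E) (ξ : MulAut N)
    (hτ : ∀ e, ξ * φ e * ξ⁻¹ = φ (τ e)) (n : ℕ) (hn2 : n + 1 ≤ 2) (hξn : ξ ^ (2 ^ (n + 1)) = 1)
    (hfpfE : ∀ e, τ e = e → e = 1) (hfpfN : ∀ a, ξ a = a → a = 1)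
    (hirr : ∀ N₁ : Subgroup N, (∀ e, ∀ a ∈ N₁, φ e a ∈ N₁) → (∀ a ∈ N₁, ξ a ∈ N₁) →
      N₁ = ⊥ ∨ N₁ = ⊤) :
    ∀ e, (τ ^ (2 ^ n)) e = e := by
  haveI : Fact (Nat.Prime 2) := ⟨Nat.prime_two⟩
  by_contra hcon
  push Not at hcon
  obtain ⟨e₀, he₀⟩ := hcon
  haveI : Nontrivial N := by
    by_contra hN
    rw [not_nontrivial_iff_subsingleton] at hN
    apply he₀
    apply hφ
    ext a
    exact Subsingleton.elim _ _
  have hτpow : τ ^ (2 ^ (n + 1)) = 1 := by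
    ext e
    apply hφ
    rw [← conj_pow_eq φ τ ξ hτ, hξn]
    simp
  set ψ : MulAut E := τ ^ (2 ^ n) with hψ
  have hψp : ψ ^ 2 = 1 := by
    rw [hψ, ← pow_mul, ← pow_succ]; exact hτpow
  have h2E : ¬ 2 ∣ Nat.card E := not_dvd_card_of_fpf 2 τ (n + 1) hτpow hfpfE
  have h2N : ¬ 2 ∣ Nat.card N := not_dvd_card_of_fpf 2 ξ (n + 1) hξn hfpfN
  have hv2 : v ≠ 2 := two_not_dvd_of_exp v hexp h2N
  have hex : ∃ q : Nat.Primes, ∃ x ∈ Cfsg.pCore (q : ℕ) E, ψ x ≠ x := by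
    by_contra hall
    push Not at hall
    exact he₀ (fix_all_of_fix_pCore 2 h2E ψ hψp hall e₀)
  obtain ⟨q, x, hx, hψx⟩ := hex
  haveI : Fact (q : ℕ).Prime := ⟨q.2⟩
  have hx1 : x ≠ 1 := by
    rintro rfl
    exact hψx (map_one ψ)
  have hq2 : (q : ℕ) ≠ 2 := by
    intro hq2
    apply hx1
    obtain ⟨k, hk⟩ := (Cfsg.Agent.Lib.Helper01.pCore_isPGroup (G := E) (q : ℕ)) ⟨x, hx⟩
    have hk' : x ^ ((q : ℕ) ^ k) = 1 := by
      have := congrArg Subtype.val hk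
      simpa using this
    have h1 : orderOf x ∣ 2 ^ k := by
      rw [← hq2]; exact orderOf_dvd_of_pow_eq_one hk'
    have h2 : orderOf x ∣ Nat.card E := orderOf_dvd_natCard x
    have h3 : Nat.Coprime (2 ^ k) (Nat.card E) :=
      Nat.Coprime.pow_left k ((Nat.Prime.coprime_iff_not_dvd Nat.prime_two).mpr h2E)
    have h4 : orderOf x = 1 := Nat.eq_one_of_dvd_coprimes h3 h1 h2
    exact orderOf_eq_one_iff.mp h4
  have hvq : v ≠ (q : ℕ) := by
    intro hvq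
    apply hx1
    apply hφ
    rw [map_one]
    have hx' : x ∈ Cfsg.pCore v E := by rw [hvq]; exact hx
    exact pCore_exp_trivial v hexp φ τ ξ hτ hirr x hx'
  have hPc : (Cfsg.pCore (q : ℕ) E).Characteristic :=
    Cfsg.Agent.Lib.Helper01.pCore_characteristic (q : ℕ)
  obtain ⟨a, j, ha1, ha2, -⟩ := thmSG2_group v (q : ℕ) hexp hq2 hv2 hvq
    ((Cfsg.pCore (q : ℕ) E).map φ) ((Cfsg.Agent.Lib.Helper01.pCore_isPGroup (q : ℕ)).map φ) ξ
    (by
      rintro e' ⟨y, hy, rfl⟩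
      rw [hτ]
      exact Subgroup.mem_map_of_mem φ ((char_mem_iff hPc τ y).mpr hy))
    (n + 1) (by omega) hξn
    (by
      refine ⟨φ x, Subgroup.mem_map_of_mem φ hx, ?_⟩
      rw [Nat.add_sub_cancel]
      intro hcomm
      apply hψx
      apply hφ
      rw [hψ, ← conj_pow_eq φ τ ξ hτ, hcomm]
      group)
    (by
      rintro e' ⟨y, hy, rfl⟩ hfix
      rw [hτ] at hfix
      have := hfpfE y (hφ hfix)
      rw [this, map_one])
    hfpfN
  omega

/-- **The linear lemma, general case.** -/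
theorem lin2B [Group.IsSolvable E] (v : ℕ) [Fact v.Prime]
    (hexp : ∀ a : N, a ^ v = 1)
    (φ : E →* MulAut N) (hφ : Function.Injective φ) (τ : MulAut E) (ξ : MulAut N)
    (hτ : ∀ e, ξ * φ e * ξ⁻¹ = φ (τ e)) (n : ℕ) (hξn : ξ ^ (2 ^ (n + 1)) = 1)
    (hfpfE : ∀ e, τ e = e → e = 1) (hfpfN : ∀ a, ξ a = a → a = 1)
    (hirr : ∀ N₁ : Subgroup N, (∀ e, ∀ a ∈ N₁, φ e a ∈ N₁) → (∀ a ∈ N₁, ξ a ∈ N₁) →
      N₁ = ⊥ ∨ N₁ = ⊤) :
    ∀ e, e⁻¹ * (τ ^ (2 ^ n)) e ∈ Cfsg.fittingSubgroup E := by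
  classical
  haveI : Fact (Nat.Prime 2) := ⟨Nat.prime_two⟩
  by_contra hcon
  push Not at hcon
  obtain ⟨e₀, he₀⟩ := hcon
  haveI : Nontrivial N := by
    by_contra hN
    rw [not_nontrivial_iff_subsingleton] at hN
    apply he₀
    have h1 : ∀ e : E, e = 1 := fun e => hφ (by ext a; exact Subsingleton.elim _ _)
    rw [h1 (e₀⁻¹ * (τ ^ (2 ^ n)) e₀)]
    exact Subgroup.one_mem _
  have hτpow : τ ^ (2 ^ (n + 1)) = 1 := by
    ext e
    apply hφ
    rw [← conj_pow_eq φ τ ξ hτ, hξn]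
    simp
  set ψ : MulAut E := τ ^ (2 ^ n) with hψ
  have hψ2 : ψ ^ 2 = 1 := by
    rw [hψ, ← pow_mul, ← pow_succ]; exact hτpow
  have hψψ : ∀ x, ψ (ψ x) = x := by
    intro x
    rw [← MulAut.mul_apply, ← pow_two, hψ2]
    rfl
  have hτψ : ∀ x, τ (ψ x) = ψ (τ x) := by
    intro x
    rw [hψ, ← MulAut.mul_apply, ← MulAut.mul_apply, ← pow_succ', ← pow_succ]
  have h2E : ¬ 2 ∣ Nat.card E := not_dvd_card_of_fpf 2 τ (n + 1) hτpow hfpfE
  have h2N : ¬ 2 ∣ Nat.card N := not_dvd_card_of_fpf 2 ξ (n + 1) hξn hfpfN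
  have hv2 : v ≠ 2 := two_not_dvd_of_exp v hexp h2N
  set F := Cfsg.fittingSubgroup E with hFdef
  haveI hFn : F.Normal := Cfsg.Agent.Lib.Helper13.fittingSubgroup_normal
  have hFc : F.Characteristic := Cfsg.Agent.Lib.Helper67.fitting_characteristic
  have hFinv : ∀ x, τ x ∈ F ↔ x ∈ F := fun x => char_mem_iff hFc τ x
  set τb := quotAut τ F hFinv with hτb
  set ψb := τb ^ (2 ^ n) with hψb
  have hψb_mk : ∀ e : E, ψb (QuotientGroup.mk e) = QuotientGroup.mk (ψ e) :=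
    fun e => quotAut_pow_mk τ F hFinv _ e
  have hψb2 : ψb ^ 2 = 1 := by
    rw [hψb, ← pow_mul, ← pow_succ]
    apply quotAut_pow_eq_one
    intro g
    rw [hτpow, MulAut.one_apply, inv_mul_cancel]
    exact F.one_mem
  have h2Eb : ¬ 2 ∣ Nat.card (E ⧸ F) :=
    fun h => h2E (h.trans (Subgroup.card_quotient_dvd_card F))
  have hex : ∃ q : Nat.Primes, ∃ x ∈ Cfsg.pCore (q : ℕ) (E ⧸ F), ψb x ≠ x := by
    by_contra hall
    push Not at hall
    have h1 := fix_all_of_fix_pCore 2 h2Eb ψb hψb2 hall (QuotientGroup.mk e₀)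
    rw [hψb_mk] at h1
    exact he₀ (QuotientGroup.eq.mp h1.symm)
  obtain ⟨q, xb, hxb, hψxb⟩ := hex
  haveI : Fact (q : ℕ).Prime := ⟨q.2⟩
  have hq : (q : ℕ).Prime := q.2
  have hxb1 : xb ≠ 1 := by
    rintro rfl
    exact hψxb (map_one ψb)
  have hq2 : (q : ℕ) ≠ 2 := by
    intro hq2
    apply hxb1
    obtain ⟨k, hk⟩ := (Cfsg.Agent.Lib.Helper01.pCore_isPGroup (G := E ⧸ F) (q : ℕ)) ⟨xb, hxb⟩
    have hk' : xb ^ ((q : ℕ) ^ k) = 1 := by
      have := congrArg Subtype.val hk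
      simpa using this
    have h1 : orderOf xb ∣ 2 ^ k := by
      rw [← hq2]; exact orderOf_dvd_of_pow_eq_one hk'
    have h2 : orderOf xb ∣ Nat.card (E ⧸ F) := orderOf_dvd_natCard xb
    have h3 : Nat.Coprime (2 ^ k) (Nat.card (E ⧸ F)) :=
      Nat.Coprime.pow_left k ((Nat.Prime.coprime_iff_not_dvd Nat.prime_two).mpr h2Eb)
    exact orderOf_eq_one_iff.mp (Nat.eq_one_of_dvd_coprimes h3 h1 h2)
  -- an invariant Sylow subgroup
  have hB : IsPGroup 2 (Subgroup.zpowers τ) := by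
    rintro ⟨b, hb⟩
    refine ⟨n + 1, Subtype.ext ?_⟩
    obtain ⟨j, rfl⟩ := Subgroup.mem_zpowers_iff.1 hb
    show (τ ^ j) ^ (2 ^ (n + 1)) = 1
    rw [← zpow_natCast, ← zpow_mul, mul_comm, zpow_mul, zpow_natCast, hτpow, one_zpow]
  obtain ⟨P, hP⟩ := Cfsg.Agent.Lib.Helper56.WardG.exists_invariant_sylow hB
    (Subgroup.zpowers τ).subtype h2E (q : ℕ)
  have hPτ : ∀ x ∈ P, τ x ∈ P := fun x hx => hP ⟨τ, Subgroup.mem_zpowers τ⟩ x hx
  have hPψ : ∀ x ∈ P, ψ x ∈ P := pow_apply_mem τ P hPτ _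
  have hsurj := QuotientGroup.mk'_surjective F
  have hPb : Cfsg.pCore (q : ℕ) (E ⧸ F) ≤ (P.mapSurjective hsurj : Subgroup (E ⧸ F)) := by
    haveI := Cfsg.Agent.Lib.Helper01.pCore_normal (G := E ⧸ F) (q : ℕ)
    exact (Cfsg.Agent.Lib.Helper01.pCore_isPGroup (q : ℕ)).le_sylow_of_normal _
  obtain ⟨x, hxP, hx⟩ : ∃ x ∈ P, QuotientGroup.mk' F x = xb := hPb hxb
  -- the preimage of `O_q(E / F)`
  set T : Subgroup E := (Cfsg.pCore (q : ℕ) (E ⧸ F)).comap (QuotientGroup.mk' F) with hT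
  haveI hTn : T.Normal := by
    haveI := Cfsg.Agent.Lib.Helper01.pCore_normal (G := E ⧸ F) (q : ℕ)
    exact Subgroup.Normal.comap inferInstance _
  have hPcb : (Cfsg.pCore (q : ℕ) (E ⧸ F)).Characteristic :=
    Cfsg.Agent.Lib.Helper01.pCore_characteristic (q : ℕ)
  have hTτ : ∀ x ∈ T, τ x ∈ T := by
    intro x hx
    rw [hT, Subgroup.mem_comap] at hx ⊢
    have h1 : QuotientGroup.mk' F (τ x) = τb (QuotientGroup.mk' F x) := rfl
    rw [h1]
    exact (char_mem_iff hPcb τb _).mpr hx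
  have hTψ : ∀ x ∈ T, ψ x ∈ T := pow_apply_mem τ T hTτ _
  have hxT : x ∈ T := by
    rw [hT, Subgroup.mem_comap, hx]
    exact hxb
  have hTpow : ∀ x ∈ T, ∃ k, x ^ ((q : ℕ) ^ k) ∈ F := by
    intro x hx
    rw [hT, Subgroup.mem_comap] at hx
    obtain ⟨k, hk⟩ := (Cfsg.Agent.Lib.Helper01.pCore_isPGroup (G := E ⧸ F) (q : ℕ)) ⟨_, hx⟩
    refine ⟨k, ?_⟩
    have hk' : (QuotientGroup.mk' F x) ^ ((q : ℕ) ^ k) = 1 := by
      have := congrArg Subtype.val hk
      simpa using this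
    rw [← map_pow] at hk'
    exact (QuotientGroup.eq_one_iff _).1 hk'
  -- the inverted elements
  let I : Set E := {y | y ∈ (P : Subgroup E) ⊓ T ∧ ψ y = y⁻¹}
  set S₁ : Subgroup E := Subgroup.closure I with hS₁
  have hIτ : ∀ y ∈ I, τ y ∈ I := by
    rintro y ⟨⟨hyP, hyT⟩, hy⟩
    refine ⟨⟨hPτ y hyP, hTτ y hyT⟩, ?_⟩
    rw [← hτψ, hy, map_inv]
  have hS₁τ : ∀ y ∈ S₁, τ y ∈ S₁ := by
    intro y hy
    have h1 : S₁.map (τ : E →* E) ≤ S₁ := by
      rw [hS₁, MonoidHom.map_closure]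
      apply Subgroup.closure_mono
      rintro _ ⟨y', hy', rfl⟩
      exact hIτ y' hy'
    exact h1 ⟨y, hy, rfl⟩
  have hS₁P : S₁ ≤ (P : Subgroup E) := by
    rw [hS₁, Subgroup.closure_le]
    exact fun y hy => hy.1.1
  have hS₁T : S₁ ≤ T := by
    rw [hS₁, Subgroup.closure_le]
    exact fun y hy => hy.1.2
  set c := x⁻¹ * ψ x with hc
  have hcI : c ∈ I := by
    refine ⟨⟨(P : Subgroup E).mul_mem ((P : Subgroup E).inv_mem hxP) (hPψ x hxP),
      T.mul_mem (T.inv_mem hxT) (hTψ x hxT)⟩, ?_⟩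
    rw [hc, map_mul, map_inv, hψψ]
    group
  have hcF : c ∉ F := by
    intro h
    apply hψxb
    rw [← hx]
    show ψb (QuotientGroup.mk x) = QuotientGroup.mk x
    rw [hψb_mk]
    exact (QuotientGroup.eq.mpr h).symm
  -- some `O_r(E)`, `r ≠ q`, is not centralized
  have hex2 : ∃ r : Nat.Primes, (r : ℕ) ≠ (q : ℕ) ∧ ∃ z ∈ Cfsg.pCore (r : ℕ) E, ∃ y ∈ I,
      y * z ≠ z * y := by
    by_contra hall
    push Not at hall
    apply hcF
    have hS₁cent : S₁ ≤ Subgroup.centralizer ((fq' (q : ℕ) E : Subgroup E) : Set E) := by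
      rw [hS₁, Subgroup.closure_le]
      intro y hy
      have h1 : fq' (q : ℕ) E ≤ Subgroup.centralizer ({y} : Set E) := by
        unfold fq'
        apply iSup₂_le
        intro r hr z hz
        rw [Subgroup.mem_centralizer_singleton_iff]
        exact (hall r hr z hz y hy).symm
      rw [SetLike.mem_coe, Subgroup.mem_centralizer_iff]
      intro z hz
      have := Subgroup.mem_centralizer_singleton_iff.1 (h1 hz)
      exact this
    exact inf_centralizer_fq'_le_fitting (q : ℕ) T hTpow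
      (Subgroup.mem_inf.2 ⟨hS₁T (Subgroup.subset_closure hcI),
        hS₁cent (Subgroup.subset_closure hcI)⟩)
  obtain ⟨r, hrq, z, hz, y, hyI, hyz⟩ := hex2
  haveI : Fact (r : ℕ).Prime := ⟨r.2⟩
  have hz1 : z ≠ 1 := by
    rintro rfl
    apply hyz
    rw [mul_one, one_mul]
  have hr2 : (r : ℕ) ≠ 2 := by
    intro hr2
    apply hz1
    obtain ⟨k, hk⟩ := (Cfsg.Agent.Lib.Helper01.pCore_isPGroup (G := E) (r : ℕ)) ⟨z, hz⟩
    have hk' : z ^ ((r : ℕ) ^ k) = 1 := by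
      have := congrArg Subtype.val hk
      simpa using this
    have h1 : orderOf z ∣ 2 ^ k := by
      rw [← hr2]; exact orderOf_dvd_of_pow_eq_one hk'
    have h2 : orderOf z ∣ Nat.card E := orderOf_dvd_natCard z
    have h3 : Nat.Coprime (2 ^ k) (Nat.card E) :=
      Nat.Coprime.pow_left k ((Nat.Prime.coprime_iff_not_dvd Nat.prime_two).mpr h2E)
    exact orderOf_eq_one_iff.mp (Nat.eq_one_of_dvd_coprimes h3 h1 h2)
  have hvr : v ≠ (r : ℕ) := by
    intro hvr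
    apply hz1
    apply hφ
    rw [map_one]
    have hz' : z ∈ Cfsg.pCore v E := by rw [hvr]; exact hz
    exact pCore_exp_trivial v hexp φ τ ξ hτ hirr z hz'
  have hRc : (Cfsg.pCore (r : ℕ) E).Characteristic :=
    Cfsg.Agent.Lib.Helper01.pCore_characteristic (r : ℕ)
  have hRn : (Cfsg.pCore (r : ℕ) E).Normal := Cfsg.Agent.Lib.Helper01.pCore_normal (r : ℕ)
  have hcomm := pair_group v (r : ℕ) (q : ℕ) hexp hrq hr2 hq2 hv2 hvr
    ((Cfsg.pCore (r : ℕ) E).map φ) (S₁.map φ)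
    ((Cfsg.Agent.Lib.Helper01.pCore_isPGroup (r : ℕ)).map φ)
    ((P.isPGroup'.to_le hS₁P).map φ) ξ
    (by
      rintro e' ⟨y', hy', rfl⟩
      rw [hτ]
      exact Subgroup.mem_map_of_mem φ ((char_mem_iff hRc τ y').mpr hy'))
    (by
      rintro e' ⟨y', hy', rfl⟩
      rw [hτ]
      exact Subgroup.mem_map_of_mem φ (hS₁τ y' hy'))
    (by
      rintro _ ⟨y', hy', rfl⟩ _ ⟨z', hz', rfl⟩
      refine ⟨y' * z' * y'⁻¹, hRn.conj_mem z' hz' y', ?_⟩
      rw [map_mul, map_mul, map_inv])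
    (n + 1) (by omega) hξn hfpfN
    (by
      rw [hS₁, MonoidHom.map_closure]
      apply Subgroup.closure_mono
      rintro _ ⟨y', hy', rfl⟩
      refine ⟨Subgroup.subset_closure ⟨y', hy', rfl⟩, ?_⟩
      rw [Nat.add_sub_cancel, conj_pow_eq φ τ ξ hτ, ← map_inv]
      congr 1
      exact hy'.2)
    (φ z) (Subgroup.mem_map_of_mem φ hz) (φ y)
    (Subgroup.mem_map_of_mem φ (Subgroup.subset_closure hyI))
  apply hyz
  apply hφ
  rw [map_mul, map_mul]
  exact hcomm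

end LIN

end Cfsg.Agent.Lib.Helper56.Gross
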