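import Cfsg.Agent.Lib.Helper56.GrossLin

/-!
# Gross's theorem: a fixed point free automorphism of order `2 ^ n`, `n ≥ 2`, of a finite solvable
group forces Fitting height at most `2 n - 2`
-/

set_option autoImplicit false
set_option linter.unusedSectionVars false
set_option linter.style.haveILetI false
set_option maxHeartbeats 1600000

open scoped commutatorElement

namespace Cfsg.Agent.Lib.Helper56.Gross

open Cfsg.Agent.Lib.Helper56.SG

/-- `lin2A` with commutativity as a hypothesis -/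
theorem lin2A' {N : Type*} [Group N] [Finite N] {E : Type*} [Group E] [Finite E]
    [Group.IsSolvable E] (hcomm : ∀ a b : N, a * b = b * a) (v : ℕ) [Fact v.Prime]
    (hexp : ∀ a : N, a ^ v = 1)
    (φ : E →* MulAut N) (hφ : Function.Injective φ) (τ : MulAut E) (ξ : MulAut N)
    (hτ : ∀ e, ξ * φ e * ξ⁻¹ = φ (τ e)) (n : ℕ) (hn2 : n + 1 ≤ 2) (hξn : ξ ^ (2 ^ (n + 1)) = 1)
    (hfpfE : ∀ e, τ e = e → e = 1) (hfpfN : ∀ a, ξ a = a → a = 1)
    (hirr : ∀ N₁ : Subgroup N, (∀ e, ∀ a ∈ N₁, φ e a ∈ N₁) → (∀ a ∈ N₁, ξ a ∈ N₁) →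
      N₁ = ⊥ ∨ N₁ = ⊤) :
    ∀ e, (τ ^ (2 ^ n)) e = e := by
  letI : CommGroup N := { (inferInstance : Group N) with mul_comm := hcomm }
  exact lin2A v hexp φ hφ τ ξ hτ n hn2 hξn hfpfE hfpfN hirr

/-- `lin2B` with commutativity as a hypothesis -/
theorem lin2B' {N : Type*} [Group N] [Finite N] {E : Type*} [Group E] [Finite E]
    [Group.IsSolvable E] (hcomm : ∀ a b : N, a * b = b * a) (v : ℕ) [Fact v.Prime]
    (hexp : ∀ a : N, a ^ v = 1)
    (φ : E →* MulAut N) (hφ : Function.Injective φ) (τ : MulAut E) (ξ : MulAut N)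
    (hτ : ∀ e, ξ * φ e * ξ⁻¹ = φ (τ e)) (n : ℕ) (hξn : ξ ^ (2 ^ (n + 1)) = 1)
    (hfpfE : ∀ e, τ e = e → e = 1) (hfpfN : ∀ a, ξ a = a → a = 1)
    (hirr : ∀ N₁ : Subgroup N, (∀ e, ∀ a ∈ N₁, φ e a ∈ N₁) → (∀ a ∈ N₁, ξ a ∈ N₁) →
      N₁ = ⊥ ∨ N₁ = ⊤) :
    ∀ e, e⁻¹ * (τ ^ (2 ^ n)) e ∈ Cfsg.fittingSubgroup E := by
  letI : CommGroup N := { (inferInstance : Group N) with mul_comm := hcomm }
  exact lin2B v hexp φ hφ τ ξ hτ n hξn hfpfE hfpfN hirr

variable {G : Type*} [Group G]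

/-- `σ ^ (2 ^ n)` acts trivially on `G / C_G(M)` for a minimal invariant normal subgroup `M`, when
`σ ^ 4 = 1`. -/
theorem chief_bot_A [Finite G] [Group.IsSolvable G]
    (σ : MulAut G) (n : ℕ) (hn2 : n + 1 ≤ 2) (hσ : σ ^ (2 ^ (n + 1)) = 1)
    (hfpf : ∀ g : G, σ g = g → g = 1)
    {M : Subgroup G} (hM : IsChief σ M ⊥) :
    ∀ h : G, ∀ m ∈ M, ⁅m, h⁻¹ * (σ ^ (2 ^ n)) h⁆ = 1 := by
  classical
  haveI : M.Normal := hM.1.normal
  have hcomm := chief_bot_comm hM
  obtain ⟨v, hv, hvd, hexp⟩ := chief_bot_exp hM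
  haveI : Fact v.Prime := ⟨hv⟩
  let ρ₀ : G →* MulAut ↥M := MulAut.conjNormal
  have hρ₀ : ∀ (g : G) (m : M), ((ρ₀ g m : M) : G) = g * m * g⁻¹ :=
    fun g m => MulAut.conjNormal_apply g m
  have hker : ∀ x, x ∈ ρ₀.ker ↔ ∀ m ∈ M, x * m * x⁻¹ = m := by
    intro x
    rw [MonoidHom.mem_ker]
    constructor
    · intro h m hm
      have h1 := hρ₀ x ⟨m, hm⟩
      rw [h] at h1
      exact h1.symm
    · intro h
      ext m
      rw [hρ₀]
      exact h m m.2
  have hMsymm : ∀ m ∈ M, σ.symm m ∈ M := by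
    intro m hm
    have h1 := hM.1.inv (σ.symm m)
    rw [MulEquiv.apply_symm_apply] at h1
    exact h1.mp hm
  have hkerInv : ∀ x, σ x ∈ ρ₀.ker ↔ x ∈ ρ₀.ker := by
    apply map_mem_iff
    intro x hx
    rw [hker] at hx ⊢
    intro m hm
    have h2 := hx _ (hMsymm m hm)
    have h3 := congrArg σ h2
    rw [map_mul, map_mul, map_inv, MulEquiv.apply_symm_apply] at h3
    exact h3
  let τ : MulAut (G ⧸ ρ₀.ker) := quotAut σ ρ₀.ker hkerInv
  let φ : G ⧸ ρ₀.ker →* MulAut ↥M := QuotientGroup.kerLift ρ₀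
  let ξ : MulAut ↥M := restrictAut σ M hM.1.inv
  have hτ : ∀ e, ξ * φ e * ξ⁻¹ = φ (τ e) := by
    intro e
    induction e using QuotientGroup.induction_on with
    | H g =>
      have h1 : τ (QuotientGroup.mk g) = QuotientGroup.mk (σ g) := rfl
      have h2 : ∀ g' : G, φ (QuotientGroup.mk g') = ρ₀ g' := fun g' => rfl
      rw [h1, h2, h2]
      ext m
      rw [MulAut.mul_apply, MulAut.mul_apply, restrictAut_apply, hρ₀, hρ₀,
        restrictAut_symm_apply, map_mul, map_mul, map_inv, MulEquiv.apply_symm_apply]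
  have hξn : ξ ^ (2 ^ (n + 1)) = 1 := by
    ext m
    rw [restrictAut_pow_apply, hσ]
    rfl
  have hfpfE : ∀ e, τ e = e → e = 1 := quotAut_fpf σ hfpf ρ₀.ker hkerInv
  have hfpfN : ∀ a : M, ξ a = a → a = 1 := by
    intro a ha
    have h1 : σ a = a := congrArg Subtype.val ha
    exact Subtype.ext (hfpf _ h1)
  have hirr : ∀ N₁ : Subgroup ↥M, (∀ e, ∀ a ∈ N₁, φ e a ∈ N₁) → (∀ a ∈ N₁, ξ a ∈ N₁) →
      N₁ = ⊥ ∨ N₁ = ⊤ := by
    intro N₁ hE hξ
    have hW : SInv σ (N₁.map M.subtype) := by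
      refine ⟨⟨?_⟩, ?_⟩
      · rintro _ ⟨m, hm, rfl⟩ g
        refine ⟨ρ₀ g m, hE (QuotientGroup.mk g) m hm, ?_⟩
        exact hρ₀ g m
      · apply map_mem_iff
        rintro _ ⟨m, hm, rfl⟩
        exact ⟨ξ m, hξ m hm, rfl⟩
    have hle : N₁.map M.subtype ≤ M := by
      rintro _ ⟨m, _, rfl⟩
      exact m.2
    rcases hM.2.2.2 _ hW bot_le hle with h | h
    · left
      exact (Subgroup.map_eq_bot_iff_of_injective N₁ M.subtype_injective).mp h
    · right
      rw [eq_top_iff]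
      intro a _
      have : (a : G) ∈ N₁.map M.subtype := by rw [h]; exact a.2
      obtain ⟨m, hm, hma⟩ := this
      have : m = a := Subtype.ext hma
      rw [← this]; exact hm
  have hexp' : ∀ a : M, a ^ v = 1 := fun a => Subtype.ext (by simpa using hexp a a.2)
  have hcomm' : ∀ a b : M, a * b = b * a :=
    fun a b => Subtype.ext (by simpa using hcomm a a.2 b b.2)
  have hconc := lin2A' hcomm' v hexp' φ (QuotientGroup.kerLift_injective ρ₀) τ ξ hτ n hn2 hξn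
    hfpfE hfpfN hirr
  intro h m hm
  have h1 := hconc (QuotientGroup.mk h)
  have h2 : (τ ^ (2 ^ n)) (QuotientGroup.mk h) = QuotientGroup.mk ((σ ^ (2 ^ n)) h) :=
    quotAut_pow_mk σ ρ₀.ker hkerInv _ h
  rw [h2] at h1
  have h3 : h⁻¹ * (σ ^ (2 ^ n)) h ∈ ρ₀.ker := QuotientGroup.eq.mp h1.symm
  rw [hker] at h3
  have h4 := h3 m hm
  rw [commutatorElement_def]
  set c := h⁻¹ * (σ ^ (2 ^ n)) h
  calc m * c * m⁻¹ * c⁻¹ = m * (c * m⁻¹ * c⁻¹) := by group
    _ = m * (c * m * c⁻¹)⁻¹ := by group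
    _ = 1 := by rw [h4]; group

/-- the elements `h⁻¹ σ^(2^n)(h)` lie in a normal subgroup which is nilpotent modulo `C_G(M)`, for
a minimal invariant normal subgroup `M`. -/
theorem chief_bot_B [Finite G] [Group.IsSolvable G]
    (σ : MulAut G) (n : ℕ) (hσ : σ ^ (2 ^ (n + 1)) = 1)
    (hfpf : ∀ g : G, σ g = g → g = 1)
    {M : Subgroup G} (hM : IsChief σ M ⊥) :
    ∃ T : Subgroup G, T.Normal ∧ (∀ h : G, h⁻¹ * (σ ^ (2 ^ n)) h ∈ T) ∧
      ∃ k : ℕ, ∀ x ∈ T.lowerCentralSeries k, ∀ m ∈ M, ⁅m, x⁆ = 1 := by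
  classical
  haveI : M.Normal := hM.1.normal
  have hcomm := chief_bot_comm hM
  obtain ⟨v, hv, hvd, hexp⟩ := chief_bot_exp hM
  haveI : Fact v.Prime := ⟨hv⟩
  let ρ₀ : G →* MulAut ↥M := MulAut.conjNormal
  have hρ₀ : ∀ (g : G) (m : M), ((ρ₀ g m : M) : G) = g * m * g⁻¹ :=
    fun g m => MulAut.conjNormal_apply g m
  have hker : ∀ x, x ∈ ρ₀.ker ↔ ∀ m ∈ M, x * m * x⁻¹ = m := by
    intro x
    rw [MonoidHom.mem_ker]
    constructor
    · intro h m hm
      have h1 := hρ₀ x ⟨m, hm⟩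
      rw [h] at h1
      exact h1.symm
    · intro h
      ext m
      rw [hρ₀]
      exact h m m.2
  have hMsymm : ∀ m ∈ M, σ.symm m ∈ M := by
    intro m hm
    have h1 := hM.1.inv (σ.symm m)
    rw [MulEquiv.apply_symm_apply] at h1
    exact h1.mp hm
  have hkerInv : ∀ x, σ x ∈ ρ₀.ker ↔ x ∈ ρ₀.ker := by
    apply map_mem_iff
    intro x hx
    rw [hker] at hx ⊢
    intro m hm
    have h2 := hx _ (hMsymm m hm)
    have h3 := congrArg σ h2
    rw [map_mul, map_mul, map_inv, MulEquiv.apply_symm_apply] at h3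
    exact h3
  let τ : MulAut (G ⧸ ρ₀.ker) := quotAut σ ρ₀.ker hkerInv
  let φ : G ⧸ ρ₀.ker →* MulAut ↥M := QuotientGroup.kerLift ρ₀
  let ξ : MulAut ↥M := restrictAut σ M hM.1.inv
  have hτ : ∀ e, ξ * φ e * ξ⁻¹ = φ (τ e) := by
    intro e
    induction e using QuotientGroup.induction_on with
    | H g =>
      have h1 : τ (QuotientGroup.mk g) = QuotientGroup.mk (σ g) := rfl
      have h2 : ∀ g' : G, φ (QuotientGroup.mk g') = ρ₀ g' := fun g' => rfl
      rw [h1, h2, h2]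
      ext m
      rw [MulAut.mul_apply, MulAut.mul_apply, restrictAut_apply, hρ₀, hρ₀,
        restrictAut_symm_apply, map_mul, map_mul, map_inv, MulEquiv.apply_symm_apply]
  have hξn : ξ ^ (2 ^ (n + 1)) = 1 := by
    ext m
    rw [restrictAut_pow_apply, hσ]
    rfl
  have hfpfE : ∀ e, τ e = e → e = 1 := quotAut_fpf σ hfpf ρ₀.ker hkerInv
  have hfpfN : ∀ a : M, ξ a = a → a = 1 := by
    intro a ha
    have h1 : σ a = a := congrArg Subtype.val ha
    exact Subtype.ext (hfpf _ h1)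
  have hirr : ∀ N₁ : Subgroup ↥M, (∀ e, ∀ a ∈ N₁, φ e a ∈ N₁) → (∀ a ∈ N₁, ξ a ∈ N₁) →
      N₁ = ⊥ ∨ N₁ = ⊤ := by
    intro N₁ hE hξ
    have hW : SInv σ (N₁.map M.subtype) := by
      refine ⟨⟨?_⟩, ?_⟩
      · rintro _ ⟨m, hm, rfl⟩ g
        refine ⟨ρ₀ g m, hE (QuotientGroup.mk g) m hm, ?_⟩
        exact hρ₀ g m
      · apply map_mem_iff
        rintro _ ⟨m, hm, rfl⟩
        exact ⟨ξ m, hξ m hm, rfl⟩
    have hle : N₁.map M.subtype ≤ M := by
      rintro _ ⟨m, _, rfl⟩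
      exact m.2
    rcases hM.2.2.2 _ hW bot_le hle with h | h
    · left
      exact (Subgroup.map_eq_bot_iff_of_injective N₁ M.subtype_injective).mp h
    · right
      rw [eq_top_iff]
      intro a _
      have : (a : G) ∈ N₁.map M.subtype := by rw [h]; exact a.2
      obtain ⟨m, hm, hma⟩ := this
      have : m = a := Subtype.ext hma
      rw [← this]; exact hm
  have hexp' : ∀ a : M, a ^ v = 1 := fun a => Subtype.ext (by simpa using hexp a a.2)
  have hcomm' : ∀ a b : M, a * b = b * a :=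
    fun a b => Subtype.ext (by simpa using hcomm a a.2 b b.2)
  have hconc := lin2B' hcomm' v hexp' φ (QuotientGroup.kerLift_injective ρ₀) τ ξ hτ n hξn
    hfpfE hfpfN hirr
  set FE := Cfsg.fittingSubgroup (G ⧸ ρ₀.ker) with hFE
  have hFEn : FE.Normal := Cfsg.Agent.Lib.Helper13.fittingSubgroup_normal
  have hFEnil : Group.IsNilpotent FE := Cfsg.Agent.Lib.Helper01.fitting_isNilpotent
  have hsurj := QuotientGroup.mk'_surjective ρ₀.ker
  refine ⟨FE.comap (QuotientGroup.mk' ρ₀.ker), hFEn.comap _, ?_, ?_⟩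
  · intro h
    rw [Subgroup.mem_comap]
    have h1 := hconc (QuotientGroup.mk h)
    have h2 : (τ ^ (2 ^ n)) (QuotientGroup.mk h) = QuotientGroup.mk ((σ ^ (2 ^ n)) h) :=
      quotAut_pow_mk σ ρ₀.ker hkerInv _ h
    rw [h2] at h1
    exact h1
  · obtain ⟨k, hk⟩ := (Subgroup.isNilpotent_iff_lowerCentralSeries FE).mp hFEnil
    refine ⟨k, ?_⟩
    intro x hx m hm
    have h1 := comap_lowerCentralSeries_le (QuotientGroup.mk' ρ₀.ker) hsurj FE k hx
    rw [hk, Subgroup.mem_comap, Subgroup.mem_bot] at h1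
    have h3 : x ∈ ρ₀.ker := (QuotientGroup.eq_one_iff x).mp h1
    rw [hker] at h3
    have h4 := h3 m hm
    rw [commutatorElement_def]
    calc m * x * m⁻¹ * x⁻¹ = m * (x * m⁻¹ * x⁻¹) := by group
      _ = m * (x * m * x⁻¹)⁻¹ := by group
      _ = 1 := by rw [h4]; group

/-- **Key lemma A**: if `σ ^ 4 = 1` then `σ ^ (2 ^ n)` acts trivially on `G / F(G)`. -/
theorem key_lemmaA [Finite G] [Group.IsSolvable G]
    (σ : MulAut G) (n : ℕ) (hn2 : n + 1 ≤ 2) (hσ : σ ^ (2 ^ (n + 1)) = 1)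
    (hfpf : ∀ g : G, σ g = g → g = 1)
    (g : G) : g⁻¹ * (σ ^ (2 ^ n)) g ∈ Cfsg.fittingSubgroup G := by
  apply chiefCent_le_fitting σ
  intro U V h u hu
  haveI := h.2.1.normal
  have hchief := chief_quot σ h
  have hfpf' := quotAut_fpf σ hfpf V h.2.1.inv
  have hpow : quotAut σ V h.2.1.inv ^ (2 ^ (n + 1)) = 1 := by
    apply quotAut_pow_eq_one
    intro x
    rw [hσ, MulAut.one_apply, inv_mul_cancel]
    exact V.one_mem
  have h1 := chief_bot_A (quotAut σ V h.2.1.inv) n hn2 hpow hfpf' hchief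
    (QuotientGroup.mk g) (QuotientGroup.mk u) ⟨u, hu, rfl⟩
  rw [quotAut_pow_mk] at h1
  have h2 : (QuotientGroup.mk ⁅u, g⁻¹ * (σ ^ (2 ^ n)) g⁆ : G ⧸ V) = 1 := by
    rw [← h1]
    rfl
  exact (QuotientGroup.eq_one_iff _).mp h2

/-- for each chief factor the elements `g⁻¹ σ^(2^n)(g)` lie in a normal subgroup some term of whose
lower central series centralizes the factor -/
theorem chief_B [Finite G] [Group.IsSolvable G]
    (σ : MulAut G) (n : ℕ) (hσ : σ ^ (2 ^ (n + 1)) = 1)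
    (hfpf : ∀ g : G, σ g = g → g = 1) {U V : Subgroup G} (h : IsChief σ U V) :
    ∃ T : Subgroup G, T.Normal ∧ (∀ g : G, g⁻¹ * (σ ^ (2 ^ n)) g ∈ T) ∧
      ∃ k : ℕ, ∀ x ∈ T.lowerCentralSeries k, ∀ u ∈ U, ⁅u, x⁆ ∈ V := by
  haveI := h.2.1.normal
  have hchief := chief_quot σ h
  have hfpf' := quotAut_fpf σ hfpf V h.2.1.inv
  have hpow : quotAut σ V h.2.1.inv ^ (2 ^ (n + 1)) = 1 := by
    apply quotAut_pow_eq_one
    intro x
    rw [hσ, MulAut.one_apply, inv_mul_cancel]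
    exact V.one_mem
  obtain ⟨T', hT'n, hT'mem, k, hk⟩ := chief_bot_B (quotAut σ V h.2.1.inv) n hpow hfpf' hchief
  have hsurj := QuotientGroup.mk'_surjective V
  refine ⟨T'.comap (QuotientGroup.mk' V), hT'n.comap _, ?_, k, ?_⟩
  · intro g
    rw [Subgroup.mem_comap]
    have h1 := hT'mem (QuotientGroup.mk g)
    rw [quotAut_pow_mk] at h1
    exact h1
  · intro x hx u hu
    have h1 := comap_lowerCentralSeries_le (QuotientGroup.mk' V) hsurj T' k hx
    rw [Subgroup.mem_comap] at h1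
    have h2 := hk _ h1 (QuotientGroup.mk u) ⟨u, hu, rfl⟩
    have h3 : (QuotientGroup.mk ⁅u, x⁆ : G ⧸ V) = 1 := by
      rw [← h2]
      rfl
    exact (QuotientGroup.eq_one_iff _).mp h3

/-- **Key lemma B**: `σ ^ (2 ^ n)` acts trivially on `G / F₂(G)`. -/
theorem key_lemmaB [Finite G] [Group.IsSolvable G]
    (σ : MulAut G) (n : ℕ) (hσ : σ ^ (2 ^ (n + 1)) = 1)
    (hfpf : ∀ g : G, σ g = g → g = 1) (Fn : (Cfsg.fittingSubgroup G).Normal) (g : G) :
    (QuotientGroup.mk (g⁻¹ * (σ ^ (2 ^ n)) g) : G ⧸ Cfsg.fittingSubgroup G) ∈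
      Cfsg.fittingSubgroup (G ⧸ Cfsg.fittingSubgroup G) := by
  classical
  set F := Cfsg.fittingSubgroup G with hF
  set D : Subgroup G := Subgroup.normalClosure {x | ∃ g : G, x = g⁻¹ * (σ ^ (2 ^ n)) g} with hD
  have hDT : ∀ T : Subgroup G, T.Normal → (∀ g : G, g⁻¹ * (σ ^ (2 ^ n)) g ∈ T) → D ≤ T := by
    intro T hTn hT
    haveI := hTn
    apply Subgroup.normalClosure_le_normal
    rintro x ⟨g, rfl⟩
    exact hT g
  have hex : ∀ p : Subgroup G × Subgroup G, ∃ k : ℕ, IsChief σ p.1 p.2 →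
      ∀ x ∈ D.lowerCentralSeries k, ∀ u ∈ p.1, ⁅u, x⁆ ∈ p.2 := by
    intro p
    by_cases hp : IsChief σ p.1 p.2
    · obtain ⟨T, hTn, hTmem, k, hk⟩ := chief_B σ n hσ hfpf hp
      refine ⟨k, fun _ x hx u hu => ?_⟩
      exact hk x (Subgroup.lowerCentralSeries_mono k (hDT T hTn hTmem) hx) u hu
    · exact ⟨0, fun h => absurd h hp⟩
  choose kf hkf using hex
  haveI : Fintype (Subgroup G × Subgroup G) := Fintype.ofFinite _
  set K := Finset.univ.sup kf with hK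
  have hDK : D.lowerCentralSeries K ≤ F := by
    refine le_trans ?_ (chiefCent_le_fitting σ)
    intro x hx U V h u hu
    have h1 : kf (U, V) ≤ K := Finset.le_sup (Finset.mem_univ (U, V))
    exact hkf (U, V) h x (Subgroup.lowerCentralSeries_antitone D h1 hx) u hu
  have hsurj := QuotientGroup.mk'_surjective F
  have hDn : D.Normal := Subgroup.normalClosure_normal
  have hDbn : (D.map (QuotientGroup.mk' F)).Normal := hDn.map _ hsurj
  have hDbnil : Group.IsNilpotent (D.map (QuotientGroup.mk' F)) := by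
    rw [Subgroup.isNilpotent_iff_lowerCentralSeries]
    refine ⟨K, ?_⟩
    rw [← Subgroup.map_lowerCentralSeries, eq_bot_iff]
    rintro _ ⟨x, hx, rfl⟩
    rw [Subgroup.mem_bot]
    exact (QuotientGroup.eq_one_iff x).mpr (hDK hx)
  have hle := Cfsg.Agent.Lib.Helper13.le_fittingSubgroup _ hDbn hDbnil
  apply hle
  refine ⟨g⁻¹ * (σ ^ (2 ^ n)) g, ?_, rfl⟩
  exact Subgroup.subset_normalClosure ⟨g, rfl⟩

/-! ### Chains -/

/-- a chain of normal subgroups of length `m` with nilpotent factors -/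
def HasChain (G : Type*) [Group G] (m : ℕ) : Prop :=
  ∃ F : Fin (m + 1) → Subgroup G, F 0 = ⊥ ∧ F (Fin.last m) = ⊤ ∧ Monotone F ∧
    (∀ i, (F i).Normal) ∧
    ∀ i : Fin m, ∃ k : ℕ, (F i.succ).lowerCentralSeries k ≤ F i.castSucc

theorem hasChain_lift (Nn : Subgroup G) [Nn.Normal] (hnil : Group.IsNilpotent Nn) (m : ℕ)
    (h : HasChain (G ⧸ Nn) m) : HasChain G (m + 1) := by
  obtain ⟨F', hF0, hFlast, hFmono, hFnorm, hFnil⟩ := h
  have hsurj := QuotientGroup.mk'_surjective Nn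
  refine ⟨Fin.cons ⊥ (fun i => (F' i).comap (QuotientGroup.mk' Nn)), ?_, ?_, ?_, ?_, ?_⟩
  · rfl
  · rw [← Fin.succ_last, Fin.cons_succ, hFlast, Subgroup.comap_top]
  · intro i j hij
    induction i using Fin.cases with
    | zero => rw [Fin.cons_zero]; exact bot_le
    | succ i =>
      induction j using Fin.cases with
      | zero => exact absurd hij (by simp)
      | succ j =>
        rw [Fin.cons_succ, Fin.cons_succ]
        exact Subgroup.comap_mono (hFmono (Fin.succ_le_succ_iff.mp hij))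
  · intro i
    induction i using Fin.cases with
    | zero => rw [Fin.cons_zero]; infer_instance
    | succ i => rw [Fin.cons_succ]; exact (hFnorm i).comap _
  · intro i
    induction i using Fin.cases with
    | zero =>
      obtain ⟨k, hk⟩ := (Subgroup.isNilpotent_iff_lowerCentralSeries Nn).mp hnil
      refine ⟨k, ?_⟩
      rw [Fin.cons_succ, hF0, MonoidHom.comap_bot, QuotientGroup.ker_mk', hk]
      exact bot_le
    | succ i =>
      obtain ⟨k, hk⟩ := hFnil i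
      refine ⟨k, ?_⟩
      rw [← Fin.succ_castSucc, Fin.cons_succ, Fin.cons_succ]
      exact (comap_lowerCentralSeries_le _ hsurj _ k).trans (Subgroup.comap_mono hk)

universe u

theorem stepA (n m : ℕ) (hn2 : n + 1 ≤ 2)
    (IH : ∀ (G : Type u) [Group G] [Finite G] [Group.IsSolvable G] (σ : MulAut G),
      σ ^ (2 ^ n) = 1 → (∀ g : G, σ g = g → g = 1) → HasChain G m)
    (G : Type u) [Group G] [Finite G] [Group.IsSolvable G] (σ : MulAut G)
    (hσ : σ ^ (2 ^ (n + 1)) = 1) (hfpf : ∀ g : G, σ g = g → g = 1) : HasChain G (m + 1) := by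
  set N : Subgroup G := Cfsg.fittingSubgroup G with hNdef
  haveI hNn : N.Normal := Cfsg.Agent.Lib.Helper13.fittingSubgroup_normal
  have hNc : N.Characteristic := Cfsg.Agent.Lib.Helper67.fitting_characteristic
  have hNinv : ∀ x, σ x ∈ N ↔ x ∈ N := fun x => char_mem_iff hNc σ x
  have hNnil : Group.IsNilpotent N := Cfsg.Agent.Lib.Helper01.fitting_isNilpotent
  have hpow : quotAut σ N hNinv ^ (2 ^ n) = 1 :=
    quotAut_pow_eq_one σ N hNinv _ (key_lemmaA σ n hn2 hσ hfpf)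
  have hfpf' := quotAut_fpf σ hfpf N hNinv
  exact hasChain_lift N hNnil m (IH (G ⧸ N) (quotAut σ N hNinv) hpow hfpf')

theorem stepB (n m : ℕ)
    (IH : ∀ (G : Type u) [Group G] [Finite G] [Group.IsSolvable G] (σ : MulAut G),
      σ ^ (2 ^ n) = 1 → (∀ g : G, σ g = g → g = 1) → HasChain G m)
    (G : Type u) [Group G] [Finite G] [Group.IsSolvable G] (σ : MulAut G)
    (hσ : σ ^ (2 ^ (n + 1)) = 1) (hfpf : ∀ g : G, σ g = g → g = 1) : HasChain G (m + 2) := by
  set N : Subgroup G := Cfsg.fittingSubgroup G with hNdef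
  haveI hNn : N.Normal := Cfsg.Agent.Lib.Helper13.fittingSubgroup_normal
  have hNc : N.Characteristic := Cfsg.Agent.Lib.Helper67.fitting_characteristic
  have hNinv : ∀ x, σ x ∈ N ↔ x ∈ N := fun x => char_mem_iff hNc σ x
  have hNnil : Group.IsNilpotent N := Cfsg.Agent.Lib.Helper01.fitting_isNilpotent
  set σ₁ := quotAut σ N hNinv with hσ₁
  have hfpf₁ : ∀ x : G ⧸ N, σ₁ x = x → x = 1 := quotAut_fpf σ hfpf N hNinv
  set N₁ : Subgroup (G ⧸ N) := Cfsg.fittingSubgroup (G ⧸ N) with hN₁def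
  haveI hN₁n : N₁.Normal := Cfsg.Agent.Lib.Helper13.fittingSubgroup_normal
  have hN₁c : N₁.Characteristic := Cfsg.Agent.Lib.Helper67.fitting_characteristic
  have hN₁inv : ∀ x, σ₁ x ∈ N₁ ↔ x ∈ N₁ := fun x => char_mem_iff hN₁c σ₁ x
  have hN₁nil : Group.IsNilpotent N₁ := Cfsg.Agent.Lib.Helper01.fitting_isNilpotent
  have hpow : quotAut σ₁ N₁ hN₁inv ^ (2 ^ n) = 1 := by
    apply quotAut_pow_eq_one
    intro x
    induction x using QuotientGroup.induction_on with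
    | H g =>
      rw [hσ₁, quotAut_pow_mk]
      exact key_lemmaB σ n hσ hfpf hNn g
  have hfpf₂ := quotAut_fpf σ₁ hfpf₁ N₁ hN₁inv
  have h2 := IH ((G ⧸ N) ⧸ N₁) (quotAut σ₁ N₁ hN₁inv) hpow hfpf₂
  have h1 := hasChain_lift N₁ hN₁nil m h2
  exact hasChain_lift N hNnil (m + 1) h1

/-- **Gross's theorem.** -/
theorem gross : ∀ (n : ℕ) (G : Type u) [Group G] [Finite G] [Group.IsSolvable G] (σ : MulAut G),
    σ ^ (2 ^ (n + 2)) = 1 → (∀ g : G, σ g = g → g = 1) → HasChain G (2 * n + 2) := by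
  have P0 : ∀ (G : Type u) [Group G] [Finite G] [Group.IsSolvable G] (σ : MulAut G),
      σ ^ (2 ^ 0) = 1 → (∀ g : G, σ g = g → g = 1) → HasChain G 0 := by
    intro G _ _ _ σ hσ hfpf
    have hσ1 : σ = 1 := by simpa using hσ
    have hall : ∀ g : G, g = 1 := fun g => hfpf g (by rw [hσ1]; rfl)
    refine ⟨fun _ => ⊥, rfl, ?_, fun _ _ _ => le_rfl, fun _ => inferInstance, fun i => i.elim0⟩
    ext x
    simp [hall x]
  have P1 := stepA 0 0 (by norm_num) P0
  have P2 := stepA 1 1 (by norm_num) P1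
  intro n
  induction n with
  | zero => exact P2
  | succ n ih =>
    have h := stepB (n + 2) (2 * n + 2) ih
    have he : 2 * (n + 1) + 2 = 2 * n + 2 + 2 := by ring
    rw [he]
    exact h

end Cfsg.Agent.Lib.Helper56.Gross
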