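import Cfsg.Agent.Lib.Helper56.GrossEnd

/-!
# The pair theorem

`X ^ (2 ^ n) = 1` without fixed vectors, `ψ = X ^ (2 ^ (n-1))`; `Q` a `q`-group, `S` an `s`-group
(`q ≠ s` odd, `q` invertible in the field), both normalized by `X`, `S` normalizing `Q` and
generated by elements inverted by `ψ`.  Then `S` centralizes `Q`.
-/

set_option autoImplicit false
set_option linter.unusedSectionVars false
set_option linter.style.haveILetI false
set_option maxHeartbeats 1600000

namespace Cfsg.Agent.Lib.Helper56.Gross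

open Module
open Cfsg.Agent.Lib.Helper56.HH
open Cfsg.Agent.Lib.Helper56.HHB
open Cfsg.Agent.Lib.Helper56.HHS
open scoped commutatorElement

universe uK uW

section Pair

variable {K : Type uK} [Field K] [IsAlgClosed K] {W : Type uW} [AddCommGroup W] [Module K W]
  [FiniteDimensional K W]

theorem mem_stabU_wt_of_comm (A : Subgroup (Module.End K W)ˣ) (g : (Module.End K W)ˣ)
    (hg : ∀ z ∈ A, g * z = z * g) (χ : A → K) : g ∈ stabU (wt (fam A) χ) := by
  have h1 : ∀ g' : (Module.End K W)ˣ, (∀ z ∈ A, g' * z = z * g') →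
      ∀ w ∈ wt (fam A) χ, (g' : Module.End K W) w ∈ wt (fam A) χ := by
    intro g' hg' w hw
    have := map_wt (f := fam A) (g' : Module.End K W) 1 (by
      intro i
      show (g' : Module.End K W) * fam A i = fam A ((1 : Equiv.Perm A) i) * (g' : Module.End K W)
      unfold fam
      rw [Equiv.Perm.one_apply, ← Units.val_mul, ← Units.val_mul, hg' i i.2]) hw
    exact this
  refine ⟨h1 g hg, h1 g⁻¹ ?_⟩
  intro z hz
  have := hg z hz
  calc g⁻¹ * z = g⁻¹ * (z * g) * g⁻¹ := by group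
    _ = g⁻¹ * (g * z) * g⁻¹ := by rw [this]
    _ = z * g⁻¹ := by group

/-- in a minimal counterexample the centre of `Q` acts by scalars -/
theorem zen_isScal (q s : ℕ) [Fact q.Prime] [Fact s.Prime] (hqK : (q : K) ≠ 0)
    (Q S : Subgroup (Module.End K W)ˣ) (X : (Module.End K W)ˣ) (n : ℕ) (hn : 1 ≤ n)
    (h : PairHyp q s Q S X n)
    (IHd : ∀ U : Submodule K W, U ≠ ⊤ → ∀ (Q' S' : Subgroup (Module.End K U)ˣ)
      (X' : (Module.End K U)ˣ) (n' : ℕ), 1 ≤ n' → PairHyp q s Q' S' X' n' →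
      ∀ e ∈ Q', ∀ y ∈ S', y * e = e * y)
    (hZS : ∀ z ∈ zen Q, ∀ y ∈ S, y * z = z * y)
    (hψZ : ∀ z ∈ zen Q, X ^ (2 ^ (n - 1)) * z = z * X ^ (2 ^ (n - 1)))
    (hnc : ∃ t ∈ Q, ∃ y ∈ S, y * t ≠ t * y) :
    ∀ z ∈ zen Q, IsScal ((z : (Module.End K W)ˣ) : Module.End K W) := by
  classical
  haveI := h.finQ
  have hNpos : 0 < 2 ^ n := by positivity
  have hXN : X ∈ Subgroup.normalizer (Q : Set (Module.End K W)ˣ) :=
    mem_normalizer_of_pow_eq_one Q X (2 ^ n) hNpos h.hXn h.hXQ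
  set Z := zen Q with hZdef
  have hZle : Z ≤ Q := zen_le Q
  haveI : Finite Z := Finite.of_injective (Subgroup.inclusion hZle) (Subgroup.inclusion_injective _)
  have hZq : IsPGroup q Z := h.hQ.to_le hZle
  have hZab : ∀ a ∈ Z, ∀ b ∈ Z, a * b = b * a := by
    intro a ha b hb
    exact (mem_zen.1 hb).2 a (hZle ha)
  have hXZ : ∀ z ∈ Z, X * z * X⁻¹ ∈ Z := conj_mem_zen Q X hXN
  have hXNZ : X ∈ Subgroup.normalizer (Z : Set (Module.End K W)ˣ) :=
    mem_normalizer_of_pow_eq_one Z X (2 ^ n) hNpos h.hXn hXZ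
  set σ := conjPerm Z X hXNZ with hσ
  set f := fam Z with hf
  have hcomm : ∀ i j, Commute (f i) (f j) := fam_commute Z hZab
  have htop : ⨆ χ, wt f χ = ⊤ := iSup_wt_eq_top f hcomm (fam_semisimple Z hZq hqK)
  have hXf : ∀ i, (X : Module.End K W) * f i = f (σ i) * (X : Module.End K W) :=
    fam_twist Z X hXNZ
  set π := twist (K := K) σ with hπ
  have hσY : σ ^ (2 ^ (n - 1)) = 1 := by
    apply Equiv.ext
    intro a
    apply Subtype.ext
    rw [hσ, conjPerm_pow_apply, hψZ a a.2]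
    simp
  have hπY : ∀ χ : Z → K, π^[2 ^ (n - 1)] χ = χ := by
    intro χ
    rw [hπ, twist_iterate, hσY]
    rfl
  by_contra hcon
  push Not at hcon
  obtain ⟨z₀, hz₀, hz₀ns⟩ := hcon
  have hUne : ∀ χ : Z → K, wt f χ ≠ ⊤ := by
    intro χ htop'
    apply hz₀ns
    refine ⟨χ ⟨z₀, hz₀⟩, ?_⟩
    apply LinearMap.ext
    intro w
    have hw : w ∈ wt f χ := by rw [htop']; trivial
    have := (mem_wt.1 hw) ⟨z₀, hz₀⟩
    rw [Module.algebraMap_end_apply]
    exact this
  obtain ⟨t, htQ, y, hyS, hty⟩ := hnc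
  apply hty
  apply Units.ext
  apply ext_of_wt htop
  intro χ w hw
  by_cases hw0 : w = 0
  · rw [hw0, map_zero, map_zero]
  set U := wt f χ with hUdef
  have hQU : Q ≤ stabU U := fun e he =>
    mem_stabU_wt_of_comm Z e (fun z hz => (mem_zen.1 hz).2 e he) χ
  have hSU : S ≤ stabU U := fun y' hy' =>
    mem_stabU_wt_of_comm Z y' (fun z hz => hZS z hz y' hy') χ
  obtain ⟨a, han, hmp⟩ := prime_pow_period π χ 2 (n - 1) Nat.prime_two (hπY χ)
  have hper : π^[2 ^ a] χ = χ := by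
    have := Function.isPeriodicPt_minimalPeriod π χ
    rw [hmp] at this
    exact this
  have hinj : ∀ i < 2 ^ a, ∀ j < 2 ^ a, π^[i] χ = π^[j] χ → i = j := by
    intro i hi j hj hij
    have := Function.iterate_injOn_Iio_minimalPeriod (f := π) (x := χ)
    rw [hmp] at this
    exact this (Set.mem_Iio.2 hi) (Set.mem_Iio.2 hj) hij
  have htpos : 0 < 2 ^ a := by positivity
  set Xt := X ^ (2 ^ a) with hXt
  have hXtval : (Xt : Module.End K W) = (X : Module.End K W) ^ (2 ^ a) := by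
    rw [hXt, Units.val_pow_eq_pow_val]
  have hXtpow : Xt ^ (2 ^ (n - a)) = 1 := by
    rw [hXt, ← pow_mul, ← pow_add, Nat.add_sub_cancel' (by omega : a ≤ n), h.hXn]
  have hUX : ∀ w ∈ U, (Xt : Module.End K W) w ∈ U := by
    intro w hw
    rw [hXtval]
    have := map_pow_wt (X : Module.End K W) σ hXf (2 ^ a) hw
    rwa [hper] at this
  have hUXpow : ∀ j : ℕ, ∀ w ∈ U, ((Xt ^ j : (Module.End K W)ˣ) : Module.End K W) w ∈ U := by
    intro j
    induction j with
    | zero => intro w hw; simpa using hw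
    | succ j ih =>
      intro w hw
      rw [pow_succ', Units.val_mul, Module.End.mul_apply]
      exact hUX _ (ih w hw)
  have hUX' : ∀ w ∈ U, ((Xt⁻¹ : (Module.End K W)ˣ) : Module.End K W) w ∈ U := by
    have h1 : Xt⁻¹ = Xt ^ (2 ^ (n - a) - 1) := by
      apply inv_eq_of_mul_eq_one_right
      rw [← pow_succ', Nat.sub_add_cancel (Nat.one_le_two_pow), hXtpow]
    rw [h1]
    exact hUXpow _
  have hXU : Xt ∈ stabU U := ⟨hUX, hUX'⟩
  have hfixU : ∀ u ∈ U, ((Xt : (Module.End K W)ˣ) : Module.End K W) u = u → u = 0 := by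
    intro v hv hXv
    by_contra hv0
    obtain ⟨w', hw'0, hw'⟩ := exists_fixed_of_orbit hcomm (X : Module.End K W) σ hXf χ (2 ^ a)
      htpos hinj v hv hv0 (by rw [← hXtval]; exact hXv)
    exact hw'0 (h.hfix w' hw')
  have hres := h.restrict U hQU hSU a (by omega) hXU hfixU
  have hc := IHd U (hUne χ) _ _ _ (n - a) (by omega) hres _ (mem_imU_of_mem (hQU htQ) htQ) _
    (mem_imU_of_mem (hSU hyS) hyS)
  have h3 := congrArg (fun φ : (Module.End K U)ˣ => (((φ : Module.End K U) ⟨w, hw⟩ : U) : W)) hc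
  simp only [Units.val_mul, Module.End.mul_apply, resHom_apply] at h3
  rw [Units.val_mul, Units.val_mul, Module.End.mul_apply, Module.End.mul_apply]
  exact h3

/-- the inductive step of the pair theorem -/
theorem pair_step (q s : ℕ) [Fact q.Prime] [Fact s.Prime] (hqs : q ≠ s) (hq2 : q ≠ 2)
    (hs2 : s ≠ 2) (h2K : (2 : K) ≠ 0) (hqK : (q : K) ≠ 0)
    (Q S : Subgroup (Module.End K W)ˣ) (X : (Module.End K W)ˣ) (n : ℕ) (hn : 1 ≤ n)
    (h : PairHyp q s Q S X n)
    (IHd : ∀ U : Submodule K W, U ≠ ⊤ → ∀ (Q' S' : Subgroup (Module.End K U)ˣ)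
      (X' : (Module.End K U)ˣ) (n' : ℕ), 1 ≤ n' → PairHyp q s Q' S' X' n' →
      ∀ e ∈ Q', ∀ y ∈ S', y * e = e * y)
    (IHQ : ∀ Q₁ : Subgroup (Module.End K W)ˣ, Q₁ < Q → (∀ e ∈ Q₁, X * e * X⁻¹ ∈ Q₁) →
      (∀ y ∈ S, ∀ e ∈ Q₁, y * e * y⁻¹ ∈ Q₁) → ∀ t ∈ Q₁, ∀ y ∈ S, y * t = t * y) :
    ∀ e ∈ Q, ∀ y ∈ S, y * e = e * y := by
  classical
  by_contra hcon
  push Not at hcon
  have hnc : ∃ t ∈ Q, ∃ y ∈ S, y * t ≠ t * y := hcon
  haveI := h.finQ
  haveI := h.finS
  have hq : q.Prime := Fact.out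
  have hs : s.Prime := Fact.out
  have hsodd : Odd s := hs.odd_of_ne_two hs2
  have hNpos : 0 < 2 ^ n := by positivity
  have hXN : X ∈ Subgroup.normalizer (Q : Set (Module.End K W)ˣ) :=
    mem_normalizer_of_pow_eq_one Q X (2 ^ n) hNpos h.hXn h.hXQ
  have hSord : ∀ y ∈ S, ∃ k, y ^ (s ^ k) = 1 := by
    intro y hy
    obtain ⟨k, hk⟩ := h.hS ⟨y, hy⟩
    refine ⟨k, ?_⟩
    have := congrArg Subtype.val hk
    simpa using this
  have hSN : S ≤ Subgroup.normalizer (Q : Set (Module.End K W)ˣ) := by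
    intro y hy
    obtain ⟨k, hk⟩ := hSord y hy
    exact mem_normalizer_of_pow_eq_one Q y (s ^ k) (pos_of_ne_zero (pow_ne_zero _ hs.ne_zero)) hk
      (h.hSQ y hy)
  have hodd : ∀ y ∈ S, ∃ m, Odd m ∧ y ^ m = 1 := by
    intro y hy
    obtain ⟨k, hk⟩ := hSord y hy
    exact ⟨s ^ k, hsodd.pow, hk⟩
  have hcop : ∀ y ∈ S, ∃ m, y ^ m = 1 ∧ Nat.Coprime m q := by
    intro y hy
    obtain ⟨k, hk⟩ := hSord y hy
    exact ⟨s ^ k, hk, Nat.Coprime.pow_left _ ((Nat.coprime_primes hs hq).2 (fun h => hqs h.symm))⟩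
  have hnab : ∃ e ∈ Q, ∃ f ∈ Q, e * f ≠ f * e := by
    by_contra hab
    push Not at hab
    have hψQ := psi_comm_of_abelian q hqK Q h.hQ hab X h.hXQ n hn h.hXn h.hfix
    obtain ⟨t, htQ, y, hyS, hty⟩ := hnc
    exact hty (centralizes_of_inverted Q S _ hψQ h.hSQ hodd h.hgen t htQ y hyS)
  obtain ⟨hi, hii, hirr⟩ := pair_structure Q S h.hQ X hXN h.hXS hSN hcop IHQ hnc hnab
  haveI : Finite (zen Q) :=
    Finite.of_injective (Subgroup.inclusion (zen_le Q)) (Subgroup.inclusion_injective _)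
  have hψZ := psi_comm_of_abelian q hqK (zen Q) (h.hQ.to_le (zen_le Q))
    (fun a ha b hb => (mem_zen.1 hb).2 a (zen_le Q ha)) X (conj_mem_zen Q X hXN) n hn h.hXn h.hfix
  have hZscal := zen_isScal q s hqK Q S X n hn h IHd hii hψZ hnc
  exact pair_endgame q s hqs hq2 hs2 h2K hqK Q S X n hn h hi hii hirr hψZ hZscal hnab hnc

end Pair

section Main

variable (K : Type uK) [Field K] [IsAlgClosed K]

/-- **The pair theorem.** -/
theorem pair_commute (q s : ℕ) [Fact q.Prime] [Fact s.Prime] (hqs : q ≠ s) (hq2 : q ≠ 2)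
    (hs2 : s ≠ 2) (h2K : (2 : K) ≠ 0) (hqK : (q : K) ≠ 0) :
    ∀ (d : ℕ) (W : Type uW) [AddCommGroup W] [Module K W] [FiniteDimensional K W],
      Module.finrank K W = d →
      ∀ (Q S : Subgroup (Module.End K W)ˣ) (X : (Module.End K W)ˣ) (n : ℕ), 1 ≤ n →
        PairHyp q s Q S X n → ∀ e ∈ Q, ∀ y ∈ S, y * e = e * y := by
  intro d
  induction d using Nat.strong_induction_on with
  | _ d ihd =>
    intro W _ _ _ hd
    have key : ∀ (m : ℕ) (Q S : Subgroup (Module.End K W)ˣ) (X : (Module.End K W)ˣ) (n : ℕ),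
        1 ≤ n → PairHyp q s Q S X n → Nat.card Q = m → ∀ e ∈ Q, ∀ y ∈ S, y * e = e * y := by
      intro m
      induction m using Nat.strong_induction_on with
      | _ m ihm =>
        intro Q S X n hn h hm
        apply pair_step q s hqs hq2 hs2 h2K hqK Q S X n hn h
        · intro U hU Q' S' X' n' hn' h'
          have hlt : Module.finrank K U < d := by
            rw [← hd]
            exact Submodule.finrank_lt hU
          exact ihd _ hlt U rfl Q' S' X' n' hn' h'
        · intro Q₁ hlt hX₁ hS₁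
          haveI := h.finQ
          haveI : Finite Q₁ :=
            Finite.of_injective (Subgroup.inclusion hlt.le) (Subgroup.inclusion_injective _)
          have hcard : Nat.card Q₁ < m := by
            rw [← hm]
            by_contra hge
            push Not at hge
            exact (ne_of_lt hlt) (Subgroup.eq_of_le_of_card_ge hlt.le hge)
          have h₁ : PairHyp q s Q₁ S X n :=
            { finQ := inferInstance
              finS := h.finS
              hQ := h.hQ.to_le hlt.le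
              hS := h.hS
              hXQ := hX₁
              hXS := h.hXS
              hSQ := hS₁
              hXn := h.hXn
              hfix := h.hfix
              hgen := h.hgen }
          exact ihm _ hcard Q₁ S X n hn h₁ rfl
    intro Q S X n hn h
    exact key _ Q S X n hn h rfl

end Main

end Cfsg.Agent.Lib.Helper56.Gross
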