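import Cfsg.Agent.Lib.Helper56.HHBGroup

/-!
# Group theoretic tools for the pair theorem

* `pair_structure`: a minimal configuration `(Q, S)` with `S` acting nontrivially on the
  nonabelian `q`-group `Q`;
* `centralizes_of_inverted`: if `ψ` centralizes `Q` and `S` is generated by elements inverted by
  `ψ` of odd order then `S` centralizes `Q`;
* `mersenne_prime_pow`: `q ^ j + 1 = 2 ^ n` forces `j = 1`.
-/

set_option autoImplicit false
set_option linter.unusedSectionVars false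
set_option linter.style.haveILetI false

namespace Cfsg.Agent.Lib.Helper56.Gross

open Cfsg.Agent.Lib.Helper56.HHB
open scoped commutatorElement

section Arith

theorem odd_cofactor (q : ℤ) (hq : Odd q) (k : ℕ) :
    ∃ c : ℤ, Odd c ∧ q ^ (2 * k + 1) + 1 = (q + 1) * c := by
  induction k with
  | zero => exact ⟨1, odd_one, by ring⟩
  | succ k ih =>
    obtain ⟨c, hc, h⟩ := ih
    refine ⟨q ^ 2 * c - (q - 1), ?_, ?_⟩
    · have h1 : Odd (q ^ 2 * c) := (hq.pow).mul hc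
      have h2 : Even (q - 1) := by
        obtain ⟨t, ht⟩ := hq
        exact ⟨t, by rw [ht]; ring⟩
      exact h1.sub_even h2
    · have h3 : q ^ (2 * (k + 1) + 1) + 1 = q ^ 2 * (q ^ (2 * k + 1) + 1) - (q - 1) * (q + 1) := by
        ring
      rw [h3, h]
      ring

/-- a prime power one less than a power of two is a prime -/
theorem mersenne_prime_pow (q j n : ℕ) (hq3 : 3 ≤ q) (hqodd : Odd q) (hj : 1 ≤ j)
    (h : q ^ j + 1 = 2 ^ n) : j = 1 := by
  rcases Nat.even_or_odd j with hje | hjo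
  · exfalso
    obtain ⟨k, hk⟩ := hje
    have hk' : j = 2 * k := by omega
    have hx : Odd (q ^ k) := hqodd.pow
    obtain ⟨t, ht⟩ := hx
    have h1 : q ^ j = 4 * (t * t + t) + 1 := by
      rw [hk', mul_comm, pow_mul, ht]
      ring
    have hk1 : 1 ≤ k := by omega
    have hx3 : 3 ≤ q ^ k := by
      calc 3 ≤ q := hq3
        _ = q ^ 1 := (pow_one q).symm
        _ ≤ q ^ k := Nat.pow_le_pow_right (by omega) hk1
    have ht1 : 1 ≤ t := by omega
    have htt : 1 ≤ t * t := Nat.mul_pos ht1 ht1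
    rcases n with _ | _ | n
    · simp at h
      omega
    · simp at h
      omega
    · have h2 : 2 ^ (n + 1 + 1) = 4 * 2 ^ n := by ring
      rw [h2, h1] at h
      omega
  · obtain ⟨k, hk⟩ := hjo
    have hqoddZ : Odd (q : ℤ) := by exact_mod_cast hqodd
    obtain ⟨c, hc, hc'⟩ := odd_cofactor (q : ℤ) hqoddZ k
    have h1 : ((q : ℤ) + 1) * c = 2 ^ n := by
      rw [← hc', ← hk]
      exact_mod_cast h
    have hcpos : 0 < c := by
      have h2 : (0 : ℤ) < ((q : ℤ) + 1) * c := by rw [h1]; positivity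
      have h3 : (0 : ℤ) < (q : ℤ) + 1 := by positivity
      exact (mul_pos_iff_of_pos_left h3).1 h2
    have hcdvd : c.natAbs ∣ 2 ^ n := by
      have h2 : c ∣ (2 : ℤ) ^ n := ⟨(q : ℤ) + 1, by rw [← h1]; ring⟩
      have h3 := Int.natAbs_dvd_natAbs.2 h2
      simpa using h3
    obtain ⟨i, -, hi⟩ := (Nat.dvd_prime_pow Nat.prime_two).1 hcdvd
    have hcodd : Odd c.natAbs := Int.natAbs_odd.2 hc
    have hi0 : i = 0 := by
      by_contra hne
      have : Even (2 ^ i) := (Nat.even_pow.2 ⟨even_two, hne⟩)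
      rw [← hi] at this
      exact (Nat.not_even_iff_odd.2 hcodd) this
    rw [hi0, pow_zero] at hi
    have hc1 : c = 1 := by
      have h2 : (c.natAbs : ℤ) = c := Int.natAbs_of_nonneg hcpos.le
      rw [hi] at h2
      exact_mod_cast h2.symm
    rw [hc1, mul_one] at hc'
    have h4 : q ^ (2 * k + 1) = q ^ 1 := by
      have : (q : ℤ) ^ (2 * k + 1) = q := by linarith
      rw [pow_one]
      exact_mod_cast this
    have h5 := Nat.pow_right_injective (show 2 ≤ q by omega) h4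
    omega

end Arith

section GT

variable {G : Type*} [Group G]

/-- an element of odd order commuting with the square of `y` commutes with `y` -/
theorem comm_of_sq_comm {y e : G} (m : ℕ) (hm : Odd m) (hym : y ^ m = 1)
    (h : y ^ 2 * e = e * y ^ 2) : y * e = e * y := by
  obtain ⟨t, ht⟩ := hm
  have h1 : y = (y ^ 2) ^ (t + 1) := by
    rw [← pow_mul]
    have : 2 * (t + 1) = m + 1 := by omega
    rw [this, pow_succ, hym, one_mul]
  have h2 : Commute (y ^ 2) e := h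
  have h3 : Commute ((y ^ 2) ^ (t + 1)) e := h2.pow_left _
  rw [← h1] at h3
  exact h3

/-- if `ψ` centralizes `Q` then so does every group generated by elements of odd order inverted
by `ψ` and normalizing `Q` -/
theorem centralizes_of_inverted (Q S : Subgroup G) (ψ : G)
    (hψQ : ∀ e ∈ Q, ψ * e = e * ψ) (hSQ : ∀ y ∈ S, ∀ e ∈ Q, y * e * y⁻¹ ∈ Q)
    (hodd : ∀ y ∈ S, ∃ m, Odd m ∧ y ^ m = 1)
    (hgen : S ≤ Subgroup.closure {y | y ∈ S ∧ ψ * y * ψ⁻¹ = y⁻¹}) :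
    ∀ e ∈ Q, ∀ y ∈ S, y * e = e * y := by
  have hle : S ≤ Subgroup.centralizer (Q : Set G) := by
    refine hgen.trans ?_
    rw [Subgroup.closure_le]
    rintro y ⟨hyS, hy⟩
    rw [SetLike.mem_coe, Subgroup.mem_centralizer_iff]
    intro e he
    obtain ⟨m, hm, hym⟩ := hodd y hyS
    have he' : y * e * y⁻¹ ∈ Q := hSQ y hyS e he
    have h1 := hψQ _ he'
    have h2 := hψQ e he
    have hyinv : ψ * y⁻¹ * ψ⁻¹ = y := by
      have : ψ * y⁻¹ * ψ⁻¹ = (ψ * y * ψ⁻¹)⁻¹ := by group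
      rw [this, hy, inv_inv]
    have h3 : ψ * (y * e * y⁻¹) * ψ⁻¹ = y⁻¹ * e * y := by
      calc ψ * (y * e * y⁻¹) * ψ⁻¹ = (ψ * y * ψ⁻¹) * (ψ * e * ψ⁻¹) * (ψ * y⁻¹ * ψ⁻¹) := by group
        _ = y⁻¹ * e * y := by
          rw [hy, hyinv, h2]
          group
    have h4 : ψ * (y * e * y⁻¹) * ψ⁻¹ = y * e * y⁻¹ := by rw [h1]; group
    have h5 : y * e * y⁻¹ = y⁻¹ * e * y := by rw [← h4, h3]
    have h6 : y ^ 2 * e = e * y ^ 2 := by
      calc y ^ 2 * e = y * (y * e * y⁻¹) * y := by rw [pow_two]; group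
        _ = y * (y⁻¹ * e * y) * y := by rw [h5]
        _ = e * y ^ 2 := by rw [pow_two]; group
    exact (comm_of_sq_comm m hm hym h6).symm
  intro e he y hy
  exact ((Subgroup.mem_centralizer_iff.1 (hle hy)) e he).symm

variable (Q S : Subgroup G) [Finite Q] {q : ℕ} [Fact q.Prime]

/-- **Group theoretic reduction for a pair.** -/
theorem pair_structure (hQ : IsPGroup q Q) (X : G)
    (hXN : X ∈ Subgroup.normalizer (Q : Set G)) (hXS : ∀ y ∈ S, X * y * X⁻¹ ∈ S)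
    (hSN : S ≤ Subgroup.normalizer (Q : Set G))
    (hcop : ∀ y ∈ S, ∃ m, y ^ m = 1 ∧ Nat.Coprime m q)
    (hmin : ∀ Q₁ : Subgroup G, Q₁ < Q → (∀ e ∈ Q₁, X * e * X⁻¹ ∈ Q₁) →
      (∀ y ∈ S, ∀ e ∈ Q₁, y * e * y⁻¹ ∈ Q₁) → ∀ t ∈ Q₁, ∀ y ∈ S, y * t = t * y)
    (hnc : ∃ t ∈ Q, ∃ y ∈ S, y * t ≠ t * y) (hnab : ∃ e ∈ Q, ∃ f ∈ Q, e * f ≠ f * e) :
    (∀ e ∈ Q, ∀ f ∈ Q, ⁅e, f⁆ ∈ zen Q) ∧ (∀ z ∈ zen Q, ∀ y ∈ S, y * z = z * y) ∧
      (∀ R : Subgroup G, R < Q → zen Q ≤ R → (∀ e ∈ R, X * e * X⁻¹ ∈ R) →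
        (∀ y ∈ S, ∀ e ∈ R, y * e * y⁻¹ ∈ R) → R = zen Q) := by
  classical
  have hXf : ∀ e ∈ Q, X * e * X⁻¹ ∈ Q := fun e he => (Subgroup.mem_normalizer_iff.1 hXN e).1 he
  have hSf : ∀ y ∈ S, ∀ e ∈ Q, y * e * y⁻¹ ∈ Q :=
    fun y hy e he => (Subgroup.mem_normalizer_iff.1 (hSN hy) e).1 he
  have hSS : ∀ y ∈ S, ∀ a ∈ S, y * a * y⁻¹ ∈ S :=
    fun y hy a ha => S.mul_mem (S.mul_mem hy ha) (S.inv_mem hy)
  -- Step 2: `[Q, S] = Q`
  have hQ0le : ⁅Q, S⁆ ≤ Q := by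
    rw [← Subgroup.le_normalizer_iff_commutator_le_left]
    exact hSN
  have hQ0X : ∀ c ∈ ⁅Q, S⁆, X * c * X⁻¹ ∈ ⁅Q, S⁆ := conj_mem_commutator _ _ X hXf hXS
  have hQ0S : ∀ y ∈ S, ∀ c ∈ ⁅Q, S⁆, y * c * y⁻¹ ∈ ⁅Q, S⁆ :=
    fun y hy => conj_mem_commutator _ _ y (hSf y hy) (hSS y hy)
  have hQ0 : ⁅Q, S⁆ = Q := by
    by_contra hne
    have hlt : ⁅Q, S⁆ < Q := lt_of_le_of_ne hQ0le hne
    have hcen := hmin _ hlt hQ0X hQ0S
    obtain ⟨t, htQ, y, hyS, ht⟩ := hnc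
    apply ht
    have hd : t⁻¹ * (y * t * y⁻¹) ∈ ⁅Q, S⁆ := by
      have h1 : t⁻¹ * (y * t * y⁻¹) = ⁅t⁻¹, y⁆ := by
        rw [commutatorElement_def]; group
      rw [h1]
      exact Subgroup.commutator_mem_commutator (Q.inv_mem htQ) hyS
    obtain ⟨m, hym, hmq⟩ := hcop y hyS
    exact comm_of_comm_of_coprime Q hQ y m hym hmq t (hQ0le hd) (hcen _ hd y hyS)
  -- Step 3: proper invariant normal subgroups are central
  have hcentral : ∀ R : Subgroup G, R < Q → (∀ e ∈ R, X * e * X⁻¹ ∈ R) →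
      (∀ y ∈ S, ∀ e ∈ R, y * e * y⁻¹ ∈ R) →
      (∀ e ∈ Q, ∀ r ∈ R, e * r * e⁻¹ ∈ R) → R ≤ Subgroup.centralizer (Q : Set G) := by
    intro R hR hRX hRS hRn
    have hcen := hmin R hR hRX hRS
    have h1 : ⁅⁅S, R⁆, Q⁆ = ⊥ := by
      have : ⁅S, R⁆ = ⊥ := by
        rw [Subgroup.commutator_eq_bot_iff_le_centralizer, Subgroup.le_centralizer_iff]
        intro r hr
        rw [Subgroup.mem_centralizer_iff]
        intro y hy
        exact hcen r hr y hy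
      rw [this, Subgroup.commutator_bot_left]
    have h2 : ⁅⁅R, Q⁆, S⁆ = ⊥ := by
      rw [Subgroup.commutator_eq_bot_iff_le_centralizer, Subgroup.le_centralizer_iff]
      intro y hy
      rw [Subgroup.mem_centralizer_iff]
      intro c hc
      have hcR : c ∈ R := by
        have h3 : ⁅R, Q⁆ ≤ R := by
          rw [Subgroup.commutator_le]
          intro r hr e he
          rw [commutatorElement_def]
          have h4 := hRn e he r⁻¹ (R.inv_mem hr)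
          have h5 : r * e * r⁻¹ * e⁻¹ = r * (e * r⁻¹ * e⁻¹) := by group
          rw [h5]
          exact R.mul_mem hr h4
        exact h3 hc
      exact (hcen c hcR y hy).symm
    have h3 := Subgroup.commutator_commutator_eq_bot_of_rotate h1 h2
    rw [hQ0, Subgroup.commutator_eq_bot_iff_le_centralizer] at h3
    rw [Subgroup.le_centralizer_iff]
    exact h3
  -- Step 4: `Q' ≤ Z(Q)`
  obtain ⟨e₀, he₀, f₀, hf₀, hef₀⟩ := hnab
  have hQ'lt : ⁅Q, Q⁆ < Q := by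
    refine lt_of_le_of_ne (Subgroup.commutator_le_self Q) ?_
    intro heq
    haveI : Nontrivial Q := by
      refine ⟨⟨⟨e₀, he₀⟩, 1, ?_⟩⟩
      intro h
      have : e₀ = 1 := congrArg Subtype.val h
      apply hef₀
      rw [this, one_mul, mul_one]
    haveI : Group.IsNilpotent Q := hQ.isNilpotent
    have h1 := Group.IsSolvable.commutator_lt_top_of_nontrivial Q
    have h2 : (commutator Q).map Q.subtype = (⊤ : Subgroup Q).map Q.subtype := by
      rw [Subgroup.map_subtype_commutator, heq, ← MonoidHom.range_eq_map, Q.range_subtype]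
    have h3 := Subgroup.map_injective Q.subtype_injective h2
    exact (ne_of_lt h1) h3
  have hQ'X : ∀ c ∈ ⁅Q, Q⁆, X * c * X⁻¹ ∈ ⁅Q, Q⁆ := conj_mem_commutator _ _ X hXf hXf
  have hQ'S : ∀ y ∈ S, ∀ c ∈ ⁅Q, Q⁆, y * c * y⁻¹ ∈ ⁅Q, Q⁆ :=
    fun y hy => conj_mem_commutator _ _ y (hSf y hy) (hSf y hy)
  have hQ'n : ∀ e ∈ Q, ∀ r ∈ ⁅Q, Q⁆, e * r * e⁻¹ ∈ ⁅Q, Q⁆ := by
    intro e he
    exact conj_mem_commutator _ _ e (fun a ha => Q.mul_mem (Q.mul_mem he ha) (Q.inv_mem he))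
      (fun a ha => Q.mul_mem (Q.mul_mem he ha) (Q.inv_mem he))
  have hQ'Z : ⁅Q, Q⁆ ≤ zen Q := le_inf (le_of_lt hQ'lt) (hcentral _ hQ'lt hQ'X hQ'S hQ'n)
  have hi : ∀ e ∈ Q, ∀ f ∈ Q, ⁅e, f⁆ ∈ zen Q := fun e he f hf =>
    hQ'Z (Subgroup.commutator_mem_commutator he hf)
  -- Step 5: `S` centralizes the centre
  have hZlt : zen Q < Q := by
    refine lt_of_le_of_ne (zen_le Q) ?_
    intro heq
    apply hef₀
    have h1 : f₀ ∈ zen Q := by rw [heq]; exact hf₀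
    exact (mem_zen.1 h1).2 e₀ he₀
  have hZX : ∀ z ∈ zen Q, X * z * X⁻¹ ∈ zen Q := conj_mem_zen Q X hXN
  have hZS : ∀ y ∈ S, ∀ z ∈ zen Q, y * z * y⁻¹ ∈ zen Q :=
    fun y hy => conj_mem_zen Q y (hSN hy)
  have hii : ∀ z ∈ zen Q, ∀ y ∈ S, y * z = z * y := hmin _ hZlt hZX hZS
  refine ⟨hi, hii, ?_⟩
  intro R hR hZR hRX hRS
  have hRn : ∀ g ∈ Q, ∀ e ∈ R, g * e * g⁻¹ ∈ R := by
    intro g hg e he
    have h1 : g * e * g⁻¹ = ⁅g, e⁆ * e := by rw [commutatorElement_def]; group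
    rw [h1]
    exact R.mul_mem (hZR (hi g hg e (hR.le he))) he
  have hRc := hcentral R hR hRX hRS hRn
  exact le_antisymm (le_inf hR.le hRc) hZR

end GT

end Cfsg.Agent.Lib.Helper56.Gross
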