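import Cfsg.Agent.Lib.Helper56.GrossPair

/-!
# The pair theorem for automorphisms of an elementary abelian group
-/

set_option autoImplicit false
set_option linter.unusedSectionVars false
set_option linter.style.haveILetI false

namespace Cfsg.Agent.Lib.Helper56.Gross

open Module TensorProduct
open Cfsg.Agent.Lib.Helper56.HH
open Cfsg.Agent.Lib.Helper56.HHB

section Group

variable {N : Type*} [CommGroup N] [Finite N]

theorem pair_group_aux (v q s : ℕ) [Fact v.Prime] [Fact q.Prime] [Fact s.Prime]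
    [Module (ZMod v) (Additive N)]
    (hqs : q ≠ s) (hq2 : q ≠ 2) (hs2 : s ≠ 2) (hv2 : v ≠ 2) (hvq : v ≠ q)
    (Q S : Subgroup (MulAut N)) (hQ : IsPGroup q Q) (hS : IsPGroup s S) (ξ : MulAut N)
    (hξQ : ∀ e ∈ Q, ξ * e * ξ⁻¹ ∈ Q) (hξS : ∀ y ∈ S, ξ * y * ξ⁻¹ ∈ S)
    (hSQ : ∀ y ∈ S, ∀ e ∈ Q, y * e * y⁻¹ ∈ Q)
    (n : ℕ) (hn : 1 ≤ n) (hξn : ξ ^ (2 ^ n) = 1) (hfpfN : ∀ a : N, ξ a = a → a = 1)
    (hgen : S ≤ Subgroup.closure
      {y | y ∈ S ∧ ξ ^ (2 ^ (n - 1)) * y * (ξ ^ (2 ^ (n - 1)))⁻¹ = y⁻¹}) :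
    ∀ e ∈ Q, ∀ y ∈ S, y * e = e * y := by
  classical
  haveI : Finite (MulAut N) := finite_mulAut
  set g := bcHom v N with hg
  have hg_inj : Function.Injective g := bcHom_injective v N
  have hPair : PairHyp q s (Q.map g) (S.map g) (g ξ) n := by
    refine ⟨finite_map_of_finite g Q, finite_map_of_finite g S, hQ.map g, hS.map g, ?_, ?_, ?_, ?_,
      ?_, ?_⟩
    · rintro _ ⟨e, he, rfl⟩
      refine ⟨ξ * e * ξ⁻¹, hξQ e he, ?_⟩
      rw [map_mul, map_mul, map_inv]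
    · rintro _ ⟨e, he, rfl⟩
      refine ⟨ξ * e * ξ⁻¹, hξS e he, ?_⟩
      rw [map_mul, map_mul, map_inv]
    · rintro _ ⟨y, hy, rfl⟩ _ ⟨e, he, rfl⟩
      refine ⟨y * e * y⁻¹, hSQ y hy e he, ?_⟩
      rw [map_mul, map_mul, map_inv]
    · rw [← map_pow, hξn, map_one]
    · intro w hw
      by_contra hw0
      obtain ⟨a, ha1, ha⟩ := exists_fixed_of_bcHom v N ξ w hw0 hw
      exact ha1 (hfpfN a ha)
    · have h1 : S.map g ≤ (Subgroup.closure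
          {y | y ∈ S ∧ ξ ^ (2 ^ (n - 1)) * y * (ξ ^ (2 ^ (n - 1)))⁻¹ = y⁻¹}).map g :=
        Subgroup.map_mono hgen
      refine h1.trans ?_
      rw [MonoidHom.map_closure]
      apply Subgroup.closure_mono
      rintro _ ⟨y, ⟨hyS, hy⟩, rfl⟩
      refine ⟨Subgroup.mem_map_of_mem g hyS, ?_⟩
      rw [← map_pow, ← map_inv, ← map_mul, ← map_mul, hy, map_inv]
  have h2L : (2 : bcL v) ≠ 0 := by
    have := bcL_prime_ne_zero v 2 hv2
    simpa using this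
  have hqL : (q : bcL v) ≠ 0 := bcL_prime_ne_zero v q hvq
  intro e he y hy
  have h3 := pair_commute (bcL v) q s hqs hq2 hs2 h2L hqL _ (bcW v N) rfl (Q.map g) (S.map g) (g ξ)
    n hn hPair (g e) (Subgroup.mem_map_of_mem g he) (g y) (Subgroup.mem_map_of_mem g hy)
  apply hg_inj
  rw [map_mul, map_mul]
  exact h3

/-- **The pair theorem, group form.** -/
theorem pair_group (v q s : ℕ) [Fact v.Prime] [Fact q.Prime] [Fact s.Prime]
    (hexp : ∀ a : N, a ^ v = 1)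
    (hqs : q ≠ s) (hq2 : q ≠ 2) (hs2 : s ≠ 2) (hv2 : v ≠ 2) (hvq : v ≠ q)
    (Q S : Subgroup (MulAut N)) (hQ : IsPGroup q Q) (hS : IsPGroup s S) (ξ : MulAut N)
    (hξQ : ∀ e ∈ Q, ξ * e * ξ⁻¹ ∈ Q) (hξS : ∀ y ∈ S, ξ * y * ξ⁻¹ ∈ S)
    (hSQ : ∀ y ∈ S, ∀ e ∈ Q, y * e * y⁻¹ ∈ Q)
    (n : ℕ) (hn : 1 ≤ n) (hξn : ξ ^ (2 ^ n) = 1) (hfpfN : ∀ a : N, ξ a = a → a = 1)
    (hgen : S ≤ Subgroup.closure
      {y | y ∈ S ∧ ξ ^ (2 ^ (n - 1)) * y * (ξ ^ (2 ^ (n - 1)))⁻¹ = y⁻¹}) :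
    ∀ e ∈ Q, ∀ y ∈ S, y * e = e * y := by
  letI : Module (ZMod v) (Additive N) := AddCommGroup.zmodModule (n := v) (by
    intro x
    have := hexp (Additive.toMul x)
    exact congrArg Additive.ofMul this)
  exact pair_group_aux v q s hqs hq2 hs2 hv2 hvq Q S hQ hS ξ hξQ hξS hSQ n hn hξn hfpfN hgen

end Group

end Cfsg.Agent.Lib.Helper56.Gross
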