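import Cfsg.Agent.Lib.Helper56.GrossRes
import Cfsg.Agent.Lib.Helper56.SGGroup

/-!
# The quotient of a group of linear maps by its scalars, and the induced automorphisms
-/

set_option autoImplicit false
set_option linter.unusedSectionVars false
set_option linter.style.haveILetI false

namespace Cfsg.Agent.Lib.Helper56.Gross

open Module
open Cfsg.Agent.Lib.Helper56.HH
open Cfsg.Agent.Lib.Helper56.HHB
open Cfsg.Agent.Lib.Helper56.HHS
open Cfsg.Agent.Lib.Helper56.SG
open scoped commutatorElement

universe uK uW

section Quot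

variable {K : Type uK} [Field K] {W : Type uW} [AddCommGroup W] [Module K W]
variable (Q : Subgroup (Module.End K W)ˣ)

/-- the scalar elements of `Q` -/
abbrev Zs : Subgroup Q := scalSubgroup (rho0 Q)

theorem mem_Zs {e : Q} : e ∈ Zs Q ↔ IsScal (((e : (Module.End K W)ˣ)) : Module.End K W) := Iff.rfl

theorem isScal_conj_iff (g : (Module.End K W)ˣ) (a : (Module.End K W)ˣ) :
    IsScal (((g * a * g⁻¹ : (Module.End K W)ˣ)) : Module.End K W) ↔
      IsScal ((a : (Module.End K W)ˣ) : Module.End K W) := by
  constructor
  · intro h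
    have h1 := h.conj_unit g⁻¹
    rw [inv_inv, ← Units.val_mul, ← Units.val_mul] at h1
    have h2 : g⁻¹ * (g * a * g⁻¹) * g = a := by group
    rw [h2] at h1
    rw [h1]
    exact h
  · intro h
    have h1 := h.conj_unit g
    rw [← Units.val_mul, ← Units.val_mul] at h1
    rw [h1]
    exact h

instance Zs_normal : (Zs Q).Normal := by
  constructor
  intro e he g
  rw [mem_Zs] at he ⊢
  have : (((g * e * g⁻¹ : Q) : (Module.End K W)ˣ)) = (g : (Module.End K W)ˣ) * e * (g : (Module.End K W)ˣ)⁻¹ := by
    simp
  rw [this, isScal_conj_iff]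
  exact he

theorem conj_mem_Zs_iff (g : (Module.End K W)ˣ)
    (hg : g ∈ Subgroup.normalizer (Q : Set (Module.End K W)ˣ)) (e : Q) :
    conjMul Q g hg e ∈ Zs Q ↔ e ∈ Zs Q := by
  rw [mem_Zs, mem_Zs, conjMul_apply, isScal_conj_iff]

/-- the automorphism of `Q / scalars` induced by a normalizing element -/
noncomputable def barAut (g : Subgroup.normalizer (Q : Set (Module.End K W)ˣ)) :
    MulAut (Q ⧸ Zs Q) :=
  quotAut (conjMul Q g g.2) (Zs Q) (conj_mem_Zs_iff Q g g.2)

theorem barAut_mk (g : Subgroup.normalizer (Q : Set (Module.End K W)ˣ)) (e : Q) :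
    barAut Q g (QuotientGroup.mk e) = QuotientGroup.mk (conjMul Q g g.2 e) := rfl

/-- the induced automorphisms, as a homomorphism -/
noncomputable def barHom : Subgroup.normalizer (Q : Set (Module.End K W)ˣ) →* MulAut (Q ⧸ Zs Q) where
  toFun := barAut Q
  map_one' := by
    ext x
    induction x using QuotientGroup.induction_on with
    | H e =>
      rw [barAut_mk, MulAut.one_apply]
      congr 1
  map_mul' a b := by
    ext x
    induction x using QuotientGroup.induction_on with
    | H e =>
      rw [MulAut.mul_apply, barAut_mk, barAut_mk, barAut_mk]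
      congr 1

theorem barHom_mk (g : Subgroup.normalizer (Q : Set (Module.End K W)ˣ)) (e : Q) :
    barHom Q g (QuotientGroup.mk e) = QuotientGroup.mk (conjMul Q g g.2 e) := rfl

theorem rho0_injective : Function.Injective (rho0 Q) := by
  intro a b hab
  apply Subtype.ext
  apply Units.ext
  exact hab

theorem twists_rho0 [Fintype Q] (g : (Module.End K W)ˣ)
    (hg : g ∈ Subgroup.normalizer (Q : Set (Module.End K W)ˣ)) :
    Twists (rho0 Q) g (conjMul Q g hg) := by
  intro e
  rw [rho0_apply, rho0_apply, conjMul_apply, ← Units.val_mul, ← Units.val_mul]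
  congr 1
  group

end Quot

end Cfsg.Agent.Lib.Helper56.Gross
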