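import Cfsg.Agent.Lib.Helper56.GrossSG2Group
import Cfsg.Agent.Lib.Helper56.GrossPairGT

/-!
# The hypotheses of the pair theorem and their restriction to an invariant subspace
-/

set_option autoImplicit false
set_option linter.unusedSectionVars false
set_option linter.style.haveILetI false

namespace Cfsg.Agent.Lib.Helper56.Gross

open Module
open Cfsg.Agent.Lib.Helper56.HH
open Cfsg.Agent.Lib.Helper56.HHB
open Cfsg.Agent.Lib.Helper56.HHS

universe uK uW

section Res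

variable {K : Type uK} [Field K] {W : Type uW} [AddCommGroup W] [Module K W]

/-- the hypotheses of the pair theorem -/
structure PairHyp (q s : ℕ) (Q S : Subgroup (Module.End K W)ˣ) (X : (Module.End K W)ˣ) (n : ℕ) :
    Prop where
  finQ : Finite Q
  finS : Finite S
  hQ : IsPGroup q Q
  hS : IsPGroup s S
  hXQ : ∀ e ∈ Q, X * e * X⁻¹ ∈ Q
  hXS : ∀ y ∈ S, X * y * X⁻¹ ∈ S
  hSQ : ∀ y ∈ S, ∀ e ∈ Q, y * e * y⁻¹ ∈ Q
  hXn : X ^ (2 ^ n) = 1
  hfix : ∀ w : W, (X : Module.End K W) w = w → w = 0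
  hgen : S ≤ Subgroup.closure {y | y ∈ S ∧ X ^ (2 ^ (n - 1)) * y * (X ^ (2 ^ (n - 1)))⁻¹ = y⁻¹}

/-- the units preserving a subspace -/
def stabU (U : Submodule K W) : Subgroup (Module.End K W)ˣ where
  carrier := {g | (∀ w ∈ U, (g : Module.End K W) w ∈ U) ∧
    (∀ w ∈ U, ((g⁻¹ : (Module.End K W)ˣ) : Module.End K W) w ∈ U)}
  one_mem' := ⟨by simp, by simp⟩
  mul_mem' := by
    rintro a b ⟨ha, ha'⟩ ⟨hb, hb'⟩
    refine ⟨fun w hw => ?_, fun w hw => ?_⟩
    · rw [Units.val_mul, Module.End.mul_apply]; exact ha _ (hb w hw)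
    · rw [mul_inv_rev, Units.val_mul, Module.End.mul_apply]; exact hb' _ (ha' w hw)
  inv_mem' := by
    rintro a ⟨ha, ha'⟩
    exact ⟨ha', by rw [inv_inv]; exact ha⟩

theorem mem_stabU {U : Submodule K W} {g : (Module.End K W)ˣ} :
    g ∈ stabU U ↔ (∀ w ∈ U, (g : Module.End K W) w ∈ U) ∧
      (∀ w ∈ U, ((g⁻¹ : (Module.End K W)ˣ) : Module.End K W) w ∈ U) := Iff.rfl

/-- restriction to an invariant subspace -/
def resHom (U : Submodule K W) : stabU U →* (Module.End K U)ˣ where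
  toFun g := resUnit (g : (Module.End K W)ˣ) U g.2.1 g.2.2
  map_one' := by
    apply Units.ext
    apply LinearMap.ext
    intro w
    apply Subtype.ext
    simp
  map_mul' a b := by
    apply Units.ext
    apply LinearMap.ext
    intro w
    apply Subtype.ext
    simp [Units.val_mul]

theorem resHom_apply (U : Submodule K W) (g : stabU U) (w : U) :
    ((((resHom U g : (Module.End K U)ˣ) : Module.End K U) w : U) : W) =
      ((g : (Module.End K W)ˣ) : Module.End K W) (w : W) := rfl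

/-- the image of a subgroup under restriction -/
def imU (U : Submodule K W) (H : Subgroup (Module.End K W)ˣ) : Subgroup (Module.End K U)ˣ :=
  (H.subgroupOf (stabU U)).map (resHom U)

theorem mem_imU_of_mem {U : Submodule K W} {H : Subgroup (Module.End K W)ˣ}
    {g : (Module.End K W)ˣ} (hg : g ∈ stabU U) (hgH : g ∈ H) : resHom U ⟨g, hg⟩ ∈ imU U H :=
  ⟨⟨g, hg⟩, Subgroup.mem_subgroupOf.2 hgH, rfl⟩

theorem finite_imU (U : Submodule K W) (H : Subgroup (Module.End K W)ˣ) [Finite H] :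
    Finite (imU U H) := by
  haveI : Finite (H.subgroupOf (stabU U)) :=
    Finite.of_injective (fun x : H.subgroupOf (stabU U) =>
      (⟨((x : stabU U) : (Module.End K W)ˣ), Subgroup.mem_subgroupOf.1 x.2⟩ : H))
      (fun x y hxy => by
        have h1 : (((x : stabU U) : (Module.End K W)ˣ)) = ((y : stabU U) : (Module.End K W)ˣ) :=
          congrArg (fun z : H => (z : (Module.End K W)ˣ)) hxy
        exact Subtype.ext (Subtype.ext h1))
  exact Finite.of_surjective (fun x : H.subgroupOf (stabU U) =>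
      (⟨resHom U x, Subgroup.mem_map_of_mem _ x.2⟩ : imU U H))
    (by rintro ⟨_, ⟨x, hx, rfl⟩⟩; exact ⟨⟨x, hx⟩, rfl⟩)

theorem pow_conj_mem {G : Type*} [Group G] (H : Subgroup G) (g : G)
    (h : ∀ e ∈ H, g * e * g⁻¹ ∈ H) (j : ℕ) : ∀ e ∈ H, g ^ j * e * (g ^ j)⁻¹ ∈ H := by
  induction j with
  | zero => intro e he; simpa using he
  | succ j ih =>
    intro e he
    have h1 := h _ (ih e he)
    have h2 : g * (g ^ j * e * (g ^ j)⁻¹) * g⁻¹ = g ^ (j + 1) * e * (g ^ (j + 1))⁻¹ := by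
      rw [pow_succ']; group
    rwa [h2] at h1

/-- restriction of the hypotheses of the pair theorem to an invariant subspace -/
theorem PairHyp.restrict {q s : ℕ} {Q S : Subgroup (Module.End K W)ˣ} {X : (Module.End K W)ˣ}
    {n : ℕ} (h : PairHyp q s Q S X n) (U : Submodule K W) (hQU : Q ≤ stabU U) (hSU : S ≤ stabU U)
    (a : ℕ) (ha : a + 1 ≤ n) (hXU : X ^ (2 ^ a) ∈ stabU U)
    (hfixU : ∀ u ∈ U, ((X ^ (2 ^ a) : (Module.End K W)ˣ) : Module.End K W) u = u → u = 0) :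
    PairHyp q s (imU U Q) (imU U S) (resHom U ⟨X ^ (2 ^ a), hXU⟩) (n - a) := by
  haveI := h.finQ
  haveI := h.finS
  set xt : stabU U := ⟨X ^ (2 ^ a), hXU⟩ with hxt
  have hXtQ : ∀ e ∈ Q, X ^ (2 ^ a) * e * (X ^ (2 ^ a))⁻¹ ∈ Q := pow_conj_mem Q X h.hXQ _
  have hXtS : ∀ e ∈ S, X ^ (2 ^ a) * e * (X ^ (2 ^ a))⁻¹ ∈ S := pow_conj_mem S X h.hXS _
  have hpow : ∀ j : ℕ, ((xt ^ j : stabU U) : (Module.End K W)ˣ) = X ^ (2 ^ a * j) := by
    intro j
    rw [Subgroup.coe_pow, hxt, pow_mul]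
  refine ⟨finite_imU U Q, finite_imU U S, (h.hQ.comap_subtype).map _, (h.hS.comap_subtype).map _,
    ?_, ?_, ?_, ?_, ?_, ?_⟩
  · rintro _ ⟨e, he, rfl⟩
    refine ⟨xt * e * xt⁻¹, ?_, ?_⟩
    · have he' : ((e : stabU U) : (Module.End K W)ˣ) ∈ Q := he
      show ((xt * e * xt⁻¹ : stabU U) : (Module.End K W)ˣ) ∈ Q
      exact hXtQ _ he'
    · rw [map_mul, map_mul, map_inv]
  · rintro _ ⟨e, he, rfl⟩
    refine ⟨xt * e * xt⁻¹, ?_, ?_⟩
    · have he' : ((e : stabU U) : (Module.End K W)ˣ) ∈ S := he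
      show ((xt * e * xt⁻¹ : stabU U) : (Module.End K W)ˣ) ∈ S
      exact hXtS _ he'
    · rw [map_mul, map_mul, map_inv]
  · rintro _ ⟨y, hy, rfl⟩ _ ⟨e, he, rfl⟩
    refine ⟨y * e * y⁻¹, ?_, ?_⟩
    · have he' : ((e : stabU U) : (Module.End K W)ˣ) ∈ Q := he
      have hy' : ((y : stabU U) : (Module.End K W)ˣ) ∈ S := hy
      show ((y * e * y⁻¹ : stabU U) : (Module.End K W)ˣ) ∈ Q
      exact h.hSQ _ hy' _ he'
    · rw [map_mul, map_mul, map_inv]
  · rw [← map_pow]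
    have h1 : xt ^ (2 ^ (n - a)) = 1 := by
      apply Subtype.ext
      rw [hpow, ← pow_add, Nat.add_sub_cancel' (by omega : a ≤ n), h.hXn]
      rfl
    rw [h1, map_one]
  · intro u hu
    apply Subtype.ext
    apply hfixU u u.2
    have := congrArg Subtype.val hu
    exact this
  · -- generation
    set ψ' := (resHom U xt) ^ (2 ^ (n - a - 1)) with hψ'
    set T' : Set (Module.End K U)ˣ := {y | y ∈ imU U S ∧ ψ' * y * ψ'⁻¹ = y⁻¹} with hT'
    let P : Subgroup (stabU U) := (Subgroup.closure T').comap (resHom U)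
    have hψmem : X ^ (2 ^ (n - 1)) ∈ stabU U := by
      have h1 : X ^ (2 ^ (n - 1)) = (X ^ (2 ^ a)) ^ (2 ^ (n - a - 1)) := by
        rw [← pow_mul, ← pow_add]
        congr 2
        omega
      rw [h1]
      exact Subgroup.pow_mem _ hXU _
    have hψ'eq : ψ' = resHom U ⟨X ^ (2 ^ (n - 1)), hψmem⟩ := by
      rw [hψ', ← map_pow]
      congr 1
      apply Subtype.ext
      rw [hpow, ← pow_add]
      congr 2
      omega
    have hle : Subgroup.closure {y | y ∈ S ∧ X ^ (2 ^ (n - 1)) * y * (X ^ (2 ^ (n - 1)))⁻¹ = y⁻¹} ≤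
        P.map (stabU U).subtype := by
      rw [Subgroup.closure_le]
      rintro y ⟨hyS, hy⟩
      refine ⟨⟨y, hSU hyS⟩, ?_, rfl⟩
      show resHom U ⟨y, hSU hyS⟩ ∈ Subgroup.closure T'
      apply Subgroup.subset_closure
      refine ⟨mem_imU_of_mem (hSU hyS) hyS, ?_⟩
      rw [hψ'eq, ← map_inv, ← map_mul, ← map_mul, ← map_inv]
      congr 1
      apply Subtype.ext
      exact hy
    rintro _ ⟨y, hy, rfl⟩
    have hy0 : ((y : stabU U) : (Module.End K W)ˣ) ∈ S := hy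
    obtain ⟨y', hy'P, hy'⟩ := hle (h.hgen hy0)
    have : y' = y := Subtype.ext hy'
    rw [this] at hy'P
    exact hy'P

end Res

end Cfsg.Agent.Lib.Helper56.Gross
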