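import Cfsg.Agent.Lib.Helper56.GrossCent
import Cfsg.Agent.Lib.Helper56.HHSReduce

/-!
# The coprime Hall–Higman / Shult reduction for an operator of prime power order: sharp form

`Q` is a finite `q`-group of linear maps of `W` over an algebraically closed field, normalized by
`X` of order dividing `p ^ n`, `X` without nonzero fixed vector.  If `X ^ (p ^ (n-1))` does not
centralize `Q` then `q ^ j = p ^ (n - a) - 1` where `p ^ a` is the size of an orbit of weights;
`a = 0` is impossible when `X` acts without fixed points on `Q`, and `a = 0` is forced when some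
`c • X - 1` has small rank (`thmSG2`).
-/

set_option autoImplicit false
set_option linter.unusedSectionVars false
set_option linter.style.haveILetI false

namespace Cfsg.Agent.Lib.Helper56.Gross

open Module
open Cfsg.Agent.Lib.Helper56.HH
open Cfsg.Agent.Lib.Helper56.HHB
open Cfsg.Agent.Lib.Helper56.HHS
open scoped commutatorElement

universe uK uW

section Special2

variable {K : Type uK} [Field K] [IsAlgClosed K] {W : Type uW} [AddCommGroup W] [Module K W]
  [FiniteDimensional K W]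

theorem special_case2 (p q : ℕ) [Fact p.Prime] [Fact q.Prime] (hpq : p ≠ q)
    (hpK : (p : K) ≠ 0) (hqK : (q : K) ≠ 0)
    (Q : Subgroup (Module.End K W)ˣ) [Finite Q] (hQ : IsPGroup q Q)
    (X : (Module.End K W)ˣ) (hXQ : ∀ e ∈ Q, X * e * X⁻¹ ∈ Q) (n : ℕ) (hn : 1 ≤ n)
    (hXn : X ^ (p ^ n) = 1)
    (hY : ∃ t ∈ Q, X ^ (p ^ (n - 1)) * t ≠ t * X ^ (p ^ (n - 1)))
    (hi : ∀ e ∈ Q, ∀ f ∈ Q, ⁅e, f⁆ ∈ zen Q)
    (hii : ∀ z ∈ zen Q, X ^ (p ^ (n - 1)) * z = z * X ^ (p ^ (n - 1)))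
    (hiii : ∀ e ∈ Q, (X ^ (p ^ (n - 1)) * e * (X ^ (p ^ (n - 1)))⁻¹)⁻¹ * e ∈ zen Q → e ∈ zen Q)
    (hfixX : ∀ w : W, (X : Module.End K W) w = w → w = 0) :
    ∃ a j : ℕ, a + 1 ≤ n ∧ q ^ j = p ^ (n - a) - 1 ∧ 1 < p ^ (n - a) - 1 ∧
      (a = 0 → ¬ ∀ e ∈ Q, X * e * X⁻¹ = e → e = 1) ∧
      ((∃ c : K, Module.finrank K (LinearMap.range (c • (X : Module.End K W) - 1)) <
        p ^ (n - a) - 1) → a = 0) := by
  classical
  have hno : ∀ w : W, w ≠ 0 → (X : Module.End K W) w ≠ w := fun w hw0 hw => hw0 (hfixX w hw)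
  have hp : p.Prime := Fact.out
  have hq : q.Prime := Fact.out
  have hNpos : 0 < p ^ n := pos_of_ne_zero (pow_ne_zero _ hp.ne_zero)
  have hXN : X ∈ Subgroup.normalizer (Q : Set (Module.End K W)ˣ) :=
    mem_normalizer_of_pow_eq_one Q X (p ^ n) hNpos hXn hXQ
  set Y := X ^ (p ^ (n - 1)) with hYdef
  have hYN : Y ∈ Subgroup.normalizer (Q : Set (Module.End K W)ˣ) := Subgroup.pow_mem _ hXN _
  have hYp : Y ^ p = 1 := by
    rw [hYdef, ← pow_mul, ← pow_succ, Nat.sub_add_cancel hn, hXn]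
  set Z := zen Q with hZdef
  have hZle : Z ≤ Q := zen_le Q
  haveI : Finite Z := Finite.of_injective (Subgroup.inclusion hZle) (Subgroup.inclusion_injective _)
  have hZq : IsPGroup q Z := hQ.to_le hZle
  have hZab : ∀ a ∈ Z, ∀ b ∈ Z, a * b = b * a := by
    intro a ha b hb
    exact (mem_zen.1 hb).2 a (hZle ha)
  have hXZ : ∀ z ∈ Z, X * z * X⁻¹ ∈ Z := conj_mem_zen Q X hXN
  have hXNZ : X ∈ Subgroup.normalizer (Z : Set (Module.End K W)ˣ) :=
    mem_normalizer_of_pow_eq_one Z X (p ^ n) hNpos hXn hXZ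
  set σ := conjPerm Z X hXNZ with hσ
  set f := fam Z with hf
  have hcomm : ∀ i j, Commute (f i) (f j) := fam_commute Z hZab
  have htop : ⨆ χ, wt f χ = ⊤ := iSup_wt_eq_top f hcomm (fam_semisimple Z hZq hqK)
  have hXf : ∀ i, (X : Module.End K W) * f i = f (σ i) * (X : Module.End K W) :=
    fam_twist Z X hXNZ
  set π := twist (K := K) σ with hπ
  have hσY : σ ^ (p ^ (n - 1)) = 1 := by
    apply Equiv.ext
    intro a
    apply Subtype.ext
    rw [hσ, conjPerm_pow_apply, ← hYdef, hii a a.2]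
    simp
  have hπY : ∀ χ : Z → K, π^[p ^ (n - 1)] χ = χ := by
    intro χ
    rw [hπ, twist_iterate, hσY]
    rfl
  -- choose the weight
  obtain ⟨t, htQ, ht⟩ := hY
  obtain ⟨μ, w, hwμ, hw⟩ : ∃ μ : Z → K, ∃ w ∈ wt f μ,
      ((Y * t : (Module.End K W)ˣ) : Module.End K W) w ≠
        ((t * Y : (Module.End K W)ˣ) : Module.End K W) w := by
    by_contra hcon
    push Not at hcon
    apply ht
    apply Units.ext
    exact ext_of_wt htop hcon
  have hw0 : w ≠ 0 := by
    rintro rfl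
    apply hw
    rw [map_zero, map_zero]
  obtain ⟨a, han, hmp⟩ := prime_pow_period π μ p (n - 1) hp (hπY μ)
  have hper : π^[p ^ a] μ = μ := by
    have := Function.isPeriodicPt_minimalPeriod π μ
    rw [hmp] at this
    exact this
  have hinj : ∀ i < p ^ a, ∀ j < p ^ a, π^[i] μ = π^[j] μ → i = j := by
    intro i hi j hj hij
    have := Function.iterate_injOn_Iio_minimalPeriod (f := π) (x := μ)
    rw [hmp] at this
    exact this (Set.mem_Iio.2 hi) (Set.mem_Iio.2 hj) hij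
  have htpos : 0 < p ^ a := pos_of_ne_zero (pow_ne_zero _ hp.ne_zero)
  set U := wt f μ with hUdef
  set n₁ := n - a with hn₁
  have hn₁pos : 1 ≤ n₁ := by omega
  have hna : n₁ + a = n := by omega
  set Xt := X ^ (p ^ a) with hXt
  have hXtval : (Xt : Module.End K W) = (X : Module.End K W) ^ (p ^ a) := by
    rw [hXt, Units.val_pow_eq_pow_val]
  have hXtpow : Xt ^ (p ^ n₁) = 1 := by
    rw [hXt, ← pow_mul, ← pow_add, add_comm, hna, hXn]
  have hXtY : Xt ^ (p ^ (n₁ - 1)) = Y := by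
    rw [hXt, ← pow_mul, ← pow_add, hYdef]
    congr 2
    omega
  have hUX : ∀ w ∈ U, (Xt : Module.End K W) w ∈ U := by
    intro w hw
    rw [hXtval]
    have := map_pow_wt (X : Module.End K W) σ hXf (p ^ a) hw
    rwa [hper] at this
  have hUXpow : ∀ j : ℕ, ∀ w ∈ U, ((Xt ^ j : (Module.End K W)ˣ) : Module.End K W) w ∈ U := by
    intro j
    induction j with
    | zero => intro w hw; simpa using hw
    | succ j ih =>
      intro w hw
      rw [pow_succ', Units.val_mul, Module.End.mul_apply]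
      exact hUX _ (ih w hw)
  have hUX' : ∀ w ∈ U, ((Xt⁻¹ : (Module.End K W)ˣ) : Module.End K W) w ∈ U := by
    have h1 : Xt⁻¹ = Xt ^ (p ^ n₁ - 1) := by
      apply inv_eq_of_mul_eq_one_right
      rw [← pow_succ', Nat.sub_add_cancel (pos_of_ne_zero (pow_ne_zero _ hp.ne_zero)), hXtpow]
    rw [h1]
    exact hUXpow _
  -- no fixed vectors on `U`
  have hfixU : ∀ v ∈ U, (Xt : Module.End K W) v = v → v = 0 := by
    intro v hv hXv
    by_contra hv0
    obtain ⟨w', hw'0, hw'⟩ := exists_fixed_of_orbit hcomm (X : Module.End K W) σ hXf μ (p ^ a)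
      htpos hinj v hv hv0 (by rw [← hXtval]; exact hXv)
    exact hno w' hw'0 hw'
  set ρ := rhoChi Q μ with hρ
  set X₁ := resUnit Xt U hUX hUX' with hX₁
  have hX₁pow : X₁ ^ (p ^ n₁) = 1 := by
    apply Units.ext
    apply LinearMap.ext
    intro v
    apply Subtype.ext
    rw [hX₁, resUnit_pow_apply, hXtpow]
    rfl
  have hfix₁ : ∀ v : U, (X₁ : Module.End K U) v = v → v = 0 := by
    intro v hv
    apply Subtype.ext
    apply hfixU v v.2
    have := congrArg Subtype.val hv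
    rwa [hX₁, resUnit_apply] at this
  have hXtN : Xt ∈ Subgroup.normalizer (Q : Set (Module.End K W)ˣ) := by
    rw [hXt]; exact Subgroup.pow_mem _ hXN _
  haveI : Fintype Q := Fintype.ofFinite Q
  set τ := conjMul Q Xt hXtN with hτ
  set y := conjMul Q Y hYN with hy
  have hτy : ∀ e : Q, (τ ^ (p ^ (n₁ - 1))) e = y e := by
    intro e
    apply Subtype.ext
    rw [hτ, conjMul_pow_apply, hXtY, hy, conjMul_apply]
  have hτN : ∀ e : Q, (τ ^ (p ^ n₁)) e = e := by
    intro e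
    apply Subtype.ext
    rw [hτ, conjMul_pow_apply, hXtpow]
    simp
  have hTw : Twists ρ X₁ τ := by
    intro e
    apply LinearMap.ext
    intro v
    apply Subtype.ext
    have e3 : ((Xt⁻¹ : (Module.End K W)ˣ) : Module.End K W) ((Xt : Module.End K W) (v : W)) =
        (v : W) := by
      rw [← Module.End.mul_apply, Units.inv_mul, Module.End.one_apply]
    show (Xt : Module.End K W) (((e : (Module.End K W)ˣ) : Module.End K W) (v : W)) =
      (((τ e : Q) : (Module.End K W)ˣ) : Module.End K W) ((Xt : Module.End K W) (v : W))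
    rw [hτ, conjMul_apply, Units.val_mul, Units.val_mul, Module.End.mul_apply,
      Module.End.mul_apply, e3]
  -- the product trick
  have hP : ∀ (χ : Z → K) (e : Q), e⁻¹ * y e ∈ Schi Q χ → e ∈ Schi Q χ := by
    intro χ e he
    exact mem_Schi_of_comm Q q hQ p hp hpq Y hYN hYp hii hi hiii χ e he
  have hSdef : scalSubgroup ρ = Schi Q μ := rfl
  obtain ⟨j, hj⟩ := IsPGroup.iff_card.1 hQ
  have hE : (Fintype.card Q : K) ≠ 0 := by
    rw [← Nat.card_eq_fintype_card, hj, Nat.cast_pow]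
    exact pow_ne_zero _ hqK
  -- commuting elements
  have hcommρ : ∀ e f' : Q, ρ ⁅e, f'⁆ = 1 → ρ e * ρ f' = ρ f' * ρ e := by
    intro e f' h1
    have h2 : e * f' = ⁅e, f'⁆ * f' * e := by rw [commutatorElement_def]; group
    rw [← map_mul, h2, map_mul, map_mul, h1, one_mul]
  -- the centralizer of `ρ Q`
  let C : Subgroup Q :=
    { carrier := {x | ∀ f' : Q, ρ x * ρ f' = ρ f' * ρ x}
      one_mem' := by intro f'; simp
      mul_mem' := by
        intro x x' hx hx' f'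
        rw [map_mul, mul_assoc, hx' f', ← mul_assoc, hx f', mul_assoc]
      inv_mem' := by
        intro x hx f'
        have h1 := hx f'
        calc ρ x⁻¹ * ρ f' = ρ x⁻¹ * (ρ f' * ρ x) * ρ x⁻¹ := by
              rw [mul_assoc, mul_assoc, rho_mul_inv, mul_one]
          _ = ρ x⁻¹ * (ρ x * ρ f') * ρ x⁻¹ := by rw [h1]
          _ = ρ f' * ρ x⁻¹ := by rw [← mul_assoc, rho_inv_mul, one_mul] }
  have hCmem : ∀ x : Q, x ∈ C ↔ ∀ f' : Q, ρ x * ρ f' = ρ f' * ρ x := fun x => Iff.rfl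
  have hτC : ∀ x ∈ C, τ x ∈ C := by
    intro x hx f'
    have h1 := hx (τ.symm f')
    have h2 := hTw.conj x
    have h3 := hTw.conj (τ.symm f')
    rw [MulEquiv.apply_symm_apply] at h3
    rw [h2, h3]
    calc (X₁ : Module.End K U) * ρ x * ((X₁⁻¹ : (Module.End K U)ˣ) : Module.End K U) *
          ((X₁ : Module.End K U) * ρ (τ.symm f') * ((X₁⁻¹ : (Module.End K U)ˣ) : Module.End K U))
        = (X₁ : Module.End K U) * (ρ x * ρ (τ.symm f')) *
          ((X₁⁻¹ : (Module.End K U)ˣ) : Module.End K U) := by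
          simp only [mul_assoc]
          rw [← mul_assoc ((X₁⁻¹ : (Module.End K U)ˣ) : Module.End K U), Units.inv_mul, one_mul]
      _ = (X₁ : Module.End K U) * (ρ (τ.symm f') * ρ x) *
          ((X₁⁻¹ : (Module.End K U)ˣ) : Module.End K U) := by rw [h1]
      _ = _ := by
          simp only [mul_assoc]
          rw [← mul_assoc ((X₁⁻¹ : (Module.End K U)ˣ) : Module.End K U), Units.inv_mul, one_mul]
  have hτCpow : ∀ (k : ℕ) (x : Q), x ∈ C → (τ ^ k) x ∈ C := fun k x hx =>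
    pow_mem_of_map_mem C τ hτC k x hx
  have hτsymm : ∀ x : Q, τ.symm x = (τ ^ (p ^ n₁ - 1)) x := by
    intro x
    apply τ.injective
    rw [MulEquiv.apply_symm_apply, ← MulAut.mul_apply, ← pow_succ',
      Nat.sub_add_cancel (pos_of_ne_zero (pow_ne_zero _ hp.ne_zero)), hτN]
  let σ' : Equiv.Perm C :=
    { toFun := fun x => ⟨τ x, hτC x x.2⟩
      invFun := fun x => ⟨τ.symm x, by rw [hτsymm]; exact hτCpow _ x x.2⟩
      left_inv := by intro x; apply Subtype.ext; simp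
      right_inv := by intro x; apply Subtype.ext; simp }
  have hσ'pow : ∀ (k : ℕ) (x : C), (((σ' ^ k) x : C) : Q) = (τ ^ k) x := by
    intro k
    induction k with
    | zero => intro x; simp
    | succ k ih =>
      intro x
      rw [pow_succ', Equiv.Perm.mul_apply, pow_succ', MulAut.mul_apply, ← ih]
      rfl
  let f' : C → Module.End K U := fun x => ρ x
  have hcomm' : ∀ i j, Commute (f' i) (f' j) := fun i j => i.2 j
  have hss' : ∀ i, (f' i).IsSemisimple := by
    intro i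
    apply isSemisimple_of_pow_eq_one (f' i) (Nat.card Q)
    · rw [hj, Nat.cast_pow]; exact pow_ne_zero _ hqK
    · show (ρ i) ^ (Nat.card Q) = 1
      rw [← map_pow, pow_card_eq_one', map_one]
  have hXf' : ∀ i, (X₁ : Module.End K U) * f' i = f' (σ' i) * (X₁ : Module.End K U) :=
    fun i => hTw i
  have hσ'n : σ' ^ (p ^ n₁) = 1 := by
    apply Equiv.ext
    intro x
    apply Subtype.ext
    rw [hσ'pow, hτN]
    rfl
  have hnomove : ∀ x : C, ρ (y x) = ρ x := by
    by_contra hm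
    push Not at hm
    obtain ⟨x, hx⟩ := hm
    have hm' : ∃ i, f' ((σ' ^ (p ^ (n₁ - 1))) i) ≠ f' i := by
      refine ⟨x, ?_⟩
      show ρ (((σ' ^ (p ^ (n₁ - 1))) x : C) : Q) ≠ ρ x
      rw [hσ'pow, hτy]
      exact hx
    obtain ⟨v, hv0, hv⟩ := exists_fixed_of_moved f' hcomm' hss' X₁ σ' hXf' p n₁ hp hn₁pos
      hX₁pow hσ'n hm'
    exact hv0 (hfix₁ v hv)
  -- the hypotheses of the count
  have hZscal : ∀ g : Q, (g : (Module.End K W)ˣ) ∈ Z → IsScal (ρ g) :=
    fun g hg => ⟨_, rhoChi_zen Q μ g hg⟩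
  have hHyp : Hyp ρ := by
    constructor
    · intro e f'
      apply hZscal
      exact hi e e.2 f' f'.2
    · intro e he
      have heC : e ∈ C := fun f' => hcommρ e f' (he f')
      have h1 := hnomove ⟨e, heC⟩
      have h2 : e⁻¹ * y e ∈ Schi Q μ := by
        show IsScal (ρ (e⁻¹ * y e))
        rw [map_mul, h1, rho_inv_mul]
        exact isScal_one
      exact hP μ e h2
  have hfpf : ∀ e, ((τ ^ (p ^ (n₁ - 1))) e)⁻¹ * e ∈ scalSubgroup ρ → e ∈ scalSubgroup ρ := by
    intro e he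
    rw [hτy] at he
    rw [hSdef] at he ⊢
    apply hP μ e
    have := (Schi Q μ).inv_mem he
    simpa using this
  haveI : Nontrivial U := ⟨⟨⟨w, hwμ⟩, 0, fun h => hw0 (congrArg Subtype.val h)⟩⟩
  have htS : (⟨t, htQ⟩ : Q) ∉ scalSubgroup ρ := by
    rintro ⟨c, hc⟩
    apply hw
    have hYw : (Y : Module.End K W) w ∈ U := by
      have := hUXpow (p ^ (n₁ - 1)) w hwμ
      rwa [hXtY] at this
    have h1 : ((t : (Module.End K W)ˣ) : Module.End K W) w = c • w :=
      congrArg (fun φ : Module.End K U => ((φ ⟨w, hwμ⟩ : U) : W)) hc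
    have h2 : ((t : (Module.End K W)ˣ) : Module.End K W) ((Y : Module.End K W) w) =
        c • (Y : Module.End K W) w :=
      congrArg (fun φ : Module.End K U => ((φ ⟨_, hYw⟩ : U) : W)) hc
    rw [Units.val_mul, Units.val_mul, Module.End.mul_apply, Module.End.mul_apply, h1, h2, map_smul]
  have hI : 1 < (scalSubgroup ρ).index := by
    have hne : scalSubgroup ρ ≠ ⊤ := by
      intro htop'
      apply htS
      rw [htop']
      trivial
    have h1 : (scalSubgroup ρ).index ≠ 1 := fun h => hne (Subgroup.index_eq_one.1 h)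
    have h0 : (scalSubgroup ρ).index ≠ 0 := Subgroup.index_ne_zero_of_finite
    omega
  have hdvd : (scalSubgroup ρ).index ∣ q ^ j := by
    rw [← hj]; exact Subgroup.index_dvd_card _
  have hidx : (scalSubgroup ρ).index = (p ^ n₁ - 1) ^ 2 := by
    rcases thmS2 hHyp hE hTw p n₁ hp hn₁pos hpK hX₁pow hfpf hfix₁ with h | h
    · omega
    · exact h
  have hgt : 1 < p ^ n₁ - 1 := by
    by_contra hle
    push Not at hle
    have h1 : (p ^ n₁ - 1) ^ 2 ≤ 1 := by
      calc (p ^ n₁ - 1) ^ 2 ≤ 1 ^ 2 := Nat.pow_le_pow_left hle 2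
        _ = 1 := one_pow 2
    omega
  obtain ⟨j', hj'⟩ : ∃ j', q ^ j' = p ^ n₁ - 1 := by
    have h1 : p ^ n₁ - 1 ∣ q ^ j := by
      refine Dvd.dvd.trans ?_ hdvd
      rw [hidx]
      exact dvd_pow_self _ (by norm_num)
    obtain ⟨j', -, h2⟩ := (Nat.dvd_prime_pow hq).1 h1
    exact ⟨j', h2.symm⟩
  refine ⟨a, j', by omega, hj', hgt, ?_, ?_⟩
  · intro ha0 hfpfQ
    obtain ⟨e₀, he₀'⟩ : ∃ e₀ : Q, e₀ ∉ scalSubgroup ρ := ⟨⟨t, htQ⟩, htS⟩
    have hns : ¬ IsScal (ρ e₀) := he₀'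
    obtain ⟨f₀, hf₀⟩ : ∃ f₀ : Q, ρ ⁅e₀, f₀⁆ ≠ 1 := by
      by_contra h
      push Not at h
      exact hns (hHyp.nd e₀ h)
    have hzZ : ((⁅e₀, f₀⁆ : Q) : (Module.End K W)ˣ) ∈ Z := hi e₀ e₀.2 f₀ f₀.2
    set zZ : Z := ⟨_, hzZ⟩ with hzZdef
    have hμz : μ zZ ≠ 1 := by
      intro h
      apply hf₀
      rw [hρ, rhoChi_zen Q μ _ hzZ, ← hzZdef, h, map_one]
    have hwtne : wt f μ ≠ ⊥ := by
      intro hb
      have h1 : w ∈ wt f μ := hwμ
      rw [hb, Submodule.mem_bot] at h1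
      exact hw0 h1
    have hμmul : ∀ z₁ z₂ : Z, μ (z₁ * z₂) = μ z₁ * μ z₂ := wt_fam_mul Z μ hwtne
    have hμone : μ 1 = 1 := wt_fam_one Z μ hwtne
    have hμσ : ∀ z' : Z, μ (σ z') = μ z' := by
      intro z'
      have h1 : π μ = μ := by
        have h0 := hper
        rw [ha0, pow_zero, Function.iterate_one] at h0
        exact h0
      have h2 := congrFun h1 (σ z')
      rw [hπ] at h2
      simp only [twist, Function.comp_apply, Equiv.symm_apply_apply] at h2
      exact h2.symm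
    set σZ := conjMul Z X hXNZ with hσZ
    have hσσZ : ∀ z' : Z, σ z' = σZ z' := fun z' => rfl
    have hginj : Function.Injective (fun w' : Z => w'⁻¹ * σZ w') := by
      intro w₁ w₂ h12
      have h12' : w₁⁻¹ * σZ w₁ = w₂⁻¹ * σZ w₂ := h12
      have h1 : σZ (w₁ * w₂⁻¹) = w₁ * w₂⁻¹ := by
        rw [map_mul, map_inv]
        have : σZ w₁ = w₁ * w₂⁻¹ * σZ w₂ := by
          calc σZ w₁ = w₁ * (w₁⁻¹ * σZ w₁) := by group
            _ = w₁ * (w₂⁻¹ * σZ w₂) := by rw [h12']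
            _ = w₁ * w₂⁻¹ * σZ w₂ := by group
        rw [this]
        group
      have h2 : X * ((w₁ * w₂⁻¹ : Z) : (Module.End K W)ˣ) * X⁻¹ =
          ((w₁ * w₂⁻¹ : Z) : (Module.End K W)ˣ) := by
        have := congrArg Subtype.val h1
        rwa [hσZ, conjMul_apply] at this
      have h3 := hfpfQ _ (hZle (w₁ * w₂⁻¹ : Z).2) h2
      have h4 : w₁ * w₂⁻¹ = 1 := Subtype.ext h3
      exact mul_inv_eq_one.1 h4
    have hgsurj := Finite.injective_iff_surjective.1 hginj
    obtain ⟨w', hw'⟩ := hgsurj zZ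
    have hw'' : w'⁻¹ * σ w' = zZ := hw'
    apply hμz
    rw [← hw'', hμmul, hμσ, ← hμmul, inv_mul_cancel, hμone]
  · rintro ⟨c, hc⟩
    by_contra ha0
    have h1lt : 1 < p ^ a := Nat.one_lt_pow ha0 hp.one_lt
    have hπne : π μ ≠ μ := by
      intro h
      have h1 := hinj 1 h1lt 0 htpos (by simpa using h)
      omega
    have A2 := hHyp.index_mul_finrank_eq hE
    have A3 : 1 ≤ Module.finrank K (commutant ρ) := by
      rw [Submodule.one_le_finrank_iff]
      intro hbot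
      have h1 : (1 : Module.End K U) ∈ commutant ρ := by
        intro e
        rw [mul_one, one_mul]
      rw [hbot, Submodule.mem_bot] at h1
      exact one_ne_zero h1
    have hUdim : p ^ n₁ - 1 ≤ Module.finrank K U := by
      have h1 : (p ^ n₁ - 1) ^ 2 ≤ (Module.finrank K U) ^ 2 := by
        rw [← A2, hidx]
        exact Nat.le_mul_of_pos_right _ A3
      exact (Nat.pow_le_pow_iff_left (by norm_num)).1 h1
    set D : Module.End K W := c • (X : Module.End K W) - 1 with hD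
    have hDinj : Function.Injective (D ∘ₗ U.subtype) := by
      rw [← LinearMap.ker_eq_bot, LinearMap.ker_eq_bot']
      intro u hu
      apply Subtype.ext
      have hu1 : c • (X : Module.End K W) (u : W) = (u : W) := by
        have h1 : D (u : W) = 0 := hu
        rw [hD, LinearMap.sub_apply, LinearMap.smul_apply, Module.End.one_apply, sub_eq_zero] at h1
        exact h1
      have hXu : (X : Module.End K W) (u : W) ∈ wt f (π μ) := by
        have h1 := map_pow_wt (X : Module.End K W) σ hXf 1 u.2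
        rwa [pow_one, Function.iterate_one] at h1
      have hu2 : (u : W) ∈ wt f (π μ) := by
        rw [← hu1]
        exact Submodule.smul_mem _ c hXu
      obtain ⟨i, hi'⟩ : ∃ i, π μ i ≠ μ i := by
        by_contra hall
        push Not at hall
        exact hπne (funext hall)
      have h3 := (mem_wt.1 u.2) i
      have h4 := (mem_wt.1 hu2) i
      rw [h3] at h4
      have h5 : (μ i - π μ i) • (u : W) = 0 := by rw [sub_smul, h4, sub_self]
      rcases smul_eq_zero.1 h5 with h6 | h6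
      · exact absurd (sub_eq_zero.1 h6).symm hi'
      · exact h6
    have h1 : Module.finrank K U = Module.finrank K (LinearMap.range (D ∘ₗ U.subtype)) :=
      (LinearMap.finrank_range_of_inj hDinj).symm
    have h2 : Module.finrank K (LinearMap.range (D ∘ₗ U.subtype)) ≤
        Module.finrank K (LinearMap.range D) :=
      Submodule.finrank_mono (LinearMap.range_comp_le_range _ _)
    have hc' : Module.finrank K (LinearMap.range D) < p ^ n₁ - 1 := hc
    have hU' : p ^ n₁ - 1 ≤ Module.finrank K (LinearMap.range (D ∘ₗ U.subtype)) := by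
      rw [← h1]; exact hUdim
    omega

end Special2

section Main2

variable {K : Type uK} [Field K] [IsAlgClosed K] {W : Type uW} [AddCommGroup W] [Module K W]
  [FiniteDimensional K W]

/-- **Theorem SG, sharp form.** -/
theorem thmSG2 (p q : ℕ) [Fact p.Prime] [Fact q.Prime] (hpq : p ≠ q)
    (hpK : (p : K) ≠ 0) (hqK : (q : K) ≠ 0)
    (Q : Subgroup (Module.End K W)ˣ) [Finite Q] (hQ : IsPGroup q Q)
    (X : (Module.End K W)ˣ) (hXQ : ∀ e ∈ Q, X * e * X⁻¹ ∈ Q) (n : ℕ) (hn : 1 ≤ n)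
    (hXn : X ^ (p ^ n) = 1)
    (hY : ∃ t ∈ Q, X ^ (p ^ (n - 1)) * t ≠ t * X ^ (p ^ (n - 1)))
    (hfixX : ∀ w : W, (X : Module.End K W) w = w → w = 0) :
    ∃ a j : ℕ, a + 1 ≤ n ∧ q ^ j = p ^ (n - a) - 1 ∧ 1 < p ^ (n - a) - 1 ∧
      (a = 0 → ¬ ∀ e ∈ Q, X * e * X⁻¹ = e → e = 1) ∧
      ((∃ c : K, Module.finrank K (LinearMap.range (c • (X : Module.End K W) - 1)) <
        p ^ (n - a) - 1) → a = 0) := by
  classical
  have hp : p.Prime := Fact.out
  have hNpos : 0 < p ^ n := pos_of_ne_zero (pow_ne_zero _ hp.ne_zero)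
  let 𝒮 : Set (Subgroup (Module.End K W)ˣ) := {Q₁ | Q₁ ≤ Q ∧ (∀ e ∈ Q₁, X * e * X⁻¹ ∈ Q₁) ∧
    ∃ t ∈ Q₁, X ^ (p ^ (n - 1)) * t ≠ t * X ^ (p ^ (n - 1))}
  have hQ𝒮 : Q ∈ 𝒮 := ⟨le_rfl, hXQ, hY⟩
  obtain ⟨Q₁, hQ₁𝒮, hQ₁min⟩ := WellFounded.has_min
    (measure (fun Q₁ : Subgroup (Module.End K W)ˣ => Nat.card Q₁)).wf 𝒮 ⟨Q, hQ𝒮⟩
  obtain ⟨hQ₁le, hXQ₁, hY₁⟩ := hQ₁𝒮
  haveI : Finite Q₁ :=
    Finite.of_injective (Subgroup.inclusion hQ₁le) (Subgroup.inclusion_injective _)
  have hQ₁q : IsPGroup q Q₁ := hQ.to_le hQ₁le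
  have hmin : ∀ Q₂ : Subgroup (Module.End K W)ˣ, Q₂ < Q₁ → (∀ e ∈ Q₂, X * e * X⁻¹ ∈ Q₂) →
      ∀ t ∈ Q₂, X ^ (p ^ (n - 1)) * t = t * X ^ (p ^ (n - 1)) := by
    intro Q₂ hlt hX₂
    by_contra hcon
    push Not at hcon
    have h𝒮 : Q₂ ∈ 𝒮 := ⟨hlt.le.trans hQ₁le, hX₂, hcon⟩
    apply hQ₁min Q₂ h𝒮
    show Nat.card Q₂ < Nat.card Q₁
    by_contra hge
    push Not at hge
    exact (ne_of_lt hlt) (Subgroup.eq_of_le_of_card_ge hlt.le hge)
  by_cases hab : ∀ e ∈ Q₁, ∀ f ∈ Q₁, e * f = f * e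
  · exfalso
    obtain ⟨w, hw0, hw⟩ := abelian_caseS p q hqK Q₁ hQ₁q hab X hXQ₁ n hn hXn hY₁
    exact hw0 (hfixX w hw)
  · push Not at hab
    have hXN : X ∈ Subgroup.normalizer (Q₁ : Set (Module.End K W)ˣ) :=
      mem_normalizer_of_pow_eq_one Q₁ X (p ^ n) hNpos hXn hXQ₁
    have hYX : X ^ (p ^ (n - 1)) ∈ Subgroup.zpowers X := Subgroup.npow_mem_zpowers X _
    have hYm : (X ^ (p ^ (n - 1))) ^ (p ^ n) = 1 := by
      rw [← pow_mul, mul_comm, pow_mul, hXn, one_pow]
    have hmq : Nat.Coprime (p ^ n) q :=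
      Nat.Coprime.pow_left _ ((Nat.coprime_primes hp (Fact.out : q.Prime)).2 hpq)
    obtain ⟨hi, hii, hiii⟩ := minimal_structure Q₁ hQ₁q X (X ^ (p ^ (n - 1))) hXN hYX (p ^ n) hYm
      hmq hmin hY₁ hab
    obtain ⟨a, j, h1, h2, h3, h4, h5⟩ := special_case2 p q hpq hpK hqK Q₁ hQ₁q X hXQ₁ n hn hXn
      hY₁ hi hii hiii hfixX
    refine ⟨a, j, h1, h2, h3, ?_, h5⟩
    intro ha0 hfpf
    exact h4 ha0 (fun e he => hfpf e (hQ₁le he))

end Main2

end Cfsg.Agent.Lib.Helper56.Gross
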