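import Cfsg.Agent.Lib.Helper56.GrossBC

/-!
# Theorem SG (`p = 2`) for automorphisms of an elementary abelian group
-/

set_option autoImplicit false
set_option linter.unusedSectionVars false
set_option linter.style.haveILetI false

namespace Cfsg.Agent.Lib.Helper56.Gross

open Module TensorProduct
open Cfsg.Agent.Lib.Helper56.HH
open Cfsg.Agent.Lib.Helper56.HHB

section Group

variable {N : Type*} [CommGroup N] [Finite N]

theorem finite_mulAut : Finite (MulAut N) :=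
  Finite.of_injective (fun f : MulAut N => (f : N → N)) (fun f g h => by ext a; exact congrFun h a)

theorem finite_map_of_finite {G H : Type*} [Group G] [Group H] [Finite G] (g : G →* H)
    (Q : Subgroup G) : Finite (Q.map g) :=
  Finite.of_surjective (fun x : Q => (⟨g x, Subgroup.mem_map_of_mem g x.2⟩ : Q.map g))
    (by rintro ⟨_, ⟨x, hx, rfl⟩⟩; exact ⟨⟨x, hx⟩, rfl⟩)

theorem thmSG2_group_aux (v q : ℕ) [Fact v.Prime] [Fact q.Prime]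
    [Module (ZMod v) (Additive N)] (hq2 : q ≠ 2) (hv2 : v ≠ 2) (hvq : v ≠ q)
    (Q : Subgroup (MulAut N)) (hQ : IsPGroup q Q) (ξ : MulAut N)
    (hξQ : ∀ e ∈ Q, ξ * e * ξ⁻¹ ∈ Q) (n : ℕ) (hn : 1 ≤ n) (hξn : ξ ^ (2 ^ n) = 1)
    (hY : ∃ t ∈ Q, ξ ^ (2 ^ (n - 1)) * t ≠ t * ξ ^ (2 ^ (n - 1)))
    (hfpfQ : ∀ e ∈ Q, ξ * e * ξ⁻¹ = e → e = 1) (hfpfN : ∀ a : N, ξ a = a → a = 1) :
    ∃ a j : ℕ, 1 ≤ a ∧ a + 2 ≤ n ∧ q ^ j = 2 ^ (n - a) - 1 := by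
  classical
  haveI : Fact (Nat.Prime 2) := ⟨Nat.prime_two⟩
  haveI : Finite (MulAut N) := finite_mulAut
  set g := bcHom v N with hg
  have hg_inj : Function.Injective g := bcHom_injective v N
  set Q' := Q.map g with hQ'
  haveI : Finite Q' := finite_map_of_finite g Q
  have hQ'q : IsPGroup q Q' := hQ.map g
  have h1 : ∀ e ∈ Q', g ξ * e * (g ξ)⁻¹ ∈ Q' := by
    rintro _ ⟨e, he, rfl⟩
    refine ⟨ξ * e * ξ⁻¹, hξQ e he, ?_⟩
    rw [map_mul, map_mul, map_inv]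
  have h2 : (g ξ) ^ (2 ^ n) = 1 := by rw [← map_pow, hξn, map_one]
  have h3 : ∃ t ∈ Q', (g ξ) ^ (2 ^ (n - 1)) * t ≠ t * (g ξ) ^ (2 ^ (n - 1)) := by
    obtain ⟨t, htQ, ht⟩ := hY
    refine ⟨g t, Subgroup.mem_map_of_mem g htQ, ?_⟩
    intro h
    apply ht
    apply hg_inj
    rw [map_mul, map_mul, map_pow]
    exact h
  have h4 : ∀ e ∈ Q', g ξ * e * (g ξ)⁻¹ = e → e = 1 := by
    rintro _ ⟨e, he, rfl⟩ h
    have : g (ξ * e * ξ⁻¹) = g e := by rw [map_mul, map_mul, map_inv]; exact h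
    rw [hfpfQ e he (hg_inj this), map_one]
  have h5 : ∀ w : bcW v N, ((g ξ : (Module.End (bcL v) (bcW v N))ˣ) :
      Module.End (bcL v) (bcW v N)) w = w → w = 0 := by
    intro w hw
    by_contra hw0
    obtain ⟨a, ha1, ha⟩ := exists_fixed_of_bcHom v N ξ w hw0 hw
    exact ha1 (hfpfN a ha)
  have h2L : ((2 : ℕ) : bcL v) ≠ 0 := bcL_prime_ne_zero v 2 hv2
  have hqL : (q : bcL v) ≠ 0 := bcL_prime_ne_zero v q hvq
  obtain ⟨a, j, ha, hj, hgt, hfp, -⟩ := thmSG2 2 q (fun h => hq2 h.symm) h2L hqL Q' hQ'q (g ξ) h1 n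
    hn h2 h3 h5
  have hna : 2 ≤ n - a := by
    by_contra h
    push Not at h
    have h' : 2 ^ (n - a) ≤ 2 ^ 1 := Nat.pow_le_pow_right (by norm_num) (by omega)
    omega
  refine ⟨a, j, ?_, by omega, hj⟩
  by_contra ha0
  exact hfp (by omega) h4

/-- **Theorem SG for `p = 2`, group form** (operator acting without fixed points). -/
theorem thmSG2_group (v q : ℕ) [Fact v.Prime] [Fact q.Prime]
    (hexp : ∀ a : N, a ^ v = 1) (hq2 : q ≠ 2) (hv2 : v ≠ 2) (hvq : v ≠ q)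
    (Q : Subgroup (MulAut N)) (hQ : IsPGroup q Q) (ξ : MulAut N)
    (hξQ : ∀ e ∈ Q, ξ * e * ξ⁻¹ ∈ Q) (n : ℕ) (hn : 1 ≤ n) (hξn : ξ ^ (2 ^ n) = 1)
    (hY : ∃ t ∈ Q, ξ ^ (2 ^ (n - 1)) * t ≠ t * ξ ^ (2 ^ (n - 1)))
    (hfpfQ : ∀ e ∈ Q, ξ * e * ξ⁻¹ = e → e = 1) (hfpfN : ∀ a : N, ξ a = a → a = 1) :
    ∃ a j : ℕ, 1 ≤ a ∧ a + 2 ≤ n ∧ q ^ j = 2 ^ (n - a) - 1 := by
  letI : Module (ZMod v) (Additive N) := AddCommGroup.zmodModule (n := v) (by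
    intro x
    have := hexp (Additive.toMul x)
    exact congrArg Additive.ofMul this)
  exact thmSG2_group_aux v q hq2 hv2 hvq Q hQ ξ hξQ n hn hξn hY hfpfQ hfpfN

theorem thmSG2c_group_aux (v q : ℕ) [Fact v.Prime] [Fact q.Prime]
    [Module (ZMod v) (Additive N)] (hq2 : q ≠ 2) (hv2 : v ≠ 2) (hvq : v ≠ q)
    (Q : Subgroup (MulAut N)) (hQ : IsPGroup q Q) (ξ : MulAut N)
    (hξQ : ∀ e ∈ Q, ξ * e * ξ⁻¹ ∈ Q) (n : ℕ) (hn : 2 ≤ n) (hξn : ξ ^ (2 ^ n) = 1)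
    (hY : ∃ t ∈ Q, ξ ^ (2 ^ (n - 1)) * t ≠ t * ξ ^ (2 ^ (n - 1)))
    (B : Subgroup N) (hB : ∀ a : N, ξ a * a⁻¹ ∈ B) (hBc : Nat.card B ≤ v ^ 2) :
    ∃ j : ℕ, q ^ j = 2 ^ n - 1 := by
  classical
  haveI : Finite (MulAut N) := finite_mulAut
  set g := bcHom v N with hg
  have hg_inj : Function.Injective g := bcHom_injective v N
  set Q' := Q.map g with hQ'
  haveI : Finite Q' := finite_map_of_finite g Q
  have hQ'q : IsPGroup q Q' := hQ.map g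
  have h1 : ∀ e ∈ Q', g ξ * e * (g ξ)⁻¹ ∈ Q' := by
    rintro _ ⟨e, he, rfl⟩
    refine ⟨ξ * e * ξ⁻¹, hξQ e he, ?_⟩
    rw [map_mul, map_mul, map_inv]
  have h2 : (g ξ) ^ (2 ^ n) = 1 := by rw [← map_pow, hξn, map_one]
  have h3 : ∃ t ∈ Q', (g ξ) ^ (2 ^ (n - 1)) * t ≠ t * (g ξ) ^ (2 ^ (n - 1)) := by
    obtain ⟨t, htQ, ht⟩ := hY
    refine ⟨g t, Subgroup.mem_map_of_mem g htQ, ?_⟩
    intro h
    apply ht
    apply hg_inj
    rw [map_mul, map_mul, map_pow]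
    exact h
  have h2L : (2 : bcL v) ≠ 0 := by
    have := bcL_prime_ne_zero v 2 hv2
    simpa using this
  have hqL : (q : bcL v) ≠ 0 := bcL_prime_ne_zero v q hvq
  exact thmSG2c q hq2 h2L hqL Q' hQ'q (g ξ) h1 n hn h2 h3
    (finrank_range_bcHom_le v N ξ B hB 2 hBc)

/-- **Theorem SG for `p = 2`, group form** (operator with small commutator). -/
theorem thmSG2c_group (v q : ℕ) [Fact v.Prime] [Fact q.Prime]
    (hexp : ∀ a : N, a ^ v = 1) (hq2 : q ≠ 2) (hv2 : v ≠ 2) (hvq : v ≠ q)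
    (Q : Subgroup (MulAut N)) (hQ : IsPGroup q Q) (ξ : MulAut N)
    (hξQ : ∀ e ∈ Q, ξ * e * ξ⁻¹ ∈ Q) (n : ℕ) (hn : 2 ≤ n) (hξn : ξ ^ (2 ^ n) = 1)
    (hY : ∃ t ∈ Q, ξ ^ (2 ^ (n - 1)) * t ≠ t * ξ ^ (2 ^ (n - 1)))
    (B : Subgroup N) (hB : ∀ a : N, ξ a * a⁻¹ ∈ B) (hBc : Nat.card B ≤ v ^ 2) :
    ∃ j : ℕ, q ^ j = 2 ^ n - 1 := by
  letI : Module (ZMod v) (Additive N) := AddCommGroup.zmodModule (n := v) (by
    intro x
    have := hexp (Additive.toMul x)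
    exact congrArg Additive.ofMul this)
  exact thmSG2c_group_aux v q hq2 hv2 hvq Q hQ ξ hξQ n hn hξn hY B hB hBc

end Group

end Cfsg.Agent.Lib.Helper56.Gross
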