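import Cfsg.Agent.Lib.Helper56.GrossSG2

/-!
# Theorem SG for `p = 2` when `X - 1` has rank at most two

If `X ^ (2 ^ n) = 1`, `n ≥ 2`, `X - 1` has rank at most `2` and `X ^ (2 ^ (n-1))` does not
centralize the `q`-group `Q` normalized by `X`, then `q ^ j = 2 ^ n - 1` for some `j`.
-/

set_option autoImplicit false
set_option linter.unusedSectionVars false
set_option linter.style.haveILetI false

namespace Cfsg.Agent.Lib.Helper56.Gross

open Module
open Cfsg.Agent.Lib.Helper56.HH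
open Cfsg.Agent.Lib.Helper56.HHB
open Cfsg.Agent.Lib.Helper56.HHS
open scoped commutatorElement

universe uK uW

section Rank2

variable {K : Type uK} [Field K] [IsAlgClosed K] {W : Type uW} [AddCommGroup W] [Module K W]
  [FiniteDimensional K W]

/-- a scalar `c` with `c ^ N = 1` such that `c • X` has no fixed vector -/
theorem exists_twist_no_fixed (h2K : (2 : K) ≠ 0) (X : Module.End K W) (n : ℕ) (hn : 2 ≤ n)
    (hrank : Module.finrank K (LinearMap.range (X - 1)) ≤ 2) :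
    ∃ c : K, c ^ (2 ^ n) = 1 ∧ ∀ w : W, c • X w = w → w = 0 := by
  classical
  haveI : NeZero ((2 : ℕ) : K) := ⟨by simpa using h2K⟩
  obtain ⟨ζ, hζ⟩ := HasEnoughRootsOfUnity.exists_primitiveRoot K (2 ^ n)
  have hN4 : 4 ≤ 2 ^ n := by
    calc 4 = 2 ^ 2 := by norm_num
      _ ≤ 2 ^ n := Nat.pow_le_pow_right (by norm_num) hn
  have hζ0 : ζ ≠ 0 := hζ.ne_zero (by omega)
  by_contra hcon
  push Not at hcon
  have hex : ∀ i : Fin 3, ∃ w : W, w ≠ 0 ∧ ζ ^ ((i : ℕ) + 1) • X w = w := by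
    intro i
    obtain ⟨w, h1, h2⟩ := hcon (ζ ^ ((i : ℕ) + 1))
      (by rw [← pow_mul, mul_comm, pow_mul, hζ.pow_eq_one, one_pow])
    exact ⟨w, h2, h1⟩
  choose v hv0 hv using hex
  let lam : Fin 3 → K := fun i => (ζ ^ ((i : ℕ) + 1))⁻¹
  have hlam : ∀ i, X (v i) = lam i • v i := by
    intro i
    have h1 := hv i
    have h2 : ζ ^ ((i : ℕ) + 1) ≠ 0 := pow_ne_zero _ hζ0
    show X (v i) = (ζ ^ ((i : ℕ) + 1))⁻¹ • v i
    rw [← h1, smul_smul, inv_mul_cancel₀ h2, one_smul]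
    rw [h1]
  have hlt : ∀ i : Fin 3, (i : ℕ) + 1 < 2 ^ n := by
    intro i
    have := i.2
    omega
  have hinj : Function.Injective lam := by
    intro i j hij
    have h1 : ζ ^ ((i : ℕ) + 1) = ζ ^ ((j : ℕ) + 1) := inv_injective hij
    have h2 := hζ.pow_inj (hlt i) (hlt j) h1
    exact Fin.ext (by omega)
  have hli : LinearIndependent K v := by
    apply Module.End.eigenvectors_linearIndependent' X lam hinj v
    intro i
    exact ⟨Module.End.mem_eigenspace_iff.2 (hlam i), hv0 i⟩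
  have hlam1 : ∀ i, lam i - 1 ≠ 0 := by
    intro i h
    have h1 : lam i = 1 := sub_eq_zero.1 h
    have h2 : ζ ^ ((i : ℕ) + 1) = 1 := by
      have : (ζ ^ ((i : ℕ) + 1))⁻¹ = 1 := h1
      exact inv_eq_one.1 this
    exact hζ.pow_ne_one_of_pos_of_lt (Nat.succ_ne_zero _) (hlt i) h2
  have hmem : ∀ i, v i ∈ LinearMap.range (X - 1) := by
    intro i
    refine ⟨(lam i - 1)⁻¹ • v i, ?_⟩
    have h1 : lam i • v i - v i = (lam i - 1) • v i := by rw [sub_smul, one_smul]
    rw [map_smul, LinearMap.sub_apply, Module.End.one_apply, hlam i, h1, smul_smul,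
      inv_mul_cancel₀ (hlam1 i), one_smul]
  let v' : Fin 3 → LinearMap.range (X - 1) := fun i => ⟨v i, hmem i⟩
  have hli' : LinearIndependent K v' := by
    apply LinearIndependent.of_comp (LinearMap.range (X - 1)).subtype
    exact hli
  have := hli'.fintype_card_le_finrank
  rw [Fintype.card_fin] at this
  omega

/-- **Theorem SG for `p = 2` and an operator with `X - 1` of rank at most two.** -/
theorem thmSG2c (q : ℕ) [Fact q.Prime] (hq2 : q ≠ 2) (h2K : (2 : K) ≠ 0) (hqK : (q : K) ≠ 0)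
    (Q : Subgroup (Module.End K W)ˣ) [Finite Q] (hQ : IsPGroup q Q)
    (X : (Module.End K W)ˣ) (hXQ : ∀ e ∈ Q, X * e * X⁻¹ ∈ Q) (n : ℕ) (hn : 2 ≤ n)
    (hXn : X ^ (2 ^ n) = 1)
    (hY : ∃ t ∈ Q, X ^ (2 ^ (n - 1)) * t ≠ t * X ^ (2 ^ (n - 1)))
    (hrank : Module.finrank K (LinearMap.range ((X : Module.End K W) - 1)) ≤ 2) :
    ∃ j : ℕ, q ^ j = 2 ^ n - 1 := by
  classical
  haveI : Fact (Nat.Prime 2) := ⟨Nat.prime_two⟩
  obtain ⟨c, hcN, hcfix⟩ := exists_twist_no_fixed h2K (X : Module.End K W) n hn hrank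
  have hc0 : c ≠ 0 := by
    rintro rfl
    rw [zero_pow (pow_ne_zero _ (by norm_num))] at hcN
    exact zero_ne_one hcN
  let cu : (Module.End K W)ˣ :=
    Units.map (algebraMap K (Module.End K W)).toMonoidHom (Units.mk0 c hc0)
  have hcu_val : (cu : Module.End K W) = algebraMap K (Module.End K W) c := rfl
  have hcu : ∀ g : (Module.End K W)ˣ, cu * g = g * cu := by
    intro g
    apply Units.ext
    rw [Units.val_mul, Units.val_mul, hcu_val]
    exact Algebra.commutes c (g : Module.End K W)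
  have hcupow : ∀ m : ℕ, ∀ g : (Module.End K W)ˣ, cu ^ m * g = g * cu ^ m := by
    intro m g
    exact ((show Commute cu g from hcu g).pow_left m).eq
  set X' : (Module.End K W)ˣ := cu * X with hX'
  have hX'val : ∀ w : W, (X' : Module.End K W) w = c • (X : Module.End K W) w := by
    intro w
    rw [hX', Units.val_mul, Module.End.mul_apply, hcu_val, Module.algebraMap_end_apply]
  have hconj : ∀ e : (Module.End K W)ˣ, X' * e * X'⁻¹ = X * e * X⁻¹ := by
    intro e
    rw [hX']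
    calc cu * X * e * (cu * X)⁻¹ = cu * (X * e * X⁻¹) * cu⁻¹ := by group
      _ = (X * e * X⁻¹) * cu * cu⁻¹ := by rw [hcu]
      _ = X * e * X⁻¹ := by group
  have hX'pow : ∀ m : ℕ, X' ^ m = cu ^ m * X ^ m := by
    intro m
    rw [hX', (show Commute cu X from hcu X).mul_pow]
  have hcuN : cu ^ (2 ^ n) = 1 := by
    apply Units.ext
    rw [Units.val_pow_eq_pow_val, hcu_val, ← map_pow, hcN, map_one, Units.val_one]
  have h1 : ∀ e ∈ Q, X' * e * X'⁻¹ ∈ Q := by
    intro e he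
    rw [hconj]
    exact hXQ e he
  have h2 : X' ^ (2 ^ n) = 1 := by rw [hX'pow, hcuN, hXn, one_mul]
  have h3 : ∃ t ∈ Q, X' ^ (2 ^ (n - 1)) * t ≠ t * X' ^ (2 ^ (n - 1)) := by
    obtain ⟨t, htQ, ht⟩ := hY
    refine ⟨t, htQ, ?_⟩
    intro h
    apply ht
    rw [hX'pow] at h
    have h4 : cu ^ (2 ^ (n - 1)) * (X ^ (2 ^ (n - 1)) * t) =
        cu ^ (2 ^ (n - 1)) * (t * X ^ (2 ^ (n - 1))) := by
      calc cu ^ (2 ^ (n - 1)) * (X ^ (2 ^ (n - 1)) * t)
          = cu ^ (2 ^ (n - 1)) * X ^ (2 ^ (n - 1)) * t := by group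
        _ = t * (cu ^ (2 ^ (n - 1)) * X ^ (2 ^ (n - 1))) := h
        _ = (t * cu ^ (2 ^ (n - 1))) * X ^ (2 ^ (n - 1)) := by group
        _ = cu ^ (2 ^ (n - 1)) * t * X ^ (2 ^ (n - 1)) := by rw [hcupow]
        _ = cu ^ (2 ^ (n - 1)) * (t * X ^ (2 ^ (n - 1))) := by group
    exact mul_left_cancel h4
  have h4 : ∀ w : W, (X' : Module.End K W) w = w → w = 0 := by
    intro w hw
    rw [hX'val] at hw
    exact hcfix w hw
  have h2K' : ((2 : ℕ) : K) ≠ 0 := by simpa using h2K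
  obtain ⟨a, j, ha, hj, hgt, -, hr⟩ := thmSG2 2 q (fun h => hq2 h.symm) h2K' hqK Q hQ X' h1 n
    (by omega) h2 h3 h4
  have hna : 2 ≤ n - a := by
    by_contra h
    push Not at h
    have h' : 2 ^ (n - a) ≤ 2 ^ 1 := Nat.pow_le_pow_right (by norm_num) (by omega)
    omega
  have h44 : 4 ≤ 2 ^ (n - a) := by
    calc 4 = 2 ^ 2 := by norm_num
      _ ≤ 2 ^ (n - a) := Nat.pow_le_pow_right (by norm_num) hna
  have ha0 : a = 0 := by
    apply hr
    refine ⟨c⁻¹, ?_⟩
    have h5 : c⁻¹ • (X' : Module.End K W) - 1 = (X : Module.End K W) - 1 := by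
      apply LinearMap.ext
      intro w
      rw [LinearMap.sub_apply, LinearMap.sub_apply, LinearMap.smul_apply, hX'val, smul_smul,
        inv_mul_cancel₀ hc0, one_smul]
    rw [h5]
    omega
  rw [ha0, Nat.sub_zero] at hj
  exact ⟨j, hj⟩

end Rank2

end Cfsg.Agent.Lib.Helper56.Gross
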