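import Mathlib

/-!
# Base change of endomorphism rings to an extension field, via matrices
-/

set_option autoImplicit false
set_option linter.unusedSectionVars false
set_option linter.style.haveILetI false

namespace Cfsg.Agent.Lib.Helper56.HHB

open Module

universe uF uV uK

section Base

variable (F : Type uF) [Field F] (V : Type uV) [AddCommGroup V] [Module F V]
  [FiniteDimensional F V] (K : Type uK) [Field K] [Algebra F K]

/-- an injective ring homomorphism `End_F V → End_K (K^d)` -/
theorem exists_base_change :
    ∃ (d : ℕ) (Φ : Module.End F V →+* Module.End K (Fin d → K)), Function.Injective Φ := by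
  classical
  let d := Module.finrank F V
  let b : Basis (Fin d) F V := Module.finBasis F V
  let e1 : Module.End F V ≃ₐ[F] Matrix (Fin d) (Fin d) F := LinearMap.toMatrixAlgEquiv b
  let e2 : Matrix (Fin d) (Fin d) F →+* Matrix (Fin d) (Fin d) K := (algebraMap F K).mapMatrix
  let e3 : Matrix (Fin d) (Fin d) K ≃ₐ[K] Module.End K (Fin d → K) := Matrix.toLinAlgEquiv'
  refine ⟨d, (e3 : Matrix (Fin d) (Fin d) K →+* Module.End K (Fin d → K)).comp
    (e2.comp (e1 : Module.End F V →+* Matrix (Fin d) (Fin d) F)), ?_⟩
  intro a a' h
  have h1 : e3 (e2 (e1 a)) = e3 (e2 (e1 a')) := h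
  have h2 := e3.injective h1
  have h3 : Function.Injective e2 := by
    intro M M' hM
    have : M.map (algebraMap F K) = M'.map (algebraMap F K) := hM
    exact Matrix.map_injective (algebraMap F K).injective this
  exact e1.injective (h3 h2)

variable {F V}

/-- the group homomorphism `GL(V) → Rˣ` induced by a ring homomorphism `End_F V → R` -/
def glHom {R : Type*} [Ring R] (Φ : Module.End F V →+* R) : (V ≃ₗ[F] V) →* Rˣ :=
  (Units.map (Φ : Module.End F V →* R)).comp
    (LinearMap.GeneralLinearGroup.generalLinearEquiv F V).symm.toMonoidHom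

theorem glHom_val {R : Type*} [Ring R] (Φ : Module.End F V →+* R) (g : V ≃ₗ[F] V) :
    ((glHom Φ g : Rˣ) : R) = Φ (g : Module.End F V) := rfl

theorem glHom_injective {R : Type*} [Ring R] (Φ : Module.End F V →+* R)
    (hΦ : Function.Injective Φ) : Function.Injective (glHom Φ) := by
  intro g g' h
  have h1 := congrArg (fun u : Rˣ => (u : R)) h
  simp only [glHom_val] at h1
  have h2 := hΦ h1
  apply LinearEquiv.toLinearMap_injective
  exact h2

theorem coe_pow_linearEquiv (g : V ≃ₗ[F] V) (k : ℕ) :
    ((g ^ k : V ≃ₗ[F] V) : Module.End F V) = (g : Module.End F V) ^ k := by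
  induction k with
  | zero => rfl
  | succ k ih =>
    rw [pow_succ, pow_succ, ← ih]
    rfl

end Base

end Cfsg.Agent.Lib.Helper56.HHB
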