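import Cfsg.Agent.Lib.Helper56.HHCore

/-!
# A lower bound for the centralizer of a nilpotent operator

If `u ^ s = 0` on a finite dimensional space `V` then `(dim V)^2 ≤ s * dim C(u)`.
-/

set_option autoImplicit false
set_option linter.unusedSectionVars false
set_option linter.style.haveILetI false

namespace Cfsg.Agent.Lib.Helper56.HH

open Module

universe uK uV

section Lift

variable {K : Type uK} [Field K] {V : Type uV} [AddCommGroup V] [Module K V]

/-- the restriction of `u` to its range -/
def rangeRes (u : Module.End K V) : Module.End K (LinearMap.range u) :=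
  u.restrict (fun x _ => LinearMap.mem_range_self u x)

@[simp] theorem rangeRes_apply (u : Module.End K V) (v : LinearMap.range u) :
    ((rangeRes u v : LinearMap.range u) : V) = u (v : V) := rfl

theorem rangeRes_pow_apply (u : Module.End K V) (k : ℕ) (v : LinearMap.range u) :
    (((rangeRes u ^ k) v : LinearMap.range u) : V) = (u ^ k) (v : V) := by
  induction k with
  | zero => simp
  | succ k ih =>
    rw [pow_succ', Module.End.mul_apply, rangeRes_apply, ih, pow_succ', Module.End.mul_apply]

theorem rangeRes_pow_eq_zero (u : Module.End K V) (s : ℕ) (h : u ^ (s + 1) = 0) :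
    rangeRes u ^ s = 0 := by
  apply LinearMap.ext
  intro v
  apply Subtype.ext
  rw [rangeRes_pow_apply]
  obtain ⟨w, hw⟩ := v.2
  rw [← hw, ← Module.End.mul_apply, ← pow_succ, h]
  simp

/-- lifting an endomorphism of `range u` commuting with `u` to one of `V` -/
theorem exists_lift_of_commute (u : Module.End K V) (g : Module.End K (LinearMap.range u))
    (hg : rangeRes u * g = g * rangeRes u) :
    ∃ f : Module.End K V, u * f = f * u ∧ ∀ v : LinearMap.range u, f (v : V) = (g v : V) := by
  let ub : V →ₗ[K] LinearMap.range u := u.rangeRestrict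
  have hub_apply : ∀ v, ((ub v : LinearMap.range u) : V) = u v := fun v => rfl
  obtain ⟨s, hs⟩ := LinearMap.exists_rightInverse_of_surjective ub
    (LinearMap.range_eq_top.2 (LinearMap.surjective_rangeRestrict u))
  have hs_apply : ∀ z : LinearMap.range u, ub (s z) = z := fun z => by
    have := congrArg (fun φ : LinearMap.range u →ₗ[K] LinearMap.range u => φ z) hs
    simpa using this
  have hus : ∀ z : LinearMap.range u, u (s z) = (z : V) := by
    intro z
    rw [← hub_apply, hs_apply]
  have hcomm : ∀ v' : LinearMap.range u, u ((g v' : LinearMap.range u) : V) = ((g (rangeRes u v') : LinearMap.range u) : V) := by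
    intro v'
    have h1 : rangeRes u (g v') = g (rangeRes u v') := by
      have := congrArg (fun φ : Module.End K (LinearMap.range u) => φ v') hg
      simpa using this
    have h2 := congrArg Subtype.val h1
    rw [rangeRes_apply] at h2
    exact h2
  -- the correction term
  let h0 : LinearMap.range u →ₗ[K] V := (LinearMap.range u).subtype ∘ₗ g - s ∘ₗ g ∘ₗ rangeRes u
  have h0ker : ∀ v', h0 v' ∈ LinearMap.ker u := by
    intro v'
    rw [LinearMap.mem_ker]
    simp only [h0, LinearMap.sub_apply, LinearMap.comp_apply, Submodule.subtype_apply, map_sub]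
    rw [hus, hcomm, sub_self]
  let h1 : LinearMap.range u →ₗ[K] LinearMap.ker u := h0.codRestrict (LinearMap.ker u) h0ker
  obtain ⟨k, hk⟩ := LinearMap.exists_extend h1
  have hk_apply : ∀ v' : LinearMap.range u, ((k (v' : V) : LinearMap.ker u) : V) = h0 v' := by
    intro v'
    have := congrArg (fun φ : LinearMap.range u →ₗ[K] LinearMap.ker u => ((φ v' : LinearMap.ker u) : V)) hk
    simpa [h1] using this
  refine ⟨s ∘ₗ g ∘ₗ ub + (LinearMap.ker u).subtype ∘ₗ k, ?_, ?_⟩
  · apply LinearMap.ext
    intro v
    simp only [Module.End.mul_apply, LinearMap.add_apply, LinearMap.comp_apply,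
      Submodule.subtype_apply, map_add]
    have h2 : u ((k v : LinearMap.ker u) : V) = 0 := LinearMap.mem_ker.1 (k v).2
    rw [h2, add_zero, hus]
    -- right side at `u v = ub v`
    have h3 : u v = ((ub v : LinearMap.range u) : V) := rfl
    rw [h3, hk_apply]
    simp only [h0, LinearMap.sub_apply, LinearMap.comp_apply, Submodule.subtype_apply]
    have h4 : ub ((ub v : LinearMap.range u) : V) = rangeRes u (ub v) := by
      apply Subtype.ext
      rfl
    rw [h4]
    abel
  · intro v'
    simp only [LinearMap.add_apply, LinearMap.comp_apply, Submodule.subtype_apply]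
    rw [hk_apply]
    simp only [h0, LinearMap.sub_apply, LinearMap.comp_apply, Submodule.subtype_apply]
    have h4 : ub (v' : V) = rangeRes u v' := by
      apply Subtype.ext
      rfl
    rw [h4]
    abel

end Lift

section Bound

variable {K : Type uK} [Field K] {V : Type uV} [AddCommGroup V] [Module K V]

theorem centE_maps_range (u : Module.End K V) (f : centE u) :
    ∀ x ∈ LinearMap.range u, (f : Module.End K V) x ∈ LinearMap.range u := by
  intro x hx
  obtain ⟨w, rfl⟩ := hx
  have h : u * (f : Module.End K V) = (f : Module.End K V) * u := f.2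
  have h2 := congrArg (fun φ : Module.End K V => φ w) h
  simp only [Module.End.mul_apply] at h2
  rw [← h2]
  exact LinearMap.mem_range_self u _

/-- restriction from the centralizer of `u` to endomorphisms of `range u` -/
def centRes (u : Module.End K V) : centE u →ₗ[K] Module.End K (LinearMap.range u) where
  toFun f := (f : Module.End K V).restrict (centE_maps_range u f)
  map_add' := by
    intro f g
    apply LinearMap.ext
    intro v
    apply Subtype.ext
    simp [LinearMap.restrict_apply]
  map_smul' := by
    intro c f
    apply LinearMap.ext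
    intro v
    apply Subtype.ext
    simp [LinearMap.restrict_apply]

@[simp] theorem centRes_apply (u : Module.End K V) (f : centE u) (v : LinearMap.range u) :
    ((centRes u f v : LinearMap.range u) : V) = (f : Module.End K V) (v : V) := rfl

theorem centE_rangeRes_le_range (u : Module.End K V) :
    centE (rangeRes u) ≤ LinearMap.range (centRes u) := by
  intro g hg
  obtain ⟨f, hf, hfg⟩ := exists_lift_of_commute u g hg
  refine ⟨⟨f, hf⟩, ?_⟩
  apply LinearMap.ext
  intro v
  apply Subtype.ext
  rw [centRes_apply]
  exact hfg v

/-- maps `V / range u → ker u` give elements of the centralizer killed by restriction -/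
def kerHom (u : Module.End K V) :
    ((V ⧸ LinearMap.range u) →ₗ[K] LinearMap.ker u) →ₗ[K] centE u where
  toFun h := ⟨(LinearMap.ker u).subtype ∘ₗ h ∘ₗ (LinearMap.range u).mkQ, by
    show u * _ = _ * u
    apply LinearMap.ext
    intro v
    simp only [Module.End.mul_apply, LinearMap.comp_apply, Submodule.subtype_apply]
    have h1 : u ((h ((LinearMap.range u).mkQ v) : LinearMap.ker u) : V) = 0 :=
      LinearMap.mem_ker.1 (h _).2
    have h2 : (LinearMap.range u).mkQ (u v) = 0 := by
      rw [Submodule.mkQ_apply, Submodule.Quotient.mk_eq_zero]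
      exact LinearMap.mem_range_self u v
    rw [h1, h2, map_zero]
    rfl⟩
  map_add' := by
    intro f g
    apply Subtype.ext
    apply LinearMap.ext
    intro v
    simp
  map_smul' := by
    intro c f
    apply Subtype.ext
    apply LinearMap.ext
    intro v
    simp

theorem kerHom_apply (u : Module.End K V) (h : (V ⧸ LinearMap.range u) →ₗ[K] LinearMap.ker u)
    (v : V) : ((kerHom u h : centE u) : Module.End K V) v =
      ((h ((LinearMap.range u).mkQ v) : LinearMap.ker u) : V) := rfl

theorem kerHom_injective (u : Module.End K V) : Function.Injective (kerHom u) := by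
  rw [← LinearMap.ker_eq_bot, LinearMap.ker_eq_bot']
  intro h hh
  apply LinearMap.ext
  intro x
  obtain ⟨v, rfl⟩ := (LinearMap.range u).mkQ_surjective x
  apply Subtype.ext
  have := congrArg (fun φ : centE u => (φ : Module.End K V) v) hh
  simp only [kerHom_apply] at this
  rw [this]
  rfl

theorem range_kerHom_le (u : Module.End K V) :
    LinearMap.range (kerHom u) ≤ LinearMap.ker (centRes u) := by
  rintro _ ⟨h, rfl⟩
  rw [LinearMap.mem_ker]
  apply LinearMap.ext
  intro v
  apply Subtype.ext
  rw [centRes_apply, kerHom_apply]
  have h2 : (LinearMap.range u).mkQ (v : V) = 0 := by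
    rw [Submodule.mkQ_apply, Submodule.Quotient.mk_eq_zero]
    exact v.2
  rw [h2, map_zero]
  rfl

variable [FiniteDimensional K V]

theorem finrank_centE_ge (u : Module.End K V) :
    (finrank K (LinearMap.ker u)) ^ 2 + finrank K (centE (rangeRes u)) ≤ finrank K (centE u) := by
  have h1 := LinearMap.finrank_range_add_finrank_ker (centRes u)
  have h2 : finrank K (centE (rangeRes u)) ≤ finrank K (LinearMap.range (centRes u)) :=
    Submodule.finrank_mono (centE_rangeRes_le_range u)
  have h3 : finrank K (LinearMap.range (kerHom u)) ≤ finrank K (LinearMap.ker (centRes u)) :=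
    Submodule.finrank_mono (range_kerHom_le u)
  have h4 : finrank K (LinearMap.range (kerHom u)) =
      finrank K ((V ⧸ LinearMap.range u) →ₗ[K] LinearMap.ker u) :=
    LinearMap.finrank_range_of_inj (kerHom_injective u)
  have h5 : finrank K ((V ⧸ LinearMap.range u) →ₗ[K] LinearMap.ker u) =
      finrank K (V ⧸ LinearMap.range u) * finrank K (LinearMap.ker u) :=
    Module.finrank_linearMap K K _ _
  have h6 : finrank K (V ⧸ LinearMap.range u) + finrank K (LinearMap.range u) = finrank K V :=
    Submodule.finrank_quotient_add_finrank _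
  have h7 := LinearMap.finrank_range_add_finrank_ker u
  have h8 : finrank K (V ⧸ LinearMap.range u) = finrank K (LinearMap.ker u) := by omega
  rw [h8] at h5
  rw [h5] at h4
  rw [h4] at h3
  rw [sq]
  omega

end Bound

/-- **Centralizer bound.** If `u ^ s = 0` then `(dim V)^2 ≤ s * dim C(u)`. -/
theorem sq_finrank_le_mul_finrank_centE {K : Type uK} [Field K] (s : ℕ) :
    ∀ {V : Type uV} [AddCommGroup V] [Module K V] [FiniteDimensional K V]
      (u : Module.End K V), u ^ s = 0 → (finrank K V) ^ 2 ≤ s * finrank K (centE u) := by
  induction s with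
  | zero =>
    intro V _ _ _ u hu
    rw [pow_zero] at hu
    have h0 : finrank K V = 0 := by
      rw [Module.finrank_eq_zero_iff_of_free]
      constructor
      intro a b
      have ha : a = (1 : Module.End K V) a := rfl
      have hb : b = (1 : Module.End K V) b := rfl
      rw [ha, hb, hu]
      rfl
    rw [h0]
    simp
  | succ s ih =>
    intro V _ _ _ u hu
    have h1 := ih (rangeRes u) (rangeRes_pow_eq_zero u s hu)
    have h2 := finrank_centE_ge u
    have h3 := LinearMap.finrank_range_add_finrank_ker u
    set a := finrank K (LinearMap.ker u)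
    set b := finrank K (LinearMap.range u)
    set c := finrank K (centE (rangeRes u))
    set C := finrank K (centE u)
    rw [← h3]
    rcases Nat.eq_zero_or_pos s with hs | hs
    · subst hs
      have hb0 : b = 0 := by
        have : b ^ 2 ≤ 0 := by simpa using h1
        exact pow_eq_zero_iff (two_ne_zero) |>.1 (Nat.le_zero.1 this)
      rw [hb0]
      nlinarith
    · -- s (a+b)^2 ≤ s (s+1) a^2 + (s+1) b^2
      have key : s * (b + a) ^ 2 ≤ s * ((s + 1) * C) := by
        have e1 : (s * a : ℤ) ^ 2 + (b : ℤ) ^ 2 - 2 * (s * a) * b ≥ 0 := by nlinarith [sq_nonneg ((s * a : ℤ) - b)]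
        have e2 : (s : ℤ) * (b + a) ^ 2 ≤ s * (s + 1) * a ^ 2 + (s + 1) * b ^ 2 := by nlinarith
        have e3 : ((s : ℤ) + 1) * b ^ 2 ≤ (s + 1) * (s * c) := by
          have : (b : ℤ) ^ 2 ≤ s * c := by exact_mod_cast h1
          nlinarith
        have e4 : (s : ℤ) * (s + 1) * a ^ 2 + (s + 1) * (s * c) ≤ s * ((s + 1) * C) := by
          have h5 : (a : ℤ) ^ 2 + c ≤ C := by exact_mod_cast h2
          have h6 : (0 : ℤ) ≤ (s : ℤ) * (s + 1) := by positivity
          have h7 := mul_le_mul_of_nonneg_left h5 h6
          nlinarith
        have : (s : ℤ) * (b + a) ^ 2 ≤ s * ((s + 1) * C) := by linarith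
        exact_mod_cast this
      exact Nat.le_of_mul_le_mul_left key hs

end Cfsg.Agent.Lib.Helper56.HH
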