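import Cfsg.Agent.Lib.Helper56.HHCentral
import Cfsg.Agent.Lib.Helper56.HHBJordan

/-!
# The modular analogue of the Hall–Higman / Shult counting (Theorem C)

`E` acts on `W` over an algebraically closed field through `ρ`, commutators acting as scalars,
nondegenerately (`Hyp ρ`).  `X` is an operator with `X ^ N = 1`, `(X - 1) ^ N = 0`, `N = p ^ k`,
normalizing `ρ E` and acting semiregularly on `E / S` minus the identity.  Then the nilpotency
index of `X - 1` is `N` or `N - 1`, and in the latter case `|E / S| = (N - 1)^2`.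
-/

set_option autoImplicit false
set_option linter.unusedSectionVars false
set_option linter.style.haveILetI false

namespace Cfsg.Agent.Lib.Helper56.HH

open Module
open scoped commutatorElement

section Orbits2

theorem exists_reps_semiregular {Q : Type*} [Fintype Q] (σ : Equiv.Perm Q) (N : ℕ) (hN : 0 < N)
    (hσN : σ ^ N = 1) (q₁ : Q) (hq₁ : σ q₁ = q₁)
    (hsemi : ∀ i, 0 < i → i < N → ∀ q, (σ ^ i) q = q → q = q₁) :
    ∃ R : Finset Q, (∀ q, q ≠ q₁ → ∃ q₀ ∈ R, ∃ i : ℕ, q = (σ ^ i) q₀) ∧
      N * R.card + 1 = Fintype.card Q := by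
  classical
  have hpow : ∀ (n : ℕ), (σ ^ n) q₁ = q₁ := by
    intro n
    induction n with
    | zero => simp
    | succ n ih => rw [pow_succ, Equiv.Perm.mul_apply, hq₁, ih]
  by_cases hne : ∃ q, q ≠ q₁
  swap
  · push Not at hne
    refine ⟨∅, fun q hq => absurd (hne q) hq, ?_⟩
    rw [Finset.card_empty, mul_zero, zero_add]
    symm
    rw [Fintype.card_eq_one_iff]
    exact ⟨q₁, hne⟩
  obtain ⟨q₂, hq₂⟩ := hne
  have hord : orderOf σ = N := by
    have h1 : orderOf σ ∣ N := orderOf_dvd_of_pow_eq_one hσN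
    have h2 : 0 < orderOf σ := Nat.pos_of_dvd_of_pos h1 hN
    have h3 : orderOf σ ≤ N := Nat.le_of_dvd hN h1
    by_contra h4
    have h5 : orderOf σ < N := lt_of_le_of_ne h3 h4
    apply hq₂
    apply hsemi (orderOf σ) h2 h5
    rw [pow_orderOf_eq_one]
    rfl
  let G := Subgroup.zpowers σ
  have hG : Fintype.card G = N := by
    rw [← Nat.card_eq_fintype_card, Nat.card_zpowers, hord]
  have hfix1 : ∀ g : G, g ≠ 1 → ∀ q : Q, g • q = q ↔ q = q₁ := by
    intro g hg q
    have hgm : (g : Equiv.Perm Q) ∈ Subgroup.zpowers σ := g.2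
    rw [← mem_powers_iff_mem_zpowers] at hgm
    obtain ⟨n, hn⟩ := (Submonoid.mem_powers_iff _ _).1 hgm
    have hn' : σ ^ (n % N) = (g : Equiv.Perm Q) := by
      rw [← hn, ← hord, pow_mod_orderOf]
    have hpos : 0 < n % N := by
      rcases Nat.eq_zero_or_pos (n % N) with h0 | h0
      · exfalso
        apply hg
        apply Subtype.ext
        rw [← hn', h0, pow_zero]
        rfl
      · exact h0
    constructor
    · intro hq
      apply hsemi (n % N) hpos (Nat.mod_lt _ hN)
      rw [hn']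
      exact hq
    · rintro rfl
      show (g : Equiv.Perm Q) q = q
      rw [← hn']
      exact hpow _
  have hB := MulAction.sum_card_fixedBy_eq_card_orbits_mul_card_group G Q
  have hsum : ∑ g : G, Fintype.card (MulAction.fixedBy Q g) = Fintype.card Q + (N - 1) := by
    rw [← Finset.add_sum_erase Finset.univ _ (Finset.mem_univ (1 : G))]
    congr 1
    · apply Fintype.card_congr
      exact (Equiv.subtypeUnivEquiv (fun q => by simp [MulAction.mem_fixedBy]))
    · have : ∀ g ∈ Finset.univ.erase (1 : G), Fintype.card (MulAction.fixedBy Q g) = 1 := by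
        intro g hg
        have hg1 : g ≠ 1 := (Finset.mem_erase.1 hg).1
        rw [Fintype.card_eq_one_iff]
        refine ⟨⟨q₁, (hfix1 g hg1 q₁).2 rfl⟩, ?_⟩
        rintro ⟨q, hq⟩
        apply Subtype.ext
        exact (hfix1 g hg1 q).1 hq
      rw [Finset.sum_congr rfl this, Finset.sum_const, Finset.card_erase_of_mem (Finset.mem_univ _),
        Finset.card_univ, hG, smul_eq_mul, mul_one]
  rw [hsum, hG] at hB
  -- representatives
  have hrep : ∀ q : Q, ∃ i : ℕ, q = (σ ^ i)
      ((Quotient.mk'' q : MulAction.orbitRel.Quotient G Q).out) := by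
    intro q
    have h1 : (Quotient.mk'' ((Quotient.mk'' q : MulAction.orbitRel.Quotient G Q).out) :
        MulAction.orbitRel.Quotient G Q) = Quotient.mk'' q := Quotient.out_eq' _
    have h2 := Quotient.exact' h1
    rw [MulAction.orbitRel_apply] at h2
    obtain ⟨g, hg⟩ := h2
    have hgm : ((g⁻¹ : G) : Equiv.Perm Q) ∈ Subgroup.zpowers σ := (g⁻¹).2
    rw [← mem_powers_iff_mem_zpowers] at hgm
    obtain ⟨n, hn⟩ := (Submonoid.mem_powers_iff _ _).1 hgm
    refine ⟨n, ?_⟩
    rw [hn, ← hg]
    show q = (g⁻¹ : G) • (g • q)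
    rw [smul_smul, inv_mul_cancel, one_smul]
  have hout1 : (Quotient.mk'' q₁ : MulAction.orbitRel.Quotient G Q).out = q₁ := by
    obtain ⟨i, hi⟩ := hrep q₁
    have h1 : (σ ^ i)⁻¹ q₁ = (Quotient.mk'' q₁ : MulAction.orbitRel.Quotient G Q).out := by
      rw [Equiv.Perm.inv_eq_iff_eq]
      exact hi
    rw [← h1, Equiv.Perm.inv_eq_iff_eq, hpow]
  let Rall : Finset Q := Finset.univ.image (fun ω : MulAction.orbitRel.Quotient G Q => ω.out)
  have hRall : Rall.card = Fintype.card (MulAction.orbitRel.Quotient G Q) := by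
    rw [Finset.card_image_of_injective _ (fun a b h => by
      have := congrArg (Quotient.mk'' : Q → MulAction.orbitRel.Quotient G Q) h
      simpa using this), Finset.card_univ]
  have hq₁R : q₁ ∈ Rall := by
    rw [← hout1]
    exact Finset.mem_image_of_mem _ (Finset.mem_univ _)
  refine ⟨Rall.erase q₁, ?_, ?_⟩
  · intro q hq
    obtain ⟨i, hi⟩ := hrep q
    refine ⟨_, ?_, i, hi⟩
    rw [Finset.mem_erase]
    refine ⟨?_, Finset.mem_image_of_mem _ (Finset.mem_univ _)⟩
    intro h
    apply hq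
    rw [hi, h, hpow]
  · rw [Finset.card_erase_of_mem hq₁R, hRall]
    have hpos : 0 < Fintype.card (MulAction.orbitRel.Quotient G Q) := by
      rw [← hRall]
      exact Finset.card_pos.2 ⟨q₁, hq₁R⟩
    set k := Fintype.card (MulAction.orbitRel.Quotient G Q) with hk
    obtain ⟨k', hk'⟩ : ∃ k', k = k' + 1 := ⟨k - 1, by omega⟩
    rw [hk'] at hB ⊢
    simp only [Nat.add_sub_cancel]
    have : (k' + 1) * N = N * k' + N := by ring
    rw [this] at hB
    omega

end Orbits2

section Count

variable {L : Type*} [Field L] {W : Type*} [AddCommGroup W] [Module L W]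
variable {E : Type*} [Group E] [Fintype E]
variable {ρ : E →* Module.End L W} {X : (Module.End L W)ˣ} {τ : E ≃* E}

theorem Av_mem_commutant (a : Module.End L W) : Av ρ a ∈ commutant ρ :=
  fun e => rho_mul_Av ρ e a

theorem Twists.Av_mem_cent (hX : Twists ρ X τ) {a : Module.End L W} (ha : a ∈ cent X) :
    Av ρ a ∈ cent X := by
  rw [mem_cent]
  have h1 := hX.Av_conj a
  rw [conj_of_mem_cent ha] at h1
  calc (X : Module.End L W) * Av ρ a
      = (X : Module.End L W) * Av ρ a * (((X⁻¹ : (Module.End L W)ˣ) : Module.End L W) *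
          (X : Module.End L W)) := by rw [Units.inv_mul, mul_one]
    _ = ((X : Module.End L W) * Av ρ a * ((X⁻¹ : (Module.End L W)ˣ) : Module.End L W)) *
          (X : Module.End L W) := by simp only [mul_assoc]
    _ = Av ρ a * (X : Module.End L W) := by rw [← h1]

theorem coef_one (a : Module.End L W) : coef ρ 1 a = Av ρ a := by
  unfold coef
  rw [inv_one, map_one, one_mul]

/-- The refined analysis map. -/
noncomputable def analysis2 (hX : Twists ρ X τ) (R : Finset E) :
    cent X →ₗ[L] (↥(commutant ρ ⊓ cent X)) × (R → commutant ρ) where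
  toFun := fun a => (⟨Av ρ (a : Module.End L W),
    ⟨Av_mem_commutant _, hX.Av_mem_cent a.2⟩⟩, analysis ρ X R a)
  map_add' := by
    intro a b
    apply Prod.ext
    · apply Subtype.ext
      simp [Av_add]
    · simp
  map_smul' := by
    intro c a
    apply Prod.ext
    · apply Subtype.ext
      simp [Av_smul]
    · simp

theorem Twists.analysis2_injective (h : Hyp ρ) (hE : (Fintype.card E : L) ≠ 0)
    (hX : Twists ρ X τ) (R : Finset E)
    (hR : ∀ e : E, e ∉ scalSubgroup ρ →
      ∃ e₀ ∈ R, ∃ i : ℕ, ∃ t ∈ scalSubgroup ρ, e = (τ ^ i) e₀ * t) :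
    Function.Injective (analysis2 hX R) := by
  rw [← LinearMap.ker_eq_bot, LinearMap.ker_eq_bot']
  intro a ha
  apply Subtype.ext
  show (a : Module.End L W) = 0
  have ha1 : Av ρ (a : Module.End L W) = 0 := by
    have := congrArg (fun z => ((z.1 : ↥(commutant ρ ⊓ cent X)) : Module.End L W)) ha
    exact this
  have ha2 : analysis ρ X R a = 0 := congrArg Prod.snd ha
  apply h.eq_zero_of_coef_eq_zero hE
  intro e
  by_cases he : e ∈ scalSubgroup ρ
  · have h1 : coef ρ (1 * e) (a : Module.End L W) = 0 := by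
      apply coef_mul_scal_eq_zero he
      rw [coef_one]
      exact ha1
    rwa [one_mul] at h1
  · obtain ⟨e₀, he₀, i, t, ht, rfl⟩ := hR e he
    apply coef_mul_scal_eq_zero ht
    apply hX.coef_pow_tau_eq_zero a.2
    have h1 := congrFun ha2 ⟨e₀, he₀⟩
    exact congrArg Subtype.val h1

theorem Twists.refined_count [FiniteDimensional L W] (h : Hyp ρ) (hE : (Fintype.card E : L) ≠ 0)
    (hX : Twists ρ X τ) (p k : ℕ) (hp : p.Prime) (hk : 1 ≤ k) (hXN : X ^ (p ^ k) = 1)
    (hfpf : ∀ e, ((τ ^ (p ^ (k - 1))) e)⁻¹ * e ∈ scalSubgroup ρ → e ∈ scalSubgroup ρ)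
    (hschur : Module.finrank L ↥(commutant ρ ⊓ cent X) ≤ 1) :
    p ^ k * Module.finrank L (cent X) + Module.finrank L (commutant ρ) ≤
      p ^ k + (scalSubgroup ρ).index * Module.finrank L (commutant ρ) := by
  classical
  haveI : Fintype (E ⧸ scalSubgroup ρ) := Fintype.ofFinite _
  have hidx : (scalSubgroup ρ).index = Fintype.card (E ⧸ scalSubgroup ρ) := by
    rw [Subgroup.index_eq_card, Nat.card_eq_fintype_card]
  set N := p ^ k with hN
  have hNpos : 0 < N := pos_of_ne_zero (pow_ne_zero _ hp.ne_zero)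
  have hσN : tauBar hX ^ N = 1 := hX.tauBar_pow_eq_one N hXN
  have hq₁ : tauBar hX (QuotientGroup.mk 1) = QuotientGroup.mk 1 := by
    rw [tauBar_mk, map_one]
  have hsemi : ∀ i, 0 < i → i < N → ∀ q, (tauBar hX ^ i) q = q → q = QuotientGroup.mk 1 := by
    intro i hi hiN q hq
    have hp1 : Function.IsPeriodicPt (tauBar hX) i q := by
      show (tauBar hX)^[i] q = q
      rw [Equiv.Perm.iterate_eq_pow]; exact hq
    have hp2 : Function.IsPeriodicPt (tauBar hX) N q := by
      show (tauBar hX)^[N] q = q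
      rw [Equiv.Perm.iterate_eq_pow, hσN]; rfl
    have hp3 := hp1.gcd hp2
    obtain ⟨a, ha, hga⟩ := (Nat.dvd_prime_pow hp).1 (Nat.gcd_dvd_right i N)
    have hak : a < k := by
      rcases lt_or_eq_of_le ha with h1 | h1
      · exact h1
      · exfalso
        have h2 : Nat.gcd i N ≤ i := Nat.le_of_dvd hi (Nat.gcd_dvd_left i N)
        rw [hga, h1] at h2
        omega
    have hp4 : Function.IsPeriodicPt (tauBar hX) (p ^ (k - 1)) q := by
      apply hp3.trans_dvd
      rw [hga]
      exact pow_dvd_pow p (by omega)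
    have hp5 : (tauBar hX ^ (p ^ (k - 1))) q = q := by
      rw [← Equiv.Perm.iterate_eq_pow]; exact hp4
    induction q using Quotient.inductionOn' with
    | h e =>
      change (tauBar hX ^ (p ^ (k - 1))) (QuotientGroup.mk e) = QuotientGroup.mk e at hp5
      rw [tauBar_pow_mk, QuotientGroup.eq] at hp5
      have := hfpf e hp5
      show (QuotientGroup.mk e : E ⧸ scalSubgroup ρ) = QuotientGroup.mk 1
      rw [QuotientGroup.eq]
      have h2 := (scalSubgroup ρ).inv_mem this
      simpa using h2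
  obtain ⟨RQ, hRQ, hcard⟩ := exists_reps_semiregular (tauBar hX) N hNpos hσN _ hq₁ hsemi
  rw [← hidx] at hcard
  have hcover : ∀ e : E, e ∉ scalSubgroup ρ →
      ∃ e₀ ∈ RQ.image Quotient.out, ∃ i : ℕ, ∃ t ∈ scalSubgroup ρ, e = (τ ^ i) e₀ * t := by
    intro e he
    have hne : (QuotientGroup.mk e : E ⧸ scalSubgroup ρ) ≠ QuotientGroup.mk 1 := by
      intro h1
      apply he
      rw [QuotientGroup.eq] at h1
      have h2 := (scalSubgroup ρ).inv_mem h1
      simpa using h2
    obtain ⟨q₀, hq₀, i, hi⟩ := hRQ (QuotientGroup.mk e) hne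
    refine ⟨Quotient.out q₀, Finset.mem_image_of_mem _ hq₀, i,
      ((τ ^ i) (Quotient.out q₀))⁻¹ * e, ?_, by group⟩
    rw [← QuotientGroup.eq, ← tauBar_pow_mk hX, QuotientGroup.out_eq']
    exact hi.symm
  have h1 := LinearMap.finrank_le_finrank_of_injective
    (hX.analysis2_injective h hE _ hcover)
  rw [Module.finrank_prod, Module.finrank_pi_fintype, Finset.sum_const, Finset.card_univ,
    smul_eq_mul, Fintype.card_coe] at h1
  have h2 : (RQ.image Quotient.out).card ≤ RQ.card := Finset.card_image_le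
  set C := Module.finrank L (cent X)
  set c₀ := Module.finrank L (commutant ρ)
  set I := (scalSubgroup ρ).index
  have h3 : C ≤ 1 + RQ.card * c₀ :=
    h1.trans (Nat.add_le_add hschur (Nat.mul_le_mul_right _ h2))
  calc N * C + c₀ ≤ N * (1 + RQ.card * c₀) + c₀ := by
        apply Nat.add_le_add_right (Nat.mul_le_mul_left _ h3)
    _ = N + (N * RQ.card + 1) * c₀ := by ring
    _ = N + I * c₀ := by rw [hcard]

end Count

section Irr

variable {L : Type*} [Field L] [IsAlgClosed L] {W : Type*} [AddCommGroup W] [Module L W]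
  [FiniteDimensional L W]
variable {E : Type*} [Group E] [Fintype E]
variable {ρ : E →* Module.End L W} {X : (Module.End L W)ˣ} {τ : E ≃* E}

/-- irreducibility under `ρ E` and `X` -/
def IrrEX (ρ : E →* Module.End L W) (X : (Module.End L W)ˣ) : Prop :=
  ∀ U : Submodule L W, (∀ e, ∀ w ∈ U, ρ e w ∈ U) → (∀ w ∈ U, (X : Module.End L W) w ∈ U) →
    U = ⊥ ∨ U = ⊤

theorem schur_finrank_le_one [Nontrivial W] (hirr : IrrEX ρ X) :
    Module.finrank L ↥(commutant ρ ⊓ cent X) ≤ 1 := by
  have hle : commutant ρ ⊓ cent X ≤ Submodule.span L {(1 : Module.End L W)} := by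
    intro a ha
    obtain ⟨ha1, ha2⟩ := ha
    obtain ⟨c, hc⟩ := Module.End.exists_eigenvalue a
    have hU : a.eigenspace c ≠ ⊥ := hc
    have hmem : ∀ w, w ∈ a.eigenspace c ↔ a w = c • w := fun w => Module.End.mem_eigenspace_iff
    have hi1 : ∀ e, ∀ w ∈ a.eigenspace c, ρ e w ∈ a.eigenspace c := by
      intro e w hw
      rw [hmem] at hw ⊢
      have := congrArg (fun φ : Module.End L W => φ w) (mem_commutant.1 ha1 e)
      simp only [Module.End.mul_apply] at this
      rw [← this, hw, map_smul]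
    have hi2 : ∀ w ∈ a.eigenspace c, (X : Module.End L W) w ∈ a.eigenspace c := by
      intro w hw
      rw [hmem] at hw ⊢
      have := congrArg (fun φ : Module.End L W => φ w) (mem_cent.1 ha2)
      simp only [Module.End.mul_apply] at this
      rw [← this, hw, map_smul]
    have h1 : a.eigenspace c = ⊤ := by
      rcases hirr (a.eigenspace c) hi1 hi2 with h | h
      · exact absurd h hU
      · exact h
    rw [Submodule.mem_span_singleton]
    refine ⟨c, ?_⟩
    apply LinearMap.ext
    intro w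
    have hw : w ∈ a.eigenspace c := by rw [h1]; trivial
    rw [hmem] at hw
    rw [hw]
    rfl
  refine (Submodule.finrank_mono hle).trans ?_
  rw [finrank_span_singleton (one_ne_zero)]

theorem centE_sub_one (X : (Module.End L W)ˣ) :
    centE ((X : Module.End L W) - 1) = cent X := by
  ext a
  show ((X : Module.End L W) - 1) * a = a * ((X : Module.End L W) - 1) ↔
    (X : Module.End L W) * a = a * (X : Module.End L W)
  rw [sub_mul, mul_sub, one_mul, mul_one, sub_left_inj]

theorem pow_finrank_eq_zero_of_nilpotent (u : Module.End L W) (s : ℕ) (hs : u ^ s = 0) :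
    u ^ (Module.finrank L W) = 0 := by
  have hnil : IsNilpotent u := ⟨s, hs⟩
  have h1 := LinearMap.aeval_self_charpoly u
  rw [IsNilpotent.charpoly_eq_X_pow_finrank hnil] at h1
  simpa using h1

theorem arith_core (N C c₀ I D s : ℕ) (A1 : N * C + c₀ ≤ N + I * c₀) (A2 : I * c₀ ≤ D ^ 2)
    (A3 : 1 ≤ c₀) (A5 : D ^ 2 ≤ s * C) (A6 : s ≤ D) (hs1 : 1 ≤ s) (hsN : s < N) (hI : 1 < I) :
    s + 1 = N ∧ I = s ^ 2 := by
  obtain ⟨m, rfl⟩ : ∃ m, N = s + m := ⟨N - s, by omega⟩
  have hm : 1 ≤ m := by omega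
  have hDC : D ≤ C := by
    have h1 : s * D ≤ s * C := by
      calc s * D ≤ D * D := Nat.mul_le_mul_right _ A6
        _ = D ^ 2 := (sq D).symm
        _ ≤ s * C := A5
    exact Nat.le_of_mul_le_mul_left h1 hs1
  have hB : m * C + c₀ ≤ s + m := by
    have h1 : (s + m) * C + c₀ ≤ s + m + s * C := by
      calc (s + m) * C + c₀ ≤ s + m + I * c₀ := A1
        _ ≤ s + m + D ^ 2 := Nat.add_le_add_left A2 _
        _ ≤ s + m + s * C := Nat.add_le_add_left A5 _
    have h2 : (s + m) * C = s * C + m * C := by ring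
    omega
  have hsC : s ≤ C := A6.trans hDC
  have hms : m * s ≤ m * C := Nat.mul_le_mul_left _ hsC
  rcases Nat.lt_or_ge 1 s with hs2 | hs2
  · -- s ≥ 2 forces m = 1
    have hm1 : m = 1 := by
      by_contra hne
      have hm2 : 2 ≤ m := by omega
      have : 2 * 2 ≤ m * s := Nat.mul_le_mul hm2 hs2
      nlinarith
    subst hm1
    refine ⟨rfl, ?_⟩
    simp only [one_mul] at hB hms
    have hCs : C = s := by omega
    have hc1 : c₀ = 1 := by omega
    have hDs : D = s := by omega
    subst hc1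
    rw [hCs] at A1
    rw [hDs] at A2
    simp only [mul_one] at A1 A2
    have h3 : (s + 1) * s = s ^ 2 + s := by ring
    have h4 : s ^ 2 ≤ I := by omega
    omega
  · -- s = 1
    have hs' : s = 1 := by omega
    subst hs'
    exfalso
    have hC1 : m * C ≤ m := by omega
    have hC : C ≤ 1 := by
      have : m * C ≤ m * 1 := by simpa using hC1
      exact Nat.le_of_mul_le_mul_left this hm
    have hD1 : D = 1 := by omega
    rw [hD1] at A2
    have : I * 1 ≤ I * c₀ := Nat.mul_le_mul_left _ A3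
    simp at A2
    omega

/-- **Theorem C**, irreducible case. -/
theorem thmC_irr [Nontrivial W] (h : Hyp ρ) (hE : (Fintype.card E : L) ≠ 0)
    (hX : Twists ρ X τ) (hirr : IrrEX ρ X) (p k : ℕ) (hp : p.Prime) (hk : 1 ≤ k)
    (hXN : X ^ (p ^ k) = 1) (hnil : ((X : Module.End L W) - 1) ^ (p ^ k) = 0)
    (hfpf : ∀ e, ((τ ^ (p ^ (k - 1))) e)⁻¹ * e ∈ scalSubgroup ρ → e ∈ scalSubgroup ρ)
    (hI : 1 < (scalSubgroup ρ).index) :
    ((X : Module.End L W) - 1) ^ (p ^ k - 1) ≠ 0 ∨
      (((X : Module.End L W) - 1) ^ (p ^ k - 2) ≠ 0 ∧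
        (scalSubgroup ρ).index = (p ^ k - 1) ^ 2) := by
  classical
  set u : Module.End L W := (X : Module.End L W) - 1 with hu
  set N := p ^ k with hN
  have hex : ∃ s, u ^ s = 0 := ⟨N, hnil⟩
  set s := Nat.find hex with hs
  have hus : u ^ s = 0 := Nat.find_spec hex
  have hmin : ∀ j, j < s → u ^ j ≠ 0 := fun j hj => Nat.find_min hex hj
  have hsN : s ≤ N := Nat.find_min' hex hnil
  have hs1 : 1 ≤ s := by
    by_contra h0
    have h0' : s = 0 := by omega
    rw [h0', pow_zero] at hus
    exact one_ne_zero hus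
  have A5 := sq_finrank_le_mul_finrank_centE s u hus
  rw [hu, centE_sub_one] at A5
  have A6 : s ≤ Module.finrank L W := by
    by_contra hlt
    push Not at hlt
    exact hmin _ hlt (pow_finrank_eq_zero_of_nilpotent u s hus)
  have A1 := hX.refined_count h hE p k hp hk hXN hfpf (schur_finrank_le_one hirr)
  have A2 := h.index_mul_finrank_le hE
  have A3 : 1 ≤ Module.finrank L (commutant ρ) := by
    rw [Submodule.one_le_finrank_iff]
    intro hbot
    have h1 : (1 : Module.End L W) ∈ commutant ρ := by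
      intro e
      rw [mul_one, one_mul]
    rw [hbot, Submodule.mem_bot] at h1
    exact one_ne_zero h1
  rcases Nat.lt_or_ge s N with hlt | hge
  · right
    obtain ⟨h1, h2⟩ := arith_core N _ _ _ _ s A1 A2 A3 A5 A6 hs1 hlt hI
    constructor
    · apply hmin
      omega
    · rw [h2]
      congr 1
      omega
  · left
    apply hmin
    omega

end Irr

section General

variable {L : Type*} [Field L] [IsAlgClosed L] {W : Type*} [AddCommGroup W] [Module L W]
  [FiniteDimensional L W]
variable {E : Type*} [Group E] [Fintype E]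
variable {ρ : E →* Module.End L W} {X : (Module.End L W)ˣ} {τ : E ≃* E}

theorem resUnit_sub_one_pow_apply (U : Submodule L W)
    (hU : ∀ w ∈ U, (X : Module.End L W) w ∈ U)
    (hU' : ∀ w ∈ U, ((X⁻¹ : (Module.End L W)ˣ) : Module.End L W) w ∈ U) (j : ℕ) (w : U) :
    ((((((resUnit X U hU hU' : (Module.End L U)ˣ) : Module.End L U) - 1) ^ j) w : U) : W) =
      (((X : Module.End L W) - 1) ^ j) (w : W) := by
  induction j with
  | zero => simp
  | succ j ih =>
    rw [pow_succ', Module.End.mul_apply, LinearMap.sub_apply, Submodule.coe_sub, resUnit_apply,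
      Module.End.one_apply, ih, pow_succ', Module.End.mul_apply, LinearMap.sub_apply,
      Module.End.one_apply]

theorem resUnit_pow_apply (U : Submodule L W)
    (hU : ∀ w ∈ U, (X : Module.End L W) w ∈ U)
    (hU' : ∀ w ∈ U, ((X⁻¹ : (Module.End L W)ˣ) : Module.End L W) w ∈ U) (j : ℕ) (w : U) :
    (((((resUnit X U hU hU' : (Module.End L U)ˣ) ^ j : (Module.End L U)ˣ) : Module.End L U) w :
      U) : W) = ((X ^ j : (Module.End L W)ˣ) : Module.End L W) (w : W) := by
  induction j with
  | zero => simp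
  | succ j ih =>
    rw [pow_succ', Units.val_mul, Module.End.mul_apply, resUnit_apply, ih, pow_succ',
      Units.val_mul, Module.End.mul_apply]

/-- **Theorem C.** -/
theorem thmC (h : Hyp ρ) (hE : (Fintype.card E : L) ≠ 0)
    (hX : Twists ρ X τ) (p k : ℕ) (hp : p.Prime) (hk : 1 ≤ k)
    (hXN : X ^ (p ^ k) = 1) (hnil : ((X : Module.End L W) - 1) ^ (p ^ k) = 0)
    (hfpf : ∀ e, ((τ ^ (p ^ (k - 1))) e)⁻¹ * e ∈ scalSubgroup ρ → e ∈ scalSubgroup ρ)
    (hI : 1 < (scalSubgroup ρ).index) :
    ((X : Module.End L W) - 1) ^ (p ^ k - 1) ≠ 0 ∨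
      (((X : Module.End L W) - 1) ^ (p ^ k - 2) ≠ 0 ∧
        (scalSubgroup ρ).index = (p ^ k - 1) ^ 2) := by
  classical
  set N := p ^ k with hN
  have hNpos : 0 < N := pos_of_ne_zero (pow_ne_zero _ hp.ne_zero)
  -- the set of invariant nonzero submodules
  let 𝒮 : Set (Submodule L W) := {U | U ≠ ⊥ ∧ (∀ e, ∀ w ∈ U, ρ e w ∈ U) ∧
    (∀ w ∈ U, (X : Module.End L W) w ∈ U)}
  have htop : (⊤ : Submodule L W) ∈ 𝒮 := by
    refine ⟨?_, fun _ _ _ => trivial, fun _ _ => trivial⟩
    intro htb
    -- `W` trivial forces index one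
    have hsub : ∀ w : W, w = 0 := by
      intro w
      have : w ∈ (⊤ : Submodule L W) := trivial
      rw [htb] at this
      exact (Submodule.mem_bot L).1 this
    have hall : scalSubgroup ρ = ⊤ := by
      rw [eq_top_iff]
      intro e _
      refine ⟨0, ?_⟩
      apply LinearMap.ext
      intro w
      rw [hsub (ρ e w), hsub ((algebraMap L (Module.End L W) 0) w)]
    rw [hall, Subgroup.index_top] at hI
    exact lt_irrefl _ hI
  obtain ⟨U, hU𝒮, hUmin⟩ := WellFounded.has_min
    (measure (fun U : Submodule L W => Module.finrank L U)).wf 𝒮 ⟨⊤, htop⟩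
  obtain ⟨hUne, hUE, hUX⟩ := hU𝒮
  have hXinv : ((X⁻¹ : (Module.End L W)ˣ) : Module.End L W) = (X : Module.End L W) ^ (N - 1) := by
    have h1 : X⁻¹ = X ^ (N - 1) := by
      apply inv_eq_of_mul_eq_one_right
      rw [← pow_succ', Nat.sub_add_cancel hNpos, hXN]
    rw [h1, Units.val_pow_eq_pow_val]
  have hUpow : ∀ j : ℕ, ∀ w ∈ U, ((X : Module.End L W) ^ j) w ∈ U := by
    intro j
    induction j with
    | zero => intro w hw; simpa using hw
    | succ j ih =>
      intro w hw
      rw [pow_succ', Module.End.mul_apply]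
      exact hUX _ (ih w hw)
  have hUX' : ∀ w ∈ U, ((X⁻¹ : (Module.End L W)ˣ) : Module.End L W) w ∈ U := by
    intro w hw
    rw [hXinv]
    exact hUpow _ w hw
  set ρ' := resRep ρ U hUE with hρ'
  set X' := resUnit X U hUX hUX' with hX'
  obtain ⟨w₀, hw₀U, hw₀⟩ := (Submodule.ne_bot_iff _).1 hUne
  haveI : Nontrivial U := by
    refine ⟨⟨⟨w₀, hw₀U⟩, 0, ?_⟩⟩
    intro h
    exact hw₀ (congrArg Subtype.val h)
  -- scalars
  have hscal_down : ∀ e, IsScal (ρ e) → IsScal (ρ' e) := by
    rintro e ⟨c, hc⟩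
    refine ⟨c, ?_⟩
    apply LinearMap.ext
    intro w
    apply Subtype.ext
    rw [resRep_apply, hc]
    rfl
  have hone_up : ∀ g, IsScal (ρ g) → ρ' g = 1 → ρ g = 1 := by
    rintro g ⟨d, hd⟩ h1
    have h2 := congrArg (fun φ : Module.End L U => ((φ ⟨w₀, hw₀U⟩ : U) : W)) h1
    simp only [Module.End.one_apply] at h2
    rw [hρ', resRep_apply, hd, Module.algebraMap_end_apply] at h2
    have h3 : (d - 1) • w₀ = 0 := by rw [sub_smul, h2, one_smul, sub_self]
    rcases smul_eq_zero.1 h3 with h4 | h4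
    · rw [hd, sub_eq_zero.1 h4, map_one]
    · exact absurd h4 hw₀
  have hscal_up : ∀ e, IsScal (ρ' e) → IsScal (ρ e) := by
    intro e he
    apply h.nd
    intro f
    apply hone_up _ (h.scal e f)
    rw [commutatorElement_def, map_mul, map_mul, map_mul, he.commute (ρ' f), mul_assoc (ρ' f),
      rho_mul_inv, mul_one, rho_mul_inv]
  have hHyp : Hyp ρ' := by
    constructor
    · intro e f
      exact hscal_down _ (h.scal e f)
    · intro e he
      apply hscal_down
      apply h.nd
      intro f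
      exact hone_up _ (h.scal e f) (he f)
  have hS : scalSubgroup ρ' = scalSubgroup ρ := by
    ext e
    exact ⟨hscal_up e, hscal_down e⟩
  have hTw : Twists ρ' X' τ := by
    intro e
    apply LinearMap.ext
    intro w
    apply Subtype.ext
    have := congrArg (fun φ : Module.End L W => φ (w : W)) (hX e)
    simp only [Module.End.mul_apply] at this
    simp only [Module.End.mul_apply, resUnit_apply, resRep_apply, hX', hρ']
    exact this
  have hXN' : X' ^ N = 1 := by
    apply Units.ext
    apply LinearMap.ext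
    intro w
    apply Subtype.ext
    rw [hX', resUnit_pow_apply, hXN]
    rfl
  have hnil' : ((X' : Module.End L U) - 1) ^ N = 0 := by
    apply LinearMap.ext
    intro w
    apply Subtype.ext
    rw [hX', resUnit_sub_one_pow_apply, hnil]
    rfl
  have hirr : IrrEX ρ' X' := by
    intro U' hU'E hU'X
    by_cases hb : U' = ⊥
    · exact Or.inl hb
    right
    let U'' : Submodule L W := U'.map U.subtype
    have hle : U'' ≤ U := by
      rintro _ ⟨v, _, rfl⟩
      exact v.2
    have hU''𝒮 : U'' ∈ 𝒮 := by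
      refine ⟨?_, ?_, ?_⟩
      · intro h0
        apply hb
        rw [eq_bot_iff]
        intro v hv
        have h1 : (v : W) ∈ U'' := ⟨v, hv, rfl⟩
        rw [h0, Submodule.mem_bot] at h1
        rw [Submodule.mem_bot]
        exact Subtype.ext h1
      · rintro e _ ⟨v, hv, rfl⟩
        exact ⟨ρ' e v, hU'E e v hv, rfl⟩
      · rintro _ ⟨v, hv, rfl⟩
        exact ⟨(X' : Module.End L U) v, hU'X v hv, rfl⟩
    have h1 : ¬ Module.finrank L U'' < Module.finrank L U := hUmin U'' hU''𝒮
    have h2 : U'' = U := Submodule.eq_of_le_of_finrank_le hle (not_lt.1 h1)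
    rw [eq_top_iff]
    intro v _
    have h3 : (v : W) ∈ U'' := by rw [h2]; exact v.2
    obtain ⟨v', hv', hvv'⟩ := h3
    have : v' = v := Subtype.ext hvv'
    rw [← this]
    exact hv'
  have hfpf' : ∀ e, ((τ ^ (p ^ (k - 1))) e)⁻¹ * e ∈ scalSubgroup ρ' → e ∈ scalSubgroup ρ' := by
    rw [hS]
    exact hfpf
  have hI' : 1 < (scalSubgroup ρ').index := by rw [hS]; exact hI
  have hE' : (Fintype.card E : L) ≠ 0 := hE
  have hup : ∀ j : ℕ, ((X' : Module.End L U) - 1) ^ j ≠ 0 → ((X : Module.End L W) - 1) ^ j ≠ 0 := by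
    intro j hj h0
    apply hj
    apply LinearMap.ext
    intro w
    apply Subtype.ext
    rw [hX', resUnit_sub_one_pow_apply, h0]
    rfl
  rcases thmC_irr hHyp hE' hTw hirr p k hp hk hXN' hnil' hfpf' hI' with h1 | ⟨h1, h2⟩
  · exact Or.inl (hup _ h1)
  · exact Or.inr ⟨hup _ h1, by rw [← hS]; exact h2⟩

end General

end Cfsg.Agent.Lib.Helper56.HH
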