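import Mathlib

/-!
# A Hall–Higman / Shult type fixed vector theorem (coprime case), linear algebra core

`E` is a finite group acting on a finite dimensional space `W` over an algebraically closed
field `L` through `ρ : E →* End W`, all commutators acting as scalars, nondegenerately.
`X` is an operator of prime order `r` normalizing `ρ E`, acting without fixed points on
`E` modulo the scalar subgroup.  If `X` has no nonzero fixed vector then
`|E / S| ≤ (r - 1)^2` and `r ∣ |E / S| - 1`.
-/

set_option autoImplicit false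
set_option linter.unusedSectionVars false
set_option linter.style.haveILetI false

namespace Cfsg.Agent.Lib.Helper56.HH

open Module
open scoped commutatorElement

section Av

variable {L : Type*} [Field L] {W : Type*} [AddCommGroup W] [Module L W]
variable {E : Type*} [Group E]
variable (ρ : E →* Module.End L W)

/-- `a` is a scalar operator. -/
def IsScal (a : Module.End L W) : Prop := ∃ c : L, a = algebraMap L (Module.End L W) c

theorem IsScal.commute {a : Module.End L W} (h : IsScal a) (b : Module.End L W) : a * b = b * a := by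
  obtain ⟨c, rfl⟩ := h
  exact Algebra.commutes c b

theorem isScal_one : IsScal (1 : Module.End L W) := ⟨1, by simp⟩

theorem IsScal.mul {a b : Module.End L W} (ha : IsScal a) (hb : IsScal b) : IsScal (a * b) := by
  obtain ⟨c, rfl⟩ := ha
  obtain ⟨d, rfl⟩ := hb
  exact ⟨c * d, by simp⟩

theorem rho_mul_inv (e : E) : ρ e * ρ e⁻¹ = 1 := by
  rw [← map_mul, mul_inv_cancel, map_one]

theorem rho_inv_mul (e : E) : ρ e⁻¹ * ρ e = 1 := by
  rw [← map_mul, inv_mul_cancel, map_one]

variable [Fintype E]

/-- The averaging operator onto the commutant of `ρ E`. -/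
noncomputable def Av (a : Module.End L W) : Module.End L W :=
  (Fintype.card E : L)⁻¹ • ∑ f : E, ρ f * a * ρ f⁻¹

theorem Av_add (a b : Module.End L W) : Av ρ (a + b) = Av ρ a + Av ρ b := by
  unfold Av
  rw [← smul_add, ← Finset.sum_add_distrib]
  congr 1
  apply Finset.sum_congr rfl
  intro f _
  rw [mul_add, add_mul]

theorem Av_smul (c : L) (a : Module.End L W) : Av ρ (c • a) = c • Av ρ a := by
  unfold Av
  have h : ∀ f : E, ρ f * c • a * ρ f⁻¹ = c • (ρ f * a * ρ f⁻¹) := by
    intro f
    rw [mul_smul_comm, smul_mul_assoc]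
  simp only [h]
  rw [← Finset.smul_sum, smul_comm]

/-- `Av` as a linear map. -/
noncomputable def AvL : Module.End L W →ₗ[L] Module.End L W where
  toFun := Av ρ
  map_add' := Av_add ρ
  map_smul' := Av_smul ρ

@[simp] theorem AvL_apply (a : Module.End L W) : AvL ρ a = Av ρ a := rfl

theorem rho_mul_Av (e : E) (a : Module.End L W) : ρ e * Av ρ a = Av ρ a * ρ e := by
  unfold Av
  rw [mul_smul_comm, smul_mul_assoc, Finset.mul_sum, Finset.sum_mul]
  congr 1
  -- reindex f ↦ e * f on the left
  rw [← Equiv.sum_comp (Equiv.mulLeft e⁻¹) (fun f => ρ e * (ρ f * a * ρ f⁻¹))]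
  apply Finset.sum_congr rfl
  intro f _
  simp only [Equiv.coe_mulLeft]
  have h1 : ρ e * (ρ (e⁻¹ * f) * a * ρ (e⁻¹ * f)⁻¹) = ρ f * a * ρ f⁻¹ * ρ e := by
    rw [mul_inv_rev, inv_inv, map_mul, map_mul]
    simp only [← mul_assoc]
    rw [rho_mul_inv]
    simp
  exact h1

theorem Av_of_commute (hE : (Fintype.card E : L) ≠ 0) (b : Module.End L W)
    (hb : ∀ e, ρ e * b = b * ρ e) : Av ρ b = b := by
  unfold Av
  have : ∀ f : E, ρ f * b * ρ f⁻¹ = b := by
    intro f
    rw [hb f, mul_assoc, rho_mul_inv, mul_one]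
  simp only [this, Finset.sum_const, Finset.card_univ]
  rw [← Nat.cast_smul_eq_nsmul L, smul_smul, inv_mul_cancel₀ hE, one_smul]

theorem Av_mul_right (a b : Module.End L W) (hb : ∀ e, ρ e * b = b * ρ e) :
    Av ρ (a * b) = Av ρ a * b := by
  unfold Av
  rw [smul_mul_assoc, Finset.sum_mul]
  congr 1
  apply Finset.sum_congr rfl
  intro f _
  have := hb f⁻¹
  rw [mul_assoc (ρ f * a), this]
  simp only [mul_assoc]

end Av

section Fourier

variable {L : Type*} [Field L] {W : Type*} [AddCommGroup W] [Module L W]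
variable {E : Type*} [Group E]
variable (ρ : E →* Module.End L W)

/-- Hypotheses on the representation: commutators act as scalars, nondegenerately. -/
structure Hyp : Prop where
  scal : ∀ e f : E, IsScal (ρ ⁅e, f⁆)
  nd : ∀ e : E, (∀ f, ρ ⁅e, f⁆ = 1) → IsScal (ρ e)

/-- The subgroup of elements acting as scalars. -/
def scalSubgroup : Subgroup E where
  carrier := {e | IsScal (ρ e)}
  one_mem' := by
    show IsScal (ρ 1)
    rw [map_one]; exact isScal_one
  mul_mem' := by
    intro a b ha hb
    show IsScal (ρ (a * b))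
    rw [map_mul]; exact IsScal.mul ha hb
  inv_mem' := by
    intro a ha
    show IsScal (ρ a⁻¹)
    obtain ⟨c, hc⟩ := ha
    by_cases hc0 : c = 0
    · have h1 := rho_mul_inv ρ a
      rw [hc, hc0, map_zero, zero_mul] at h1
      refine ⟨0, ?_⟩
      rw [map_zero]
      calc ρ a⁻¹ = ρ a⁻¹ * 1 := (mul_one _).symm
        _ = 0 := by rw [← h1, mul_zero]
    refine ⟨c⁻¹, ?_⟩
    have h1 := rho_mul_inv ρ a
    rw [hc] at h1
    calc ρ a⁻¹ = (algebraMap L (Module.End L W) c⁻¹ * algebraMap L (Module.End L W) c) * ρ a⁻¹ := by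
          rw [← map_mul, inv_mul_cancel₀ hc0, map_one, one_mul]
      _ = algebraMap L (Module.End L W) c⁻¹ := by rw [mul_assoc, h1, mul_one]

theorem mem_scalSubgroup {e : E} : e ∈ scalSubgroup ρ ↔ IsScal (ρ e) := Iff.rfl

theorem rho_conj (f u : E) : ρ (f * u * f⁻¹) = ρ ⁅f, u⁆ * ρ u := by
  rw [← map_mul, commutatorElement_def]
  congr 1
  group

variable {ρ}

/-- conjugating a scalar by `ρ e` gives the same scalar -/
theorem IsScal.conj_rho {a : Module.End L W} (ha : IsScal a) (e : E) : ρ e * a * ρ e⁻¹ = a := by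
  rw [← ha.commute, mul_assoc, rho_mul_inv, mul_one]

theorem Hyp.comm_mul_left (h : Hyp ρ) (e f u : E) : ρ ⁅e * f, u⁆ = ρ ⁅e, u⁆ * ρ ⁅f, u⁆ := by
  have h1 : ⁅e * f, u⁆ = (e * ⁅f, u⁆ * e⁻¹) * ⁅e, u⁆ := by
    simp only [commutatorElement_def]; group
  rw [h1, map_mul, map_mul, map_mul, (h.scal f u).conj_rho e, (h.scal f u).commute]

theorem Hyp.comm_inv (e u : E) : ρ ⁅e, u⁆ * ρ ⁅u, e⁆ = 1 := by
  rw [← map_mul, ← commutatorElement_inv u e, inv_mul_cancel, map_one]

theorem Hyp.exists_ne_one (h : Hyp ρ) {u : E} (hu : ¬ IsScal (ρ u)) :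
    ∃ e₀ : E, ρ ⁅e₀, u⁆ ≠ 1 := by
  by_contra hcon
  push Not at hcon
  apply hu
  apply h.nd
  intro f
  have h1 := Hyp.comm_inv (ρ := ρ) u f
  rw [hcon f, mul_one] at h1
  exact h1

variable [Fintype E]

theorem Hyp.sum_comm_eq_zero (h : Hyp ρ) {u : E} (hu : ¬ IsScal (ρ u)) :
    ∑ f : E, ρ ⁅f, u⁆ = 0 := by
  obtain ⟨e₀, he₀⟩ := h.exists_ne_one hu
  obtain ⟨c, hc⟩ := h.scal e₀ u
  have hc1 : c ≠ 1 := by
    rintro rfl
    apply he₀
    rw [hc, map_one]
  set T := ∑ f : E, ρ ⁅f, u⁆ with hT
  have h1 : ρ ⁅e₀, u⁆ * T = T := by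
    rw [hT, Finset.mul_sum]
    rw [← Equiv.sum_comp (Equiv.mulLeft e₀) (fun f => ρ ⁅f, u⁆)]
    apply Finset.sum_congr rfl
    intro f _
    simp only [Equiv.coe_mulLeft]
    rw [h.comm_mul_left]
  rw [hc, Algebra.algebraMap_eq_smul_one, smul_mul_assoc, one_mul] at h1
  have h2 : (c - 1) • T = 0 := by rw [sub_smul, h1, one_smul, sub_self]
  rcases smul_eq_zero.1 h2 with h3 | h3
  · exact absurd (sub_eq_zero.1 h3) hc1
  · exact h3

theorem Hyp.Av_rho_of_not_scal (h : Hyp ρ) {u : E} (hu : ¬ IsScal (ρ u)) : Av ρ (ρ u) = 0 := by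
  unfold Av
  have h1 : ∀ f : E, ρ f * ρ u * ρ f⁻¹ = ρ ⁅f, u⁆ * ρ u := by
    intro f
    rw [← map_mul, ← map_mul, rho_conj]
  simp only [h1]
  rw [← Finset.sum_mul, h.sum_comm_eq_zero hu, zero_mul, smul_zero]

theorem Av_rho_of_scal (hE : (Fintype.card E : L) ≠ 0) {u : E} (hu : IsScal (ρ u)) :
    Av ρ (ρ u) = ρ u := by
  apply Av_of_commute ρ hE
  intro e
  exact (hu.commute _).symm

/-- The "Fourier coefficient" of `a` at `e`, an element of the commutant. -/
noncomputable def coef (ρ : E →* Module.End L W) (e : E) (a : Module.End L W) : Module.End L W :=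
  Av ρ (ρ e⁻¹ * a)

theorem coef_commute (e f : E) (a : Module.End L W) : ρ f * coef ρ e a = coef ρ e a * ρ f :=
  rho_mul_Av ρ f _

open Classical in
/-- Completeness of the Fourier decomposition. -/
theorem Hyp.sum_rho_mul_coef (h : Hyp ρ) (hE : (Fintype.card E : L) ≠ 0) (a : Module.End L W) :
    ∑ e : E, ρ e * coef ρ e a =
      ((Finset.univ.filter (fun f : E => IsScal (ρ f))).card : L) • a := by
  unfold coef
  have h1 : ∀ e : E, ρ e * Av ρ (ρ e⁻¹ * a) =
      (Fintype.card E : L)⁻¹ • ∑ f : E, (ρ e * ρ f * ρ e⁻¹) * a * ρ f⁻¹ := by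
    intro e
    unfold Av
    rw [mul_smul_comm, Finset.mul_sum]
    congr 1
  simp only [h1]
  rw [← Finset.smul_sum, Finset.sum_comm]
  have h2 : ∀ f : E, ∑ e : E, (ρ e * ρ f * ρ e⁻¹) * a * ρ f⁻¹ =
      (Fintype.card E : L) • (Av ρ (ρ f) * a * ρ f⁻¹) := by
    intro f
    unfold Av
    rw [← Finset.sum_mul, ← Finset.sum_mul, smul_mul_assoc, smul_mul_assoc, smul_smul,
      mul_inv_cancel₀ hE, one_smul]
  simp only [h2]
  rw [← Finset.smul_sum, smul_smul, inv_mul_cancel₀ hE, one_smul]
  have h3 : ∀ f : E, Av ρ (ρ f) * a * ρ f⁻¹ = if IsScal (ρ f) then a else 0 := by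
    intro f
    by_cases hf : IsScal (ρ f)
    · rw [if_pos hf, Av_rho_of_scal hE hf, hf.commute, mul_assoc, rho_mul_inv, mul_one]
    · rw [if_neg hf, h.Av_rho_of_not_scal hf, zero_mul, zero_mul]
  simp only [h3]
  rw [Finset.sum_ite, Finset.sum_const_zero, add_zero, Finset.sum_const,
    Nat.cast_smul_eq_nsmul]


open Classical in
theorem card_filter_isScal_ne_zero (hE : (Fintype.card E : L) ≠ 0) :
    ((Finset.univ.filter (fun f : E => IsScal (ρ f))).card : L) ≠ 0 := by
  have h1 : (Finset.univ.filter (fun f : E => IsScal (ρ f))).card = Nat.card (scalSubgroup ρ) := by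
    rw [Nat.card_eq_fintype_card, Fintype.card_subtype]
    rfl
  rw [h1]
  intro h0
  apply hE
  have h2 := (scalSubgroup ρ).card_mul_index
  rw [Nat.card_eq_fintype_card (α := E)] at h2
  rw [← h2, Nat.cast_mul, h0, zero_mul]

theorem Hyp.eq_zero_of_coef_eq_zero (h : Hyp ρ) (hE : (Fintype.card E : L) ≠ 0)
    {a : Module.End L W} (ha : ∀ e, coef ρ e a = 0) : a = 0 := by
  classical
  have h1 := h.sum_rho_mul_coef hE a
  simp only [ha, mul_zero, Finset.sum_const_zero] at h1
  rcases smul_eq_zero.1 h1.symm with h2 | h2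
  · exact absurd h2 (card_filter_isScal_ne_zero hE)
  · exact h2

variable (ρ) in
/-- The commutant of `ρ E`. -/
def commutant : Submodule L (Module.End L W) where
  carrier := {b | ∀ e, ρ e * b = b * ρ e}
  add_mem' := by
    intro a b ha hb e
    rw [mul_add, add_mul, ha e, hb e]
  zero_mem' := by
    intro e
    simp
  smul_mem' := by
    intro c a ha e
    rw [mul_smul_comm, smul_mul_assoc, ha e]

theorem coef_mem_commutant (e : E) (a : Module.End L W) : coef ρ e a ∈ commutant ρ :=
  fun f => coef_commute e f a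

theorem coef_add (e : E) (a b : Module.End L W) : coef ρ e (a + b) = coef ρ e a + coef ρ e b := by
  unfold coef
  rw [mul_add, Av_add]

theorem coef_smul (e : E) (c : L) (a : Module.End L W) : coef ρ e (c • a) = c • coef ρ e a := by
  unfold coef
  rw [mul_smul_comm, Av_smul]

theorem coef_sum {ι : Type*} (s : Finset ι) (e : E) (a : ι → Module.End L W) :
    coef ρ e (∑ i ∈ s, a i) = ∑ i ∈ s, coef ρ e (a i) := by
  classical
  induction s using Finset.induction_on with
  | empty =>
    simp only [Finset.sum_empty]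
    unfold coef Av
    simp
  | insert i s hi ih =>
    rw [Finset.sum_insert hi, Finset.sum_insert hi, coef_add, ih]

/-- coefficient extraction -/
theorem coef_rho_mul_of_mem (hE : (Fintype.card E : L) ≠ 0) (e₀ e : E)
    {b : Module.End L W} (hb : b ∈ commutant ρ) (hs : e₀⁻¹ * e ∈ scalSubgroup ρ) :
    coef ρ e₀ (ρ e * b) = ρ (e₀⁻¹ * e) * b := by
  unfold coef
  rw [← mul_assoc, ← map_mul, Av_mul_right ρ _ b hb, Av_rho_of_scal hE hs]

theorem Hyp.coef_rho_mul_of_not_mem (h : Hyp ρ) (e₀ e : E)
    {b : Module.End L W} (hb : b ∈ commutant ρ) (hs : e₀⁻¹ * e ∉ scalSubgroup ρ) :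
    coef ρ e₀ (ρ e * b) = 0 := by
  unfold coef
  rw [← mul_assoc, ← map_mul, Av_mul_right ρ _ b hb, h.Av_rho_of_not_scal hs, zero_mul]

omit [Fintype E] in
theorem mem_commutant {b : Module.End L W} : b ∈ commutant ρ ↔ ∀ e, ρ e * b = b * ρ e := Iff.rfl

theorem coef_zero (e : E) : coef ρ e (0 : Module.End L W) = 0 := by
  unfold coef Av
  simp

theorem out_inv_mul_out_mem_iff (q₀ q : E ⧸ scalSubgroup ρ) :
    (Quotient.out q₀)⁻¹ * Quotient.out q ∈ scalSubgroup ρ ↔ q₀ = q := by
  rw [← QuotientGroup.eq, QuotientGroup.out_eq', QuotientGroup.out_eq']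

/-- The Fourier synthesis map from families of commutant elements indexed by `E / S`. -/
noncomputable def synth (ρ : E →* Module.End L W) [Fintype (E ⧸ scalSubgroup ρ)] :
    ((E ⧸ scalSubgroup ρ) → commutant ρ) →ₗ[L] Module.End L W where
  toFun := fun b => ∑ q : E ⧸ scalSubgroup ρ, ρ (Quotient.out q) * (b q : Module.End L W)
  map_add' := by
    intro b c
    rw [← Finset.sum_add_distrib]
    apply Finset.sum_congr rfl
    intro q _
    rw [Pi.add_apply, Submodule.coe_add, mul_add]
  map_smul' := by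
    intro c b
    rw [RingHom.id_apply, Finset.smul_sum]
    apply Finset.sum_congr rfl
    intro q _
    rw [Pi.smul_apply, Submodule.coe_smul, mul_smul_comm]

theorem Hyp.coef_synth (h : Hyp ρ) (hE : (Fintype.card E : L) ≠ 0) [Fintype (E ⧸ scalSubgroup ρ)]
    (b : (E ⧸ scalSubgroup ρ) → commutant ρ) (q₀ : E ⧸ scalSubgroup ρ) :
    coef ρ (Quotient.out q₀) (synth ρ b) = (b q₀ : Module.End L W) := by
  classical
  show coef ρ (Quotient.out q₀) (∑ q : E ⧸ scalSubgroup ρ, ρ (Quotient.out q) * (b q : Module.End L W)) = _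
  rw [coef_sum]
  rw [Finset.sum_eq_single q₀]
  · rw [coef_rho_mul_of_mem hE _ _ (b q₀).2 ((out_inv_mul_out_mem_iff q₀ q₀).2 rfl),
      inv_mul_cancel, map_one, one_mul]
  · intro q _ hq
    apply h.coef_rho_mul_of_not_mem _ _ (b q).2
    rw [out_inv_mul_out_mem_iff]
    exact fun h => hq h.symm
  · intro hq
    exact absurd (Finset.mem_univ _) hq

theorem Hyp.synth_injective (h : Hyp ρ) (hE : (Fintype.card E : L) ≠ 0)
    [Fintype (E ⧸ scalSubgroup ρ)] : Function.Injective (synth ρ) := by
  rw [← LinearMap.ker_eq_bot, LinearMap.ker_eq_bot']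
  intro b hb
  funext q₀
  have h1 := h.coef_synth hE b q₀
  rw [hb, coef_zero] at h1
  apply Subtype.ext
  rw [← h1]
  rfl

theorem Hyp.index_mul_finrank_le [FiniteDimensional L W] (h : Hyp ρ)
    (hE : (Fintype.card E : L) ≠ 0) :
    (scalSubgroup ρ).index * Module.finrank L (commutant ρ) ≤ (Module.finrank L W) ^ 2 := by
  classical
  haveI : Fintype (E ⧸ scalSubgroup ρ) := Fintype.ofFinite _
  have h1 := LinearMap.finrank_le_finrank_of_injective (h.synth_injective hE)
  rw [Module.finrank_pi_fintype, Finset.sum_const, Finset.card_univ, smul_eq_mul,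
    Module.finrank_linearMap, ← Nat.card_eq_fintype_card] at h1
  rw [sq]
  exact h1


end Fourier

section CentE

variable {L : Type*} [Field L] {W : Type*} [AddCommGroup W] [Module L W]


/-- The centralizer of `f` in `End W`, as a submodule. -/
def centE (f : Module.End L W) : Submodule L (Module.End L W) where
  carrier := {a | f * a = a * f}
  add_mem' := by
    intro a b ha hb
    show _ * (a + b) = (a + b) * _
    rw [mul_add, add_mul, ha, hb]
  zero_mem' := by
    show _ * (0 : Module.End L W) = 0 * _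
    simp
  smul_mem' := by
    intro c a ha
    show _ * (c • a) = (c • a) * _
    rw [mul_smul_comm, smul_mul_assoc, ha]


end CentE

section Twist

variable {L : Type*} [Field L] {W : Type*} [AddCommGroup W] [Module L W]
variable {E : Type*} [Group E] [Fintype E]
variable {ρ : E →* Module.End L W} (X : (Module.End L W)ˣ) (τ : E ≃* E)

/-- `X` normalizes `ρ E`, inducing `τ`. -/
def Twists (ρ : E →* Module.End L W) (X : (Module.End L W)ˣ) (τ : E ≃* E) : Prop :=
  ∀ e, (X : Module.End L W) * ρ e = ρ (τ e) * (X : Module.End L W)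

variable {X τ}

theorem Twists.conj (hX : Twists ρ X τ) (e : E) :
    ρ (τ e) = (X : Module.End L W) * ρ e * ((X⁻¹ : (Module.End L W)ˣ) : Module.End L W) := by
  rw [hX e, mul_assoc, Units.mul_inv, mul_one]

theorem Twists.conj_symm (hX : Twists ρ X τ) (e : E) :
    ρ (τ.symm e) = ((X⁻¹ : (Module.End L W)ˣ) : Module.End L W) * ρ e * (X : Module.End L W) := by
  have h := hX (τ.symm e)
  rw [MulEquiv.apply_symm_apply] at h
  rw [mul_assoc, ← h, ← mul_assoc, Units.inv_mul, one_mul]

theorem IsScal.conj_unit {a : Module.End L W} (ha : IsScal a) (X : (Module.End L W)ˣ) :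
    (X : Module.End L W) * a * ((X⁻¹ : (Module.End L W)ˣ) : Module.End L W) = a := by
  rw [← ha.commute, mul_assoc, Units.mul_inv, mul_one]

theorem Twists.isScal_iff (hX : Twists ρ X τ) (e : E) : IsScal (ρ (τ e)) ↔ IsScal (ρ e) := by
  constructor
  · intro h
    have h1 := hX.conj e
    have h2 : ρ e = ((X⁻¹ : (Module.End L W)ˣ) : Module.End L W) * ρ (τ e) * (X : Module.End L W) := by
      rw [h1]
      simp only [mul_assoc]
      rw [Units.inv_mul, mul_one, ← mul_assoc, Units.inv_mul, one_mul]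
    rw [h2]
    have := h.conj_unit X⁻¹
    rw [inv_inv] at this
    rw [this]
    exact h
  · intro h
    rw [hX.conj e, h.conj_unit X]
    exact h

theorem Twists.mem_scalSubgroup_iff (hX : Twists ρ X τ) (e : E) :
    τ e ∈ scalSubgroup ρ ↔ e ∈ scalSubgroup ρ := hX.isScal_iff e

theorem Twists.Av_conj (hX : Twists ρ X τ) (a : Module.End L W) :
    Av ρ ((X : Module.End L W) * a * ((X⁻¹ : (Module.End L W)ˣ) : Module.End L W)) =
      (X : Module.End L W) * Av ρ a * ((X⁻¹ : (Module.End L W)ˣ) : Module.End L W) := by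
  unfold Av
  rw [mul_smul_comm, smul_mul_assoc, Finset.mul_sum, Finset.sum_mul]
  congr 1
  rw [← Equiv.sum_comp τ.toEquiv]
  apply Finset.sum_congr rfl
  intro f _
  simp only [MulEquiv.toEquiv_eq_coe, EquivLike.coe_coe]
  rw [← map_inv, hX.conj f, hX.conj f⁻¹]
  simp only [mul_assoc]
  congr 2
  rw [← mul_assoc _ (X : Module.End L W), Units.inv_mul, one_mul]
  congr 1
  rw [← mul_assoc _ (X : Module.End L W), Units.inv_mul, one_mul]

theorem Twists.coef_conj (hX : Twists ρ X τ) (e : E) (a : Module.End L W) :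
    coef ρ (τ e) ((X : Module.End L W) * a * ((X⁻¹ : (Module.End L W)ˣ) : Module.End L W)) =
      (X : Module.End L W) * coef ρ e a * ((X⁻¹ : (Module.End L W)ˣ) : Module.End L W) := by
  unfold coef
  rw [← hX.Av_conj, ← map_inv, hX.conj e⁻¹]
  congr 1
  simp only [mul_assoc]
  rw [← mul_assoc _ (X : Module.End L W), Units.inv_mul, one_mul]

/-- The centralizer of `X` in `End W`. -/
abbrev cent (X : (Module.End L W)ˣ) : Submodule L (Module.End L W) := centE (X : Module.End L W)

theorem mem_cent {a : Module.End L W} :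
    a ∈ cent X ↔ (X : Module.End L W) * a = a * (X : Module.End L W) := Iff.rfl

theorem conj_of_mem_cent {a : Module.End L W} (ha : a ∈ cent X) :
    (X : Module.End L W) * a * ((X⁻¹ : (Module.End L W)ˣ) : Module.End L W) = a := by
  rw [mem_cent.1 ha, mul_assoc, Units.mul_inv, mul_one]

theorem Twists.coef_tau_eq_zero (hX : Twists ρ X τ) {a : Module.End L W} (ha : a ∈ cent X) {e : E}
    (he : coef ρ e a = 0) : coef ρ (τ e) a = 0 := by
  have h := hX.coef_conj e a
  rw [conj_of_mem_cent ha, he, mul_zero, zero_mul] at h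
  exact h

theorem coef_mul_scal_eq_zero {a : Module.End L W} {e t : E} (ht : t ∈ scalSubgroup ρ)
    (he : coef ρ e a = 0) : coef ρ (e * t) a = 0 := by
  unfold coef at he ⊢
  obtain ⟨c, hc⟩ := (scalSubgroup ρ).inv_mem ht
  rw [mul_inv_rev, map_mul, hc, mul_assoc, Algebra.algebraMap_eq_smul_one, smul_mul_assoc, one_mul,
    Av_smul, he, smul_zero]

end Twist

section Orbits


theorem exists_reps {Q : Type*} [Fintype Q] (σ : Equiv.Perm Q) (r : ℕ) (hr : r.Prime)
    (hσr : σ ^ r = 1) (q₁ : Q) (hfix : ∀ q, σ q = q ↔ q = q₁) (hne : ∃ q, q ≠ q₁) :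
    ∃ R : Finset Q, (∀ q, ∃ q₀ ∈ R, ∃ i : ℕ, q = (σ ^ i) q₀) ∧
      r * R.card = Fintype.card Q + r - 1 := by
  classical
  haveI : Fact r.Prime := ⟨hr⟩
  have hσ1 : σ ≠ 1 := by
    obtain ⟨q, hq⟩ := hne
    intro h
    apply hq
    rw [← hfix, h]; rfl
  have hord : orderOf σ = r := by
    have h1 : orderOf σ ∣ r := orderOf_dvd_of_pow_eq_one hσr
    rcases (Nat.dvd_prime hr).1 h1 with h | h
    · exact absurd (orderOf_eq_one_iff.1 h) hσ1
    · exact h
  let G := Subgroup.zpowers σ
  have hG : Fintype.card G = r := by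
    rw [← Nat.card_eq_fintype_card, Nat.card_zpowers, hord]
  -- fixed points
  have hfix1 : ∀ g : G, g ≠ 1 → ∀ q : Q, g • q = q ↔ q = q₁ := by
    intro g hg q
    have hpow : ∀ (n : ℕ) (q : Q), σ q = q → (σ ^ n) q = q := by
      intro n q hq
      induction n with
      | zero => simp
      | succ n ih => rw [pow_succ, Equiv.Perm.mul_apply, hq, ih]
    constructor
    · intro hq
      rw [← hfix]
      -- σ is a power of g
      have hcard : Nat.card G = r := by rw [Nat.card_eq_fintype_card, hG]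
      have htop : Subgroup.zpowers g = ⊤ := zpowers_eq_top_of_prime_card hcard hg
      have hσmem : (⟨σ, Subgroup.mem_zpowers σ⟩ : G) ∈ Subgroup.zpowers g := by
        rw [htop]; trivial
      rw [← mem_powers_iff_mem_zpowers] at hσmem
      obtain ⟨n, hn⟩ := (Submonoid.mem_powers_iff _ _).1 hσmem
      have hn' : ((g : Equiv.Perm Q)) ^ n = σ := by
        have := congrArg Subtype.val hn
        simpa using this
      rw [← hn']
      have hgq : (g : Equiv.Perm Q) q = q := hq
      clear hn hn' hσmem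
      induction n with
      | zero => simp
      | succ n ih => rw [pow_succ, Equiv.Perm.mul_apply, hgq, ih]
    · rintro rfl
      have hgm : (g : Equiv.Perm Q) ∈ Subgroup.zpowers σ := g.2
      rw [← mem_powers_iff_mem_zpowers] at hgm
      obtain ⟨n, hn⟩ := (Submonoid.mem_powers_iff _ _).1 hgm
      show (g : Equiv.Perm Q) q = q
      rw [← hn]
      exact hpow n q ((hfix q).2 rfl)
  have hB := MulAction.sum_card_fixedBy_eq_card_orbits_mul_card_group G Q
  have hsum : ∑ g : G, Fintype.card (MulAction.fixedBy Q g) = Fintype.card Q + (r - 1) := by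
    rw [← Finset.add_sum_erase Finset.univ _ (Finset.mem_univ (1 : G))]
    congr 1
    · apply Fintype.card_congr
      exact (Equiv.subtypeUnivEquiv (fun q => by simp [MulAction.mem_fixedBy]))
    · have : ∀ g ∈ Finset.univ.erase (1 : G), Fintype.card (MulAction.fixedBy Q g) = 1 := by
        intro g hg
        have hg1 : g ≠ 1 := (Finset.mem_erase.1 hg).1
        rw [Fintype.card_eq_one_iff]
        refine ⟨⟨q₁, (hfix1 g hg1 q₁).2 rfl⟩, ?_⟩
        rintro ⟨q, hq⟩
        apply Subtype.ext
        exact (hfix1 g hg1 q).1 hq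
      rw [Finset.sum_congr rfl this, Finset.sum_const, Finset.card_erase_of_mem (Finset.mem_univ _),
        Finset.card_univ, hG, smul_eq_mul, mul_one]
  rw [hsum, hG] at hB
  refine ⟨Finset.univ.image (fun ω : MulAction.orbitRel.Quotient G Q => ω.out), ?_, ?_⟩
  · intro q
    refine ⟨(Quotient.mk'' q : MulAction.orbitRel.Quotient G Q).out, Finset.mem_image_of_mem _ (Finset.mem_univ _), ?_⟩
    have h1 : (Quotient.mk'' ((Quotient.mk'' q : MulAction.orbitRel.Quotient G Q).out) : MulAction.orbitRel.Quotient G Q) = Quotient.mk'' q := Quotient.out_eq' _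
    have h2 := Quotient.exact' h1
    -- h2 : orbitRel G Q (out) q
    rw [MulAction.orbitRel_apply] at h2
    obtain ⟨g, hg⟩ := h2
    -- g • q = out
    have hgm : ((g⁻¹ : G) : Equiv.Perm Q) ∈ Subgroup.zpowers σ := (g⁻¹).2
    rw [← mem_powers_iff_mem_zpowers] at hgm
    obtain ⟨n, hn⟩ := (Submonoid.mem_powers_iff _ _).1 hgm
    refine ⟨n, ?_⟩
    rw [hn, ← hg]
    show q = (g⁻¹ : G) • (g • q)
    rw [smul_smul, inv_mul_cancel, one_smul]
  · rw [Finset.card_image_of_injective _ (fun a b h => by
      have := congrArg (Quotient.mk'' : Q → MulAction.orbitRel.Quotient G Q) h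
      simpa using this), Finset.card_univ]
    have hr1 : 1 ≤ r := hr.one_lt.le
    rw [mul_comm, ← hB]
    omega

variable {L : Type*} [Field L] {W : Type*} [AddCommGroup W] [Module L W]
variable {E : Type*} [Group E] [Fintype E]
variable {ρ : E →* Module.End L W} {X : (Module.End L W)ˣ} {τ : E ≃* E}

theorem Twists.symm_mem_scalSubgroup_iff (hX : Twists ρ X τ) (e : E) :
    τ.symm e ∈ scalSubgroup ρ ↔ e ∈ scalSubgroup ρ := by
  have := hX.mem_scalSubgroup_iff (τ.symm e)
  rw [MulEquiv.apply_symm_apply] at this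
  exact this.symm

/-- The permutation of `E / S` induced by `τ`. -/
def tauBar (hX : Twists ρ X τ) : Equiv.Perm (E ⧸ scalSubgroup ρ) where
  toFun := Quotient.map' τ (fun a b hab => by
    rw [QuotientGroup.leftRel_apply] at hab ⊢
    rw [← map_inv, ← map_mul]
    exact (hX.mem_scalSubgroup_iff _).2 hab)
  invFun := Quotient.map' τ.symm (fun a b hab => by
    rw [QuotientGroup.leftRel_apply] at hab ⊢
    rw [← map_inv, ← map_mul]
    exact (hX.symm_mem_scalSubgroup_iff _).2 hab)
  left_inv := by
    intro q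
    induction q using Quotient.inductionOn' with
    | h e => simp [Quotient.map'_mk'']
  right_inv := by
    intro q
    induction q using Quotient.inductionOn' with
    | h e => simp [Quotient.map'_mk'']

theorem tauBar_mk (hX : Twists ρ X τ) (e : E) :
    tauBar hX (QuotientGroup.mk e) = QuotientGroup.mk (τ e) := rfl

theorem tauBar_pow_mk (hX : Twists ρ X τ) (i : ℕ) (e : E) :
    (tauBar hX ^ i) (QuotientGroup.mk e) = QuotientGroup.mk ((τ ^ i) e) := by
  induction i with
  | zero => simp
  | succ i ih =>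
    rw [pow_succ', Equiv.Perm.mul_apply, ih, tauBar_mk, pow_succ', MulAut.mul_apply]

theorem Twists.coef_pow_tau_eq_zero (hX : Twists ρ X τ) {a : Module.End L W} (ha : a ∈ cent X)
    {e : E} (he : coef ρ e a = 0) (i : ℕ) : coef ρ ((τ ^ i) e) a = 0 := by
  induction i with
  | zero => simpa using he
  | succ i ih =>
    rw [pow_succ', MulAut.mul_apply]
    exact hX.coef_tau_eq_zero ha ih

/-- The analysis map from the centralizer of `X` to families of commutant elements. -/
noncomputable def analysis (ρ : E →* Module.End L W) (X : (Module.End L W)ˣ) (R : Finset E) :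
    cent X →ₗ[L] (R → commutant ρ) where
  toFun := fun a e₀ => ⟨coef ρ (e₀ : E) (a : Module.End L W), coef_mem_commutant _ _⟩
  map_add' := by
    intro a b
    funext e₀
    apply Subtype.ext
    simp [coef_add]
  map_smul' := by
    intro c a
    funext e₀
    apply Subtype.ext
    simp [coef_smul]

theorem Twists.analysis_injective (h : Hyp ρ) (hE : (Fintype.card E : L) ≠ 0)
    (hX : Twists ρ X τ) (R : Finset E)
    (hR : ∀ e : E, ∃ e₀ ∈ R, ∃ i : ℕ, ∃ t ∈ scalSubgroup ρ, e = (τ ^ i) e₀ * t) :
    Function.Injective (analysis ρ X R) := by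
  rw [← LinearMap.ker_eq_bot, LinearMap.ker_eq_bot']
  intro a ha
  apply Subtype.ext
  show (a : Module.End L W) = 0
  apply h.eq_zero_of_coef_eq_zero hE
  intro e
  obtain ⟨e₀, he₀, i, t, ht, rfl⟩ := hR e
  apply coef_mul_scal_eq_zero ht
  apply hX.coef_pow_tau_eq_zero a.2
  have h1 := congrFun ha ⟨e₀, he₀⟩
  exact congrArg Subtype.val h1

theorem Twists.finrank_cent_le [FiniteDimensional L W] (h : Hyp ρ) (hE : (Fintype.card E : L) ≠ 0)
    (hX : Twists ρ X τ) (R : Finset E)
    (hR : ∀ e : E, ∃ e₀ ∈ R, ∃ i : ℕ, ∃ t ∈ scalSubgroup ρ, e = (τ ^ i) e₀ * t) :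
    Module.finrank L (cent X) ≤ R.card * Module.finrank L (commutant ρ) := by
  have h1 := LinearMap.finrank_le_finrank_of_injective (hX.analysis_injective h hE R hR)
  rw [Module.finrank_pi_fintype, Finset.sum_const, Finset.card_univ, smul_eq_mul,
    Fintype.card_coe] at h1
  exact h1


theorem Twists.pow_conj (hX : Twists ρ X τ) (i : ℕ) (e : E) :
    ((X ^ i : (Module.End L W)ˣ) : Module.End L W) * ρ e =
      ρ ((τ ^ i) e) * ((X ^ i : (Module.End L W)ˣ) : Module.End L W) := by
  induction i generalizing e with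
  | zero => simp
  | succ i ih =>
    rw [pow_succ', pow_succ', Units.val_mul, mul_assoc, ih, ← mul_assoc, hX, MulAut.mul_apply,
      mul_assoc]

theorem Twists.tauBar_pow_eq_one (hX : Twists ρ X τ) (r : ℕ) (hXr : X ^ r = 1) :
    tauBar hX ^ r = 1 := by
  ext q
  induction q using Quotient.inductionOn' with
  | h e =>
    show (tauBar hX ^ r) (QuotientGroup.mk e) = QuotientGroup.mk e
    rw [tauBar_pow_mk, QuotientGroup.eq]
    have h1 := hX.pow_conj r e
    rw [hXr, Units.val_one, one_mul, mul_one] at h1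
    show IsScal (ρ (((τ ^ r) e)⁻¹ * e))
    rw [map_mul, h1, rho_inv_mul]
    exact isScal_one

theorem Twists.main_count [FiniteDimensional L W] (h : Hyp ρ) (hE : (Fintype.card E : L) ≠ 0)
    (hX : Twists ρ X τ) (r : ℕ) (hr : r.Prime) (hXr : X ^ r = 1)
    (hfpf : ∀ e, (τ e)⁻¹ * e ∈ scalSubgroup ρ → e ∈ scalSubgroup ρ) :
    r * Module.finrank L (cent X) ≤
      ((scalSubgroup ρ).index + r - 1) * Module.finrank L (commutant ρ) ∧
    r ∣ (scalSubgroup ρ).index - 1 := by
  classical
  haveI : Fintype (E ⧸ scalSubgroup ρ) := Fintype.ofFinite _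
  have hidx : (scalSubgroup ρ).index = Fintype.card (E ⧸ scalSubgroup ρ) := by
    rw [Subgroup.index_eq_card, Nat.card_eq_fintype_card]
  have hr1 : 1 ≤ r := hr.one_lt.le
  by_cases hne : ∃ q : E ⧸ scalSubgroup ρ, q ≠ QuotientGroup.mk 1
  · obtain ⟨RQ, hRQ, hcard⟩ := exists_reps (tauBar hX) r hr (hX.tauBar_pow_eq_one r hXr)
      (QuotientGroup.mk 1) (by
        intro q
        induction q using Quotient.inductionOn' with
        | h e =>
          show tauBar hX (QuotientGroup.mk e) = QuotientGroup.mk e ↔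
            (QuotientGroup.mk e : E ⧸ scalSubgroup ρ) = QuotientGroup.mk 1
          rw [tauBar_mk, QuotientGroup.eq, QuotientGroup.eq]
          constructor
          · intro h1
            have := hfpf e h1
            have h2 := (scalSubgroup ρ).inv_mem this
            simpa using h2
          · intro h1
            have h2 : e ∈ scalSubgroup ρ := by
              have := (scalSubgroup ρ).inv_mem h1
              simpa using this
            exact (scalSubgroup ρ).mul_mem
              ((scalSubgroup ρ).inv_mem ((hX.mem_scalSubgroup_iff e).2 h2)) h2) hne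
    rw [← hidx] at hcard
    have hcover : ∀ e : E, ∃ e₀ ∈ RQ.image Quotient.out, ∃ i : ℕ, ∃ t ∈ scalSubgroup ρ,
        e = (τ ^ i) e₀ * t := by
      intro e
      obtain ⟨q₀, hq₀, i, hi⟩ := hRQ (QuotientGroup.mk e)
      refine ⟨Quotient.out q₀, Finset.mem_image_of_mem _ hq₀, i,
        ((τ ^ i) (Quotient.out q₀))⁻¹ * e, ?_, by group⟩
      rw [← QuotientGroup.eq, ← tauBar_pow_mk hX, QuotientGroup.out_eq']
      exact hi.symm
    have h1 := hX.finrank_cent_le h hE _ hcover
    have h2 : (RQ.image Quotient.out).card ≤ RQ.card := Finset.card_image_le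
    constructor
    · calc r * Module.finrank L (cent X)
          ≤ r * (RQ.card * Module.finrank L (commutant ρ)) :=
            Nat.mul_le_mul_left _ (h1.trans (Nat.mul_le_mul_right _ h2))
        _ = ((scalSubgroup ρ).index + r - 1) * Module.finrank L (commutant ρ) := by
            rw [← mul_assoc, hcard]
    · have hpos : 1 ≤ RQ.card := by
        rcases Nat.eq_zero_or_pos RQ.card with h0 | h0
        · rw [h0] at hcard
          have : 1 ≤ (scalSubgroup ρ).index := Nat.one_le_iff_ne_zero.2 (Subgroup.index_ne_zero_of_finite)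
          omega
        · exact h0
      refine ⟨RQ.card - 1, ?_⟩
      have : r * (RQ.card - 1) = r * RQ.card - r := by
        rw [Nat.mul_sub, mul_one]
      rw [this, hcard]
      omega
  · push Not at hne
    have hidx1 : (scalSubgroup ρ).index = 1 := by
      rw [hidx, Fintype.card_eq_one_iff]
      exact ⟨QuotientGroup.mk 1, hne⟩
    have hcover : ∀ e : E, ∃ e₀ ∈ ({1} : Finset E), ∃ i : ℕ, ∃ t ∈ scalSubgroup ρ,
        e = (τ ^ i) e₀ * t := by
      intro e
      refine ⟨1, Finset.mem_singleton_self _, 0, e, ?_, by simp⟩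
      have := hne (QuotientGroup.mk e)
      rw [QuotientGroup.eq] at this
      have h2 := (scalSubgroup ρ).inv_mem this
      simpa using h2
    have h1 := hX.finrank_cent_le h hE _ hcover
    rw [Finset.card_singleton, one_mul] at h1
    constructor
    · rw [hidx1]
      have : 1 + r - 1 = r := by omega
      rw [this]
      exact Nat.mul_le_mul_left _ h1
    · rw [hidx1]
      exact dvd_zero _


end Orbits

section Main

variable {L : Type*} [Field L] [IsAlgClosed L] {W : Type*} [AddCommGroup W] [Module L W]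
  [FiniteDimensional L W]

theorem sq_finrank_le_card_mul_finrank_centE (f : Module.End L W) (hss : f.IsSemisimple)
    (s : Finset L) (hs : ∀ μ, f.HasEigenvalue μ → μ ∈ s) :
    (Module.finrank L W) ^ 2 ≤ s.card * Module.finrank L (centE f) := by
  classical
  -- internal direct sum over `s`
  have hind : iSupIndep (fun μ : s => f.eigenspace (μ : L)) :=
    (f.eigenspaces_iSupIndep).comp Subtype.val_injective
  have hsup : ⨆ μ : s, f.eigenspace (μ : L) = ⊤ := by
    rw [eq_top_iff, ← hss.iSup_eigenspace_eq_top]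
    apply iSup_le
    intro μ
    by_cases hμ : f.HasEigenvalue μ
    · exact le_iSup (fun μ : s => f.eigenspace (μ : L)) ⟨μ, hs μ hμ⟩
    · rw [Module.End.hasEigenvalue_iff, not_not] at hμ
      rw [hμ]; exact bot_le
  have hint : DirectSum.IsInternal (fun μ : s => f.eigenspace (μ : L)) :=
    DirectSum.isInternal_submodule_of_iSupIndep_of_iSup_eq_top hind hsup
  let m : s → ℕ := fun μ => Module.finrank L (f.eigenspace (μ : L))
  let b := hint.collectedBasis (fun μ => Module.finBasis L (f.eigenspace (μ : L)))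
  have hb : ∀ i, f (b i) = (i.1 : L) • b i := by
    intro i
    have := hint.collectedBasis_mem (fun μ => Module.finBasis L (f.eigenspace (μ : L))) i
    exact Module.End.mem_eigenspace_iff.1 this
  have hcoord : ∀ (j : Σ μ : s, Fin (m μ)) (w : W), b.coord j (f w) = (j.1 : L) * b.coord j w := by
    intro j
    have : (b.coord j) ∘ₗ f = (j.1 : L) • b.coord j := by
      apply b.ext
      intro k
      rw [LinearMap.comp_apply, hb k, LinearMap.smul_apply, map_smul, smul_eq_mul, smul_eq_mul]
      by_cases hkj : k = j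
      · rw [hkj]
      · rw [Basis.coord_apply, Basis.repr_self, Finsupp.single_apply, if_neg hkj, mul_zero, mul_zero]
    intro w
    have := congrArg (fun g => g w) this
    simpa using this
  -- the family of matrix units in the centralizer
  let P := Σ μ : s, Fin (m μ) × Fin (m μ)
  let u : P → Module.End L W := fun p => (b.coord ⟨p.1, p.2.2⟩).smulRight (b ⟨p.1, p.2.1⟩)
  have hu : ∀ p, u p ∈ centE f := by
    intro p
    show f * u p = u p * f
    apply LinearMap.ext
    intro w
    simp only [u, Module.End.mul_apply, LinearMap.smulRight_apply, map_smul, hb, hcoord]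
    rw [smul_smul, mul_comm]
  have hli : LinearIndependent L (fun p : P => (⟨u p, hu p⟩ : centE f)) := by
    rw [Fintype.linearIndependent_iff]
    intro g hg p₀
    have h1 := congrArg (fun a : centE f => b.coord ⟨p₀.1, p₀.2.1⟩ ((a : Module.End L W) (b ⟨p₀.1, p₀.2.2⟩))) hg
    simp only [Submodule.coe_sum, Submodule.coe_smul, LinearMap.sum_apply, LinearMap.smul_apply,
      map_sum, map_smul, Submodule.coe_zero, LinearMap.zero_apply, map_zero, u,
      LinearMap.smulRight_apply, Basis.coord_apply, Basis.repr_self, smul_eq_mul] at h1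
    rw [Finset.sum_eq_single p₀] at h1
    · simpa using h1
    · intro p _ hp
      by_cases h2 : (⟨p.1, p.2.2⟩ : Σ μ : s, Fin (m μ)) = ⟨p₀.1, p₀.2.2⟩
      · by_cases h3 : (⟨p.1, p.2.1⟩ : Σ μ : s, Fin (m μ)) = ⟨p₀.1, p₀.2.1⟩
        · exfalso
          apply hp
          obtain ⟨μ, a, c⟩ := p
          obtain ⟨μ₀, a₀, c₀⟩ := p₀
          simp only [Sigma.mk.injEq] at h2 h3
          obtain ⟨rfl, h2⟩ := h2
          obtain ⟨_, h3⟩ := h3
          simp only [heq_eq_eq] at h2 h3
          subst h2 h3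
          rfl
        · simp [Finsupp.single_apply, h3]
      · have : (⟨p₀.1, p₀.2.2⟩ : Σ μ : s, Fin (m μ)) ≠ ⟨p.1, p.2.2⟩ := fun h => h2 h.symm
        simp [Finsupp.single_apply, this]
    · intro h; exact absurd (Finset.mem_univ _) h
  have h1 := hli.fintype_card_le_finrank
  have hP : Fintype.card P = ∑ μ : s, (m μ) ^ 2 := by
    rw [Fintype.card_sigma]
    apply Finset.sum_congr rfl
    intro μ _
    rw [Fintype.card_prod, Fintype.card_fin, sq]
  have hW : Module.finrank L W = ∑ μ : s, m μ := by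
    rw [Module.finrank_eq_card_basis b, Fintype.card_sigma]
    apply Finset.sum_congr rfl
    intro μ _
    rw [Fintype.card_fin]
  rw [hW]
  calc (∑ μ : s, m μ) ^ 2 ≤ Fintype.card s * ∑ μ : s, (m μ) ^ 2 := by
        have := sq_sum_le_card_mul_sum_sq (s := (Finset.univ : Finset s)) (f := m)
        simpa using this
    _ = s.card * Fintype.card P := by rw [hP, Fintype.card_coe]
    _ ≤ s.card * Module.finrank L (centE f) := Nat.mul_le_mul_left _ h1

variable {E : Type*} [Group E] [Fintype E]
variable {ρ : E →* Module.End L W} {X : (Module.End L W)ˣ} {τ : E ≃* E}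

/-- **Main theorem.** If `X` has no nonzero fixed vector then `|E/S| ≤ (r-1)^2`
and `r ∣ |E/S| - 1`. -/
theorem fixed_vector_or_card_le [Nontrivial W]
    (h : Hyp ρ) (hE : (Fintype.card E : L) ≠ 0) (hX : Twists ρ X τ) (r : ℕ) (hr : r.Prime)
    (hrL : (r : L) ≠ 0) (hXr : X ^ r = 1)
    (hfpf : ∀ e, (τ e)⁻¹ * e ∈ scalSubgroup ρ → e ∈ scalSubgroup ρ)
    (hfix : ∀ w : W, (X : Module.End L W) w = w → w = 0) :
    (scalSubgroup ρ).index ≤ (r - 1) ^ 2 ∧ r ∣ (scalSubgroup ρ).index - 1 := by
  classical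
  obtain ⟨hcount, hdvd⟩ := hX.main_count h hE r hr hXr hfpf
  refine ⟨?_, hdvd⟩
  set f : Module.End L W := (X : Module.End L W) with hf
  have hfr : f ^ r = 1 := by
    rw [hf, ← Units.val_pow_eq_pow_val, hXr, Units.val_one]
  have hrpos : 0 < r := hr.pos
  -- semisimple
  have hss : f.IsSemisimple := by
    apply Module.End.isSemisimple_of_squarefree_aeval_eq_zero
      (p := (Polynomial.X ^ r - Polynomial.C (1 : L)))
    · exact (Polynomial.separable_X_pow_sub_C (1 : L) hrL one_ne_zero).squarefree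
    · simp [hfr]
  -- eigenvalues
  let s : Finset L := (Polynomial.nthRootsFinset r (1 : L)).erase 1
  have hs : ∀ μ, f.HasEigenvalue μ → μ ∈ s := by
    intro μ hμ
    obtain ⟨w, hw⟩ := hμ.exists_hasEigenvector
    have hw0 : w ≠ 0 := hw.2
    have hfw : f w = μ • w := Module.End.mem_eigenspace_iff.1 hw.1
    have hpow : ∀ n : ℕ, (f ^ n) w = μ ^ n • w := by
      intro n
      induction n with
      | zero => simp
      | succ n ih => rw [pow_succ, Module.End.mul_apply, hfw, map_smul, ih, smul_smul, pow_succ, mul_comm]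
    rw [Finset.mem_erase, Polynomial.mem_nthRootsFinset hrpos]
    constructor
    · rintro rfl
      apply hw0
      apply hfix
      rw [hfw, one_smul]
    · have h1 := hpow r
      rw [hfr, Module.End.one_apply] at h1
      have h2 : (μ ^ r - 1) • w = 0 := by rw [sub_smul, ← h1, one_smul, sub_self]
      rcases smul_eq_zero.1 h2 with h3 | h3
      · exact sub_eq_zero.1 h3
      · exact absurd h3 hw0
  have hscard : s.card ≤ r - 1 := by
    have h1 : (1 : L) ∈ Polynomial.nthRootsFinset r (1 : L) := by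
      rw [Polynomial.mem_nthRootsFinset hrpos]; simp
    rw [Finset.card_erase_of_mem h1]
    apply Nat.sub_le_sub_right
    unfold Polynomial.nthRootsFinset
    exact (Multiset.toFinset_card_le _).trans (Polynomial.card_nthRoots r 1)
  have h4 := sq_finrank_le_card_mul_finrank_centE f hss s hs
  have h1 := h.index_mul_finrank_le hE
  -- arithmetic
  set n₂ := (scalSubgroup ρ).index with hn₂
  set k := Module.finrank L (commutant ρ) with hk
  set F := Module.finrank L (centE f) with hF
  set D := Module.finrank L W with hD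
  have hDpos : 0 < D := Module.finrank_pos
  obtain ⟨t, rfl⟩ : ∃ t, r = t + 1 := ⟨r - 1, by omega⟩
  simp only [Nat.add_sub_cancel] at hscard ⊢
  have hcount' : (t + 1) * F ≤ (n₂ + t) * k := by
    have : n₂ + (t + 1) - 1 = n₂ + t := by omega
    rw [this] at hcount
    exact hcount
  have h5 : D ^ 2 ≤ t * F := h4.trans (Nat.mul_le_mul_right _ hscard)
  -- (t+1) * D^2 * n₂ ≤ t * (n₂ + t) * D^2
  have h6 : (t + 1) * n₂ * D ^ 2 ≤ t * (n₂ + t) * D ^ 2 := by
    calc (t + 1) * n₂ * D ^ 2 = n₂ * ((t + 1) * D ^ 2) := by ring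
      _ ≤ n₂ * ((t + 1) * (t * F)) := Nat.mul_le_mul_left _ (Nat.mul_le_mul_left _ h5)
      _ = n₂ * (t * ((t + 1) * F)) := by ring
      _ ≤ n₂ * (t * ((n₂ + t) * k)) := Nat.mul_le_mul_left _ (Nat.mul_le_mul_left _ hcount')
      _ = t * (n₂ + t) * (n₂ * k) := by ring
      _ ≤ t * (n₂ + t) * D ^ 2 := Nat.mul_le_mul_left _ h1
  have h7 : (t + 1) * n₂ ≤ t * (n₂ + t) :=
    Nat.le_of_mul_le_mul_right h6 (by positivity)
  nlinarith

end Main

end Cfsg.Agent.Lib.Helper56.HH
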