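import Cfsg.Agent.Lib.Helper56.HHGroup
import Cfsg.Agent.Lib.Helper83.Extraspecial

/-!
# Fifth layer: an extraspecial group acting on an elementary abelian `p`-group
-/

set_option autoImplicit false
set_option linter.unusedSectionVars false
set_option linter.style.haveILetI false

namespace Cfsg.Agent.Lib.Helper56.HH

open scoped commutatorElement

theorem fermat_arith (q r d k : ℕ) (hq : q.Prime) (hr : r.Prime) (hcard : q ^ k = q * d ^ 2)
    (hd1 : d ≠ 1) (hle : d ^ 2 ≤ (r - 1) ^ 2) (hdvd : r ∣ d ^ 2 - 1) :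
    q = 2 ∧ ∃ n : ℕ, r = 2 ^ n + 1 ∧ q * d ^ 2 = 2 ^ (2 * n + 1) := by
  have hd0 : d ≠ 0 := by
    rintro rfl
    have : q ^ k ≠ 0 := pow_ne_zero _ hq.pos.ne'
    rw [hcard] at this
    simp at this
  have hdq : d ∣ q ^ k := by
    rw [hcard]
    exact Dvd.dvd.mul_left (dvd_pow_self d (by norm_num)) q
  obtain ⟨m, -, rfl⟩ := (Nat.dvd_prime_pow hq).1 hdq
  have hm0 : m ≠ 0 := by
    rintro rfl
    exact hd1 (pow_zero q)
  have hd_le : q ^ m ≤ r - 1 := (Nat.pow_le_pow_iff_left (by norm_num : (2:ℕ) ≠ 0)).1 hle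
  have hr2 := hr.two_le
  have hd2 : 2 ≤ q ^ m := by
    have : 0 < q ^ m := Nat.pos_of_ne_zero hd0
    omega
  have hfac : (q ^ m) ^ 2 - 1 = (q ^ m - 1) * (q ^ m + 1) := by
    have h1 : 1 ≤ q ^ m := by omega
    obtain ⟨c, hc⟩ : ∃ c, q ^ m = c + 1 := ⟨q ^ m - 1, by omega⟩
    rw [hc]
    have : (c + 1) ^ 2 - 1 = c * (c + 2) := by
      have : (c + 1) ^ 2 = c * (c + 2) + 1 := by ring
      omega
    rw [this]
    simp
  rw [hfac] at hdvd
  have hreq : r = q ^ m + 1 := by
    rcases (Nat.Prime.dvd_mul hr).1 hdvd with h | h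
    · exfalso
      have := Nat.le_of_dvd (by omega) h
      omega
    · have := Nat.le_of_dvd (by omega) h
      omega
  have hq2 : q = 2 := by
    by_contra hne
    have hqodd : Odd q := hq.odd_of_ne_two hne
    have hodd : Odd (q ^ m) := hqodd.pow
    have heven : Even r := by
      rw [hreq]
      exact hodd.add_one
    have : r = 2 := (Nat.Prime.even_iff hr).1 heven
    omega
  subst hq2
  refine ⟨rfl, m, hreq, ?_⟩
  rw [show 2 * m + 1 = m + m + 1 by ring, pow_succ, pow_add]
  ring

section Extra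

variable {N : Type*} [CommGroup N] [Finite N]
variable {E : Type*} [Group E] [Finite E]

/-- **Fifth layer.** An extraspecial `q`-group `E` acts on the elementary abelian `p`-group `N`
via `φ`, with its centre acting non-trivially; `ξ` is a fixed-point-free automorphism of `N`
of prime order `r` which induces `τ` on `E`, trivial on `Z(E)` and fixed-point-free on
`E / Z(E)`. Then `q = 2`, `r` is a Fermat prime `2 ^ n + 1` and `|E| = 2 ^ (2 n + 1)`. -/
theorem extraspecial_fixed_point_free (p q r : ℕ) [Fact p.Prime] [Fact q.Prime]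
    (hexp : ∀ a : N, a ^ p = 1) (hE : Cfsg.IsExtraspecial q E)
    (φ : E →* MulAut N) (ξ : MulAut N) (τ : E ≃* E)
    (hτ : ∀ e, ξ * φ e = φ (τ e) * ξ)
    (hz1 : ∃ z ∈ Subgroup.center E, φ z ≠ 1)
    (hτz : ∀ z ∈ Subgroup.center E, τ z = z)
    (hfpf : ∀ e, (τ e)⁻¹ * e ∈ Subgroup.center E → e ∈ Subgroup.center E)
    (hr : r.Prime) (hrp : r ≠ p) (hqp : q ≠ p) (hξr : ξ ^ r = 1)
    (hfix : ∀ a : N, ξ a = a → a = 1) :
    q = 2 ∧ ∃ n : ℕ, r = 2 ^ n + 1 ∧ Nat.card E = 2 ^ (2 * n + 1) := by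
  classical
  have hp : p.Prime := Fact.out
  have hq : q.Prime := Fact.out
  obtain ⟨z, hzc, hz1⟩ := hz1
  have hzne : z ≠ 1 := by
    rintro rfl
    exact hz1 (map_one φ)
  have htop : Subgroup.zpowers (⟨z, hzc⟩ : Subgroup.center E) = ⊤ :=
    zpowers_eq_top_of_prime_card hE.2 (fun h' => hzne (congrArg Subtype.val h'))
  have hzp : Subgroup.zpowers z = Subgroup.center E := by
    have := congrArg (Subgroup.map (Subgroup.center E).subtype) htop
    rw [MonoidHom.map_zpowers, ← MonoidHom.range_eq_map, Subgroup.range_subtype] at this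
    exact this
  have hzq : z ^ q = 1 := by
    have h1 : (⟨z, hzc⟩ : Subgroup.center E) ^ Nat.card (Subgroup.center E) = 1 :=
      pow_card_eq_one'
    rw [hE.2] at h1
    exact congrArg Subtype.val h1
  obtain ⟨k, hk⟩ := (IsPGroup.iff_card).1 hE.1.1
  have hEp : ¬ p ∣ Nat.card E := by
    rw [hk]
    intro h
    exact hqp ((Nat.prime_dvd_prime_iff_eq hp hq).1 (hp.dvd_of_dvd_pow h)).symm
  have key := central_fixed_point_or_card_le p hexp φ ξ τ z q hq hzq
    (fun e => (Subgroup.mem_center_iff.1 hzc e).symm) (hτz z hzc)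
    (by
      intro e f
      rw [hzp, ← hE.1.2.2, commutator_def]
      exact Subgroup.commutator_mem_commutator (Subgroup.mem_top _) (Subgroup.mem_top _))
    (by
      intro e he
      rw [hzp, Subgroup.mem_center_iff]
      intro f
      have := he f
      rw [commutatorElement_eq_one_iff_commute] at this
      exact this.eq.symm)
    hz1 hEp hτ r hr hrp hξr
    (by
      intro e he
      rw [hzp] at he ⊢
      exact hfpf e he)
    hfix
  obtain ⟨χ, hχ⟩ := Cfsg.Agent.Lib.Helper83.extraspecial_exists_nonlinear q hE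
  have hcard := Cfsg.Agent.Lib.Helper83.extraspecial_card_eq q hE χ hχ
  set d := Cfsg.charDegree (χ : E → ℂ) with hd
  have hd1 : d ≠ 1 := by
    intro h1
    apply hχ
    rw [← Cfsg.Agent.Lib.Helper83.charDegree_cast
      (Cfsg.Agent.Lib.Helper83.IrrCharacter_isCharacter χ), ← hd, h1]
    simp
  have hidx : (Subgroup.zpowers z).index = d ^ 2 := by
    have h1 := (Subgroup.zpowers z).card_mul_index
    rw [hzp, hE.2, hcard] at h1
    rw [hzp]
    exact Nat.eq_of_mul_eq_mul_left hq.pos h1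
  rw [hidx] at key
  rw [hcard]
  exact fermat_arith q r d k hq hr (by rw [← hk, hcard]) hd1 key.1 key.2

/-- Variant of `extraspecial_fixed_point_free` for a `Group` with a commutativity hypothesis. -/
theorem extraspecial_fixed_point_free' {N : Type*} [Group N] [Finite N]
    {E : Type*} [Group E] [Finite E] (p q r : ℕ) [Fact p.Prime] [Fact q.Prime]
    (hc : ∀ a b : N, a * b = b * a)
    (hexp : ∀ a : N, a ^ p = 1) (hE : Cfsg.IsExtraspecial q E)
    (φ : E →* MulAut N) (ξ : MulAut N) (τ : E ≃* E)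
    (hτ : ∀ e, ξ * φ e = φ (τ e) * ξ)
    (hz1 : ∃ z ∈ Subgroup.center E, φ z ≠ 1)
    (hτz : ∀ z ∈ Subgroup.center E, τ z = z)
    (hfpf : ∀ e, (τ e)⁻¹ * e ∈ Subgroup.center E → e ∈ Subgroup.center E)
    (hr : r.Prime) (hrp : r ≠ p) (hqp : q ≠ p) (hξr : ξ ^ r = 1)
    (hfix : ∀ a : N, ξ a = a → a = 1) :
    q = 2 ∧ ∃ n : ℕ, r = 2 ^ n + 1 ∧ Nat.card E = 2 ^ (2 * n + 1) := by
  letI : CommGroup N := { (inferInstance : Group N) with mul_comm := hc }
  exact extraspecial_fixed_point_free p q r hexp hE φ ξ τ hτ hz1 hτz hfpf hr hrp hqp hξr hfix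

/-- Conjugation by a normalizing element, as an automorphism of the subgroup. -/
def conjAut {G : Type*} [Group G] (H : Subgroup G) (g : G)
    (hg : g ∈ Subgroup.normalizer (H : Set G)) : MulAut H :=
  Subgroup.normalizerMonoidHom H ⟨g, hg⟩

theorem conjAut_coe {G : Type*} [Group G] (H : Subgroup G) (g : G)
    (hg : g ∈ Subgroup.normalizer (H : Set G)) (h : H) :
    ((conjAut H g hg h : H) : G) = g * h * g⁻¹ := rfl

theorem conjAut_pow {G : Type*} [Group G] (H : Subgroup G) (g : G)
    (hg : g ∈ Subgroup.normalizer (H : Set G)) (n : ℕ) (hgn : g ^ n = 1) :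
    conjAut H g hg ^ n = 1 := by
  unfold conjAut
  rw [← map_pow]
  have : (⟨g, hg⟩ : Subgroup.normalizer (H : Set G)) ^ n = 1 := Subtype.ext (by simpa using hgn)
  rw [this, map_one]

/-- The conjugation action of a subgroup `K ≤ N(H)` on `H`. -/
def conjHom {G : Type*} [Group G] (H K : Subgroup G)
    (hK : K ≤ Subgroup.normalizer (H : Set G)) : K →* MulAut H :=
  (Subgroup.normalizerMonoidHom H).comp (Subgroup.inclusion hK)

theorem conjHom_coe {G : Type*} [Group G] (H K : Subgroup G)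
    (hK : K ≤ Subgroup.normalizer (H : Set G)) (k : K) (h : H) :
    ((conjHom H K hK k h : H) : G) = k * h * (k : G)⁻¹ := rfl

/-- An element commuting with a generator of a cyclic subgroup centralizes it. -/
theorem mem_centralizer_of_generator {G : Type*} [Group G] (X : Subgroup G) (x : X)
    (hx : ∀ y : X, y ∈ Subgroup.zpowers x) (g : G) (hg : (x : G) * g = g * x) :
    g ∈ Subgroup.centralizer (X : Set G) := by
  rw [Subgroup.mem_centralizer_iff]
  intro h hh
  obtain ⟨k, hk⟩ := Subgroup.mem_zpowers_iff.1 (hx ⟨h, hh⟩)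
  have hk' : (x : G) ^ k = h := by
    have := congrArg Subtype.val hk
    simpa using this
  rw [← hk']
  have hc : Commute (x : G) g := hg
  exact (hc.zpow_left k).eq

end Extra

end Cfsg.Agent.Lib.Helper56.HH
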