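import Cfsg.Agent.Lib.Helper56.HHCentral

/-!
# Third layer: representations over an arbitrary field, by base change to the algebraic closure
-/

set_option autoImplicit false
set_option linter.unusedSectionVars false
set_option linter.style.haveILetI false

namespace Cfsg.Agent.Lib.Helper56.HH

open Module TensorProduct
open scoped commutatorElement

section Field

variable {K : Type*} [Field K] {M : Type*} [AddCommGroup M] [Module K M] [FiniteDimensional K M]
variable {E : Type*} [Group E] [Fintype E]

/-- **Third layer.** Same as `central_fixed_vector_or_card_le` over an arbitrary field. -/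
theorem central_fixed_vector_or_card_le_field
    (ρ₀ : E →* Module.End K M) (X₀ : (Module.End K M)ˣ) (τ : E ≃* E)
    (z : E) (q : ℕ) (hq : q.Prime) (hzq : z ^ q = 1)
    (hzc : ∀ e, z * e = e * z) (hτz : τ z = z)
    (hcomm : ∀ e f : E, ⁅e, f⁆ ∈ Subgroup.zpowers z)
    (hnd : ∀ e : E, (∀ f : E, ⁅e, f⁆ = 1) → e ∈ Subgroup.zpowers z)
    (hz1 : ρ₀ z ≠ 1)
    (hE : (Fintype.card E : K) ≠ 0) (hX : Twists ρ₀ X₀ τ) (r : ℕ) (hr : r.Prime)
    (hrK : (r : K) ≠ 0) (hXr : X₀ ^ r = 1)
    (hfpf : ∀ e, (τ e)⁻¹ * e ∈ Subgroup.zpowers z → e ∈ Subgroup.zpowers z)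
    (hfix : ∀ m : M, (X₀ : Module.End K M) m = m → m = 0) :
    (Subgroup.zpowers z).index ≤ (r - 1) ^ 2 ∧ r ∣ (Subgroup.zpowers z).index - 1 := by
  classical
  let L := AlgebraicClosure K
  let bc : Module.End K M →* Module.End L (L ⊗[K] M) :=
    (Module.End.baseChangeHom K L M : Module.End K M →* Module.End L (L ⊗[K] M))
  have hbc_inj : Function.Injective bc := by
    intro f g hfg
    exact LinearMap.baseChangeHom_injective K M L hfg
  have hcast : ∀ n : ℕ, (n : K) ≠ 0 → (n : L) ≠ 0 := by
    intro n hn h0
    apply hn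
    have : algebraMap K L (n : K) = 0 := by rw [map_natCast]; exact h0
    exact (map_eq_zero_iff (algebraMap K L) (algebraMap K L).injective).1 this
  refine central_fixed_vector_or_card_le (L := L) (W := L ⊗[K] M) (bc.comp ρ₀) (Units.map bc X₀) τ z q hq hzq
    hzc hτz hcomm hnd ?_ (hcast _ hE) ?_ r hr (hcast _ hrK) ?_ hfpf ?_
  · intro h1
    apply hz1
    apply hbc_inj
    rw [map_one]
    exact h1
  · intro e
    have := congrArg bc (hX e)
    rw [map_mul, map_mul] at this
    exact this
  · rw [← map_pow, hXr, map_one]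
  · -- no fixed vectors after base change
    have hinj : Function.Injective ⇑(((X₀ : Module.End K M) - 1 : Module.End K M)) := by
      rw [← LinearMap.ker_eq_bot, LinearMap.ker_eq_bot']
      intro m hm
      apply hfix
      rw [LinearMap.sub_apply, Module.End.one_apply, sub_eq_zero] at hm
      exact hm
    have hunit : IsUnit ((X₀ : Module.End K M) - 1) :=
      (Module.End.isUnit_iff _).2 ⟨hinj, LinearMap.surjective_of_injective hinj⟩
    have hunit' : IsUnit (bc ((X₀ : Module.End K M) - 1)) := hunit.map bc
    have hbcsub : bc ((X₀ : Module.End K M) - 1) = bc (X₀ : Module.End K M) - 1 := by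
      show LinearMap.baseChange L ((X₀ : Module.End K M) - 1) = LinearMap.baseChange L (X₀ : Module.End K M) - 1
      rw [LinearMap.baseChange_sub, LinearMap.baseChange_one]
    rw [hbcsub] at hunit'
    intro w hw
    have hinj' := ((Module.End.isUnit_iff _).1 hunit').1
    apply hinj'
    rw [map_zero, LinearMap.sub_apply, Module.End.one_apply, sub_eq_zero]
    exact hw

end Field

end Cfsg.Agent.Lib.Helper56.HH
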