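import Cfsg.Agent.Lib.Helper56.HHField

/-!
# Fourth layer: a finite group acting on an elementary abelian `p`-group
-/

set_option autoImplicit false
set_option linter.unusedSectionVars false
set_option linter.style.haveILetI false

namespace Cfsg.Agent.Lib.Helper56.HH

open Module
open scoped commutatorElement

section Group

variable {N : Type*} [CommGroup N] [Finite N]
variable {E : Type*} [Group E] [Finite E]

theorem central_fixed_point_or_card_le_aux (p : ℕ) [Fact p.Prime]
    [Module (ZMod p) (Additive N)]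
    (φ : E →* MulAut N) (ξ : MulAut N) (τ : E ≃* E)
    (z : E) (q : ℕ) (hq : q.Prime) (hzq : z ^ q = 1)
    (hzc : ∀ e, z * e = e * z) (hτz : τ z = z)
    (hcomm : ∀ e f : E, ⁅e, f⁆ ∈ Subgroup.zpowers z)
    (hnd : ∀ e : E, (∀ f : E, ⁅e, f⁆ = 1) → e ∈ Subgroup.zpowers z)
    (hz1 : φ z ≠ 1)
    (hE : ¬ p ∣ Nat.card E) (hτ : ∀ e, ξ * φ e = φ (τ e) * ξ) (r : ℕ) (hr : r.Prime)
    (hrp : r ≠ p) (hξr : ξ ^ r = 1)
    (hfpf : ∀ e, (τ e)⁻¹ * e ∈ Subgroup.zpowers z → e ∈ Subgroup.zpowers z)
    (hfix : ∀ a : N, ξ a = a → a = 1) :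
    (Subgroup.zpowers z).index ≤ (r - 1) ^ 2 ∧ r ∣ (Subgroup.zpowers z).index - 1 := by
  classical
  haveI : Fintype E := Fintype.ofFinite E
  have hp : p.Prime := Fact.out
  haveI : Finite (Additive N) := inferInstanceAs (Finite N)
  haveI : FiniteDimensional (ZMod p) (Additive N) := Module.Finite.of_finite
  let lin : MulAut N →* Module.End (ZMod p) (Additive N) :=
    { toFun := fun f => (MonoidHom.toAdditive f.toMonoidHom).toZModLinearMap p
      map_one' := by
        apply LinearMap.ext
        intro x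
        simp
      map_mul' := by
        intro f g
        apply LinearMap.ext
        intro x
        simp }
  have hlin_apply : ∀ (f : MulAut N) (x : Additive N), lin f x = Additive.ofMul (f (Additive.toMul x)) :=
    fun f x => rfl
  have hlin_inj : Function.Injective lin := by
    intro f g hfg
    ext a
    have := congrArg (fun h : Module.End (ZMod p) (Additive N) => h (Additive.ofMul a)) hfg
    exact congrArg Additive.toMul this
  have hcast : ∀ n : ℕ, ¬ p ∣ n → (n : ZMod p) ≠ 0 := by
    intro n hn h0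
    exact hn ((ZMod.natCast_eq_zero_iff n p).1 h0)
  refine central_fixed_vector_or_card_le_field (K := ZMod p) (M := Additive N) (lin.comp φ)
    (Units.map lin (toUnits ξ)) τ z q hq hzq hzc hτz hcomm hnd ?_ ?_ ?_ r hr ?_ ?_ hfpf ?_
  · intro h1
    apply hz1
    apply hlin_inj
    rw [map_one]
    exact h1
  · rw [← Nat.card_eq_fintype_card]
    exact hcast _ hE
  · intro e
    have := congrArg lin (hτ e)
    rw [map_mul, map_mul] at this
    exact this
  · apply hcast
    intro h
    exact hrp ((Nat.prime_dvd_prime_iff_eq hp hr).1 h).symm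
  · rw [← map_pow, ← map_pow, hξr, map_one, map_one]
  · intro m hm
    have h1 : ξ (Additive.toMul m) = Additive.toMul m := congrArg Additive.toMul hm
    have h2 := hfix _ h1
    exact congrArg Additive.ofMul h2

/-- **Fourth layer.** `E` acts on the elementary abelian `p`-group `N` via `φ`, `ξ` is an
automorphism of `N` of prime order `r` inducing `τ` on `E`. -/
theorem central_fixed_point_or_card_le (p : ℕ) [Fact p.Prime] (hexp : ∀ a : N, a ^ p = 1)
    (φ : E →* MulAut N) (ξ : MulAut N) (τ : E ≃* E)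
    (z : E) (q : ℕ) (hq : q.Prime) (hzq : z ^ q = 1)
    (hzc : ∀ e, z * e = e * z) (hτz : τ z = z)
    (hcomm : ∀ e f : E, ⁅e, f⁆ ∈ Subgroup.zpowers z)
    (hnd : ∀ e : E, (∀ f : E, ⁅e, f⁆ = 1) → e ∈ Subgroup.zpowers z)
    (hz1 : φ z ≠ 1)
    (hE : ¬ p ∣ Nat.card E) (hτ : ∀ e, ξ * φ e = φ (τ e) * ξ) (r : ℕ) (hr : r.Prime)
    (hrp : r ≠ p) (hξr : ξ ^ r = 1)
    (hfpf : ∀ e, (τ e)⁻¹ * e ∈ Subgroup.zpowers z → e ∈ Subgroup.zpowers z)
    (hfix : ∀ a : N, ξ a = a → a = 1) :
    (Subgroup.zpowers z).index ≤ (r - 1) ^ 2 ∧ r ∣ (Subgroup.zpowers z).index - 1 := by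
  letI : Module (ZMod p) (Additive N) := AddCommGroup.zmodModule (n := p) (by
    intro x
    have := hexp (Additive.toMul x)
    exact congrArg Additive.ofMul this)
  exact central_fixed_point_or_card_le_aux p φ ξ τ z q hq hzq hzc hτz hcomm hnd hz1 hE hτ r hr hrp
    hξr hfpf hfix

end Group

end Cfsg.Agent.Lib.Helper56.HH
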