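import Cfsg.Agent.Lib.Helper94.LCDefs

/-!
# K-LC pack (S0406), leaf A3 (640608, helper56): at most 759 words of weight 8
-/

set_option autoImplicit false

namespace Cfsg.Agent.Lib.Helper56.LC

open Cfsg.Agent.Lib.Helper94.LC

/-- the support of a binary word -/
def supp (w : Fin 24 → ZMod 2) : Finset (Fin 24) := Finset.univ.filter (fun i => w i ≠ 0)

theorem card_supp (w : Fin 24 → ZMod 2) : (supp w).card = hammingNorm w := rfl

theorem zmod2_add_ne_zero (a b : ZMod 2) :
    a + b ≠ 0 ↔ (a ≠ 0 ∧ b = 0) ∨ (a = 0 ∧ b ≠ 0) := by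
  revert a b; decide

theorem supp_add (v w : Fin 24 → ZMod 2) :
    supp (v + w) = (supp v \ supp w) ∪ (supp w \ supp v) := by
  ext i
  simp only [supp, Finset.mem_filter, Finset.mem_univ, true_and, Pi.add_apply, Finset.mem_union,
    Finset.mem_sdiff, not_not]
  rw [zmod2_add_ne_zero]
  tauto

theorem card_supp_add (v w : Fin 24 → ZMod 2) :
    (supp (v + w)).card + 2 * (supp v ∩ supp w).card = (supp v).card + (supp w).card := by
  have hd : Disjoint (supp v \ supp w) (supp w \ supp v) := by
    rw [Finset.disjoint_left]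
    intro x hx hx'
    rw [Finset.mem_sdiff] at hx hx'
    exact hx.2 hx'.1
  rw [supp_add, Finset.card_union_of_disjoint hd]
  have h1 := Finset.card_sdiff_add_card_inter (supp v) (supp w)
  have h2 := Finset.card_sdiff_add_card_inter (supp w) (supp v)
  rw [Finset.inter_comm (supp w)] at h2
  omega

/-- **LEAF A3.** a binary code of length 24 and minimum weight at least 8 has at most 759 words of
weight 8. -/
theorem card_weight8_le (C : Submodule (ZMod 2) (Fin 24 → ZMod 2))
    (hmin : ∀ w ∈ C, w ≠ 0 → 8 ≤ hammingNorm w) :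
    {w : Fin 24 → ZMod 2 | w ∈ C ∧ hammingNorm w = 8}.ncard ≤ 759 := by
  classical
  set O : Finset (Fin 24 → ZMod 2) :=
    Finset.univ.filter (fun w => w ∈ C ∧ hammingNorm w = 8) with hO
  have hset : {w : Fin 24 → ZMod 2 | w ∈ C ∧ hammingNorm w = 8} = ↑O := by
    ext w
    simp [hO]
  rw [hset, Set.ncard_coe_finset]
  have hint : ∀ v ∈ O, ∀ w ∈ O, v ≠ w → (supp v ∩ supp w).card ≤ 4 := by
    intro v hv w hw hvw
    rw [hO, Finset.mem_filter] at hv hw
    have h1 : v + w ∈ C := C.add_mem hv.2.1 hw.2.1
    have h2 : v + w ≠ 0 := by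
      intro h
      apply hvw
      have h' : v = -w := eq_neg_of_add_eq_zero_left h
      rw [h']
      funext i
      have : ∀ a : ZMod 2, -a = a := by decide
      exact this (w i)
    have h3 := hmin _ h1 h2
    have h4 := card_supp_add v w
    rw [card_supp, card_supp, card_supp, hv.2.2, hw.2.2] at h4
    omega
  have hdisj : (O : Set (Fin 24 → ZMod 2)).PairwiseDisjoint
      (fun w => Finset.powersetCard 5 (supp w)) := by
    intro v hv w hw hvw
    show Disjoint (Finset.powersetCard 5 (supp v)) (Finset.powersetCard 5 (supp w))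
    rw [Finset.disjoint_left]
    intro T hT1 hT2
    rw [Finset.mem_powersetCard] at hT1 hT2
    have h1 : T ⊆ supp v ∩ supp w := Finset.subset_inter hT1.1 hT2.1
    have h2 := Finset.card_le_card h1
    have h3 := hint v hv w hw hvw
    omega
  have hcard := Finset.card_biUnion hdisj
  have hsub : O.biUnion (fun w => Finset.powersetCard 5 (supp w)) ⊆
      Finset.powersetCard 5 (Finset.univ : Finset (Fin 24)) := by
    intro T hT
    rw [Finset.mem_biUnion] at hT
    obtain ⟨w, _, hT⟩ := hT
    rw [Finset.mem_powersetCard] at hT ⊢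
    exact ⟨Finset.subset_univ _, hT.2⟩
  have h5 := Finset.card_le_card hsub
  rw [hcard, Finset.card_powersetCard, Finset.card_univ, Fintype.card_fin] at h5
  have h6 : ∑ w ∈ O, (Finset.powersetCard 5 (supp w)).card = O.card * 56 := by
    apply Finset.sum_const_nat
    intro w hw
    rw [Finset.card_powersetCard, card_supp]
    rw [hO, Finset.mem_filter] at hw
    rw [hw.2.2]
    rfl
  rw [h6] at h5
  have h7 : Nat.choose 24 5 = 42504 := by decide
  omega

end Cfsg.Agent.Lib.Helper56.LC
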