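import Mathlib
import Cfsg.Agent.Lib.Helper56.NSE3Defs
import Cfsg.Agent.Lib.Helper61.NSE3Pair
import Cfsg.Agent.Lib.Helper91.NSE3Mixed
import Cfsg.Agent.Lib.Helper89.NSE3Same
import Cfsg.Agent.Lib.Helper23.NSE3NoSq
import Cfsg.Agent.Lib.Helper04.NSE3L05a
import Cfsg.Agent.Lib.Helper80.NSE3SumPair
import Cfsg.Agent.Lib.Helper14.NSE3PairValue
import Cfsg.Agent.Lib.Helper54.NSE3Weisner
import Cfsg.Agent.Lib.Helper74.NSE3L08
import Cfsg.Agent.Lib.Helper97.NSE3TwoPart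
import Cfsg.Agent.Lib.Helper66.NSE3TwoOdd
import Cfsg.Agent.Lib.Helper65.NSE3Ar

set_option autoImplicit false

namespace Cfsg.Agent.Lib.Helper56.NSE3

open Cfsg.Agent.S3995 (s)

variable {G : Type*} [Group G] [Finite G]

-- wrappers around the delivered leaves
theorem L_pair {p k : ℕ} (hp : p.Prime) (hpk : ¬ p ∣ k) (hdvd : p * k ∣ Nat.card G) :
    p ∣ s G k + s G (p * k) := Cfsg.Agent.Lib.Helper61.NSE3.pair hp hpk hdvd

theorem exists_order_prime {p : ℕ} (hp : p.Prime) (hpG : p ∣ Nat.card G) :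
    ∃ g : G, orderOf g = p := by
  have : Fact p.Prime := ⟨hp⟩
  exact exists_prime_orderOf_dvd_card' p hpG

theorem s_prime_mem {μ ν : ℕ} (H : Hyp G μ ν) {p : ℕ} (hp : p.Prime) (hp2 : p ≠ 2)
    (hpG : p ∣ Nat.card G) : s G p = μ ∨ s G p = ν := by
  obtain ⟨g, hg⟩ := exists_order_prime (G := G) hp hpG
  have h3 : 2 < p := lt_of_le_of_ne hp.two_le (Ne.symm hp2)
  have h2 := Cfsg.Agent.S3995.two_le_s h3 g hg
  rcases H p with h | h | h | h
  · omega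
  · omega
  · exact Or.inl h
  · exact Or.inr h

theorem same_kill_aux {μ ν : ℕ} (H : Hyp G μ ν) {p q : ℕ} (hp : p.Prime) (hq : q.Prime)
    (hp2 : p ≠ 2) (hq2 : q ≠ 2) (hpq : p ≠ q) (hpG : p ∣ Nat.card G) (hqG : q ∣ Nat.card G)
    (hsp : s G p = μ) (hsq : s G q = μ) : False := by
  obtain ⟨hμp, hμq, hνp, hνq, hμ2, hν2⟩ :=
    Cfsg.Agent.Lib.Helper89.NSE3.same_step (G := G) L_pair H hp hq hp2 hq2 hpq hpG hqG hsp hsq
  have nsp := Cfsg.Agent.Lib.Helper23.NSE3.no_sq (G := G) L_pair H hp hp2 hμp hνp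
  have nsq := Cfsg.Agent.Lib.Helper23.NSE3.no_sq (G := G) L_pair H hq hq2 hμq hνq
  have pv1 := Cfsg.Agent.Lib.Helper14.NSE3.pair_value (G := G) L_pair H hp hq hp2 hq2 hpq hpG hqG hμp hμq hνp hνq hμ2 hν2
  have pv2 := Cfsg.Agent.Lib.Helper14.NSE3.pair_value (G := G) L_pair H hq hp hq2 hp2 hpq.symm hqG hpG hμq hμp hνq hνp hμ2 hν2
  have hN : Nat.card G ≠ 0 := Nat.card_pos.ne'
  have S1 := Cfsg.Agent.Lib.Helper80.NSE3.sum_pair (Nat.card G) p q hp hq hpq hpG hqG hN (s G) (μ + ν) nsp nsq pv1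
  have S2 := Cfsg.Agent.Lib.Helper80.NSE3.sum_pair (Nat.card G) q p hq hp hpq.symm hqG hpG hN (s G) (μ + ν) nsq nsp pv2
  have W1 := Cfsg.Agent.Lib.Helper04.NSE3.card_dvd_eq_sum (G := G) p hp.pos
  have W2 := Cfsg.Agent.Lib.Helper04.NSE3.card_dvd_eq_sum (G := G) q hq.pos
  have hfilter : (Nat.card G).divisors.filter (fun k => ¬ p ∣ k ∧ ¬ q ∣ k ∧ s G k ≠ 0) =
      (Nat.card G).divisors.filter (fun k => ¬ q ∣ k ∧ ¬ p ∣ k ∧ s G k ≠ 0) := by
    apply Finset.filter_congr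
    intro k _
    tauto
  apply Cfsg.Agent.Lib.Helper54.NSE3.weisner_kill (G := G) hp hq hpq hpG hqG
  rw [W1, W2, S1, S2, hfilter]

theorem same_kill {μ ν : ℕ} (H : Hyp G μ ν) {p q : ℕ} (hp : p.Prime) (hq : q.Prime)
    (hp2 : p ≠ 2) (hq2 : q ≠ 2) (hpq : p ≠ q) (hpG : p ∣ Nat.card G) (hqG : q ∣ Nat.card G)
    (hsame : s G p = s G q) : False := by
  rcases s_prime_mem H hp hp2 hpG with h | h
  · exact same_kill_aux H hp hq hp2 hq2 hpq hpG hqG h (hsame ▸ h)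
  · exact same_kill_aux H.symm hp hq hp2 hq2 hpq hpG hqG h (hsame ▸ h)

theorem not_dvd_two_of_odd {p : ℕ} (hp : p.Prime) (hp2 : p ≠ 2) : ¬ p ∣ 2 := by
  intro h
  exact hp2 ((Nat.prime_dvd_prime_iff_eq hp Nat.prime_two).1 h)

theorem not_dvd_four_of_odd {p : ℕ} (hp : p.Prime) (hp2 : p ≠ 2) : ¬ p ∣ 4 := by
  intro h
  have h4 : p ∣ 2 ^ 2 := by simpa using h
  exact not_dvd_two_of_odd hp hp2 (hp.dvd_of_dvd_pow h4)

theorem main
    (h : (((fun m : ℕ => Nat.card {g : G // orderOf g = m}) '' Set.range (orderOf : G → ℕ))).ncard = 3) :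
    Group.IsSolvable G := by
  obtain ⟨μ, ν, H⟩ := Cfsg.Agent.Lib.Helper74.NSE3.hyp_of_ncard (G := G) h
  have hN : Nat.card G ≠ 0 := Nat.card_pos.ne'
  have key : ∀ p q : ℕ, p.Prime → q.Prime → p ≠ 2 → q ≠ 2 → p ∣ Nat.card G → q ∣ Nat.card G →
      p ≠ q → s G p ≠ s G q := fun p q hp hq hp2 hq2 hpG hqG hpq hsame =>
    same_kill H hp hq hp2 hq2 hpq hpG hqG hsame
  have three : ∀ p q r : ℕ, p.Prime → q.Prime → r.Prime → p ≠ 2 → q ≠ 2 → r ≠ 2 →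
      p ∣ Nat.card G → q ∣ Nat.card G → r ∣ Nat.card G → p ≠ q → p ≠ r → q ≠ r → False := by
    intro p q r hp hq hr hp2 hq2 hr2 hpG hqG hrG hpq hpr hqr
    have k1 := key p q hp hq hp2 hq2 hpG hqG hpq
    have k2 := key p r hp hr hp2 hr2 hpG hrG hpr
    have k3 := key q r hq hr hq2 hr2 hqG hrG hqr
    rcases s_prime_mem H hp hp2 hpG with a | a <;> rcases s_prime_mem H hq hq2 hqG with b | b <;>
      rcases s_prime_mem H hr hr2 hrG with c | c <;> simp_all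
  have mixed : ∀ u : ℕ, 2 ≤ u → (∀ p : ℕ, p.Prime → p ≠ 2 → ¬ p ∣ u) → s G u ≠ 0 → s G u ≠ 1 →
      Group.IsSolvable G := by
    intro u hu hcop h0 h1
    obtain ⟨q, a, b, hq, hcard⟩ := Cfsg.Agent.Lib.Helper65.NSE3.ar_one_odd (Nat.card G) hN
      (fun p t hp ht hp2 ht2 hpG htG hpt =>
        Cfsg.Agent.Lib.Helper91.NSE3.mixed_kill (G := G) L_pair H hp ht hp2 ht2 hpt hu (hcop p hp hp2) (hcop t ht ht2)
          h0 h1 hpG htG (key p t hp ht hp2 ht2 hpG htG hpt))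
    exact Cfsg.Agent.S0144.result 2 q a b Nat.prime_two hq hcard
  by_cases heven : 2 ∣ Nat.card G
  · by_cases h21 : s G 2 = 1
    · by_cases h4 : s G 4 = 0
      · have hn4 := Cfsg.Agent.Lib.Helper97.NSE3.two_part (G := G) h21 h4
        obtain ⟨p, q, a, b, hp, hq, hcard, hoddc⟩ :=
          Cfsg.Agent.Lib.Helper65.NSE3.ar_two_odd (Nat.card G) hN heven hn4 three
        exact Cfsg.Agent.Lib.Helper66.NSE3.solvable_two_odd (G := G) hp hq hcard hoddc h21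
      · have h41 : s G 4 ≠ 1 := by
          obtain ⟨g, hg⟩ := (Cfsg.Agent.S3995.s_ne_zero_iff 4).1 h4
          have := Cfsg.Agent.S3995.two_le_s (by norm_num : 2 < 4) g hg
          omega
        exact mixed 4 (by norm_num) (fun p hp hp2 => not_dvd_four_of_odd hp hp2) h4 h41
    · have h20 : s G 2 ≠ 0 := by
        obtain ⟨g, hg⟩ := exists_order_prime (G := G) Nat.prime_two heven
        exact (Cfsg.Agent.S3995.s_ne_zero_iff 2).2 ⟨g, hg⟩
      exact mixed 2 le_rfl (fun p hp hp2 => not_dvd_two_of_odd hp hp2) h20 h21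
  · have hodd : ∀ p : ℕ, p.Prime → p ∣ Nat.card G → p ≠ 2 := by
      rintro p hp hpG rfl
      exact heven hpG
    obtain ⟨p, q, a, b, hp, hq, hcard⟩ := Cfsg.Agent.Lib.Helper65.NSE3.ar_two (Nat.card G) hN
      (fun p q r hp hq hr hpG hqG hrG hpq hpr hqr =>
        three p q r hp hq hr (hodd p hp hpG) (hodd q hq hqG) (hodd r hr hrG) hpG hqG hrG hpq hpr hqr)
    exact Cfsg.Agent.S0144.result p q a b hp hq hcard

end Cfsg.Agent.Lib.Helper56.NSE3
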