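import Mathlib

set_option autoImplicit false

namespace Cfsg.Agent.Lib.Helper56.Om

/-- a sub-multiset of `a ::ₘ μ` is a sub-multiset of `μ`, or `a` consed to one -/
theorem le_cons_cases' (μ ν : Multiset ℕ) (a : ℕ) (h : ν ≤ a ::ₘ μ) :
    ν ≤ μ ∨ ∃ ν', ν = a ::ₘ ν' ∧ ν' ≤ μ := by
  by_cases ha : a ∈ ν
  · right
    refine ⟨ν.erase a, (Multiset.cons_erase ha).symm, ?_⟩
    exact Multiset.erase_le_iff_le_cons.mpr h
  · left
    exact (Multiset.le_cons_of_notMem ha).mp h

/-- sub-multisets of `replicate j 2` -/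
theorem le_replicate_two (ν : Multiset ℕ) (j : ℕ) (h : ν ≤ Multiset.replicate j 2) :
    ∃ k, ν = Multiset.replicate k 2 := by
  obtain ⟨k, _, hk⟩ := Multiset.le_replicate_iff.mp h
  exact ⟨k, hk⟩

theorem count_two_replicate (k : ℕ) : (Multiset.replicate k 2).count 2 = k := by
  rw [Multiset.count_replicate_self]

theorem sum_replicate_two (k : ℕ) : (Multiset.replicate k 2).sum = 2 * k := by
  rw [Multiset.sum_replicate, smul_eq_mul, mul_comm]

/-- **LEAF OmN1.** A sub-multiset of `(3, 1, 2^j)` with even sum and even multiplicity of `2` has sum divisible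
by `4`. -/
theorem test_even (j m : ℕ) (hme : Even m) (ν : Multiset ℕ)
    (hν : ν ≤ 3 ::ₘ 1 ::ₘ Multiset.replicate j 2) (hνs : ν.sum = m)
    (hν2 : ∀ e : ℕ, Even e → Even (ν.count e)) : m % 4 = 0 := by
  have h2 := hν2 2 (by decide)
  obtain ⟨m', rfl⟩ := hme
  rcases le_cons_cases' _ _ _ hν with h | ⟨ν₁, rfl, h⟩
  · rcases le_cons_cases' _ _ _ h with h' | ⟨ν₂, rfl, h'⟩
    · obtain ⟨k, rfl⟩ := le_replicate_two _ _ h'
      rw [count_two_replicate] at h2
      rw [sum_replicate_two] at hνs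
      obtain ⟨k', rfl⟩ := h2
      omega
    · obtain ⟨k, rfl⟩ := le_replicate_two _ _ h'
      rw [Multiset.sum_cons, sum_replicate_two] at hνs
      omega
  · rcases le_cons_cases' _ _ _ h with h' | ⟨ν₂, rfl, h'⟩
    · obtain ⟨k, rfl⟩ := le_replicate_two _ _ h'
      rw [Multiset.sum_cons, sum_replicate_two] at hνs
      omega
    · obtain ⟨k, rfl⟩ := le_replicate_two _ _ h'
      rw [Multiset.count_cons_of_ne (by decide), Multiset.count_cons_of_ne (by decide),
        count_two_replicate] at h2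
      rw [Multiset.sum_cons, Multiset.sum_cons, sum_replicate_two] at hνs
      obtain ⟨k', rfl⟩ := h2
      omega

/-- **LEAF OmN2.** A sub-multiset of `(1, 1, 2^j)` with even sum and even multiplicity of `2` either contains both
`1`s (sum `≡ 2 mod 4`) or is `2^(m/2)`. -/
theorem test_odd (j m : ℕ) (hme : Even m) (ν : Multiset ℕ)
    (hν : ν ≤ 1 ::ₘ 1 ::ₘ Multiset.replicate j 2) (hνs : ν.sum = m)
    (hν2 : ∀ e : ℕ, Even e → Even (ν.count e)) :
    m % 4 = 2 ∨ ν = Multiset.replicate (m / 2) 2 := by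
  have h2 := hν2 2 (by decide)
  obtain ⟨m', rfl⟩ := hme
  rcases le_cons_cases' _ _ _ hν with h | ⟨ν₁, rfl, h⟩
  · rcases le_cons_cases' _ _ _ h with h' | ⟨ν₂, rfl, h'⟩
    · obtain ⟨k, rfl⟩ := le_replicate_two _ _ h'
      rw [sum_replicate_two] at hνs
      right
      have : (m' + m') / 2 = k := by omega
      rw [this]
    · obtain ⟨k, rfl⟩ := le_replicate_two _ _ h'
      rw [Multiset.sum_cons, sum_replicate_two] at hνs
      omega
  · rcases le_cons_cases' _ _ _ h with h' | ⟨ν₂, rfl, h'⟩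
    · obtain ⟨k, rfl⟩ := le_replicate_two _ _ h'
      rw [Multiset.sum_cons, sum_replicate_two] at hνs
      omega
    · obtain ⟨k, rfl⟩ := le_replicate_two _ _ h'
      rw [Multiset.count_cons_of_ne (by decide), Multiset.count_cons_of_ne (by decide),
        count_two_replicate] at h2
      rw [Multiset.sum_cons, Multiset.sum_cons, sum_replicate_two] at hνs
      obtain ⟨k', rfl⟩ := h2
      left
      omega

end Cfsg.Agent.Lib.Helper56.Om
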