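import Mathlib

/-!
# K-PG2 pack (S3452), leaf PGLa (345201, helper56): element orders of `PGL₂(F)`, odd characteristic

Route: the characteristic polynomial `χ = X² - tX + d` of `g ∈ GL₂(F)` divides `X^p - c`, `X^(q-1) - 1` or
`X^(q+1) - d` in `F[X]` (three cases by the discriminant), so `g^p`, `g^(q-1)` or `g^(q+1)` is scalar
(Cayley-Hamilton), hence central.
-/

set_option autoImplicit false
set_option linter.unusedSectionVars false
set_option linter.unusedVariables false

namespace Cfsg.Agent.Lib.Helper56.PG2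

open Matrix Polynomial

/-- `PGL₂(F)` as in the statement S3452 -/
abbrev PGL2 (F : Type*) [Field F] : Type _ :=
  Matrix.GeneralLinearGroup (Fin 2) F ⧸ Subgroup.center (Matrix.GeneralLinearGroup (Fin 2) F)

section poly

variable {F : Type*} [Field F] [Fintype F]

/-- the polynomial trichotomy -/
theorem pgla_poly (p : ℕ) [Fact p.Prime] [CharP F p] (hp : p ≠ 2) (t d : F) (hd : d ≠ 0) :
    (∃ c : F, (X ^ 2 - C t * X + C d : F[X]) ∣ X ^ p - C c) ∨
      (X ^ 2 - C t * X + C d : F[X]) ∣ X ^ (Fintype.card F - 1) - 1 ∨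
      (∃ c : F, (X ^ 2 - C t * X + C d : F[X]) ∣ X ^ (Fintype.card F + 1) - C c) := by
  have hpp : p.Prime := Fact.out
  have h2 : (2 : F) ≠ 0 := by
    intro h
    have h3 : ((2 : ℕ) : F) = 0 := by exact_mod_cast h
    rw [CharP.cast_eq_zero_iff F p] at h3
    exact hp ((Nat.prime_dvd_prime_iff_eq hpp Nat.prime_two).mp h3)
  have hring : ringChar F ≠ 2 := by
    rw [ringChar.eq F p]; exact hp
  set q := Fintype.card F with hq
  obtain ⟨s, hs⟩ : ∃ s : F, 2 * s = t := ⟨t / 2, by field_simp⟩
  set δ : F := s ^ 2 - d with hδ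
  have hχ : (X ^ 2 - C t * X + C d : F[X]) = (X - C s) ^ 2 - C δ := by
    rw [hδ, ← hs]
    simp only [C_sub, C_mul, C_pow, map_ofNat]
    ring
  by_cases h0 : δ = 0
  · -- repeated root
    left
    refine ⟨s ^ p, ?_⟩
    rw [hχ, h0, C_0, sub_zero, C_pow, ← sub_pow_char]
    exact pow_dvd_pow _ hpp.two_le
  by_cases hsq : IsSquare δ
  · -- two distinct roots in `F`
    right; left
    obtain ⟨c, hc⟩ := hsq
    have hc0 : c ≠ 0 := by
      rintro rfl
      apply h0
      rw [hc, mul_zero]
    have hfac : (X ^ 2 - C t * X + C d : F[X]) = (X - C (s + c)) * (X - C (s - c)) := by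
      rw [hχ, hc]
      simp only [C_sub, C_add, C_mul]
      ring
    have hprod : (s + c) * (s - c) = d := by
      have : δ = c * c := hc
      rw [hδ] at this
      linear_combination this
    have hr1 : s + c ≠ 0 := by
      intro h; rw [h, zero_mul] at hprod; exact hd hprod.symm
    have hr2 : s - c ≠ 0 := by
      intro h; rw [h, mul_zero] at hprod; exact hd hprod.symm
    have hroot : ∀ a : F, a ≠ 0 → (X - C a : F[X]) ∣ X ^ (q - 1) - 1 := by
      intro a ha
      rw [dvd_iff_isRoot, IsRoot, eval_sub, eval_pow, eval_X, eval_one,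
        FiniteField.pow_card_sub_one_eq_one a ha, sub_self]
    rw [hfac]
    apply IsCoprime.mul_dvd _ (hroot _ hr1) (hroot _ hr2)
    apply isCoprime_X_sub_C_of_isUnit_sub
    have : s + c - (s - c) = 2 * c := by ring
    rw [this]
    exact (mul_ne_zero h2 hc0).isUnit
  · -- irreducible case
    right; right
    refine ⟨d, ?_⟩
    rw [← AdjoinRoot.mk_eq_zero]
    set χ : F[X] := X ^ 2 - C t * X + C d with hχdef
    set φ := AdjoinRoot.mk χ with hφ
    have hrel : φ χ = 0 := AdjoinRoot.mk_self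
    -- `N = x - s`, `N² = δ`
    have hN2 : (φ (X - C s)) ^ 2 = φ (C δ) := by
      have : φ ((X - C s) ^ 2 - C δ) = 0 := by rw [← hχ]; exact hrel
      rw [map_sub, map_pow, sub_eq_zero] at this
      exact this
    -- `q` is an odd power of `p`
    obtain ⟨a, -, ha⟩ := FiniteField.card F p
    have hqodd : q = 2 * (q / 2) + 1 := by
      have : q % 2 = 1 := by
        rw [hq, ha]
        have hpodd : p % 2 = 1 := by
          rcases hpp.eq_two_or_odd with h | h
          · exact absurd h hp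
          · exact h
        rw [Nat.pow_mod, hpodd, one_pow]
        norm_num
      omega
    have hδpow : δ ^ (q / 2) = -1 := by
      rcases FiniteField.pow_dichotomy hring h0 with h | h
      · exact absurd ((FiniteField.isSquare_iff hring h0).mpr h) hsq
      · exact h
    -- Frobenius
    have hfrob : (X - C s : F[X]) ^ q = X ^ q - C s := by
      rw [hq, ha, sub_pow_char_pow, ← C_pow, ← ha, ← hq, FiniteField.pow_card]
    have hNq : (φ (X - C s)) ^ q = -(φ (X - C s)) := by
      conv_lhs => rw [hqodd, pow_succ, pow_mul, hN2, ← map_pow, ← C_pow, hδpow]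
      simp
    have hxq : φ (X ^ q) = φ (C t) - φ X := by
      have h1 : φ ((X - C s) ^ q) = -(φ (X - C s)) := by rw [map_pow]; exact hNq
      rw [hfrob, map_sub, map_sub] at h1
      have h3 : φ (C t) = 2 * φ (C s) := by
        rw [← hs, C_mul, map_mul]
        congr 1
      rw [h3]
      linear_combination h1
    have hrel' : φ X ^ 2 - φ (C t) * φ X + φ (C d) = 0 := by
      have h5 : φ (X ^ 2 - C t * X + C d) = 0 := hrel
      rw [map_add, map_sub, map_mul, map_pow] at h5
      exact h5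
    rw [map_sub, pow_succ, map_mul, hxq]
    linear_combination -hrel'

end poly

section main

variable {F : Type*} [Field F] [Fintype F]

theorem pgla_pow_eq_smul (M : Matrix (Fin 2) (Fin 2) F) (N : ℕ) (c : F)
    (h : (X ^ 2 - C M.trace * X + C M.det : F[X]) ∣ X ^ N - C c) :
    M ^ N = c • (1 : Matrix (Fin 2) (Fin 2) F) := by
  rw [← Matrix.charpoly_fin_two] at h
  obtain ⟨r, hr⟩ := h
  have h1 := congrArg (aeval M) hr
  rw [map_mul, Matrix.aeval_self_charpoly, zero_mul, map_sub, map_pow, aeval_X, aeval_C,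
    sub_eq_zero] at h1
  rw [h1, Algebra.algebraMap_eq_smul_one]

theorem pgla_orderOf_dvd_of (g : Matrix.GeneralLinearGroup (Fin 2) F) (N : ℕ) (c : F)
    (h : (g : Matrix (Fin 2) (Fin 2) F) ^ N = c • (1 : Matrix (Fin 2) (Fin 2) F)) :
    orderOf (QuotientGroup.mk g : PGL2 F) ∣ N := by
  apply orderOf_dvd_of_pow_eq_one
  rw [← QuotientGroup.mk_pow, QuotientGroup.eq_one_iff, Subgroup.mem_center_iff]
  intro k
  apply Units.ext
  rw [Units.val_mul, Units.val_mul, Units.val_pow_eq_pow_val, h]
  simp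

/-- LEAF PGLa -/
theorem pgl2_orderOf_dvd {F : Type*} [Field F] [Fintype F] (p : ℕ) [Fact p.Prime] [CharP F p] (hp : p ≠ 2)
    (x : PGL2 F) :
    orderOf x ∣ p ∨ orderOf x ∣ Fintype.card F - 1 ∨ orderOf x ∣ Fintype.card F + 1 := by
  obtain ⟨g, rfl⟩ := QuotientGroup.mk_surjective x
  have hdet : (g : Matrix (Fin 2) (Fin 2) F).det ≠ 0 := by
    have := (Matrix.isUnit_iff_isUnit_det (g : Matrix (Fin 2) (Fin 2) F)).mp g.isUnit
    exact this.ne_zero
  rcases pgla_poly p hp (g : Matrix (Fin 2) (Fin 2) F).trace (g : Matrix (Fin 2) (Fin 2) F).det hdet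
    with ⟨c, hc⟩ | h | ⟨c, hc⟩
  · left
    exact pgla_orderOf_dvd_of g p c (pgla_pow_eq_smul _ _ _ hc)
  · right; left
    apply pgla_orderOf_dvd_of g _ 1
    apply pgla_pow_eq_smul
    rw [C_1]
    exact h
  · right; right
    exact pgla_orderOf_dvd_of g _ c (pgla_pow_eq_smul _ _ _ hc)

end main

end Cfsg.Agent.Lib.Helper56.PG2

/-! ## signature check against the spec text (`notes/S3452_keystones.lean.txt`) -/
namespace Cfsg.Agent.Lib.Helper56.PG2.PGLaCheck

open Matrix

/-- `PGL₂(F)` as in the statement S3452 -/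
abbrev PGL2' (F : Type*) [Field F] : Type _ :=
  Matrix.GeneralLinearGroup (Fin 2) F ⧸ Subgroup.center (Matrix.GeneralLinearGroup (Fin 2) F)

theorem pgla_spec_check {F : Type*} [Field F] [Fintype F] (p : ℕ) [Fact p.Prime] [CharP F p] (hp : p ≠ 2)
    (x : PGL2' F) :
    orderOf x ∣ p ∨ orderOf x ∣ Fintype.card F - 1 ∨ orderOf x ∣ Fintype.card F + 1 :=
  Cfsg.Agent.Lib.Helper56.PG2.pgl2_orderOf_dvd p hp x

example : @pgla_spec_check = @Cfsg.Agent.Lib.Helper56.PG2.pgl2_orderOf_dvd := rfl

end Cfsg.Agent.Lib.Helper56.PG2.PGLaCheck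

#print axioms Cfsg.Agent.Lib.Helper56.PG2.pgl2_orderOf_dvd
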