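import Cfsg.Agent.Lib.Helper56.PQOdd
import Cfsg.Agent.S3736
import Cfsg.Agent.S1462

set_option autoImplicit false

/-!
# Invariant `p'`-subgroups in groups of characteristic `p` type quotients
-/

namespace Cfsg.Agent.Lib.Helper56

open scoped commutatorElement

/-- Lifting elements of order dividing `p` of `C_{X/N}(A)` to `C_X(A)`, `N` a normal `p'`-subgroup
and `A` a `p`-subgroup. -/
theorem exists_lift_of_commute {X : Type*} [Group X] [Finite X] {p : ℕ} [hp : Fact p.Prime]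
    (N : Subgroup X) [N.Normal] (hN : (Nat.card N).Coprime p) (A : Subgroup X) (hA : IsPGroup p A)
    (xb : X ⧸ N) (hxp : xb ^ p = 1)
    (hxA : ∀ a ∈ A, (QuotientGroup.mk' N a) * xb = xb * (QuotientGroup.mk' N a)) :
    ∃ c ∈ Subgroup.centralizer (A : Set X), c ^ p = 1 ∧ QuotientGroup.mk' N c = xb := by
  classical
  set π := QuotientGroup.mk' N with hπ
  obtain ⟨x₀, hx₀⟩ := QuotientGroup.mk'_surjective N xb
  -- the fibre
  let α := {y : X // π y = xb}
  letI act : MulAction A α :=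
    { smul := fun a y => ⟨(a : X) * y * (a : X)⁻¹, by
        have h1 : π ((a : X) * y * (a : X)⁻¹) = π a * xb * (π a)⁻¹ := by
          rw [map_mul, map_mul, map_inv, y.2]
        rw [h1, hxA a a.2, mul_inv_cancel_right]⟩
      one_smul := by intro y; apply Subtype.ext; show ((1 : A) : X) * y * ((1 : A) : X)⁻¹ = y; simp
      mul_smul := by
        intro a b y; apply Subtype.ext
        show ((a * b : A) : X) * y * ((a * b : A) : X)⁻¹ = (a : X) * ((b : X) * y * (b : X)⁻¹) * (a : X)⁻¹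
        simp [mul_assoc] }
  have hsm : ∀ (a : A) (y : α), ((a • y : α) : X) = (a : X) * y * (a : X)⁻¹ := fun a y => rfl
  -- its cardinality
  let e : N ≃ α :=
    { toFun := fun n => ⟨x₀ * n, by
        show π (x₀ * n) = xb
        rw [map_mul, hx₀]
        have : π (n : X) = 1 := (QuotientGroup.eq_one_iff _).2 n.2
        rw [this, mul_one]⟩
      invFun := fun y => ⟨x₀⁻¹ * y, by
        apply (QuotientGroup.eq_one_iff _).1
        show π (x₀⁻¹ * y) = 1
        rw [map_mul, map_inv, hx₀, y.2, inv_mul_cancel]⟩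
      left_inv := by intro n; apply Subtype.ext; simp
      right_inv := by intro y; apply Subtype.ext; simp }
  have hcard : Nat.card α = Nat.card N := (Nat.card_congr e).symm
  have hnd : ¬ p ∣ Nat.card α := by
    rw [hcard]
    intro hdvd
    have := Nat.Coprime.eq_one_of_dvd hN.symm hdvd
    exact hp.out.one_lt.ne' this
  obtain ⟨c₀, hc₀⟩ := hA.nonempty_fixed_point_of_prime_not_dvd_card α hnd
  have hc₀A : (c₀ : X) ∈ Subgroup.centralizer (A : Set X) := by
    rw [Subgroup.mem_centralizer_iff]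
    intro a ha
    have h1 := hc₀ ⟨a, ha⟩
    have h2 := congrArg Subtype.val h1
    rw [hsm] at h2
    have h3 : a * (c₀ : X) * a⁻¹ = c₀ := h2
    rw [mul_inv_eq_iff_eq_mul] at h3
    exact h3
  have hc₀π : π (c₀ : X) = xb := c₀.2
  -- adjust to get order dividing p
  have hcpN : (c₀ : X) ^ p ∈ N := by
    apply (QuotientGroup.eq_one_iff _).1
    show π ((c₀ : X) ^ p) = 1
    rw [map_pow, hc₀π, hxp]
  set m := orderOf ((c₀ : X) ^ p) with hm
  have hmN : m ∣ Nat.card N := by
    have : orderOf (⟨(c₀ : X) ^ p, hcpN⟩ : N) ∣ Nat.card N := orderOf_dvd_natCard _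
    rwa [Subgroup.orderOf_mk] at this
  have hmp : Nat.Coprime m p := Nat.Coprime.coprime_dvd_left hmN hN
  obtain ⟨u, _, hu⟩ := Nat.exists_mul_mod_eq_one_of_coprime hmp hp.out.one_lt
  refine ⟨(c₀ : X) ^ (m * u), Subgroup.pow_mem _ hc₀A _, ?_, ?_⟩
  · rw [← pow_mul, mul_comm (m * u) p, pow_mul, pow_mul, hm, pow_orderOf_eq_one, one_pow]
  · show π ((c₀ : X) ^ (m * u)) = xb
    rw [map_pow, hc₀π]
    have h1 : m * u = p * (m * u / p) + 1 := by
      have := Nat.div_add_mod (m * u) p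
      rw [hu] at this
      exact this.symm
    rw [h1, pow_succ, pow_mul, hxp, one_pow, one_mul]

/-- `Y` finite, `p` odd, `R` a normal `p`-subgroup with `C_Y(R) ≤ R`, `A` a `p`-subgroup
containing every element of order dividing `p` of `C_Y(A)`, `Q` an `A`-invariant `p'`-subgroup:
then `Q = 1`. -/
theorem eq_bot_of_invariant {Y : Type*} [Group Y] [Finite Y] {p : ℕ} [hp' : Fact p.Prime]
    (hp : p ≠ 2) (R : Subgroup Y) [hRn : R.Normal] (hR : IsPGroup p R)
    (hCR : Subgroup.centralizer (R : Set Y) ≤ R)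
    (A : Subgroup Y) (hA : IsPGroup p A)
    (hΩ : ∀ x ∈ Subgroup.centralizer (A : Set Y), x ^ p = 1 → x ∈ A)
    (Q : Subgroup Y) (hQ : (Nat.card Q).Coprime p)
    (hAQ : A ≤ Subgroup.normalizer (Q : Set Y)) : Q = ⊥ := by
  classical
  have hQR : Q ≤ Subgroup.centralizer (R : Set Y) := by
    by_contra hcon
    obtain ⟨E, _, hEmin⟩ := Finite.exists_le_minimal
      (p := fun E : Subgroup Y => E ≤ R ∧ A ≤ Subgroup.normalizer (E : Set Y) ∧
        Q ≤ Subgroup.normalizer (E : Set Y) ∧ ¬ Q ≤ Subgroup.centralizer (E : Set Y))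
      (a := R)
      ⟨le_rfl, by rw [Subgroup.normalizer_eq_top]; exact le_top,
        by rw [Subgroup.normalizer_eq_top]; exact le_top, hcon⟩
    obtain ⟨⟨hER, hAE, hQE, hnc⟩, hmin⟩ := hEmin
    have hEp : IsPGroup p E := hR.to_le hER
    set B : Subgroup Y := A ⊔ Q with hB
    have hBE : B ≤ Subgroup.normalizer (E : Set Y) := sup_le hAE hQE
    have hBQ : B ≤ Subgroup.normalizer (Q : Set Y) := sup_le hAQ Subgroup.le_normalizer
    have hnt : ⁅E, Q⁆ ≠ ⊥ := by
      intro h0
      rw [Subgroup.commutator_eq_bot_iff_le_centralizer] at h0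
      exact hnc (Subgroup.le_centralizer_iff.1 h0)
    have hmin' : ∀ U : Subgroup Y, U < E → B ≤ Subgroup.normalizer (U : Set Y) → ⁅U, Q⁆ = ⊥ := by
      intro U hU hBU
      by_contra h0
      have hUc : ¬ Q ≤ Subgroup.centralizer (U : Set Y) := by
        intro h1
        apply h0
        rw [Subgroup.commutator_eq_bot_iff_le_centralizer]
        exact Subgroup.le_centralizer_iff.1 h1
      have := hmin ⟨hU.le.trans hER, le_sup_left.trans hBU, le_sup_right.trans hBU, hUc⟩ hU.le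
      exact (not_le_of_gt hU) this
    have h36 := Cfsg.Agent.S3736.result B Q E hEp hBE le_sup_right hBQ hQ hnt hmin'
    have hexp : ∀ x ∈ E, x ^ p = 1 := h36.2.2.2 hp
    apply hnc
    refine pq_odd hp A Q hA hQ hAQ (Nat.card E) E rfl hEp hAE hQE ?_
    intro x hx
    obtain ⟨hxE, hxA⟩ := Subgroup.mem_inf.1 hx
    have hxA' : x ∈ A := hΩ x hxA (hexp x hxE)
    rw [Subgroup.mem_centralizer_iff]
    intro q hq
    -- c = q x q⁻¹ x⁻¹ ∈ Q ∩ R
    have hcQ : q * (x * q⁻¹ * x⁻¹) ∈ Q :=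
      Q.mul_mem hq ((Subgroup.mem_normalizer_iff.1 (hAQ hxA') q⁻¹).1 (Q.inv_mem hq))
    have hcR : q * x * q⁻¹ * x⁻¹ ∈ R :=
      R.mul_mem (hRn.conj_mem x (hER hxE) q) (R.inv_mem (hER hxE))
    have hc1 : q * x * q⁻¹ * x⁻¹ = 1 := by
      apply Cfsg.Agent.S1462.eq_one_of_mem_pgroup_of_mem_coprime hR hQ hcR
      have e : q * x * q⁻¹ * x⁻¹ = q * (x * q⁻¹ * x⁻¹) := by group
      rw [e]; exact hcQ
    rw [mul_inv_eq_one, mul_inv_eq_iff_eq_mul] at hc1
    exact hc1
  rw [eq_bot_iff]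
  intro q hq
  rw [Subgroup.mem_bot]
  exact Cfsg.Agent.S1462.eq_one_of_mem_pgroup_of_mem_coprime hR hQ (hCR (hQR hq)) hq

end Cfsg.Agent.Lib.Helper56
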