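import Mathlib

set_option autoImplicit false

/-!
# Thompson's `P × Q` lemma with `P` normalizing `Q`: the abelian case, for abstract actions
-/

namespace Cfsg.Agent.Lib.Helper56

/-- `P` a `p`-group normalizing the `p'`-group `Q`, both acting on the finite abelian `p`-group
`V`. If every `P`-fixed point of `V` is `Q`-fixed then `Q` acts trivially. -/
theorem pq_abelian {V Γ : Type*} [CommGroup V] [Finite V] [Group Γ] [MulDistribMulAction Γ V]
    {p : ℕ} [hp : Fact p.Prime] (hV : IsPGroup p V) (P Q : Subgroup Γ) [Finite Q]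
    (hP : IsPGroup p P) (hQ : (Nat.card Q).Coprime p)
    (hPQ : ∀ a ∈ P, ∀ q ∈ Q, a⁻¹ * q * a ∈ Q)
    (hC : ∀ v : V, (∀ a ∈ P, a • v = v) → ∀ q ∈ Q, q • v = v) :
    ∀ q ∈ Q, ∀ v : V, q • v = v := by
  classical
  haveI : Fintype Q := Fintype.ofFinite _
  -- the norm map
  let N : V →* V :=
    { toFun := fun v => ∏ q : Q, (q : Γ) • v
      map_one' := by simp [smul_one]
      map_mul' := by
        intro v w
        simp only [smul_mul']
        exact Finset.prod_mul_distrib }
  have hN : ∀ v, N v = ∏ q : Q, (q : Γ) • v := fun v => rfl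
  -- N is Q-invariant on the right
  have hNQ : ∀ q₀ ∈ Q, ∀ v, N (q₀ • v) = N v := by
    intro q₀ hq₀ v
    rw [hN, hN]
    refine Fintype.prod_equiv (Equiv.mulRight (⟨q₀, hq₀⟩ : Q)) _ _ ?_
    intro q
    show (q : Γ) • q₀ • v = ((q * ⟨q₀, hq₀⟩ : Q) : Γ) • v
    rw [Subgroup.coe_mul, mul_smul]
  -- N commutes with P
  have hNP : ∀ a ∈ P, ∀ v, N (a • v) = a • N v := by
    intro a ha v
    rw [hN, hN, Finset.smul_prod']
    let e : Q ≃ Q :=
      { toFun := fun q => ⟨a⁻¹ * q * a, hPQ a ha q q.2⟩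
        invFun := fun q => ⟨a * q * a⁻¹, by
          have := hPQ a⁻¹ (P.inv_mem ha) q q.2
          simpa using this⟩
        left_inv := by intro q; apply Subtype.ext; simp [mul_assoc]
        right_inv := by intro q; apply Subtype.ext; simp [mul_assoc] }
    refine Fintype.prod_equiv e _ _ ?_
    intro q
    show (q : Γ) • a • v = a • ((a⁻¹ * q * a : Γ)) • v
    rw [← mul_smul, ← mul_smul]
    congr 1
    group
  set K : Subgroup V := N.ker with hK
  -- the action of P on K
  letI actK : MulAction P K :=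
    { smul := fun a k => ⟨(a : Γ) • (k : V), by
        have hk1 : N (k : V) = 1 := (MonoidHom.mem_ker).1 k.2
        show (a : Γ) • (k : V) ∈ N.ker
        rw [MonoidHom.mem_ker, hNP a a.2, hk1, smul_one]⟩
      one_smul := by intro k; apply Subtype.ext; show ((1 : P) : Γ) • (k : V) = k; simp
      mul_smul := by
        intro a b k; apply Subtype.ext
        show ((a * b : P) : Γ) • (k : V) = (a : Γ) • (b : Γ) • (k : V)
        rw [Subgroup.coe_mul, mul_smul] }
  have hsm : ∀ (a : P) (k : K), ((a • k : K) : V) = (a : Γ) • (k : V) := fun a k => rfl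
  have hKbot : K = ⊥ := by
    by_contra hne
    have hKp : IsPGroup p K := hV.to_subgroup K
    obtain ⟨n, hn⟩ := IsPGroup.iff_card.1 hKp
    have hn0 : n ≠ 0 := by
      intro h0
      rw [h0, pow_zero] at hn
      exact hne (Subgroup.card_eq_one.1 hn)
    have hdvd : p ∣ Nat.card K := by
      rw [hn]; exact dvd_pow_self p hn0
    have hfix : (1 : K) ∈ MulAction.fixedPoints P K := by
      intro a
      apply Subtype.ext
      rw [hsm]
      simp
    obtain ⟨b, hb, hb1⟩ := hP.exists_fixed_point_of_prime_dvd_card_of_fixed_point (α := K) hdvd hfix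
    have hbP : ∀ a ∈ P, a • (b : V) = b := by
      intro a ha
      have := hb ⟨a, ha⟩
      have h2 := congrArg Subtype.val this
      rwa [hsm] at h2
    have hbQ := hC (b : V) hbP
    have hNb : N (b : V) = (b : V) ^ Nat.card Q := by
      rw [hN]
      have : ∀ q : Q, (q : Γ) • (b : V) = b := fun q => hbQ q q.2
      simp only [this]
      rw [Finset.prod_const, Finset.card_univ, Nat.card_eq_fintype_card]
    have hNb1 : N (b : V) = 1 := (MonoidHom.mem_ker).1 b.2
    rw [hNb] at hNb1
    have ho : orderOf (b : V) ∣ Nat.card Q := orderOf_dvd_of_pow_eq_one hNb1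
    obtain ⟨k, hk⟩ := hV (b : V)
    have ho2 : orderOf (b : V) ∣ p ^ k := orderOf_dvd_of_pow_eq_one hk
    have ho1 : orderOf (b : V) = 1 := Nat.eq_one_of_dvd_coprimes (hQ.pow_right k) ho ho2
    apply hb1
    apply Subtype.ext
    exact (orderOf_eq_one_iff.1 ho1).symm
  intro q₀ hq₀ v
  have hy : (q₀ • v) * v⁻¹ ∈ K := by
    show (q₀ • v) * v⁻¹ ∈ N.ker
    rw [MonoidHom.mem_ker, map_mul, map_inv, hNQ q₀ hq₀, mul_inv_cancel]
  rw [hKbot, Subgroup.mem_bot, mul_inv_eq_one] at hy
  exact hy

end Cfsg.Agent.Lib.Helper56
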