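import Cfsg.Agent.Lib.Helper56.BaerSum
import Cfsg.Agent.Lib.Helper56.PQAbelian
import Cfsg.Agent.S0027

set_option autoImplicit false

/-!
# Thompson's strengthening of the `P × Q` lemma for odd primes
`P` a `p`-group normalizing the `p'`-group `Q`, both normalizing the `p`-group `G`, `p` odd,
`C_G(P) ≤ C_G(Q)`: then `Q` centralizes `G`.
-/

namespace Cfsg.Agent.Lib.Helper56

open scoped commutatorElement

/-- conjugation by a normalizing element, as an automorphism of the subgroup -/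
def normConj {X : Type*} [Group X] (G : Subgroup X) :
    ↥(Subgroup.normalizer (G : Set X)) →* MulAut ↥G where
  toFun n :=
    { toFun := fun g => ⟨n * g * (n : X)⁻¹, (Subgroup.mem_normalizer_iff.1 n.2 g).1 g.2⟩
      invFun := fun g => ⟨(n : X)⁻¹ * g * n, by
        have := (Subgroup.mem_normalizer_iff.1 (Subgroup.inv_mem _ n.2) g).1 g.2
        simpa using this⟩
      left_inv := by intro g; apply Subtype.ext; simp [mul_assoc]
      right_inv := by intro g; apply Subtype.ext; simp [mul_assoc]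
      map_mul' := by intro g h; apply Subtype.ext; simp [mul_assoc] }
  map_one' := by ext g; simp
  map_mul' := by intro a b; ext g; simp [mul_assoc]

theorem normConj_apply {X : Type*} [Group X] (G : Subgroup X)
    (n : ↥(Subgroup.normalizer (G : Set X))) (g : ↥G) :
    ((normConj G n g : ↥G) : X) = n * g * (n : X)⁻¹ := rfl

theorem mem_normalizer_commutator {X : Type*} [Group X] {g : X} {H₁ H₂ : Subgroup X}
    (h1 : g ∈ Subgroup.normalizer (H₁ : Set X)) (h2 : g ∈ Subgroup.normalizer (H₂ : Set X)) :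
    g ∈ Subgroup.normalizer ((⁅H₁, H₂⁆ : Subgroup X) : Set X) := by
  rw [Subgroup.mem_normalizer_iff_map_conj_eq] at *
  rw [Subgroup.map_commutator, h1, h2]

theorem card_lt_card_of_lt' {G : Type*} [Group G] [Finite G] {H K : Subgroup G} (h : H < K) :
    Nat.card H < Nat.card K :=
  Set.Finite.card_lt_card (Set.toFinite _) (SetLike.coe_ssubset_coe.2 h)

/-- the class two case -/
theorem pq_class_two {X : Type*} [Group X] [Finite X] {p : ℕ} [hp' : Fact p.Prime] (hp : p ≠ 2)
    (P Q G : Subgroup X) (hP : IsPGroup p P) (hQ : (Nat.card Q).Coprime p)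
    (hPQ : P ≤ Subgroup.normalizer (Q : Set X)) (hG : IsPGroup p G)
    (hPG : P ≤ Subgroup.normalizer (G : Set X)) (hQG : Q ≤ Subgroup.normalizer (G : Set X))
    (hcl : ⁅G, G⁆ ≤ Subgroup.centralizer (G : Set X))
    (hC : G ⊓ Subgroup.centralizer (P : Set X) ≤ Subgroup.centralizer (Q : Set X)) :
    Q ≤ Subgroup.centralizer (G : Set X) := by
  classical
  -- class two for the group ↥G
  have hcl' : CommCentral ↥G := by
    intro x y
    rw [Subgroup.mem_center_iff]
    intro g
    apply Subtype.ext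
    have h1 : ((⁅x, y⁆ : ↥G) : X) ∈ ⁅G, G⁆ := by
      have : ((⁅x, y⁆ : ↥G) : X) = ⁅(x : X), (y : X)⁆ := by
        simp [commutatorElement_def]
      rw [this]
      exact Subgroup.commutator_mem_commutator x.2 y.2
    have h2 := (Subgroup.mem_centralizer_iff.1 (hcl h1)) (g : X) g.2
    simpa using h2
  have hodd : Odd (Nat.card ↥G) := by
    obtain ⟨n, hn⟩ := IsPGroup.iff_card.1 hG
    rw [hn]
    exact Odd.pow (hp'.out.odd_of_ne_two hp)
  letI cg := Baer.commGroup hodd hcl'
  letI act := Baer.mulDistribMulAction hodd hcl'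
  have hVp : IsPGroup p (Baer ↥G) := Baer.isPGroup hodd hcl' hG
  -- the images of P and Q in Aut(G)
  let ψP : ↥P →* MulAut ↥G := (normConj G).comp (Subgroup.inclusion hPG)
  let ψQ : ↥Q →* MulAut ↥G := (normConj G).comp (Subgroup.inclusion hQG)
  have hψP : ∀ (x : ↥P) (g : ↥G), ((ψP x g : ↥G) : X) = x * g * (x : X)⁻¹ := fun x g => rfl
  have hψQ : ∀ (x : ↥Q) (g : ↥G), ((ψQ x g : ↥G) : X) = x * g * (x : X)⁻¹ := fun x g => rfl
  have hP' : IsPGroup p ψP.range :=
    hP.of_surjective ψP.rangeRestrict ψP.rangeRestrict_surjective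
  have hQ' : (Nat.card ψQ.range).Coprime p :=
    Nat.Coprime.coprime_dvd_left (Subgroup.card_range_dvd ψQ) hQ
  have hsmul : ∀ (a : MulAut ↥G) (v : Baer ↥G), a • v = Baer.smulAut a v := fun a v => rfl
  have key := pq_abelian (V := Baer ↥G) (Γ := MulAut ↥G) hVp ψP.range ψQ.range hP' hQ' ?_ ?_
  · intro y hy
    rw [Subgroup.mem_centralizer_iff]
    intro g hg
    have h1 := key (ψQ ⟨y, hy⟩) ⟨⟨y, hy⟩, rfl⟩ ⟨⟨g, hg⟩⟩
    rw [hsmul] at h1
    have h2 := congrArg Baer.val h1
    have h3 := congrArg Subtype.val h2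
    have h4 : y * g * y⁻¹ = g := h3
    rw [mul_inv_eq_iff_eq_mul] at h4
    exact h4.symm
  · -- P' normalizes Q'
    rintro _ ⟨x, rfl⟩ _ ⟨y, rfl⟩
    have hmem : (x : X)⁻¹ * y * x ∈ Q := by
      have := (Subgroup.mem_normalizer_iff.1 (Subgroup.inv_mem _ (hPQ x.2)) (y : X)).1 y.2
      simpa using this
    refine ⟨⟨(x : X)⁻¹ * y * x, hmem⟩, ?_⟩
    ext g
    simp only [MulAut.mul_apply, MulAut.inv_apply]
    rw [hψQ]
    have h5 : (((ψP x).symm ((ψQ y) ((ψP x) g)) : ↥G) : X) = (x : X)⁻¹ * (y * (x * g * (x : X)⁻¹) * (y : X)⁻¹) * x := rfl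
    rw [h5]
    simp only [mul_inv_rev, inv_inv]
    group
  · -- fixed points
    intro v hv
    rintro _ ⟨y, rfl⟩
    rw [hsmul]
    apply Baer.ext'
    apply Subtype.ext
    show (y : X) * (v.val : X) * (y : X)⁻¹ = v.val
    have h1 : (v.val : X) ∈ G ⊓ Subgroup.centralizer (P : Set X) := by
      refine Subgroup.mem_inf.2 ⟨v.val.2, ?_⟩
      rw [Subgroup.mem_centralizer_iff]
      intro x hx
      have h2 := hv (ψP ⟨x, hx⟩) ⟨⟨x, hx⟩, rfl⟩
      rw [hsmul] at h2
      have h3 := congrArg Baer.val h2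
      have h4 := congrArg Subtype.val h3
      have h5 : x * (v.val : X) * x⁻¹ = v.val := h4
      rw [mul_inv_eq_iff_eq_mul] at h5
      exact h5
    have h2 := (Subgroup.mem_centralizer_iff.1 (hC h1)) (y : X) y.2
    rw [h2, mul_inv_cancel_right]

/-- Thompson's strengthening of the `P × Q` lemma for odd `p`. -/
theorem pq_odd {X : Type*} [Group X] [Finite X] {p : ℕ} [hp' : Fact p.Prime] (hp : p ≠ 2)
    (P Q : Subgroup X) (hP : IsPGroup p P) (hQ : (Nat.card Q).Coprime p)
    (hPQ : P ≤ Subgroup.normalizer (Q : Set X)) :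
    ∀ (n : ℕ) (G : Subgroup X), Nat.card G = n → IsPGroup p G →
      P ≤ Subgroup.normalizer (G : Set X) → Q ≤ Subgroup.normalizer (G : Set X) →
      G ⊓ Subgroup.centralizer (P : Set X) ≤ Subgroup.centralizer (Q : Set X) →
      Q ≤ Subgroup.centralizer (G : Set X) := by
  intro n
  induction n using Nat.strong_induction_on with
  | _ n ih =>
  intro G hn hG hPG hQG hC
  have hcop : (Nat.card Q).Coprime (Nat.card G) := by
    obtain ⟨k, hk⟩ := IsPGroup.iff_card.1 hG
    rw [hk]
    exact hQ.pow_right k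
  haveI : Group.IsNilpotent ↥G := hG.isNilpotent
  have hsolv : Group.IsSolvable ↥G := inferInstance
  have h27 := Cfsg.Agent.S0027.result Q G hQG hcop (Or.inr hsolv)
  -- H = [G,Q]
  have hHG : ⁅G, Q⁆ ≤ G := Subgroup.le_normalizer_iff_commutator_le_left.1 hQG
  have hPH : P ≤ Subgroup.normalizer ((⁅G, Q⁆ : Subgroup X) : Set X) :=
    fun x hx => mem_normalizer_commutator (hPG hx) (hPQ hx)
  have hQH : Q ≤ Subgroup.normalizer ((⁅G, Q⁆ : Subgroup X) : Set X) :=
    Subgroup.normalizer_commutator_ge_right G Q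
  by_cases hHeq : ⁅G, Q⁆ = G
  · -- D = [G,G]
    have hDG : ⁅G, G⁆ ≤ G :=
      Subgroup.le_normalizer_iff_commutator_le_left.1 Subgroup.le_normalizer
    have hPD : P ≤ Subgroup.normalizer ((⁅G, G⁆ : Subgroup X) : Set X) :=
      fun x hx => mem_normalizer_commutator (hPG hx) (hPG hx)
    have hQD : Q ≤ Subgroup.normalizer ((⁅G, G⁆ : Subgroup X) : Set X) :=
      fun x hx => mem_normalizer_commutator (hQG hx) (hQG hx)
    by_cases hDeq : ⁅G, G⁆ = G
    · -- G trivial
      have hGbot : G = ⊥ := by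
        by_contra hne
        haveI : Nontrivial ↥G := (Subgroup.nontrivial_iff_ne_bot G).2 hne
        have hlt := IsSolvable.commutator_lt_top_of_nontrivial ↥G
        have h1 : (commutator ↥G).map G.subtype = ⁅G, G⁆ := Subgroup.map_subtype_commutator G
        have h2 : (commutator ↥G).map G.subtype = (⊤ : Subgroup ↥G).map G.subtype := by
          rw [h1, hDeq, ← MonoidHom.range_eq_map, Subgroup.range_subtype]
        have h3 := Subgroup.map_injective G.subtype_injective h2
        exact (ne_of_lt hlt) h3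
      rw [hGbot]
      intro y _
      rw [Subgroup.mem_centralizer_iff]
      intro g hg
      rw [Subgroup.coe_bot, Set.mem_singleton_iff] at hg
      rw [hg, one_mul, mul_one]
    · have hlt : Nat.card (⁅G, G⁆ : Subgroup X) < n := by
        rw [← hn]
        exact card_lt_card_of_lt' (lt_of_le_of_ne hDG hDeq)
      have hQcD := ih _ hlt ⁅G, G⁆ rfl (hG.to_le hDG) hPD hQD
        ((inf_le_inf_right _ hDG).trans hC)
      -- three subgroups
      have hQD0 : ⁅Q, ⁅G, G⁆⁆ = ⊥ := by
        rw [Subgroup.commutator_eq_bot_iff_le_centralizer]; exact hQcD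
      have hDQ0 : ⁅⁅G, G⁆, Q⁆ = ⊥ := by
        rw [Subgroup.commutator_comm]; exact hQD0
      have h1 : ⁅⁅Q, ⁅G, G⁆⁆, G⁆ = ⊥ := by
        rw [hQD0]; exact Subgroup.commutator_bot_left G
      have hDn : ⁅⁅G, G⁆, G⁆ ≤ ⁅G, G⁆ := by
        have : G ≤ Subgroup.normalizer ((⁅G, G⁆ : Subgroup X) : Set X) :=
          Subgroup.normalizer_commutator_ge_right G G
        exact Subgroup.le_normalizer_iff_commutator_le_left.1 this
      have h2 : ⁅⁅⁅G, G⁆, G⁆, Q⁆ = ⊥ := by
        rw [eq_bot_iff, ← hDQ0]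
        exact Subgroup.commutator_mono hDn le_rfl
      have h3 : ⁅⁅G, Q⁆, ⁅G, G⁆⁆ = ⊥ := Subgroup.commutator_commutator_eq_bot_of_rotate h1 h2
      rw [hHeq] at h3
      have hcl : ⁅G, G⁆ ≤ Subgroup.centralizer (G : Set X) := by
        rw [← Subgroup.commutator_eq_bot_iff_le_centralizer, Subgroup.commutator_comm]
        exact h3
      exact pq_class_two hp P Q G hP hQ hPQ hG hPG hQG hcl hC
  · have hlt : Nat.card (⁅G, Q⁆ : Subgroup X) < n := by
      rw [← hn]
      exact card_lt_card_of_lt' (lt_of_le_of_ne hHG hHeq)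
    have hQcH := ih _ hlt ⁅G, Q⁆ rfl (hG.to_le hHG) hPH hQH
      ((inf_le_inf_right _ hHG).trans hC)
    have h0 : ⁅⁅G, Q⁆, Q⁆ = ⊥ := by
      rw [Subgroup.commutator_comm, Subgroup.commutator_eq_bot_iff_le_centralizer]
      exact hQcH
    rw [h0] at h27
    rw [← Subgroup.commutator_eq_bot_iff_le_centralizer, Subgroup.commutator_comm]
    exact h27.symm

end Cfsg.Agent.Lib.Helper56
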