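import Mathlib
import Cfsg.Agent.Lib.Helper49.RSU3Defs
import Cfsg.Agent.Lib.Helper40.GUConj
import Cfsg.Agent.Lib.Helper21.RSU3L04
import Cfsg.Agent.Lib.Helper47.RSU3L06

/-!
# K-RSU3 (S2283), leaf L08 (228308, parallel hand helper56): the explicit conjugator
`g = yM a_w b_w * hM lam * xM c e` with `g u g⁻¹ = u h z`.
-/

set_option autoImplicit false
set_option linter.unusedSectionVars false
set_option linter.unusedVariables false

namespace Cfsg.Agent.Lib.Helper56.RSU3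

open Matrix Cfsg.Agent.Lib.Helper49.StSU Cfsg.Agent.Lib.Helper49.RSU3

set_option maxHeartbeats 1600000 in
/-- the matrix identity, all `q`-th powers replaced by explicit rational functions of `μ` -/
theorem l08_core {F : Type*} [Field F] (μ : F) (hμ0 : μ ≠ 0) (h1 : μ - 1 ≠ 0) (h2 : μ + 1 ≠ 0)
    (β βq aw awq bw lam lamq c cq e bzz : F)
    (hβ : β = (2 * μ + 1) / ((μ - 1) * (μ + 1) ^ 3))
    (hβq : βq = -(μ ^ 3 * (μ + 2)) / ((μ - 1) * (μ + 1) ^ 3))
    (haw : aw = -((μ - 1) * (μ + 1) ^ 2)) (hawq : awq = (μ - 1) * (μ + 1) ^ 2 / μ ^ 3)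
    (hbw : bw = (μ - 1) ^ 2 * (μ + 1) ^ 3 / μ ^ 2)
    (hlam : lam = -1 / (μ + 1)) (hlamq : lamq = -μ / (μ + 1))
    (hc : c = β ^ 2 * μ * (μ + 2)) (hcq : cq = βq ^ 2 * (1 + 2 * μ) / μ ^ 2)
    (he : e = c * cq * β) (hbz : bzz = -((μ - μ⁻¹) ^ 3)) :
    (!![1, 0, 0; aw, 1, 0; bw, -awq, 1] * !![lam, 0, 0; 0, lamq / lam, 0; 0, 0, 1 / lamq] *
        !![1, c, e; 0, 1, -cq; 0, 0, 1]) * !![1, 1, β; 0, 1, -1; 0, 0, 1] =
      (!![1, 1, β; 0, 1, -1; 0, 0, 1] * !![μ, 0, 0; 0, μ⁻¹ / μ, 0; 0, 0, 1 / μ⁻¹] *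
        !![1, 0, 0; 0, 1, 0; bzz, 0, 1]) *
      (!![1, 0, 0; aw, 1, 0; bw, -awq, 1] * !![lam, 0, 0; 0, lamq / lam, 0; 0, 0, 1 / lamq] *
        !![1, c, e; 0, 1, -cq; 0, 0, 1] : Matrix (Fin 3) (Fin 3) F) := by
  subst he hc hcq hβ hβq haw hawq hbw hlam hlamq hbz
  ext i j
  fin_cases i <;> fin_cases j <;>
    simp [Matrix.mul_apply, Fin.sum_univ_three] <;> field_simp <;> ring

variable {F : Type*} [Field F] [Fintype F] {q : ℕ}

theorem l08_det_y (a b : F) : (yM q a b).det = 1 := by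
  unfold yM
  rw [Matrix.det_fin_three]
  simp

theorem l08_mulVec_y (a b : F) (u : Fin 3 → F) :
    yM q a b *ᵥ u = ![u 0, a * u 0 + u 1, b * u 0 - a ^ q * u 1 + u 2] := by
  unfold yM
  ext i
  fin_cases i <;> simp [Matrix.mulVec, dotProduct, Fin.sum_univ_three] <;> ring

/-- local copy of L05 -/
theorem l08_exists_y (hF : Fintype.card F = q ^ 2) (a b : F) (h : Val q a b) :
    ∃ g : GJ 3 F q, mat g = yM q a b := by
  obtain ⟨φ, hφ, hφφ, -⟩ := Cfsg.Agent.Lib.Helper40.GUConj.exists_frob hF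
  have h' : b + φ b + a * φ a = 0 := by
    rw [hφ b, hφ a]; exact h
  have hM : ∀ u v, hJ 3 F q (yM q a b *ᵥ u) (yM q a b *ᵥ v) = hJ 3 F q u v := by
    intro u v
    rw [Cfsg.Agent.Lib.Helper21.RSU3.l04_hJ φ hφ, Cfsg.Agent.Lib.Helper21.RSU3.l04_hJ φ hφ,
      l08_mulVec_y, l08_mulVec_y, ← hφ a]
    simp only [Matrix.cons_val_zero, Matrix.cons_val_one, Matrix.cons_val_two, Matrix.head_cons,
      Matrix.tail_cons, map_add, map_sub, map_mul, hφφ]
    linear_combination (u 0 * φ (v 0)) * h'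
  exact ⟨⟨⟨yM q a b, l08_det_y a b⟩, hM⟩, rfl⟩

/-- L08 -/
theorem exists_conj (hq : 3 ≤ q) (hF : Fintype.card F = q ^ 2) (μ : F) (hμ : orderOf μ = q + 1) :
    ∃ g : GJ 3 F q, ∀ u hh zz : GJ 3 F q, mat u = xM q 1 (bet μ) → mat hh = hM q μ →
      mat zz = yM q 0 (bz μ) → g * u * g⁻¹ = u * hh * zz := by
  obtain ⟨φ, hφ, hφφ, -⟩ := Cfsg.Agent.Lib.Helper40.GUConj.exists_frob hF
  -- basic facts on `μ`
  have hμ0 : μ ≠ 0 := by
    intro h
    rw [h] at hμ
    have : orderOf (0 : F) = 0 := by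
      rw [orderOf_eq_zero_iff']
      intro n hn
      rw [zero_pow (by omega)]
      exact zero_ne_one
    omega
  have hμq1 : μ ^ (q + 1) = 1 := by
    rw [← hμ]
    exact pow_orderOf_eq_one μ
  have hμ2 : μ ^ 2 ≠ 1 := by
    intro h
    have := orderOf_dvd_of_pow_eq_one h
    rw [hμ] at this
    have := Nat.le_of_dvd (by norm_num) this
    omega
  have h1 : μ - 1 ≠ 0 := by
    intro h
    apply hμ2
    rw [sub_eq_zero.mp h, one_pow]
  have h2 : μ + 1 ≠ 0 := by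
    intro h
    apply hμ2
    have : μ = -1 := eq_neg_of_add_eq_zero_left h
    rw [this]
    norm_num
  have hφμ : φ μ = μ⁻¹ := by
    rw [hφ]
    have : μ ^ q * μ = 1 := by rw [← pow_succ]; exact hμq1
    exact eq_inv_of_mul_eq_one_left this
  -- the parameters
  set β : F := bet μ with hβdef
  set βq : F := -(μ ^ 3 * (μ + 2)) / ((μ - 1) * (μ + 1) ^ 3) with hβq
  set aw : F := -((μ - 1) * (μ + 1) ^ 2) with haw
  set awq : F := (μ - 1) * (μ + 1) ^ 2 / μ ^ 3 with hawq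
  set bw : F := (μ - 1) ^ 2 * (μ + 1) ^ 3 / μ ^ 2 with hbw
  set lam : F := -1 / (μ + 1) with hlam
  set lamq : F := -μ / (μ + 1) with hlamq
  set c : F := β ^ 2 * μ * (μ + 2) with hc
  set cq : F := βq ^ 2 * (1 + 2 * μ) / μ ^ 2 with hcq
  set e : F := c * cq * β with he
  have hβ : β = (2 * μ + 1) / ((μ - 1) * (μ + 1) ^ 3) := rfl
  -- the `q`-th powers
  have h1' : 1 - μ ≠ 0 := fun h => h1 (by linear_combination -h)
  have h2' : 1 + μ ≠ 0 := fun h => h2 (by linear_combination h)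
  have hi1 : μ⁻¹ - 1 = (1 - μ) / μ := by field_simp
  have hi2 : μ⁻¹ + 1 = (1 + μ) / μ := by field_simp
  have hi3 : 2 * μ⁻¹ + 1 = (2 + μ) / μ := by field_simp
  have hi4 : μ⁻¹ + 2 = (1 + 2 * μ) / μ := by field_simp
  have hφβ : φ β = βq := by
    rw [hβ, hβq]
    simp only [map_div₀, map_mul, map_add, map_sub, map_pow, map_one, map_ofNat, hφμ]
    rw [hi1, hi2, hi3]
    field_simp
    ring
  have hφaw : φ aw = awq := by
    rw [haw, hawq]
    simp only [map_neg, map_mul, map_add, map_sub, map_pow, map_one, hφμ]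
    rw [hi1, hi2]
    field_simp
    ring
  have hφbw : φ bw = (μ - 1) ^ 2 * (μ + 1) ^ 3 / μ ^ 3 := by
    rw [hbw]
    simp only [map_div₀, map_mul, map_add, map_sub, map_pow, map_one, hφμ]
    rw [hi1, hi2]
    field_simp
    ring
  have hφlam : φ lam = lamq := by
    rw [hlam, hlamq]
    simp only [map_div₀, map_neg, map_add, map_one, hφμ]
    rw [hi2]
    field_simp
    ring
  have hφc : φ c = cq := by
    rw [hc, hcq]
    simp only [map_mul, map_pow, map_add, map_ofNat, hφβ, hφμ]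
    rw [hi4]
    field_simp
  have hφcq : φ cq = c := by
    rw [← hφc, hφφ]
  have hφe : φ e = cq * c * βq := by
    rw [he]
    simp only [map_mul, hφc, hφcq, hφβ]
  have hvalβ : β + βq + 1 = 0 := by
    rw [hβ, hβq]
    field_simp
    ring
  -- the unitarity conditions
  have hval1 : Val q aw bw := by
    unfold Val
    rw [← hφ bw, ← hφ aw, hφbw, hφaw, hbw, haw, hawq]
    field_simp
    ring
  have hval2 : Val q c e := by
    unfold Val
    rw [← hφ e, ← hφ c, hφe, hφc, he]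
    linear_combination (c * cq) * hvalβ
  have hlam0 : lam ≠ 0 := by
    rw [hlam]
    exact div_ne_zero (by norm_num) h2
  obtain ⟨Y, hY⟩ := l08_exists_y hF aw bw hval1
  obtain ⟨Hl, hHl⟩ := Cfsg.Agent.Lib.Helper47.RSU3.exists_h hF lam hlam0
  obtain ⟨X, hX⟩ := Cfsg.Agent.Lib.Helper21.RSU3.exists_x hF c e hval2
  refine ⟨Y * Hl * X, ?_⟩
  intro u hh zz hu hhm hz
  rw [mul_inv_eq_iff_eq_mul]
  apply mat_injective
  simp only [mat_mul]
  rw [hY, hHl, hX, hu, hhm, hz]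
  have hq0 : q ≠ 0 := by omega
  have e1 : yM q aw bw = !![1, 0, 0; aw, 1, 0; bw, -awq, 1] := by
    unfold yM
    rw [← hφ aw, hφaw]
  have e2 : hM q lam = !![lam, 0, 0; 0, lamq / lam, 0; 0, 0, 1 / lamq] := by
    unfold hM
    rw [← hφ lam, hφlam]
  have e3 : xM q c e = !![1, c, e; 0, 1, -cq; 0, 0, 1] := by
    unfold xM
    rw [← hφ c, hφc]
  have e4 : xM q 1 β = !![1, 1, β; 0, 1, -1; 0, 0, 1] := by
    unfold xM
    rw [one_pow]
  have e5 : hM q μ = !![μ, 0, 0; 0, μ⁻¹ / μ, 0; 0, 0, 1 / μ⁻¹] := by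
    unfold hM
    rw [← hφ μ, hφμ]
  have e6 : yM q 0 (bz μ) = !![1, 0, 0; 0, 1, 0; bz μ, 0, 1] := by
    unfold yM
    rw [zero_pow hq0, neg_zero]
  rw [e1, e2, e3, e4, e5, e6]
  exact l08_core μ hμ0 h1 h2 β βq aw awq bw lam lamq c cq e (bz μ) hβ hβq haw hawq hbw hlam hlamq hc
    hcq he rfl

end Cfsg.Agent.Lib.Helper56.RSU3

/-! ## signature check against `notes/S2283_keystones.lean.txt` (verbatim statement under the spec's header) -/
namespace Cfsg.Agent.Lib.Helper56.RSU3L08Check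

open Matrix Cfsg.Agent.Lib.Helper49.StSU Cfsg.Agent.Lib.Helper49.RSU3

variable {F : Type*} [Field F] [Fintype F] {q : ℕ}

/-- L08 -/
theorem exists_conj (hq : 3 ≤ q) (hF : Fintype.card F = q ^ 2) (μ : F) (hμ : orderOf μ = q + 1) :
    ∃ g : GJ 3 F q, ∀ u hh zz : GJ 3 F q, mat u = xM q 1 (bet μ) → mat hh = hM q μ →
      mat zz = yM q 0 (bz μ) → g * u * g⁻¹ = u * hh * zz :=
  Cfsg.Agent.Lib.Helper56.RSU3.exists_conj hq hF μ hμ

example : @exists_conj = @Cfsg.Agent.Lib.Helper56.RSU3.exists_conj := rfl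

end Cfsg.Agent.Lib.Helper56.RSU3L08Check

#print axioms Cfsg.Agent.Lib.Helper56.RSU3.exists_conj
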