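import Mathlib

/-!
# K-RSU3 (S2283), leaf L15 (228315, parallel hand helper56): the subfield argument `F_p[μ³] = F`
for `μ` of order `q + 1` in the field with `q²` elements, `q ∉ {5, 8}`.
-/

set_option autoImplicit false
set_option linter.unusedSectionVars false
set_option linter.unusedVariables false

namespace Cfsg.Agent.Lib.Helper56.RSU3

/-- the arithmetic core: `q² = r^e`, `e ≥ 2`, `(q+1) ∣ 3 (r-1)` force `q = 5` or `q = 8` -/
theorem l15_arith (q r e : ℕ) (hq : 3 ≤ q) (hr : 2 ≤ r) (he : 2 ≤ e) (hpow : q ^ 2 = r ^ e)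
    (hdvd : (q + 1) ∣ 3 * (r - 1)) : q = 5 ∨ q = 8 := by
  have hle : q + 1 ≤ 3 * (r - 1) := Nat.le_of_dvd (by omega) hdvd
  rcases Nat.lt_or_ge e 3 with he3 | he3
  · -- `e = 2`
    have he2 : e = 2 := by omega
    subst he2
    have hrq : q = r := Nat.pow_left_injective (by norm_num : (2 : ℕ) ≠ 0) hpow
    subst hrq
    obtain ⟨k, hk⟩ := hdvd
    have hk3 : k < 3 := by
      by_contra hk3
      have hk3' : 3 ≤ k := by omega
      have : (q + 1) * 3 ≤ (q + 1) * k := Nat.mul_le_mul_left _ hk3'
      omega
    interval_cases k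
    · omega
    · omega
    · left
      omega
  · -- `e ≥ 3`
    have h3 : r ^ 3 ≤ q ^ 2 := by
      rw [hpow]
      exact Nat.pow_le_pow_right (by omega) he3
    have hr8 : r ≤ 8 := by
      by_contra hr9
      have hr9' : 9 ≤ r := by omega
      have h1 : q ≤ 3 * r := by omega
      have h2 : q ^ 2 ≤ (3 * r) ^ 2 := Nat.pow_le_pow_left h1 2
      have h4 : (3 * r) ^ 2 = 9 * r ^ 2 := by ring
      have h5 : 9 * r ^ 2 ≤ r * r ^ 2 := Nat.mul_le_mul_right _ hr9'
      have h6 : r * r ^ 2 = r ^ 3 := by ring
      have h7 : 0 < r ^ 2 := by positivity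
      have h8 : q ^ 2 < (3 * r) ^ 2 := by
        have : q < 3 * r := by omega
        exact Nat.pow_lt_pow_left this (by norm_num)
      omega
    right
    interval_cases r
    · exfalso
      have : q ≤ 2 := by omega
      omega
    · exfalso
      have hq5 : q ≤ 5 := by omega
      interval_cases q <;> omega
    · have hq8 : q ≤ 8 := by omega
      interval_cases q <;> omega
    · exfalso
      have hq11 : q ≤ 11 := by omega
      interval_cases q <;> omega
    · exfalso
      have hq14 : q ≤ 14 := by omega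
      interval_cases q <;> omega
    · exfalso
      have hq17 : q ≤ 17 := by omega
      interval_cases q <;> omega
    · exfalso
      have hq20 : q ≤ 20 := by omega
      interval_cases q <;> omega

/-- L15 -/
theorem span_generic {F : Type*} [Field F] [Fintype F] {q : ℕ}
    (hq : 3 ≤ q) (hq5 : q ≠ 5) (hq8 : q ≠ 8) (hF : Fintype.card F = q ^ 2)
    (μ : F) (hμ : orderOf μ = q + 1) (S : Set F) (h1 : (1 : F) ∈ S)
    (hadd : ∀ a ∈ S, ∀ b ∈ S, a + b ∈ S) (hmul : ∀ a ∈ S, μ ^ 3 * a ∈ S) : ∀ c : F, c ∈ S := by
  classical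
  obtain ⟨p, hp⟩ := CharP.exists F
  have hpp : p.Prime := CharP.char_is_prime F p
  have hp2 : 2 ≤ p := hpp.two_le
  -- `S` is closed under natural multiples, contains `0`, closed under negation
  have hnsmul : ∀ n : ℕ, ∀ a ∈ S, ((n + 1 : ℕ) : F) * a ∈ S := by
    intro n
    induction n with
    | zero =>
      intro a ha
      simpa using ha
    | succ n ih =>
      intro a ha
      have : ((n + 1 + 1 : ℕ) : F) * a = ((n + 1 : ℕ) : F) * a + a := by
        push_cast
        ring
      rw [this]
      exact hadd _ (ih a ha) _ ha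
  have h0 : (0 : F) ∈ S := by
    have := hnsmul (p - 1) 1 h1
    have hp1 : p - 1 + 1 = p := by omega
    rw [hp1, CharP.cast_eq_zero F p, zero_mul] at this
    exact this
  have hneg : ∀ a ∈ S, -a ∈ S := by
    intro a ha
    by_cases hp2' : p = 2
    · have h2 : (2 : F) = 0 := by
        have := CharP.cast_eq_zero F p
        rw [hp2'] at this
        exact_mod_cast this
      have : -a = a := by
        have h3 : a + a = 0 := by
          have : a + a = 2 * a := by ring
          rw [this, h2, zero_mul]
        exact neg_eq_of_add_eq_zero_left h3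
      rw [this]
      exact ha
    · have := hnsmul (p - 2) a ha
      have hp1 : p - 2 + 1 = p - 1 := by omega
      rw [hp1, Nat.cast_sub (by omega), CharP.cast_eq_zero F p, Nat.cast_one, zero_sub, neg_one_mul] at this
      exact this
  -- the stabiliser subring
  let T : Subring F :=
    { carrier := {x | ∀ s ∈ S, x * s ∈ S}
      mul_mem' := by
        intro a b ha hb s hs
        have := ha _ (hb s hs)
        rwa [mul_assoc]
      one_mem' := by
        intro s hs
        rwa [one_mul]
      add_mem' := by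
        intro a b ha hb s hs
        rw [add_mul]
        exact hadd _ (ha s hs) _ (hb s hs)
      zero_mem' := by
        intro s hs
        rw [zero_mul]
        exact h0
      neg_mem' := by
        intro a ha s hs
        rw [neg_mul]
        exact hneg _ (ha s hs) }
  have hTmem : ∀ x : F, x ∈ T ↔ ∀ s ∈ S, x * s ∈ S := fun x => Iff.rfl
  have hpowinv : ∀ x : F, x ∈ T → x⁻¹ ∈ T := by
    intro x hx
    by_cases hx0 : x = 0
    · rw [hx0, inv_zero]; exact T.zero_mem
    · have hq2 : 2 ≤ Fintype.card F := Fintype.one_lt_card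
      have h1' : x ^ (Fintype.card F - 1) = 1 := FiniteField.pow_card_sub_one_eq_one x hx0
      have h2 : x⁻¹ = x ^ (Fintype.card F - 2) := by
        have h3 : x ^ (Fintype.card F - 1) = x ^ (Fintype.card F - 2) * x := by
          rw [← pow_succ]
          congr 1
          omega
        rw [h3] at h1'
        exact (eq_inv_of_mul_eq_one_left h1').symm
      rw [h2]
      exact T.pow_mem hx _
  let K : Subfield F := { T with inv_mem' := hpowinv }
  have hKT : ∀ x : F, x ∈ K ↔ x ∈ T := fun x => Iff.rfl
  have hμ3 : μ ^ 3 ∈ K := (hKT _).2 ((hTmem _).2 hmul)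
  have hμ0 : μ ≠ 0 := by
    intro h
    rw [h] at hμ
    have : orderOf (0 : F) = 0 := by
      rw [orderOf_eq_zero_iff']
      intro n hn
      rw [zero_pow (by omega)]
      exact zero_ne_one
    omega
  set r := Fintype.card K with hr
  have hr2 : 2 ≤ r := Fintype.one_lt_card
  have hμ3K : (⟨μ ^ 3, hμ3⟩ : K) ≠ 0 := by
    intro h
    have := congrArg Subtype.val h
    simp only [ZeroMemClass.coe_zero] at this
    exact pow_ne_zero 3 hμ0 this
  have hpowK : (⟨μ ^ 3, hμ3⟩ : K) ^ (r - 1) = 1 := FiniteField.pow_card_sub_one_eq_one _ hμ3K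
  have hpowF : (μ ^ 3) ^ (r - 1) = 1 := by
    have := congrArg Subtype.val hpowK
    simpa using this
  have hdvd : (q + 1) ∣ 3 * (r - 1) := by
    rw [← hμ]
    apply orderOf_dvd_of_pow_eq_one
    rw [pow_mul]
    exact hpowF
  have hcard : Fintype.card F = r ^ Module.finrank K F := Module.card_eq_pow_finrank
  have hepos : 0 < Module.finrank K F := Module.finrank_pos
  have he1 : Module.finrank K F = 1 := by
    by_contra hne1
    have he2 : 2 ≤ Module.finrank K F := by omega
    rcases l15_arith q r _ hq hr2 he2 (by rw [← hF, hcard]) hdvd with h | h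
    · exact hq5 h
    · exact hq8 h
  have hcardeq : Fintype.card K = Fintype.card F := by
    rw [hcard, he1, pow_one]
  have hsurj : Function.Surjective (Subtype.val : K → F) := by
    have hbij : Function.Bijective (Subtype.val : K → F) :=
      (Fintype.bijective_iff_injective_and_card _).2 ⟨Subtype.val_injective, hcardeq⟩
    exact hbij.2
  intro c
  obtain ⟨⟨k, hk⟩, hkk⟩ := hsurj c
  have hk' : c ∈ T := by
    have : k = c := hkk
    rw [← this]
    exact (hKT _).1 hk
  have := (hTmem _).1 hk' 1 h1
  rwa [mul_one] at this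

end Cfsg.Agent.Lib.Helper56.RSU3

/-! ## signature check against `notes/S2283_keystones.lean.txt` (verbatim statement under the spec's `variable` line) -/
namespace Cfsg.Agent.Lib.Helper56.RSU3L15Check

variable {F : Type*} [Field F] [Fintype F] {q : ℕ}

/-- L15 -/
theorem span_generic (hq : 3 ≤ q) (hq5 : q ≠ 5) (hq8 : q ≠ 8) (hF : Fintype.card F = q ^ 2)
    (μ : F) (hμ : orderOf μ = q + 1) (S : Set F) (h1 : (1 : F) ∈ S)
    (hadd : ∀ a ∈ S, ∀ b ∈ S, a + b ∈ S) (hmul : ∀ a ∈ S, μ ^ 3 * a ∈ S) : ∀ c : F, c ∈ S :=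
  Cfsg.Agent.Lib.Helper56.RSU3.span_generic hq hq5 hq8 hF μ hμ S h1 hadd hmul

example : @span_generic = @Cfsg.Agent.Lib.Helper56.RSU3.span_generic := rfl

end Cfsg.Agent.Lib.Helper56.RSU3L15Check

#print axioms Cfsg.Agent.Lib.Helper56.RSU3.span_generic
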