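import Mathlib
import Cfsg.Agent.Lib.Helper73.RUDefs
import Cfsg.Agent.Lib.Helper73.RUHub

/-!
# K-RU4 (S2279, prime core by helper2), leaf E (227905, helper56): the filling lemma (pure linear algebra)

`c_j = a^j e_last` has binomial entries `(c_j) i = C(j, last - i)`.
-/

set_option autoImplicit false
set_option linter.unusedSectionVars false
set_option linter.unusedVariables false

namespace Cfsg.Agent.Lib.Helper56.RU4E

open Matrix Cfsg.Agent.Lib.Helper73.RU

section defs
variable (m : ℕ) (F : Type*) [Field F]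

/-- the index `last - 1` -/
def pen : Fin (m + 3) := ⟨m + 1, by omega⟩

/-- `c₁ = a e_last = e_last + e_{last-1}` -/
def c1 : Fin (m + 3) → F := Pi.single (Fin.last (m + 2)) 1 + Pi.single (pen m) 1

/-- `c_j = a^j e_last` -/
def cvec (j : ℕ) : Fin (m + 3) → F := fun i => ((Nat.choose j (m + 2 - i.val) : ℕ) : F)

end defs

theorem e_aMat_mulVec_apply (m : ℕ) (F : Type*) [Field F] (v : Fin (m + 3) → F) (i : Fin (m + 3)) :
    (aMat m F *ᵥ v) i = v i + (if h : i.val + 1 < m + 3 then v ⟨i.val + 1, h⟩ else 0) := by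
  unfold aMat
  simp only [mulVec, dotProduct, of_apply]
  have hterm : ∀ j : Fin (m + 3), (if i = j ∨ i.val + 1 = j.val then (1 : F) else 0) * v j
      = (if i = j then v j else 0) + (if i.val + 1 = j.val then v j else 0) := by
    intro j
    by_cases h1 : i = j
    · subst h1
      simp
    · by_cases h2 : i.val + 1 = j.val
      · simp [h1, h2]
      · simp [h1, h2]
  rw [Finset.sum_congr rfl (fun j _ => hterm j), Finset.sum_add_distrib,
    Finset.sum_ite_eq Finset.univ i]
  simp only [Finset.mem_univ, if_true]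
  congr 1
  split_ifs with h
  · rw [Finset.sum_eq_single (⟨i.val + 1, h⟩ : Fin (m + 3))]
    · simp
    · intro b _ hb
      rw [if_neg]
      intro hb'
      apply hb
      ext
      simp [hb']
    · intro hh
      exact absurd (Finset.mem_univ _) hh
  · apply Finset.sum_eq_zero
    intro j _
    rw [if_neg]
    intro hj
    have := j.2
    omega

theorem e_aMat_mulVec_cvec (m : ℕ) (F : Type*) [Field F] (j : ℕ) :
    aMat m F *ᵥ cvec m F j = cvec m F (j + 1) := by
  ext i
  rw [e_aMat_mulVec_apply]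
  unfold cvec
  split_ifs with h
  · simp only
    have h1 : m + 2 - i.val = (m + 2 - (i.val + 1)) + 1 := by omega
    rw [h1, Nat.choose_succ_succ, Nat.cast_add, add_comm]
  · have h1 : m + 2 - i.val = 0 := by omega
    rw [h1]
    simp

theorem e_cvec_zero (m : ℕ) (F : Type*) [Field F] :
    cvec m F 0 = (Pi.single (Fin.last (m + 2)) 1 : Fin (m + 3) → F) := by
  ext i
  unfold cvec
  by_cases hi : i = Fin.last (m + 2)
  · subst hi
    simp
  · rw [Pi.single_apply, if_neg hi]
    have h1 : i.val ≠ m + 2 := by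
      intro h
      apply hi
      ext
      simpa using h
    have h2 : i.val < m + 3 := i.2
    have h3 : m + 2 - i.val = (m + 1 - i.val) + 1 := by omega
    rw [h3, Nat.choose_zero_succ, Nat.cast_zero]

theorem e_cvec_one (m : ℕ) (F : Type*) [Field F] : cvec m F 1 = c1 m F := by
  rw [← e_aMat_mulVec_cvec, e_cvec_zero]
  ext i
  rw [e_aMat_mulVec_apply]
  unfold c1 pen
  simp only [Pi.add_apply, Pi.single_apply]
  congr 1
  split_ifs with h h1 h2 h3
  · rfl
  · exfalso
    apply h2
    ext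
    have := congrArg Fin.val h1
    simp at this
    simp
    omega
  · exfalso
    apply h1
    ext
    have := congrArg Fin.val h3
    simp at this
    simp
    omega
  · rfl
  · exfalso
    have := congrArg Fin.val ‹i = (⟨m + 1, _⟩ : Fin (m + 3))›
    simp at this
    omega
  · rfl

theorem e_cvec_eq_zero (m : ℕ) (F : Type*) [Field F] (j : ℕ) (i : Fin (m + 3)) (h : i.val + j < m + 2) :
    cvec m F j i = 0 := by
  unfold cvec
  rw [Nat.choose_eq_zero_of_lt (by omega), Nat.cast_zero]

theorem e_cvec_eq_one (m : ℕ) (F : Type*) [Field F] (j : ℕ) (i : Fin (m + 3)) (h : i.val + j = m + 2) :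
    cvec m F j i = 1 := by
  unfold cvec
  have : m + 2 - i.val = j := by omega
  rw [this, Nat.choose_self, Nat.cast_one]

theorem e_aMat_mulVec_single (m : ℕ) (F : Type*) [Field F] (k : ℕ) (hk : k + 1 < m + 3) :
    aMat m F *ᵥ (Pi.single (⟨k + 1, hk⟩ : Fin (m + 3)) 1 : Fin (m + 3) → F) =
      Pi.single (⟨k + 1, hk⟩ : Fin (m + 3)) 1 + Pi.single (⟨k, by omega⟩ : Fin (m + 3)) 1 := by
  ext i
  rw [e_aMat_mulVec_apply]
  simp only [Pi.add_apply, Pi.single_apply]
  congr 1
  by_cases hi : i.val = k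
  · have h1 : i.val + 1 < m + 3 := by omega
    rw [dif_pos h1, if_pos (by ext; simp [hi]), if_pos (by ext; simp [hi])]
  · rw [if_neg (by intro h; apply hi; simpa using congrArg Fin.val h)]
    split_ifs with h1 h2
    · exfalso
      apply hi
      have := congrArg Fin.val h2
      simp at this
      omega
    · rfl
    · rfl

/-- LEAF E -/
theorem fill {m : ℕ} {F : Type*} [Field F] (hm : 1 ≤ m) (M : Set (Fin (m + 3) → F))
    (hadd : ∀ v w, v ∈ M → w ∈ M → v + w ∈ M) (hneg : ∀ v, v ∈ M → -v ∈ M)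
    (hM0 : ∀ v, v ∈ M → v 0 = 0)
    (hup : ∀ v, v ∈ M → v 1 = 0 → aMat m F *ᵥ v ∈ M)
    (hdown : ∀ y, y ∈ M → y 1 = 1 → ∀ v : Fin (m + 3) → F, v 0 = 0 → v 1 = 0 →
      aMat m F *ᵥ v ∈ M → v ∈ M)
    (hstart : aMat m F *ᵥ c1 m F ∈ M) :
    ∀ j : Fin (m + 3), j ≠ 0 → (Pi.single j 1 : Fin (m + 3) → F) ∈ M := by
  have hv1 : ((1 : Fin (m + 3)) : ℕ) = 1 := by
    rw [Fin.val_one']
    exact Nat.mod_eq_of_lt (by omega)
  have hv0 : ((0 : Fin (m + 3)) : ℕ) = 0 := rfl
  -- phase 1
  have hc2 : cvec m F 2 ∈ M := by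
    rw [← e_aMat_mulVec_cvec, e_cvec_one]
    exact hstart
  have hph1 : ∀ k : ℕ, k + 2 ≤ m + 1 → cvec m F (k + 2) ∈ M := by
    intro k
    induction k with
    | zero => intro _; exact hc2
    | succ k ih =>
      intro hk
      have h1 := ih (by omega)
      have h2 : cvec m F (k + 2) 1 = 0 := e_cvec_eq_zero m F _ _ (by rw [hv1]; omega)
      have h3 := hup _ h1 h2
      rw [e_aMat_mulVec_cvec] at h3
      exact h3
  -- phase 2
  have hy : cvec m F (m + 1) ∈ M := by
    have := hph1 (m - 1) (by omega)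
    have h1 : m - 1 + 2 = m + 1 := by omega
    rwa [h1] at this
  have hy1 : cvec m F (m + 1) 1 = 1 := e_cvec_eq_one m F _ _ (by rw [hv1]; omega)
  have hc1 : cvec m F 1 ∈ M := by
    apply hdown _ hy hy1
    · exact e_cvec_eq_zero m F _ _ (by rw [hv0]; omega)
    · exact e_cvec_eq_zero m F _ _ (by rw [hv1]; omega)
    · rw [e_aMat_mulVec_cvec]
      exact hc2
  have hc0 : cvec m F 0 ∈ M := by
    apply hdown _ hy hy1
    · exact e_cvec_eq_zero m F _ _ (by rw [hv0]; omega)
    · exact e_cvec_eq_zero m F _ _ (by rw [hv1]; omega)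
    · rw [e_aMat_mulVec_cvec]
      exact hc1
  -- phase 3
  have hph3 : ∀ k : ℕ, ∀ hk : k ≤ m + 1,
      (Pi.single (⟨m + 2 - k, by omega⟩ : Fin (m + 3)) 1 : Fin (m + 3) → F) ∈ M := by
    intro k
    induction k with
    | zero =>
      intro _
      have : (⟨m + 2 - 0, by omega⟩ : Fin (m + 3)) = Fin.last (m + 2) := by
        ext
        simp
      rw [this, ← e_cvec_zero]
      exact hc0
    | succ k ih =>
      intro hk
      have h1 := ih (by omega)
      -- index i = m+2-k = (m+1-k)+1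
      have hidx : (⟨m + 2 - k, by omega⟩ : Fin (m + 3)) = ⟨(m + 1 - k) + 1, by omega⟩ := by
        ext
        simp
        omega
      rw [hidx] at h1
      have h2 : (Pi.single (⟨(m + 1 - k) + 1, by omega⟩ : Fin (m + 3)) 1 : Fin (m + 3) → F) 1 = 0 := by
        rw [Pi.single_apply, if_neg]
        intro h
        have := congrArg Fin.val h
        rw [hv1] at this
        simp at this
        omega
      have h3 := hup _ h1 h2
      rw [e_aMat_mulVec_single] at h3
      have h4 := hadd _ _ h3 (hneg _ h1)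
      have hidx2 : (⟨m + 2 - (k + 1), by omega⟩ : Fin (m + 3)) = ⟨m + 1 - k, by omega⟩ := by
        ext
        show m + 2 - (k + 1) = m + 1 - k
        omega
      rw [hidx2]
      convert h4 using 1
      abel
  intro j hj
  have hj0 : j.val ≠ 0 := by
    intro h
    apply hj
    ext
    simpa using h
  have := hph3 (m + 2 - j.val) (by omega)
  have hidx : (⟨m + 2 - (m + 2 - j.val), by omega⟩ : Fin (m + 3)) = j := by
    ext
    simp
    have := j.2
    omega
  rwa [hidx] at this

end Cfsg.Agent.Lib.Helper56.RU4E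

/-! ## signature check: verbatim copy of the spec header defs + LEAF E statement
(`notes/S2279_primecore_helper2.lean.txt`) -/
namespace Cfsg.Agent.Lib.Helper56.RU4ECheck

open Matrix Cfsg.Agent.Lib.Helper73.RU Cfsg.Agent.Lib.Helper73.RUSpec

section defs
variable (m : ℕ) (F : Type*) [Field F]

/-- the index `last - 1` -/
def pen : Fin (m + 3) := ⟨m + 1, by omega⟩

/-- `c₁ = a e_last = e_last + e_{last-1}` -/
def c1 : Fin (m + 3) → F := Pi.single (Fin.last (m + 2)) 1 + Pi.single (pen m) 1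

end defs

theorem fill {m : ℕ} {F : Type*} [Field F] (hm : 1 ≤ m) (M : Set (Fin (m + 3) → F))
    (hadd : ∀ v w, v ∈ M → w ∈ M → v + w ∈ M) (hneg : ∀ v, v ∈ M → -v ∈ M)
    (hM0 : ∀ v, v ∈ M → v 0 = 0)
    (hup : ∀ v, v ∈ M → v 1 = 0 → aMat m F *ᵥ v ∈ M)
    (hdown : ∀ y, y ∈ M → y 1 = 1 → ∀ v : Fin (m + 3) → F, v 0 = 0 → v 1 = 0 →
      aMat m F *ᵥ v ∈ M → v ∈ M)
    (hstart : aMat m F *ᵥ c1 m F ∈ M) :
    ∀ j : Fin (m + 3), j ≠ 0 → (Pi.single j 1 : Fin (m + 3) → F) ∈ M :=
  Cfsg.Agent.Lib.Helper56.RU4E.fill hm M hadd hneg hM0 hup hdown hstart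

example : @fill = @Cfsg.Agent.Lib.Helper56.RU4E.fill := rfl

end Cfsg.Agent.Lib.Helper56.RU4ECheck

#print axioms Cfsg.Agent.Lib.Helper56.RU4E.fill
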