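import Mathlib
import Cfsg.Agent.Lib.Helper73.RUDefs
import Cfsg.Agent.Lib.Helper73.RUHub
import Cfsg.Agent.Lib.Helper56.RU4E

/-!
# K-RU4 (S2279, prime core by helper2), leaf B (227902, parallel hand helper56): the transvection
`[d₋₁,[d₋₁,d₀]] = 1 + l³ c₁ φ₋₁ᵀ`, `d₋₁ = u⁻¹ v`, `d₀ = v u⁻¹`.

With `P = p f₁ᵀ`, `E = e_L e_0ᵀ`, `Q = c₁ φ` (`φ_j = (-1)^j`, `p = ε φ`, `ε = (-1)^L`):
`d₋₁ = 1 + l (P - E)`, `d₀ = 1 + l (E - Q)`, `[d₋₁,d₀] = 1 + l³ R - ε l² (S + T - (L+1) R)`,
`R = c₁ f₁ᵀ`, `S = e_L f₁ᵀ`, `T = c₁ e_0ᵀ`; all products of `P,E,Q,R,S,T` are given by nine dot products.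
-/

set_option autoImplicit false
set_option linter.unusedSectionVars false
set_option linter.unusedVariables false
set_option linter.unusedSimpArgs false

namespace Cfsg.Agent.Lib.Helper56.RU4B

open Matrix Cfsg.Agent.Lib.Helper73.RU

section defs
variable (m : ℕ) (F : Type*) [Field F]

/-- the index `last - 1` -/
def pen : Fin (m + 3) := ⟨m + 1, by omega⟩

/-- `v = g a g⁻¹ = a + l E_{last,1} - l E_{last-1,0}` -/
def v4 (l : F) : Matrix (Fin (m + 3)) (Fin (m + 3)) F :=
  aMat m F + Matrix.single (Fin.last (m + 2)) 1 l - Matrix.single (pen m) 0 l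

/-- `c₁ = a e_last = e_last + e_{last-1}` -/
def c1 : Fin (m + 3) → F := Pi.single (Fin.last (m + 2)) 1 + Pi.single (pen m) 1

/-- `φ₋₁ = e_0ᵀ a = e_0 + e_1` -/
def f1 : Fin (m + 3) → F := Pi.single 0 1 + Pi.single 1 1

/-- `φ = e_0ᵀ a⁻¹` -/
def phiv : Fin (m + 3) → F := fun j => (-1) ^ j.val

end defs

/-- the abstract computation in the algebra spanned by `P,E,Q,R,S,T` -/
theorem b_alg {F M : Type*} [Field F] [Ring M] [Algebra F M] (P E Q R S T : M) (l N ε : F)
    (hε : ε = 1 ∨ ε = -1)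
    (hPP : P * P = 0) (hEE : E * E = 0) (hQQ : Q * Q = 0) (hPE : P * E = 0) (hPQ : P * Q = 0)
    (hEQ : E * Q = 0) (hEP : E * P = ε • S) (hQP : Q * P = (N * ε) • R) (hQE : Q * E = ε • T)
    (hRP : R * P = 0) (hRE : R * E = 0) (hRQ : R * Q = 0) (hRR : R * R = 0) (hRS : R * S = 0)
    (hRT : R * T = 0) (hPR : P * R = 0) (hER : E * R = 0) (hQR : Q * R = 0) (hSR : S * R = 0)
    (hTR : T * R = 0) (hSP : S * P = 0) (hSE : S * E = 0) (hSQ : S * Q = 0) (hPS : P * S = 0)
    (hES : E * S = 0) (hQS : Q * S = ε • R) (hTP : T * P = ε • R) (hTE : T * E = 0) (hTQ : T * Q = 0)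
    (hPT : P * T = 0) (hET : E * T = 0) (hQT : Q * T = 0) (hSS : S * S = 0) (hST : S * T = 0)
    (hTS : T * S = 0) (hTT : T * T = 0) :
    (1 + l ^ 3 • R - (ε * l ^ 2) • (S + T - N • R)) * ((1 + l • (E - Q)) * (1 + l • (P - E))) =
        (1 + l • (P - E)) * (1 + l • (E - Q)) ∧
      (1 + l ^ 3 • R) * ((1 + l ^ 3 • R - (ε * l ^ 2) • (S + T - N • R)) * (1 + l • (P - E))) =
        (1 + l • (P - E)) * (1 + l ^ 3 • R - (ε * l ^ 2) • (S + T - N • R)) := by
  rcases hε with rfl | rfl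
  · constructor
    · simp only [mul_add, add_mul, mul_sub, sub_mul, smul_mul_assoc, mul_smul_comm, mul_one, one_mul,
        smul_add, smul_sub, hPP, hEE, hQQ, hPE, hPQ, hEQ, hEP, hQP, hQE, hRP, hRE, hRQ, hRR, hRS, hRT,
        hPR, hER, hQR, hSR, hTR, hSP, hSE, hSQ, hPS, hES, hQS, hTP, hTE, hTQ, hPT, hET, hQT, hSS, hST,
        hTS, hTT, smul_zero, add_zero, sub_zero, zero_add, zero_sub, smul_smul, mul_neg, neg_mul,
        smul_neg, neg_zero, neg_neg, mul_zero, zero_mul]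
      module
    · simp only [mul_add, add_mul, mul_sub, sub_mul, smul_mul_assoc, mul_smul_comm, mul_one, one_mul,
        smul_add, smul_sub, hPP, hEE, hQQ, hPE, hPQ, hEQ, hEP, hQP, hQE, hRP, hRE, hRQ, hRR, hRS, hRT,
        hPR, hER, hQR, hSR, hTR, hSP, hSE, hSQ, hPS, hES, hQS, hTP, hTE, hTQ, hPT, hET, hQT, hSS, hST,
        hTS, hTT, smul_zero, add_zero, sub_zero, zero_add, zero_sub, smul_smul, mul_neg, neg_mul,
        smul_neg, neg_zero, neg_neg, mul_zero, zero_mul]
      module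
  · constructor
    · simp only [mul_add, add_mul, mul_sub, sub_mul, smul_mul_assoc, mul_smul_comm, mul_one, one_mul,
        smul_add, smul_sub, hPP, hEE, hQQ, hPE, hPQ, hEQ, hEP, hQP, hQE, hRP, hRE, hRQ, hRR, hRS, hRT,
        hPR, hER, hQR, hSR, hTR, hSP, hSE, hSQ, hPS, hES, hQS, hTP, hTE, hTQ, hPT, hET, hQT, hSS, hST,
        hTS, hTT, smul_zero, add_zero, sub_zero, zero_add, zero_sub, smul_smul, mul_neg, neg_mul,
        smul_neg, neg_zero, neg_neg, mul_zero, zero_mul]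
      module
    · simp only [mul_add, add_mul, mul_sub, sub_mul, smul_mul_assoc, mul_smul_comm, mul_one, one_mul,
        smul_add, smul_sub, hPP, hEE, hQQ, hPE, hPQ, hEQ, hEP, hQP, hQE, hRP, hRE, hRQ, hRR, hRS, hRT,
        hPR, hER, hQR, hSR, hTR, hSP, hSE, hSQ, hPS, hES, hQS, hTP, hTE, hTQ, hPT, hET, hQT, hSS, hST,
        hTS, hTT, smul_zero, add_zero, sub_zero, zero_add, zero_sub, smul_smul, mul_neg, neg_mul,
        smul_neg, neg_zero, neg_neg, mul_zero, zero_mul]
      module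

section concrete

variable {m : ℕ} {F : Type*} [Field F]

theorem b_vv_mul (a b c d : Fin (m + 3) → F) (k : F) (h : b ⬝ᵥ c = k) :
    vecMulVec a b * vecMulVec c d = k • vecMulVec a d := by
  rw [vecMulVec_mul_vecMulVec, h, vecMulVec_smul]

theorem b_vv_mul_zero (a b c d : Fin (m + 3) → F) (h : b ⬝ᵥ c = 0) :
    vecMulVec a b * vecMulVec c d = 0 := by
  rw [b_vv_mul a b c d 0 h, zero_smul]

theorem b_val_one : ((1 : Fin (m + 3)) : ℕ) = 1 := by
  rw [Fin.val_one']
  exact Nat.mod_eq_of_lt (by omega)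

theorem b_last_ne_zero : (Fin.last (m + 2) : Fin (m + 3)) ≠ 0 := by
  intro h
  have := congrArg Fin.val h
  simp at this

theorem b_last_ne_one : (Fin.last (m + 2) : Fin (m + 3)) ≠ 1 := by
  intro h
  have := congrArg Fin.val h
  rw [b_val_one] at this
  simp at this

theorem b_pen_ne_zero : (pen m : Fin (m + 3)) ≠ 0 := by
  intro h
  have := congrArg Fin.val h
  simp [pen] at this

theorem b_pen_ne_one (hm : 1 ≤ m) : (pen m : Fin (m + 3)) ≠ 1 := by
  intro h
  have := congrArg Fin.val h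
  rw [b_val_one] at this
  simp [pen] at this
  omega

theorem b_one_ne_zero : (1 : Fin (m + 3)) ≠ 0 := by
  intro h
  have := congrArg Fin.val h
  rw [b_val_one] at this
  simp at this

/-- the entries of `w ᵥ* aMat` -/
theorem b_vecMul_aMat_apply (w : Fin (m + 3) → F) (j : Fin (m + 3)) :
    (w ᵥ* aMat m F) j = w j + (if h : 0 < j.val then w ⟨j.val - 1, by omega⟩ else 0) := by
  unfold aMat
  simp only [vecMul, dotProduct, of_apply]
  have hterm : ∀ i : Fin (m + 3), w i * (if i = j ∨ i.val + 1 = j.val then (1 : F) else 0)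
      = (if i = j then w i else 0) + (if i.val + 1 = j.val then w i else 0) := by
    intro i
    by_cases h1 : i = j
    · subst h1
      simp
    · by_cases h2 : i.val + 1 = j.val
      · simp [h1, h2]
      · simp [h1, h2]
  rw [Finset.sum_congr rfl (fun i _ => hterm i), Finset.sum_add_distrib,
    Finset.sum_ite_eq' Finset.univ j]
  simp only [Finset.mem_univ, if_true]
  congr 1
  split_ifs with h
  · rw [Finset.sum_eq_single (⟨j.val - 1, by omega⟩ : Fin (m + 3))]
    · rw [if_pos]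
      show j.val - 1 + 1 = j.val
      omega
    · intro b _ hb
      rw [if_neg]
      intro hb'
      apply hb
      ext
      show b.val = j.val - 1
      omega
    · intro hh
      exact absurd (Finset.mem_univ _) hh
  · apply Finset.sum_eq_zero
    intro i _
    rw [if_neg]
    omega

theorem b_e0_vecMul_aMat :
    (Pi.single 0 1 : Fin (m + 3) → F) ᵥ* aMat m F = f1 m F := by
  ext j
  rw [b_vecMul_aMat_apply]
  unfold f1
  simp only [Pi.add_apply, Pi.single_apply]
  congr 1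
  split_ifs with h h1 h2
  · rfl
  · exfalso
    apply h2
    ext
    rw [b_val_one]
    have := congrArg Fin.val h1
    simp at this
    omega
  · exfalso
    apply h1
    ext
    have := congrArg Fin.val ‹j = 1›
    rw [b_val_one] at this
    show j.val - 1 = 0
    omega
  · rfl
  · exfalso
    have := congrArg Fin.val ‹j = 1›
    rw [b_val_one] at this
    omega
  · rfl

theorem b_phiv_vecMul_aMat :
    phiv m F ᵥ* aMat m F = (Pi.single 0 1 : Fin (m + 3) → F) := by
  ext j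
  rw [b_vecMul_aMat_apply]
  unfold phiv
  simp only
  split_ifs with h
  · have hj : j ≠ 0 := by
      intro hj
      rw [hj] at h
      simp at h
    rw [Pi.single_apply, if_neg hj]
    have : j.val = (j.val - 1) + 1 := by omega
    rw [this, pow_succ]
    simp
  · have hj : j = 0 := by
      ext
      show j.val = 0
      omega
    rw [hj]
    simp

theorem b_aMat_mulVec_pv :
    aMat m F *ᵥ (((-1 : F) ^ (m + 2)) • phiv m F) = (Pi.single (Fin.last (m + 2)) 1 : Fin (m + 3) → F) := by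
  ext i
  rw [Cfsg.Agent.Lib.Helper56.RU4E.e_aMat_mulVec_apply]
  unfold phiv
  simp only [Pi.smul_apply, smul_eq_mul]
  split_ifs with h
  · have hi : i ≠ Fin.last (m + 2) := by
      intro hi
      have := congrArg Fin.val hi
      simp at this
      omega
    rw [Pi.single_apply, if_neg hi, pow_succ]
    ring
  · have hi : i = Fin.last (m + 2) := by
      ext
      show i.val = m + 2
      have := i.2
      omega
    rw [hi, Pi.single_apply, if_pos rfl, add_zero, Fin.val_last, ← pow_add]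
    exact Even.neg_one_pow ⟨m + 2, rfl⟩

theorem b_aMat_mulVec_eL :
    aMat m F *ᵥ (Pi.single (Fin.last (m + 2)) 1 : Fin (m + 3) → F) = c1 m F := by
  have h := Cfsg.Agent.Lib.Helper56.RU4E.e_aMat_mulVec_single m F (m + 1) (by omega)
  have h1 : (⟨m + 1 + 1, by omega⟩ : Fin (m + 3)) = Fin.last (m + 2) := by
    ext
    rfl
  rw [h1] at h
  rw [h]
  rfl

theorem b_single_eq (i j : Fin (m + 3)) :
    vecMulVec (Pi.single i 1 : Fin (m + 3) → F) (Pi.single j 1) = Matrix.single i j 1 := by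
  ext a b
  rw [vecMulVec_apply, Matrix.single_apply, Pi.single_apply, Pi.single_apply]
  by_cases h1 : a = i
  · by_cases h2 : b = j
    · subst h1 h2
      simp
    · have : ¬ (i = a ∧ j = b) := fun h => h2 h.2.symm
      rw [if_neg h2, if_neg this, mul_zero]
  · have : ¬ (i = a ∧ j = b) := fun h => h1 h.1.symm
    rw [if_neg h1, if_neg this, zero_mul]

/-- `l (S - T) = l E_{last,1} - l E_{last-1,0}` -/
theorem b_ST (l : F) :
    l • (vecMulVec (Pi.single (Fin.last (m + 2)) 1 : Fin (m + 3) → F) (f1 m F) -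
        vecMulVec (c1 m F) (Pi.single 0 1)) =
      Matrix.single (Fin.last (m + 2)) 1 l - Matrix.single (pen m) 0 l := by
  unfold f1 c1
  rw [vecMulVec_add, add_vecMulVec]
  simp only [b_single_eq]
  have h1 : ∀ i j : Fin (m + 3), l • (Matrix.single i j (1 : F)) = Matrix.single i j l := by
    intro i j
    rw [Matrix.smul_single, smul_eq_mul, mul_one]
  rw [← h1, ← h1]
  module

/-- LEAF B -/
theorem tv_mem (hm : 1 ≤ m)
    {G : Subgroup (SpecialLinearGroup (Fin (m + 3)) F)} (l : F)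
    (ha : InG G (aMat m F)) (hv : InG G (v4 m F l)) :
    InG G (tvm (l ^ 3 • c1 m F) (f1 m F)) := by
  set ε : F := (-1) ^ (m + 2) with hε
  set N : F := ((m + 3 : ℕ) : F) with hN
  set eL : Fin (m + 3) → F := Pi.single (Fin.last (m + 2)) 1 with heL
  set e0 : Fin (m + 3) → F := Pi.single 0 1 with he0
  set pv : Fin (m + 3) → F := ε • phiv m F with hpv
  have hεε : ε = 1 ∨ ε = -1 := neg_one_pow_eq_or F (m + 2)
  -- the nine dot products
  have d1 : f1 m F ⬝ᵥ pv = 0 := by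
    unfold f1
    rw [add_dotProduct, single_dotProduct, single_dotProduct, one_mul, one_mul, hpv]
    unfold phiv
    simp only [Pi.smul_apply, smul_eq_mul]
    rw [b_val_one]
    simp
  have d2 : f1 m F ⬝ᵥ eL = 0 := by
    unfold f1
    rw [add_dotProduct, single_dotProduct, single_dotProduct, one_mul, one_mul, heL,
      Pi.single_apply, Pi.single_apply, if_neg b_last_ne_zero.symm, if_neg b_last_ne_one.symm, add_zero]
  have d3 : f1 m F ⬝ᵥ c1 m F = 0 := by
    unfold f1 c1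
    rw [add_dotProduct, single_dotProduct, single_dotProduct, one_mul, one_mul]
    simp only [Pi.add_apply, Pi.single_apply]
    rw [if_neg b_last_ne_zero.symm, if_neg b_last_ne_one.symm, if_neg b_pen_ne_zero.symm,
      if_neg (b_pen_ne_one hm).symm]
    simp
  have d4 : e0 ⬝ᵥ pv = ε := by
    rw [he0, single_dotProduct, one_mul, hpv]
    unfold phiv
    simp
  have d5 : e0 ⬝ᵥ eL = 0 := by
    rw [he0, single_dotProduct, one_mul, heL, Pi.single_apply, if_neg b_last_ne_zero.symm]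
  have d6 : e0 ⬝ᵥ c1 m F = 0 := by
    unfold c1
    rw [he0, single_dotProduct, one_mul]
    simp only [Pi.add_apply, Pi.single_apply]
    rw [if_neg b_last_ne_zero.symm, if_neg b_pen_ne_zero.symm, add_zero]
  have d7 : phiv m F ⬝ᵥ pv = N * ε := by
    rw [hpv, dotProduct_smul, smul_eq_mul, mul_comm]
    congr 1
    unfold phiv dotProduct
    have : ∀ j : Fin (m + 3), ((-1 : F) ^ j.val) * ((-1 : F) ^ j.val) = 1 := by
      intro j
      rw [← pow_add]
      exact Even.neg_one_pow ⟨j.val, rfl⟩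
    rw [Finset.sum_congr rfl (fun j _ => this j)]
    simp [hN]
  have d8 : phiv m F ⬝ᵥ eL = ε := by
    rw [heL, dotProduct_single, mul_one]
    unfold phiv
    simp [hε]
  have d9 : phiv m F ⬝ᵥ c1 m F = 0 := by
    unfold c1
    rw [dotProduct_add, dotProduct_single, dotProduct_single, mul_one, mul_one]
    unfold phiv pen
    simp only [Fin.val_last]
    rw [pow_succ]
    ring
  -- the six matrices
  set P := vecMulVec pv (f1 m F) with hP
  set E := vecMulVec eL e0 with hE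
  set Q := vecMulVec (c1 m F) (phiv m F) with hQ
  set R := vecMulVec (c1 m F) (f1 m F) with hR
  set S := vecMulVec eL (f1 m F) with hS
  set T := vecMulVec (c1 m F) e0 with hT
  obtain ⟨I1, I2⟩ := b_alg (F := F) P E Q R S T l N ε hεε
    (b_vv_mul_zero _ _ _ _ d1) (b_vv_mul_zero _ _ _ _ d5) (b_vv_mul_zero _ _ _ _ d9)
    (b_vv_mul_zero _ _ _ _ d2) (b_vv_mul_zero _ _ _ _ d3) (b_vv_mul_zero _ _ _ _ d6)
    (b_vv_mul _ _ _ _ _ d4) (b_vv_mul _ _ _ _ _ d7) (b_vv_mul _ _ _ _ _ d8)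
    (b_vv_mul_zero _ _ _ _ d1) (b_vv_mul_zero _ _ _ _ d2) (b_vv_mul_zero _ _ _ _ d3)
    (b_vv_mul_zero _ _ _ _ d3) (b_vv_mul_zero _ _ _ _ d2) (b_vv_mul_zero _ _ _ _ d3)
    (b_vv_mul_zero _ _ _ _ d3) (b_vv_mul_zero _ _ _ _ d6) (b_vv_mul_zero _ _ _ _ d9)
    (b_vv_mul_zero _ _ _ _ d3) (b_vv_mul_zero _ _ _ _ d6)
    (b_vv_mul_zero _ _ _ _ d1) (b_vv_mul_zero _ _ _ _ d2) (b_vv_mul_zero _ _ _ _ d3)
    (b_vv_mul_zero _ _ _ _ d2) (b_vv_mul_zero _ _ _ _ d5) (b_vv_mul _ _ _ _ _ d8)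
    (b_vv_mul _ _ _ _ _ d4) (b_vv_mul_zero _ _ _ _ d5) (b_vv_mul_zero _ _ _ _ d6)
    (b_vv_mul_zero _ _ _ _ d3) (b_vv_mul_zero _ _ _ _ d6) (b_vv_mul_zero _ _ _ _ d9)
    (b_vv_mul_zero _ _ _ _ d2) (b_vv_mul_zero _ _ _ _ d3) (b_vv_mul_zero _ _ _ _ d5)
    (b_vv_mul_zero _ _ _ _ d6)
  -- `d₋₁` and `d₀`
  have h_a_dm : aMat m F * (1 + l • (P - E)) = v4 m F l := by
    rw [Matrix.mul_add, Matrix.mul_one, Matrix.mul_smul, Matrix.mul_sub, hP, hE, mul_vecMulVec,
      mul_vecMulVec, hpv, hε, b_aMat_mulVec_pv, heL, b_aMat_mulVec_eL, he0, b_ST]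
    unfold v4
    abel
  have h_d0_a : (1 + l • (E - Q)) * aMat m F = v4 m F l := by
    rw [Matrix.add_mul, Matrix.one_mul, Matrix.smul_mul, Matrix.sub_mul, hE, hQ, vecMulVec_mul,
      vecMulVec_mul, he0, b_e0_vecMul_aMat, b_phiv_vecMul_aMat, heL, b_ST]
    unfold v4
    abel
  have hdm : InG G (1 + l • (P - E)) := inG_of_mul_left ha (by rw [h_a_dm]; exact hv)
  have hd0 : InG G (1 + l • (E - Q)) := inG_of_mul_right ha (by rw [h_d0_a]; exact hv)
  have hcc : InG G (1 + l ^ 3 • R - (ε * l ^ 2) • (S + T - N • R)) :=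
    inG_of_mul_right (inG_mul hd0 hdm) (by rw [I1]; exact inG_mul hdm hd0)
  have htt : InG G (1 + l ^ 3 • R) :=
    inG_of_mul_right (inG_mul hcc hdm) (by rw [I2]; exact inG_mul hdm hcc)
  have : tvm (l ^ 3 • c1 m F) (f1 m F) = 1 + l ^ 3 • R := by
    unfold tvm
    rw [smul_vecMulVec]
  rw [this]
  exact htt

end concrete

end Cfsg.Agent.Lib.Helper56.RU4B

/-! ## signature check: verbatim copy of the spec header defs + LEAF B statement
(`notes/S2279_primecore_helper2.lean.txt`) -/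
namespace Cfsg.Agent.Lib.Helper56.RU4BCheck

open Matrix Cfsg.Agent.Lib.Helper73.RU Cfsg.Agent.Lib.Helper73.RUSpec

section defs
variable (m : ℕ) (F : Type*) [Field F]

/-- the index `last - 1` -/
def pen : Fin (m + 3) := ⟨m + 1, by omega⟩

/-- `v = g a g⁻¹ = a + l E_{last,1} - l E_{last-1,0}` -/
def v4 (l : F) : Matrix (Fin (m + 3)) (Fin (m + 3)) F :=
  aMat m F + Matrix.single (Fin.last (m + 2)) 1 l - Matrix.single (pen m) 0 l

/-- `c₁ = a e_last = e_last + e_{last-1}` -/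
def c1 : Fin (m + 3) → F := Pi.single (Fin.last (m + 2)) 1 + Pi.single (pen m) 1

/-- `φ₋₁ = e_0ᵀ a = e_0 + e_1` -/
def f1 : Fin (m + 3) → F := Pi.single 0 1 + Pi.single 1 1

end defs

theorem tv_mem {m : ℕ} {F : Type*} [Field F] (hm : 1 ≤ m)
    {G : Subgroup (SpecialLinearGroup (Fin (m + 3)) F)} (l : F)
    (ha : InG G (aMat m F)) (hv : InG G (v4 m F l)) :
    InG G (tvm (l ^ 3 • c1 m F) (f1 m F)) :=
  Cfsg.Agent.Lib.Helper56.RU4B.tv_mem hm l ha hv

end Cfsg.Agent.Lib.Helper56.RU4BCheck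

#print axioms Cfsg.Agent.Lib.Helper56.RU4B.tv_mem
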