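import Mathlib
import Cfsg.Prelude.Def_Spor_Ru
import Cfsg.Agent.Lib.Helper17.RuDefs
import Cfsg.Agent.Lib.Helper17.RuBasic

/-!
# K-Ru pack (S1628), leaf 162805 K-Ru-R5 (helper56): vectors with all coordinates even
-/

set_option autoImplicit false

namespace Cfsg.Agent.Lib.Helper56.RuL

open Cfsg.Spor Cfsg.Agent.Lib.Helper17.RuL

/-- the parity columns of the first 19 rows of `uTab`: bit `k` of entry `j` is the parity of `uTab[k][j]`. -/
def colMask : List ℕ :=
  [1, 2, 4, 8, 16, 32, 64, 127, 256, 512, 1024, 1893, 4096, 4950, 5738, 5465, 8192, 16384, 32768, 57404,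
   19593, 11491, 36048, 60550, 131072, 136222, 131886, 136963, 132417, 135430, 135806, 132618, 262144,
   318956, 291379, 307081, 309098, 289417, 268496, 312677, 249135, 239605, 251374, 245598, 221905, 198766,
   200950, 227875, 368009, 351650, 348496, 364834, 392644, 343507, 389381, 340299]

/-- the `j`-th parity column. -/
def cm (j : ℕ) : ℕ := colMask.getD j 0

theorem cm_spec : ∀ k : Fin 19, ∀ j : Fin 56,
    (cm j.val).testBit k.val = decide ((uTab.getD k.val []).getD j.val 0 % 2 = 1) := by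
  decide +kernel

theorem cm_lt : ∀ j : Fin 56, cm j.val < 2 ^ 19 := by
  decide +kernel

theorem cm_single : ∀ i : Fin 56, cm i.val ≠ 0 := by
  decide +kernel

theorem cm_pair : ∀ i j : Fin 56, i ≠ j → cm i.val ^^^ cm j.val ≠ 0 := by
  decide +kernel

theorem cm_triple : ∀ i j l : Fin 56, i ≠ j → i ≠ l → j ≠ l → cm i.val ^^^ cm j.val ^^^ cm l.val ≠ 0 := by
  decide +kernel

/-- position of a real coordinate in the rows of `uTab`. -/
def pos (pe : RuIdx × Fin 2) : ℕ := 8 * pe.1.1.val + 2 * pe.1.2.val + pe.2.val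

theorem pos_lt (pe : RuIdx × Fin 2) : pos pe < 56 := by
  unfold pos
  have h1 := pe.1.1.isLt
  have h2 := pe.1.2.isLt
  have h3 := pe.2.isLt
  omega

theorem pos_injective : Function.Injective pos := by
  intro a b h
  unfold pos at h
  have h1 := a.1.1.isLt
  have h2 := a.1.2.isLt
  have h3 := a.2.isLt
  have h1' := b.1.1.isLt
  have h2' := b.1.2.isLt
  have h3' := b.2.isLt
  have e1 : a.1.1.val = b.1.1.val := by omega
  have e2 : a.1.2.val = b.1.2.val := by omega
  have e3 : a.2.val = b.2.val := by omega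
  exact Prod.ext (Prod.ext (Fin.ext e1) (Fin.ext e2)) (Fin.ext e3)

theorem crd_vecOfList (l : List ℤ) (pe : RuIdx × Fin 2) : crd (vecOfList l) pe = l.getD (pos pe) 0 := by
  obtain ⟨⟨n, t⟩, e⟩ := pe
  unfold crd vecOfList pos
  fin_cases e
  · simp
  · simp

theorem beta_eq_sum_crd (v w : RuVec) : beta v w = ∑ pe : RuIdx × Fin 2, crd v pe * crd w pe := by
  unfold beta
  rw [Fintype.sum_prod_type (f := fun pe : RuIdx × Fin 2 => crd v pe * crd w pe)]
  refine Finset.sum_congr rfl fun p _ => ?_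
  rw [Fin.sum_univ_two]
  simp [crd]

/-- the bits of the parity columns are the parities of the coordinates of the first 19 basis vectors -/
theorem testBit_cm (k : Fin 19) (pe : RuIdx × Fin 2) :
    (cm (pos pe)).testBit k.val = decide (crd (uB ⟨k.val, by omega⟩) pe % 2 = 1) := by
  have h := cm_spec k ⟨pos pe, pos_lt pe⟩
  rw [h]
  unfold uB
  rw [crd_vecOfList]

theorem mask_eq_zero_of_bits {m : ℕ} (hm : m < 2 ^ 19) (h : ∀ k : Fin 19, m.testBit k.val = false) :
    m = 0 := by
  apply Nat.eq_of_testBit_eq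
  intro i
  rw [Nat.zero_testBit]
  by_cases hi : i < 19
  · exact h ⟨i, hi⟩
  · exact Nat.testBit_lt_two_pow
      (lt_of_lt_of_le hm (Nat.pow_le_pow_right (by norm_num) (by omega)))

/-- the parity of `beta y w` is the parity of the sum of the coordinates of `w` over the odd set of `y` -/
theorem two_dvd_beta_sub (y w : RuVec) : (2 : ℤ) ∣ beta y w - ∑ pe ∈ oddSet y, crd w pe := by
  rw [beta_eq_sum_crd]
  unfold oddSet
  rw [Finset.sum_filter, ← Finset.sum_sub_distrib]
  apply Finset.dvd_sum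
  intro pe _
  split_ifs with h
  · have : crd y pe * crd w pe - crd w pe = (crd y pe - 1) * crd w pe := by ring
    rw [this]
    exact Dvd.dvd.mul_right (by omega) _
  · rw [sub_zero]
    exact Dvd.dvd.mul_right (by omega) _

theorem xor3_false (u v w : ℤ) (h : (2 : ℤ) ∣ u + v + w) :
    (decide (u % 2 = 1) ^^ decide (v % 2 = 1) ^^ decide (w % 2 = 1)) = false := by
  rcases Int.emod_two_eq_zero_or_one u with hu | hu <;>
  rcases Int.emod_two_eq_zero_or_one v with hv | hv <;>
  rcases Int.emod_two_eq_zero_or_one w with hw | hw <;>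
  simp [hu, hv, hw] <;> omega

theorem xor2_false (u v : ℤ) (h : (2 : ℤ) ∣ u + v) :
    (decide (u % 2 = 1) ^^ decide (v % 2 = 1)) = false := by
  rcases Int.emod_two_eq_zero_or_one u with hu | hu <;>
  rcases Int.emod_two_eq_zero_or_one v with hv | hv <;>
  simp [hu, hv] <;> omega

theorem xor1_false (u : ℤ) (h : (2 : ℤ) ∣ u) : decide (u % 2 = 1) = false := by
  rcases Int.emod_two_eq_zero_or_one u with hu | hu
  · simp [hu]
  · omega

/-- the dual of the parity code has minimum weight at least 4 -/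
theorem oddSet_empty_or_four_le (y : RuVec)
    (hy : ∀ k : Fin 19, (2 : ℤ) ∣ beta y (uB ⟨k.val, by omega⟩)) :
    oddSet y = ∅ ∨ 4 ≤ (oddSet y).card := by
  by_contra hcon
  push Not at hcon
  obtain ⟨hne, hlt⟩ := hcon
  have hpos : 0 < (oddSet y).card := Finset.card_pos.mpr hne
  have hsum : ∀ k : Fin 19, (2 : ℤ) ∣ ∑ pe ∈ oddSet y, crd (uB ⟨k.val, by omega⟩) pe := by
    intro k
    have h1 := two_dvd_beta_sub y (uB ⟨k.val, by omega⟩)
    have h2 := hy k
    have := dvd_sub h2 h1
    rwa [sub_sub_cancel] at this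
  have hcases : (oddSet y).card = 1 ∨ (oddSet y).card = 2 ∨ (oddSet y).card = 3 := by omega
  rcases hcases with h | h | h
  · obtain ⟨a, ha⟩ := Finset.card_eq_one.mp h
    rw [ha] at hsum
    apply cm_single ⟨pos a, pos_lt a⟩
    apply mask_eq_zero_of_bits (cm_lt ⟨pos a, pos_lt a⟩)
    intro k
    have hk := hsum k
    rw [Finset.sum_singleton] at hk
    show (cm (pos a)).testBit k.val = false
    rw [testBit_cm]
    exact xor1_false _ hk
  · obtain ⟨a, b, hab, hs⟩ := Finset.card_eq_two.mp h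
    rw [hs] at hsum
    have hab' : (⟨pos a, pos_lt a⟩ : Fin 56) ≠ ⟨pos b, pos_lt b⟩ := by
      intro e
      exact hab (pos_injective (Fin.mk.inj_iff.mp e))
    apply cm_pair ⟨pos a, pos_lt a⟩ ⟨pos b, pos_lt b⟩ hab'
    apply mask_eq_zero_of_bits
      (Nat.xor_lt_two_pow (cm_lt ⟨pos a, pos_lt a⟩) (cm_lt ⟨pos b, pos_lt b⟩))
    intro k
    have hk := hsum k
    rw [Finset.sum_pair hab] at hk
    show (cm (pos a) ^^^ cm (pos b)).testBit k.val = false
    rw [Nat.testBit_xor, testBit_cm, testBit_cm]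
    exact xor2_false _ _ hk
  · obtain ⟨a, b, d, hab, had, hbd, hs⟩ := Finset.card_eq_three.mp h
    rw [hs] at hsum
    have hab' : (⟨pos a, pos_lt a⟩ : Fin 56) ≠ ⟨pos b, pos_lt b⟩ := by
      intro e
      exact hab (pos_injective (Fin.mk.inj_iff.mp e))
    have had' : (⟨pos a, pos_lt a⟩ : Fin 56) ≠ ⟨pos d, pos_lt d⟩ := by
      intro e
      exact had (pos_injective (Fin.mk.inj_iff.mp e))
    have hbd' : (⟨pos b, pos_lt b⟩ : Fin 56) ≠ ⟨pos d, pos_lt d⟩ := by
      intro e
      exact hbd (pos_injective (Fin.mk.inj_iff.mp e))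
    apply cm_triple ⟨pos a, pos_lt a⟩ ⟨pos b, pos_lt b⟩ ⟨pos d, pos_lt d⟩ hab' had' hbd'
    apply mask_eq_zero_of_bits
      (Nat.xor_lt_two_pow (Nat.xor_lt_two_pow (cm_lt ⟨pos a, pos_lt a⟩) (cm_lt ⟨pos b, pos_lt b⟩))
        (cm_lt ⟨pos d, pos_lt d⟩))
    intro k
    have hk := hsum k
    rw [Finset.sum_insert (by simp [hab, had]), Finset.sum_pair hbd, ← add_assoc] at hk
    show (cm (pos a) ^^^ cm (pos b) ^^^ cm (pos d)).testBit k.val = false
    rw [Nat.testBit_xor, Nat.testBit_xor, testBit_cm, testBit_cm, testBit_cm]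
    exact xor3_false _ _ _ hk

/-! ### halving -/

theorem exists_half {x : RuVec} (h0 : oddSet x = ∅) : ∃ y : RuVec, ∀ pe, crd x pe = 2 * crd y pe := by
  have hev : ∀ pe, crd x pe % 2 = 0 := by
    intro pe
    rcases Int.emod_two_eq_zero_or_one (crd x pe) with h | h
    · exact h
    · exfalso
      have : pe ∈ oddSet x := by
        unfold oddSet
        simp [h]
      rw [h0] at this
      exact Finset.notMem_empty _ this
  refine ⟨fun p => ⟨(x p).re / 2, (x p).im / 2⟩, ?_⟩
  intro pe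
  have h := hev pe
  unfold crd at h ⊢
  split_ifs at h ⊢ with he
  · show (x pe.1).re = 2 * ((x pe.1).re / 2)
    omega
  · show (x pe.1).im = 2 * ((x pe.1).im / 2)
    omega

theorem ruNorm_of_double {x y : RuVec} (h : ∀ pe, crd x pe = 2 * crd y pe) : ruNorm x = 4 * ruNorm y := by
  rw [ruNorm_eq_sum_crd, ruNorm_eq_sum_crd, Finset.mul_sum]
  refine Finset.sum_congr rfl fun pe _ => ?_
  rw [h pe]
  ring

theorem beta_of_double {x y : RuVec} (h : ∀ pe, crd x pe = 2 * crd y pe) (w : RuVec) :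
    beta x w = 2 * beta y w := by
  rw [beta_eq_sum_crd, beta_eq_sum_crd, Finset.mul_sum]
  refine Finset.sum_congr rfl fun pe _ => ?_
  rw [h pe]
  ring

theorem eq_zero_of_crd {x : RuVec} (h : ∀ pe, crd x pe = 0) : x = 0 := by
  funext p
  have h1 := h (p, 0)
  have h2 := h (p, 1)
  unfold crd at h1 h2
  simp at h1 h2
  exact Zsqrtd.ext h1 h2

theorem one_le_ruNorm {x : RuVec} (hx : x ≠ 0) : 1 ≤ ruNorm x := by
  by_contra hlt
  apply hx
  apply eq_zero_of_crd
  intro pe
  by_contra hne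
  apply hlt
  rw [ruNorm_eq_sum_crd]
  have h1 : crd x pe ^ 2 ≤ ∑ pe : RuIdx × Fin 2, crd x pe ^ 2 :=
    Finset.single_le_sum (f := fun pe => crd x pe ^ 2) (fun _ _ => by positivity) (Finset.mem_univ pe)
  have h2 : 0 < crd x pe ^ 2 := by positivity
  omega

/-- **K-Ru-R5.** vectors with all coordinates even have norm at least 16. -/
theorem sixteen_le_norm_of_even {x : RuVec} (hβ : ∀ k : Fin 56, (4 : ℤ) ∣ beta x (uB k))
    (h0 : oddSet x = ∅) (hx : x ≠ 0) : 16 ≤ ruNorm x := by
  obtain ⟨y, hy⟩ := exists_half h0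
  have hnx : ruNorm x = 4 * ruNorm y := ruNorm_of_double hy
  have hβy : ∀ k : Fin 19, (2 : ℤ) ∣ beta y (uB ⟨k.val, by omega⟩) := by
    intro k
    have h := hβ ⟨k.val, by omega⟩
    rw [beta_of_double hy] at h
    omega
  rcases oddSet_empty_or_four_le y hβy with he | h4
  · obtain ⟨y', hy'⟩ := exists_half he
    have hny : ruNorm y = 4 * ruNorm y' := ruNorm_of_double hy'
    have hy'0 : y' ≠ 0 := by
      intro e
      apply hx
      apply eq_zero_of_crd
      intro pe
      rw [hy pe, hy' pe, e]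
      simp [crd]
    have := one_le_ruNorm hy'0
    omega
  · have h := card_oddSet_le_norm y
    have h4' : (4 : ℤ) ≤ ((oddSet y).card : ℤ) := by exact_mod_cast h4
    omega

end Cfsg.Agent.Lib.Helper56.RuL
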