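import Mathlib
import Cfsg.Prelude.Def_JordanBlocks
import Cfsg.Agent.Lib.Helper73.UCDefs
import Cfsg.Agent.Lib.Helper73.SPCDefs

/-!
# K-SPC pack (S2676), leaf A1b (267602, helper56): the orbit correspondence
`Sp`-classes inside a `GL`-class  ↔  classes of invariant alternating forms under the commutant.
-/

set_option autoImplicit false

namespace Cfsg.Agent.Lib.Helper56.SPC

open Matrix Cfsg.Agent.Lib.Helper73.UC Cfsg.Agent.Lib.Helper73.SPC

section general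

variable {R : Type*} [Field R] {ι : Type*} [Fintype ι] [DecidableEq ι]

theorem a1b_inv_mul_transpose {c : Matrix ι ι R} (hc : IsUnit c.det) : (c⁻¹)ᵀ * cᵀ = 1 := by
  rw [← Matrix.transpose_mul, Matrix.mul_nonsing_inv c hc, Matrix.transpose_one]

theorem a1b_transpose_mul_inv {c : Matrix ι ι R} (hc : IsUnit c.det) : cᵀ * (c⁻¹)ᵀ = 1 := by
  rw [← Matrix.transpose_mul, Matrix.nonsing_inv_mul c hc, Matrix.transpose_one]

/-- from `c u = g c` get `u c⁻¹ = c⁻¹ g` -/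
theorem a1b_semiconj_inv {c u g : Matrix ι ι R} (hc : IsUnit c.det) (h : c * u = g * c) :
    u * c⁻¹ = c⁻¹ * g := by
  calc u * c⁻¹ = (c⁻¹ * c) * u * c⁻¹ := by rw [Matrix.nonsing_inv_mul c hc, Matrix.one_mul]
    _ = c⁻¹ * (c * u) * c⁻¹ := by simp only [Matrix.mul_assoc]
    _ = c⁻¹ * (g * c) * c⁻¹ := by rw [h]
    _ = c⁻¹ * g * (c * c⁻¹) := by simp only [Matrix.mul_assoc]
    _ = c⁻¹ * g := by rw [Matrix.mul_nonsing_inv c hc, Matrix.mul_one]

/-- conjugate elements (under an isometry `k` of `J`) give congruent forms -/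
theorem a1b_congRel_of_conj (J u g g' c c' k ki : Matrix ι ι R)
    (hc : IsUnit c.det) (hc' : IsUnit c'.det)
    (hk : k * ki = 1) (hkJ : kiᵀ * J * ki = J) (hg : g' * k = k * g)
    (h1 : c * u = g * c) (h2 : c' * u = g' * c') :
    CongRel u (cᵀ * J * c) (c'ᵀ * J * c') := by
  have hk' : ki * k = 1 := mul_eq_one_comm.mp hk
  have hkig : ki * g' = g * ki := by
    calc ki * g' = ki * g' * (k * ki) := by rw [hk, Matrix.mul_one]
      _ = ki * (g' * k) * ki := by simp only [Matrix.mul_assoc]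
      _ = ki * (k * g) * ki := by rw [hg]
      _ = (ki * k) * g * ki := by simp only [Matrix.mul_assoc]
      _ = g * ki := by rw [hk', Matrix.one_mul]
  have hcx : c * (c⁻¹ * ki * c') = ki * c' := by
    rw [← Matrix.mul_assoc, ← Matrix.mul_assoc, Matrix.mul_nonsing_inv c hc, Matrix.one_mul]
  refine ⟨c⁻¹ * ki * c', ?_, ?_, ?_⟩
  · rw [Matrix.det_mul, Matrix.det_mul]
    refine ((Matrix.isUnit_nonsing_inv_det c hc).mul ?_).mul hc'
    have : k.det * ki.det = 1 := by rw [← Matrix.det_mul, hk, Matrix.det_one]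
    exact IsUnit.of_mul_eq_one _ (by rw [mul_comm]; exact this)
  · calc c⁻¹ * ki * c' * u = c⁻¹ * ki * (c' * u) := by simp only [Matrix.mul_assoc]
      _ = c⁻¹ * (ki * g') * c' := by rw [h2]; simp only [Matrix.mul_assoc]
      _ = (c⁻¹ * g) * ki * c' := by rw [hkig]; simp only [Matrix.mul_assoc]
      _ = u * (c⁻¹ * ki * c') := by rw [← a1b_semiconj_inv hc h1]; simp only [Matrix.mul_assoc]
  · calc (c⁻¹ * ki * c')ᵀ * (cᵀ * J * c) * (c⁻¹ * ki * c')
        = (c * (c⁻¹ * ki * c'))ᵀ * J * (c * (c⁻¹ * ki * c')) := by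
          rw [Matrix.transpose_mul c]; simp only [Matrix.mul_assoc]
      _ = c'ᵀ * (kiᵀ * J * ki) * c' := by
          rw [hcx, Matrix.transpose_mul]; simp only [Matrix.mul_assoc]
      _ = c'ᵀ * J * c' := by rw [hkJ]

/-- congruent forms give conjugate elements (under an isometry `k` of `J`) -/
theorem a1b_conj_of_congRel (J u g g' c c' : Matrix ι ι R)
    (hc : IsUnit c.det)
    (h1 : c * u = g * c) (h2 : c' * u = g' * c')
    (h : CongRel u (cᵀ * J * c) (c'ᵀ * J * c')) :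
    ∃ k : Matrix ι ι R, kᵀ * J * k = J ∧ k * g = g' * k := by
  obtain ⟨x, hx, hxu, hxB⟩ := h
  refine ⟨c' * x⁻¹ * c⁻¹, ?_, ?_⟩
  · calc (c' * x⁻¹ * c⁻¹)ᵀ * J * (c' * x⁻¹ * c⁻¹)
        = (c⁻¹)ᵀ * ((x⁻¹)ᵀ * (c'ᵀ * J * c') * x⁻¹) * c⁻¹ := by
          rw [Matrix.transpose_mul, Matrix.transpose_mul]; simp only [Matrix.mul_assoc]
      _ = (c⁻¹)ᵀ * (((x⁻¹)ᵀ * xᵀ) * (cᵀ * J * c) * (x * x⁻¹)) * c⁻¹ := by
          rw [← hxB]; simp only [Matrix.mul_assoc]
      _ = ((c⁻¹)ᵀ * cᵀ) * J * (c * c⁻¹) := by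
          rw [a1b_inv_mul_transpose hx, Matrix.mul_nonsing_inv x hx, Matrix.one_mul, Matrix.mul_one]
          simp only [Matrix.mul_assoc]
      _ = J := by
          rw [a1b_inv_mul_transpose hc, Matrix.mul_nonsing_inv c hc, Matrix.one_mul, Matrix.mul_one]
  · have hxu' : u * x⁻¹ = x⁻¹ * u := a1b_semiconj_inv hx hxu
    calc c' * x⁻¹ * c⁻¹ * g = c' * x⁻¹ * (c⁻¹ * g) := by simp only [Matrix.mul_assoc]
      _ = c' * (x⁻¹ * u) * c⁻¹ := by rw [← a1b_semiconj_inv hc h1]; simp only [Matrix.mul_assoc]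
      _ = (c' * u) * x⁻¹ * c⁻¹ := by rw [← hxu']; simp only [Matrix.mul_assoc]
      _ = g' * (c' * x⁻¹ * c⁻¹) := by rw [h2]; simp only [Matrix.mul_assoc]

end general

section symp

variable {F : Type*} [Field F] {m : ℕ}

theorem a1b_altInv_of {c u₀ g : Matrix (Fin m ⊕ Fin m) (Fin m ⊕ Fin m) F} (hc : IsUnit c.det)
    (hg : g ∈ Matrix.symplecticGroup (Fin m) F) (h : c * u₀ = g * c) :
    cᵀ * Matrix.J (Fin m) F * c ∈ AltInv u₀ := by
  refine ⟨?_, ?_, ?_⟩
  · rw [Matrix.transpose_mul, Matrix.transpose_mul, Matrix.transpose_transpose, Matrix.J_transpose]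
    simp only [Matrix.mul_assoc, Matrix.neg_mul, Matrix.mul_neg]
  · rw [Matrix.det_mul, Matrix.det_mul, Matrix.det_transpose]
    exact (hc.mul (Matrix.isUnit_det_J (Fin m) F)).mul hc
  · rw [SymplecticGroup.mem_iff'] at hg
    calc u₀ᵀ * (cᵀ * Matrix.J (Fin m) F * c) * u₀
        = (c * u₀)ᵀ * Matrix.J (Fin m) F * (c * u₀) := by
          rw [Matrix.transpose_mul]; simp only [Matrix.mul_assoc]
      _ = cᵀ * (gᵀ * Matrix.J (Fin m) F * g) * c := by
          rw [h, Matrix.transpose_mul]; simp only [Matrix.mul_assoc]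
      _ = cᵀ * Matrix.J (Fin m) F * c := by rw [hg]

/-- the class data attached to a class `C`: a representative `g`, a conjugating `c` -/
theorem a1b_exists_data {u₀ : Matrix (Fin m ⊕ Fin m) (Fin m ⊕ Fin m) F}
    (C : {C : ConjClasses ↥(Matrix.symplecticGroup (Fin m) F) //
        ∃ g : ↥(Matrix.symplecticGroup (Fin m) F), ConjClasses.mk g = C ∧
          IsConj u₀ (g : Matrix (Fin m ⊕ Fin m) (Fin m ⊕ Fin m) F)}) :
    ∃ (g : ↥(Matrix.symplecticGroup (Fin m) F)) (c : Matrix (Fin m ⊕ Fin m) (Fin m ⊕ Fin m) F),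
      ConjClasses.mk g = C.1 ∧ IsUnit c.det ∧
        c * u₀ = (g : Matrix (Fin m ⊕ Fin m) (Fin m ⊕ Fin m) F) * c := by
  obtain ⟨g, hg, c, hc⟩ := C.2
  exact ⟨g, (c : Matrix (Fin m ⊕ Fin m) (Fin m ⊕ Fin m) F), hg,
    (Matrix.isUnit_iff_isUnit_det _).mp c.isUnit, hc⟩

/-- LEAF A1b -/
theorem card_classes_eq_orbCount_of {m : ℕ}
    (hD : ∀ B : Matrix (Fin m ⊕ Fin m) (Fin m ⊕ Fin m) F, Bᵀ = -B → IsUnit B.det →
      ∃ h : Matrix (Fin m ⊕ Fin m) (Fin m ⊕ Fin m) F, IsUnit h.det ∧ hᵀ * Matrix.J (Fin m) F * h = B)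
    (u₀ : Matrix (Fin m ⊕ Fin m) (Fin m ⊕ Fin m) F) :
    Nat.card {C : ConjClasses ↥(Matrix.symplecticGroup (Fin m) F) //
        ∃ g : ↥(Matrix.symplecticGroup (Fin m) F), ConjClasses.mk g = C ∧
          IsConj u₀ (g : Matrix (Fin m ⊕ Fin m) (Fin m ⊕ Fin m) F)} =
      orbCount u₀ (AltInv u₀) := by
  classical
  unfold orbCount
  -- the data
  choose gC cC hgC hcC hsC using a1b_exists_data (F := F) (m := m) (u₀ := u₀)
  let f : {C : ConjClasses ↥(Matrix.symplecticGroup (Fin m) F) //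
        ∃ g : ↥(Matrix.symplecticGroup (Fin m) F), ConjClasses.mk g = C ∧
          IsConj u₀ (g : Matrix (Fin m ⊕ Fin m) (Fin m ⊕ Fin m) F)} →
      Quotient ((congSetoid u₀).comap (Subtype.val : ↥(AltInv u₀) → _)) := fun C =>
    Quotient.mk _ ⟨(cC C)ᵀ * Matrix.J (Fin m) F * cC C, a1b_altInv_of (hcC C) (gC C).2 (hsC C)⟩
  have hinj : Function.Injective f := by
    intro C C' hCC
    have h1 : CongRel u₀ ((cC C)ᵀ * Matrix.J (Fin m) F * cC C)
        ((cC C')ᵀ * Matrix.J (Fin m) F * cC C') := Quotient.exact hCC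
    obtain ⟨k, hkJ, hkg⟩ := a1b_conj_of_congRel _ _ _ _ _ _ (hcC C) (hsC C) (hsC C') h1
    have hk : k ∈ Matrix.symplecticGroup (Fin m) F := SymplecticGroup.mem_iff'.mpr hkJ
    apply Subtype.ext
    rw [← hgC C, ← hgC C', ConjClasses.mk_eq_mk_iff_isConj, isConj_iff]
    refine ⟨⟨k, hk⟩, ?_⟩
    rw [mul_inv_eq_iff_eq_mul]
    apply Subtype.ext
    exact hkg
  have hsurj : Function.Surjective f := by
    intro q
    induction q using Quotient.inductionOn with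
    | _ b =>
      obtain ⟨B, hB1, hB2, hB3⟩ := b
      obtain ⟨h, hh, hhB⟩ := hD B hB1 hB2
      have hg1 : h * u₀ * h⁻¹ ∈ Matrix.symplecticGroup (Fin m) F := by
        rw [SymplecticGroup.mem_iff']
        calc (h * u₀ * h⁻¹)ᵀ * Matrix.J (Fin m) F * (h * u₀ * h⁻¹)
            = (h⁻¹)ᵀ * (u₀ᵀ * (hᵀ * Matrix.J (Fin m) F * h) * u₀) * h⁻¹ := by
              rw [Matrix.transpose_mul, Matrix.transpose_mul]; simp only [Matrix.mul_assoc]
          _ = (h⁻¹)ᵀ * (hᵀ * Matrix.J (Fin m) F * h) * h⁻¹ := by rw [hhB, hB3]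
          _ = ((h⁻¹)ᵀ * hᵀ) * Matrix.J (Fin m) F * (h * h⁻¹) := by simp only [Matrix.mul_assoc]
          _ = Matrix.J (Fin m) F := by
              rw [a1b_inv_mul_transpose hh, Matrix.mul_nonsing_inv h hh, Matrix.one_mul,
                Matrix.mul_one]
      have hs1 : h * u₀ = (h * u₀ * h⁻¹) * h := by
        rw [Matrix.mul_assoc, Matrix.nonsing_inv_mul h hh, Matrix.mul_one]
      obtain ⟨hu, hhu⟩ := (Matrix.isUnit_iff_isUnit_det h).mpr hh
      let G1 : ↥(Matrix.symplecticGroup (Fin m) F) := ⟨h * u₀ * h⁻¹, hg1⟩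
      let C : {C : ConjClasses ↥(Matrix.symplecticGroup (Fin m) F) //
        ∃ g : ↥(Matrix.symplecticGroup (Fin m) F), ConjClasses.mk g = C ∧
          IsConj u₀ (g : Matrix (Fin m ⊕ Fin m) (Fin m ⊕ Fin m) F)} :=
        ⟨ConjClasses.mk G1, G1, rfl, hu, by
          show (hu : Matrix (Fin m ⊕ Fin m) (Fin m ⊕ Fin m) F) * u₀ = (h * u₀ * h⁻¹) * hu
          rw [hhu]; exact hs1⟩
      refine ⟨C, ?_⟩
      apply Quotient.sound
      show CongRel u₀ ((cC C)ᵀ * Matrix.J (Fin m) F * cC C) B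
      rw [← hhB]
      have hmk : ConjClasses.mk (gC C) = ConjClasses.mk G1 := hgC C
      rw [ConjClasses.mk_eq_mk_iff_isConj, isConj_iff] at hmk
      obtain ⟨K, hK⟩ := hmk
      have hKi : ((K⁻¹ : ↥(Matrix.symplecticGroup (Fin m) F)) :
          Matrix (Fin m ⊕ Fin m) (Fin m ⊕ Fin m) F)ᵀ * Matrix.J (Fin m) F *
            ((K⁻¹ : ↥(Matrix.symplecticGroup (Fin m) F)) :
              Matrix (Fin m ⊕ Fin m) (Fin m ⊕ Fin m) F) = Matrix.J (Fin m) F :=
        SymplecticGroup.mem_iff'.mp (K⁻¹).2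
      have hKK : (K : Matrix (Fin m ⊕ Fin m) (Fin m ⊕ Fin m) F) *
          ((K⁻¹ : ↥(Matrix.symplecticGroup (Fin m) F)) :
            Matrix (Fin m ⊕ Fin m) (Fin m ⊕ Fin m) F) = 1 := by
        have := congrArg Subtype.val (mul_inv_cancel K)
        exact this
      have hKg : (h * u₀ * h⁻¹) * (K : Matrix (Fin m ⊕ Fin m) (Fin m ⊕ Fin m) F) =
          (K : Matrix (Fin m ⊕ Fin m) (Fin m ⊕ Fin m) F) *
            ((gC C : ↥(Matrix.symplecticGroup (Fin m) F)) :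
              Matrix (Fin m ⊕ Fin m) (Fin m ⊕ Fin m) F) := by
        have h3 : G1 * K = K * gC C := by
          rw [← hK]; group
        exact congrArg Subtype.val h3
      exact a1b_congRel_of_conj (Matrix.J (Fin m) F) u₀ _ _ (cC C) h _ _ (hcC C) hh hKK hKi hKg
        (hsC C) hs1
  exact Nat.card_congr (Equiv.ofBijective f ⟨hinj, hsurj⟩)

end symp

end Cfsg.Agent.Lib.Helper56.SPC

section check

open Matrix Cfsg.Agent.Lib.Helper73.UC Cfsg.Agent.Lib.Helper73.SPC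

variable {F : Type*} [Field F]

/-- verbatim copy of the spec statement -/
theorem Cfsg.Agent.Lib.Helper56.SPC.a1b_spec_check {m : ℕ}
    (hD : ∀ B : Matrix (Fin m ⊕ Fin m) (Fin m ⊕ Fin m) F, Bᵀ = -B → IsUnit B.det →
      ∃ h : Matrix (Fin m ⊕ Fin m) (Fin m ⊕ Fin m) F, IsUnit h.det ∧ hᵀ * Matrix.J (Fin m) F * h = B)
    (u₀ : Matrix (Fin m ⊕ Fin m) (Fin m ⊕ Fin m) F) :
    Nat.card {C : ConjClasses ↥(Matrix.symplecticGroup (Fin m) F) //
        ∃ g : ↥(Matrix.symplecticGroup (Fin m) F), ConjClasses.mk g = C ∧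
          IsConj u₀ (g : Matrix (Fin m ⊕ Fin m) (Fin m ⊕ Fin m) F)} =
      orbCount u₀ (AltInv u₀) :=
  Cfsg.Agent.Lib.Helper56.SPC.card_classes_eq_orbCount_of hD u₀

example : @Cfsg.Agent.Lib.Helper56.SPC.a1b_spec_check = @Cfsg.Agent.Lib.Helper56.SPC.card_classes_eq_orbCount_of := rfl

end check

#print axioms Cfsg.Agent.Lib.Helper56.SPC.card_classes_eq_orbCount_of
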