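import Cfsg.Prelude.Def_SylowChains

set_option autoImplicit false

namespace Cfsg.Agent.Lib.Helper56

open Cfsg

/-- Conjugating a member of `𝓕(T₁)` by `h` (on the right) gives a member of `𝓕(S)` when
`T₁ = h S h⁻¹`. -/
theorem sylowMembers_conj {G : Type*} [Group G] {p : ℕ} (𝓕 : Set (Subgroup G))
    (h𝓕 : Cfsg.IsNormalSet 𝓕) (S T₁ : Subgroup G) (h : G)
    (hT₁ : T₁ = S.map (MulAut.conj h).toMonoidHom) (X : Subgroup G)
    (hX : X ∈ Cfsg.sylowMembers p 𝓕 T₁) :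
    Cfsg.subgroupConjRight h X ∈ Cfsg.sylowMembers p 𝓕 S := by
  obtain ⟨hX𝓕, P, hP⟩ := hX
  refine ⟨h𝓕 X hX𝓕 h, ?_⟩
  let e : ↥X ≃* ↥(X.map (MulAut.conj h⁻¹).toMonoidHom) := (MulAut.conj h⁻¹).subgroupMap X
  let P' : Sylow p ↥(X.map (MulAut.conj h⁻¹).toMonoidHom) :=
    P.comapOfInjective e.symm.toMonoidHom e.symm.injective (by
      intro z _
      exact ⟨e z, e.symm_apply_apply z⟩)
  refine ⟨P', ?_⟩
  show ((P' : Subgroup ↥(X.map (MulAut.conj h⁻¹).toMonoidHom))).map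
    (X.map (MulAut.conj h⁻¹).toMonoidHom).subtype = S ⊓ X.map (MulAut.conj h⁻¹).toMonoidHom
  have hP'coe : (P' : Subgroup ↥(X.map (MulAut.conj h⁻¹).toMonoidHom))
      = (P : Subgroup ↥X).comap e.symm.toMonoidHom := Sylow.coe_comapOfInjective _ _ _ _
  rw [hP'coe]
  ext y
  constructor
  · rintro ⟨y', hy', rfl⟩
    have hy' : e.symm y' ∈ (P : Subgroup ↥X) := hy'
    set z : ↥X := e.symm y' with hz
    have hz' : e z = y' := by rw [hz]; exact e.apply_symm_apply y'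
    have hzP : (z : G) ∈ (P : Subgroup ↥X).map X.subtype := ⟨z, hy', rfl⟩
    rw [hP, hT₁] at hzP
    obtain ⟨⟨s, hs, hsz⟩, _⟩ := hzP
    have hy'coe : ((y' : ↥(X.map (MulAut.conj h⁻¹).toMonoidHom)) : G) = h⁻¹ * (z : G) * h := by
      rw [← hz']
      show ((MulAut.conj h⁻¹).subgroupMap X z : G) = _
      rw [MulEquiv.coe_subgroupMap_apply, MulAut.conj_apply, inv_inv]
    refine ⟨?_, y'.2⟩
    show ((y' : ↥(X.map (MulAut.conj h⁻¹).toMonoidHom)) : G) ∈ S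
    rw [hy'coe, ← hsz]
    simp only [MulEquiv.coe_toMonoidHom, MulAut.conj_apply]
    have : h⁻¹ * (h * s * h⁻¹) * h = s := by group
    rw [this]
    exact hs
  · rintro ⟨hyS, hyX'⟩
    obtain ⟨w, hw, hwy⟩ := hyX'
    simp only [MulEquiv.coe_toMonoidHom, MulAut.conj_apply, inv_inv] at hwy
    have hwT : w ∈ T₁ := by
      rw [hT₁]
      refine ⟨y, hyS, ?_⟩
      simp only [MulEquiv.coe_toMonoidHom, MulAut.conj_apply]
      rw [← hwy]; group
    have hwP : w ∈ (P : Subgroup ↥X).map X.subtype := by rw [hP]; exact ⟨hwT, hw⟩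
    obtain ⟨z, hzP, hzw⟩ := hwP
    refine ⟨e z, ?_, ?_⟩
    · show e.symm (e z) ∈ (P : Subgroup ↥X)
      rw [e.symm_apply_apply]
      exact hzP
    · show ((MulAut.conj h⁻¹).subgroupMap X z : G) = y
      rw [MulEquiv.coe_subgroupMap_apply, MulAut.conj_apply, inv_inv]
      have : (z : G) = w := hzw
      rw [this, hwy]

end Cfsg.Agent.Lib.Helper56
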