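import Mathlib
import Cfsg.Agent.Lib.Helper94.THDefs

/-!
# K-TH pack (S1632), leaf THB0 (163202, helper56): the norm of the theta term.
-/

set_option autoImplicit false

namespace Cfsg.Agent.Lib.Helper56.TH

open Matrix Complex
open scoped Real
open Cfsg.Agent.Lib.Helper94.TH

/-- THB0 -/
theorem norm_ThTerm {n : ℕ} (A : Matrix (Fin n) (Fin n) ℝ) (τ : ℂ) (z : Fin n → ℂ)
    (x : Fin n → ℤ) :
    ‖ThTerm A τ z x‖ =
      Real.exp (-(π * (τ.im * rq A (fun i => (x i : ℝ)) + 2 * ∑ i, (x i : ℝ) * (z i).im))) := by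
  unfold ThTerm
  rw [Complex.norm_exp]
  congr 1
  have h1 : ∀ w : ℂ, ((π : ℂ) * I * w).re = -(π * w.im) := by
    intro w
    simp [Complex.mul_re, Complex.mul_im]
  rw [h1]
  congr 2
  have h2 : (∑ i, (x i : ℂ) * z i).im = ∑ i, (x i : ℝ) * (z i).im := by
    rw [Complex.im_sum]
    apply Finset.sum_congr rfl
    intro i _
    simp [Complex.mul_im]
  rw [Complex.add_im, Complex.mul_im, Complex.mul_im, h2]
  simp

end Cfsg.Agent.Lib.Helper56.TH

section check

open Matrix Complex ModularForm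
open UpperHalfPlane hiding I
open scoped Real MatrixGroups
open Cfsg.Agent.Lib.Helper94.TH

/-- verbatim copy of the stub statement -/
theorem Cfsg.Agent.Lib.Helper56.TH.thb0_spec_check {n : ℕ} (A : Matrix (Fin n) (Fin n) ℝ) (τ : ℂ) (z : Fin n → ℂ)
    (x : Fin n → ℤ) :
    ‖ThTerm A τ z x‖ =
      Real.exp (-(π * (τ.im * rq A (fun i => (x i : ℝ)) + 2 * ∑ i, (x i : ℝ) * (z i).im))) :=
  Cfsg.Agent.Lib.Helper56.TH.norm_ThTerm A τ z x

example : @Cfsg.Agent.Lib.Helper56.TH.thb0_spec_check = @Cfsg.Agent.Lib.Helper56.TH.norm_ThTerm := rfl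

end check

#print axioms Cfsg.Agent.Lib.Helper56.TH.norm_ThTerm
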