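import Mathlib
import Cfsg.Agent.Lib.Helper21.TT68P1

/-! # TT68 pack (S5559), leaf IDX (helper56): a normal subgroup of 2-power index in a group generated by
one class of involutions has index at most 2. -/

set_option autoImplicit false

namespace Cfsg.Agent.Lib.Helper56.TT68

theorem index_le_two_of_class_generated {G : Type*} [Group G] [Finite G] (P : Subgroup G) [P.Normal] (k : ℕ)
    (hk : P.index = 2 ^ k) (d : G) (hd : d * d = 1)
    (hgen : Subgroup.closure (conjugatesOf d) = ⊤) : P.index ≤ 2 := by
  have : Fact (Nat.Prime 2) := ⟨Nat.prime_two⟩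
  have hQ : IsPGroup 2 (G ⧸ P) := IsPGroup.of_card (n := k) (by rw [← Subgroup.index_eq_card]; exact hk)
  have hgen' : Subgroup.closure (conjugatesOf (QuotientGroup.mk' P d)) = ⊤ := by
    have h1 : (Subgroup.closure (conjugatesOf d)).map (QuotientGroup.mk' P) = ⊤ := by
      rw [hgen]
      exact Subgroup.map_top_of_surjective _ (QuotientGroup.mk'_surjective P)
    rw [MonoidHom.map_closure] at h1
    rw [eq_top_iff, ← h1]
    apply Subgroup.closure_mono
    rintro _ ⟨x, hx, rfl⟩
    have hx' : IsConj d x := hx
    exact (QuotientGroup.mk' P).map_isConj hx'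
  have hz := Cfsg.Agent.Lib.Helper21.TT68.pgroup_class_generated hQ (QuotientGroup.mk' P d) hgen'
  have hcard : Nat.card (G ⧸ P) = orderOf (QuotientGroup.mk' P d) := by
    rw [← Nat.card_zpowers, hz, Subgroup.card_top]
  rw [Subgroup.index_eq_card, hcard]
  apply orderOf_le_of_pow_eq_one (by norm_num)
  rw [pow_two, ← map_mul, hd, map_one]

end Cfsg.Agent.Lib.Helper56.TT68
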