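import Cfsg.Agent.Lib.Helper56.WardPair

/-!
# Ward's theorem: the abelian case of the pair lemma

`A` elementary abelian of order `p ^ 2` acting (inside the finite group `Γ`) on the abelian
`s`-group `M` and the `r`-group `R`, `R` normalizing `M` and centralized by `β ∈ A`, no fixed
points of `A` on `M`, `R` and on the module `W`: then `M` and `R` commute.
-/

set_option autoImplicit false
set_option linter.unusedSectionVars false
set_option linter.style.haveILetI false

namespace Cfsg.Agent.Lib.Helper56.Ward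

open Module
open Cfsg.Agent.Lib.Helper56.HH
open Cfsg.Agent.Lib.Helper56.HHB
open Cfsg.Agent.Lib.Helper56.HHS
open scoped commutatorElement

universe u uK uW

section Setting

variable {K : Type uK} [Field K] {W : Type uW} [AddCommGroup W] [Module K W]
variable {Γ : Type u} [Group Γ]

/-- the linear setting -/
structure Setting (ρ : Γ →* Module.End K W) (p : ℕ) (A : Subgroup Γ) : Prop where
  inj : Function.Injective ρ
  ea : IsEA2 p A
  fixW : ∀ w : W, (∀ a ∈ A, ρ a w = w) → w = 0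

/-- the stabilizer of a vector -/
def fixV (ρ : Γ →* Module.End K W) (v : W) : Subgroup Γ where
  carrier := {g | ρ g v = v}
  one_mem' := rho_one_apply ρ v
  mul_mem' := by
    intro a b ha hb
    show ρ (a * b) v = v
    rw [rho_mul_apply, show ρ b v = v from hb, show ρ a v = v from ha]
  inv_mem' := by
    intro a ha
    show ρ a⁻¹ v = v
    have h := rho_inv_apply ρ a v
    rwa [show ρ a v = v from ha] at h

theorem mem_fixV {ρ : Γ →* Module.End K W} {v : W} {g : Γ} : g ∈ fixV ρ v ↔ ρ g v = v := Iff.rfl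

theorem rho_ne_zero (ρ : Γ →* Module.End K W) (g : Γ) {w : W} (hw : w ≠ 0) : ρ g w ≠ 0 := by
  intro h
  apply hw
  apply rho_injective ρ g
  rw [h, map_zero]

variable [Finite Γ]

/-- every occurring weight of a subgroup normalized by `A` has a nontrivial stabilizer in `A` -/
theorem exists_fix_of_occurring {ρ : Γ →* Module.End K W} {p : ℕ} {A : Subgroup Γ}
    (hS : Setting ρ p A) {Z : Subgroup Γ}
    (hcomm : ∀ i j : Z, Commute (ρ (i : Γ)) (ρ (j : Γ)))
    (hAZ : A ≤ Subgroup.normalizer (Z : Set Γ)) {χ : Γ → K} {w : W}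
    (hw : w ∈ wtS ρ Z χ) (hw0 : w ≠ 0) : ∃ c ∈ A, c ≠ 1 ∧ FixW Z c χ := by
  classical
  by_contra hcon
  push Not at hcon
  haveI : Fintype A := Fintype.ofFinite A
  set v : W := ∑ a : A, ρ (a : Γ) w with hv
  have hvfix : ∀ a ∈ A, ρ a v = v := by
    intro a ha
    rw [hv, map_sum]
    exact Fintype.sum_equiv (Equiv.mulLeft (⟨a, ha⟩ : A)) _ _
      (fun b => by rw [← rho_mul_apply]; rfl)
  have hv0 : v = 0 := hS.fixW v hvfix
  let f : Z → Module.End K W := fun z => ρ (z : Γ)
  let ψ : A → (Z → K) := fun a z => cj (a : Γ) χ (z : Γ)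
  have hψ : Function.Injective ψ := by
    intro a a' haa'
    by_contra hne
    have hγA : (a' : Γ)⁻¹ * a ∈ A := A.mul_mem (A.inv_mem a'.2) a.2
    have hγ1 : (a' : Γ)⁻¹ * a ≠ 1 := by
      intro h
      apply hne
      apply Subtype.ext
      have : (a : Γ) = a' := by
        have := congrArg (fun z => (a' : Γ) * z) h
        simpa using this
      exact this
    apply hcon _ hγA hγ1
    intro z hz
    have hz' : (a' : Γ) * z * (a' : Γ)⁻¹ ∈ Z := conj_mem_of_normalizer (hAZ a'.2) hz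
    have h1 := congrFun haa' ⟨_, hz'⟩
    simp only [ψ, cj_apply] at h1
    have h2 : ((a' : Γ)⁻¹ * a)⁻¹ * z * ((a' : Γ)⁻¹ * a) =
        (a : Γ)⁻¹ * ((a' : Γ) * z * (a' : Γ)⁻¹) * a := by group
    have h3 : (a' : Γ)⁻¹ * ((a' : Γ) * z * (a' : Γ)⁻¹) * a' = z := by group
    rw [h2, h1, h3]
  have hind := (iSupIndep_wt f hcomm).comp hψ
  rw [iSupIndep_iff_finsetSum_eq_zero_imp_eq_zero] at hind
  have h0 := hind Finset.univ (fun a => ρ (a : Γ) w)
    (fun a _ => map_wtS ρ (hAZ a.2) hw) hv0 1 (Finset.mem_univ _)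
  apply hw0
  have h1 : ρ ((1 : A) : Γ) w = w := by
    rw [Subgroup.coe_one]; exact rho_one_apply ρ w
  rw [← h1]
  exact h0

end Setting

section Abelian

variable {K : Type uK} [Field K] [IsAlgClosed K] {W : Type uW} [AddCommGroup W] [Module K W]
  [FiniteDimensional K W]
variable {Γ : Type u} [Group Γ] [Finite Γ]

/-- **The abelian case.** -/
theorem abelian_case {ρ : Γ →* Module.End K W} {p s r : ℕ} [Fact p.Prime] [Fact s.Prime]
    [Fact r.Prime] (hps : p ≠ s) (hpr : p ≠ r) (hsr : s ≠ r) (hsK : (s : K) ≠ 0)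
    {A M R : Subgroup Γ} (hS : Setting ρ p A) (hP : Pair A M R s r)
    (hMab : ∀ a ∈ M, ∀ b ∈ M, a * b = b * a)
    {β : Γ} (hβ : β ∈ A) (hβ1 : β ≠ 1) (hRβ : ∀ y ∈ R, y * β = β * y) :
    ∀ x ∈ M, ∀ y ∈ R, x * y = y * x := by
  have hp : p.Prime := Fact.out
  have hA := hS.ea
  have hcomm := famS_commute ρ M hMab
  have hss := famS_semisimple ρ M s hP.hN hsK
  have htop := iSup_wtS_eq_top ρ M hcomm hss
  have hβp : β ^ p = 1 := hA.exp β hβ
  have hβN : β ∈ Subgroup.normalizer (M : Set Γ) := hP.AN hβ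
  -- characters fixed by `β` are trivial on the centralizers of the elements outside `⟨β⟩`
  have triv : ∀ (χ' : Γ → K) (w' : W), w' ∈ wtS ρ M χ' → w' ≠ 0 → FixW M β χ' →
      ∀ d ∈ A, d ∉ Subgroup.zpowers β → ∀ x ∈ M, d * x = x * d → χ' x = 1 := by
    intro χ' w' hw' hw'0 hβχ' d hdA hdβ x hxM hdx
    set Q : Subgroup Γ := M ⊓ Subgroup.centralizer ({d} : Set Γ) with hQ
    have hβQ : β ∈ Subgroup.normalizer (Q : Set Γ) :=
      mem_normalizer_inf hβN (mem_normalizer_centralizer_of_comm (hA.comm β hβ d hdA))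
    set σ : MulAut ↥Q := conjMul Q β hβQ with hσ
    have hfpf : ∀ q : Q, σ q = q → q = 1 := by
      intro q hq
      have hq' : β * (q : Γ) * β⁻¹ = q := congrArg Subtype.val hq
      apply Subtype.ext
      apply hP.fixN _ q.2.1
      have hle := hA.le_of_mem hp hβ hdA hβ1 hdβ (Subgroup.centralizer ({(q : Γ)} : Set Γ))
        (Subgroup.mem_centralizer_singleton_iff.2 (by
          calc β * (q : Γ) = β * q * β⁻¹ * β := by group
            _ = q * β := by rw [hq']))
        (Subgroup.mem_centralizer_singleton_iff.2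
          (Subgroup.mem_centralizer_singleton_iff.1 q.2.2).symm)
      intro a ha
      exact Subgroup.mem_centralizer_singleton_iff.1 (hle ha)
    have hsurj := Finite.surjective_of_injective (SG.fpf_inj σ hfpf)
    have hxQ : x ∈ Q := ⟨hxM, Subgroup.mem_centralizer_singleton_iff.2 hdx.symm⟩
    obtain ⟨q₀, hq₀⟩ := hsurj ⟨x, hxQ⟩
    have hxq : x = (q₀ : Γ)⁻¹ * (β * q₀ * β⁻¹) := by
      have := congrArg Subtype.val hq₀
      exact this.symm
    have hq₀M : (q₀ : Γ) ∈ M := q₀.2.1
    have hq₀M' : β * (q₀ : Γ) * β⁻¹ ∈ M := conj_mem_of_normalizer hβN hq₀M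
    have h1 : χ' (β * (q₀ : Γ) * β⁻¹) = χ' q₀ := by
      have h2 := hβχ' _ hq₀M'
      have h3 : β⁻¹ * (β * (q₀ : Γ) * β⁻¹) * β = q₀ := by group
      rw [h3] at h2
      exact h2.symm
    rw [hxq, chi_mul ρ hw' hw'0 (M.inv_mem hq₀M) hq₀M', h1,
      ← chi_mul ρ hw' hw'0 (M.inv_mem hq₀M) hq₀M, inv_mul_cancel]
    exact chi_one ρ hw' hw'0
  -- the key: `R` stabilizes every occurring weight
  have key : ∀ (χ : Γ → K) (w : W), w ∈ wtS ρ M χ → w ≠ 0 → ∀ y ∈ R, y ∈ stabW M χ := by
    intro χ w hw hw0 y hy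
    have hyN : y ∈ Subgroup.normalizer (M : Set Γ) := hP.RN hy
    have hyβ : y * β = β * y := hRβ y hy
    have hyβ' : y⁻¹ * β⁻¹ = β⁻¹ * y⁻¹ := by
      rw [← mul_inv_rev, ← mul_inv_rev, hyβ]
    set χ₁ := cj y χ with hχ₁
    set w₁ := ρ y w with hw₁
    have hw₁m : w₁ ∈ wtS ρ M χ₁ := map_wtS ρ hyN hw
    have hw₁0 : w₁ ≠ 0 := rho_ne_zero ρ y hw0
    refine ⟨hyN, ?_⟩
    by_cases hβχ : FixW M β χ
    · -- the weight is fixed by `β`
      have hβχ₁ : FixW M β χ₁ := by
        intro z hz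
        show χ (y⁻¹ * (β⁻¹ * z * β) * y) = χ (y⁻¹ * z * y)
        have h1 : y⁻¹ * (β⁻¹ * z * β) * y = β⁻¹ * (y⁻¹ * z * y) * β := by
          calc y⁻¹ * (β⁻¹ * z * β) * y = (y⁻¹ * β⁻¹) * z * (β * y) := by group
            _ = (β⁻¹ * y⁻¹) * z * (y * β) := by rw [hyβ', hyβ]
            _ = β⁻¹ * (y⁻¹ * z * y) * β := by group
        rw [h1]
        exact hβχ _ (conj_inv_mem_of_normalizer hyN hz)
      have hgen : ∀ z ∈ M, z ∈ M ∧ χ₁ z = χ z := by
        apply gen_induction (P := fun z => z ∈ M ∧ χ₁ z = χ z) hA hP.AN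
          (hA.coprime_card hp hps hP.hN)
        · exact ⟨M.one_mem, by rw [chi_one ρ hw₁m hw₁0, chi_one ρ hw hw0]⟩
        · rintro a b ⟨ha, ha'⟩ ⟨hb, hb'⟩
          exact ⟨M.mul_mem ha hb, by
            rw [chi_mul ρ hw₁m hw₁0 ha hb, chi_mul ρ hw hw0 ha hb, ha', hb']⟩
        · intro a haA ha1 x hxM hax
          refine ⟨hxM, ?_⟩
          by_cases haβ : a ∈ Subgroup.zpowers β
          · have hβa : β ∈ Subgroup.zpowers a := mem_zpowers_of_zpow_ne_one hp hβp haβ ha1
            have hxβ : x * β = β * x := by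
              have hle : Subgroup.zpowers a ≤ Subgroup.centralizer ({x} : Set Γ) := by
                rw [Subgroup.zpowers_le]
                exact Subgroup.mem_centralizer_singleton_iff.2 hax
              exact (Subgroup.mem_centralizer_singleton_iff.1 (hle hβa)).symm
            have hxy := thompson_pair hsr hA hP hβ hβ1 hxM hy hxβ hyβ
            show χ (y⁻¹ * x * y) = χ x
            have : y⁻¹ * x * y = x := by rw [mul_assoc, hxy]; group
            rw [this]
          · rw [triv χ₁ w₁ hw₁m hw₁0 hβχ₁ a haA haβ x hxM hax,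
              triv χ w hw hw0 hβχ a haA haβ x hxM hax]
      intro z hz
      exact (hgen z hz).2
    · -- the weight is moved by `β`
      obtain ⟨c, hcA, hc1, hcχ⟩ := exists_fix_of_occurring hS hcomm hP.AN hw hw0
      have hβχ₁ : ¬ FixW M β χ₁ := by
        intro h
        apply hβχ
        intro z hz
        have h1 := h _ (conj_mem_of_normalizer hyN hz)
        simp only [hχ₁, cj_apply] at h1
        have h2 : y⁻¹ * (β⁻¹ * (y * z * y⁻¹) * β) * y = β⁻¹ * z * β := by
          calc y⁻¹ * (β⁻¹ * (y * z * y⁻¹) * β) * y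
              = (y⁻¹ * β⁻¹) * y * z * (y⁻¹ * (β * y)) := by group
            _ = (β⁻¹ * y⁻¹) * y * z * (y⁻¹ * (y * β)) := by rw [hyβ', hyβ]
            _ = β⁻¹ * z * β := by group
        have h3 : y⁻¹ * (y * z * y⁻¹) * y = z := by group
        rw [h2, h3] at h1
        exact h1
      obtain ⟨c₁, hc₁A, hc₁1, hc₁χ₁⟩ := exists_fix_of_occurring hS hcomm hP.AN hw₁m hw₁0
      have hcst : c ∈ stabW M χ := ⟨hP.AN hcA, hcχ⟩
      have hβc : β ∉ Subgroup.zpowers c := by
        intro h
        have hle : Subgroup.zpowers c ≤ stabW M χ := by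
          rw [Subgroup.zpowers_le]; exact hcst
        exact hβχ (hle h).2
      obtain ⟨k, m, hkm⟩ := hA.exists_zpow_mul hp hcA hβ hc1 hβc c₁ hc₁A
      have hcβ : Commute c β := hA.comm c hcA β hβ
      have hg : y⁻¹ * c₁ * y ∈ stabW M χ := by
        refine ⟨Subgroup.mul_mem _ (Subgroup.mul_mem _ (Subgroup.inv_mem _ hyN) (hP.AN hc₁A)) hyN,
          ?_⟩
        intro z hz
        have h1 := hc₁χ₁ _ (conj_mem_of_normalizer hyN hz)
        simp only [hχ₁, cj_apply] at h1
        have h2 : (y⁻¹ * c₁ * y)⁻¹ * z * (y⁻¹ * c₁ * y) =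
            y⁻¹ * (c₁⁻¹ * (y * z * y⁻¹) * c₁) * y := by group
        have h3 : y⁻¹ * (y * z * y⁻¹) * y = z := by group
        rw [h2, h1, h3]
      set u := y⁻¹ * (c₁ * y * c₁⁻¹) with hu
      have huR : u ∈ R := R.mul_mem (R.inv_mem hy) (conj_mem_of_normalizer (hP.AR hc₁A) hy)
      have hgu : y⁻¹ * c₁ * y = u * c₁ := by rw [hu]; group
      have hckst : c ^ k ∈ stabW M χ := Subgroup.zpow_mem _ hcst k
      have huβst : u * β ^ m ∈ stabW M χ := by
        have h1 : u * β ^ m = (u * c₁) * (c ^ k)⁻¹ := by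
          rw [hkm]
          have h2 : c ^ k * β ^ m = β ^ m * c ^ k := (hcβ.zpow_zpow k m).eq
          rw [h2]; group
        rw [h1, ← hgu]
        exact Subgroup.mul_mem _ hg (Subgroup.inv_mem _ hckst)
      have huβ : Commute u (β ^ m) := (show Commute u β from hRβ u huR).zpow_right m
      set n := Nat.card R with hn
      have hun : u ^ n = 1 := by
        have h1 : (⟨u, huR⟩ : R) ^ n = 1 := pow_card_eq_one'
        have h2 : (((⟨u, huR⟩ : R) ^ n : R) : Γ) = ((1 : R) : Γ) := by rw [h1]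
        rwa [Subgroup.coe_pow, Subgroup.coe_one] at h2
      have hest : (β ^ m) ^ n ∈ stabW M χ := by
        have h1 := Subgroup.pow_mem _ huβst n
        rwa [huβ.mul_pow, hun, one_mul] at h1
      have hβm1 : β ^ m = 1 := by
        by_contra hne
        have hmem : (β ^ m) ^ n ∈ Subgroup.zpowers β :=
          Subgroup.pow_mem _ (Subgroup.zpow_mem_zpowers β m) n
        have hne1 : (β ^ m) ^ n ≠ 1 := by
          intro h1
          have h2 : orderOf (β ^ m) ∣ n := orderOf_dvd_of_pow_eq_one h1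
          have h3 : (β ^ m) ^ p = 1 := by
            rw [← zpow_natCast, ← zpow_mul, mul_comm, zpow_mul, zpow_natCast, hβp, one_zpow]
          have h4 : orderOf (β ^ m) = p := orderOf_eq_prime h3 hne
          rw [h4] at h2
          obtain ⟨j, hj⟩ := hP.hR.exists_card_eq
          rw [hn, hj] at h2
          have h5 := (Nat.Prime.dvd_of_dvd_pow hp h2)
          exact hpr ((Nat.prime_dvd_prime_iff_eq hp (Fact.out : r.Prime)).1 h5)
        have hβe := mem_zpowers_of_zpow_ne_one hp hβp hmem hne1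
        have hle : Subgroup.zpowers ((β ^ m) ^ n) ≤ stabW M χ := by
          rw [Subgroup.zpowers_le]; exact hest
        exact hβχ (hle hβe).2
      have hc₁k : c₁ = c ^ k := by rw [hkm, hβm1, mul_one]
      have hust : u ∈ stabW M χ := by
        rw [hβm1, mul_one] at huβst; exact huβst
      have hc₁st : c₁ ∈ stabW M χ := by rw [hc₁k]; exact hckst
      have hβc₁ : β ∉ Subgroup.zpowers c₁ := by
        intro h
        have hle : Subgroup.zpowers c₁ ≤ stabW M χ₁ := by
          rw [Subgroup.zpowers_le]; exact ⟨hP.AN hc₁A, hc₁χ₁⟩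
        exact hβχ₁ (hle h).2
      have hc₁R : c₁ ∈ Subgroup.normalizer (R : Set Γ) := hP.AR hc₁A
      set σ : MulAut ↥R := conjMul R c₁ hc₁R with hσ
      have hfpfR : ∀ z : R, σ z = z → z = 1 := by
        intro z hz
        have hz' : c₁ * (z : Γ) * c₁⁻¹ = z := congrArg Subtype.val hz
        apply Subtype.ext
        apply hP.fixR _ z.2
        have hle := hA.le_of_mem hp hc₁A hβ hc₁1 hβc₁ (Subgroup.centralizer ({(z : Γ)} : Set Γ))
          (Subgroup.mem_centralizer_singleton_iff.2 (by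
            calc c₁ * (z : Γ) = c₁ * z * c₁⁻¹ * c₁ := by group
              _ = z * c₁ := by rw [hz']))
          (Subgroup.mem_centralizer_singleton_iff.2 (hRβ z z.2).symm)
        intro a ha
        exact Subgroup.mem_centralizer_singleton_iff.1 (hle ha)
      set S' : Subgroup ↥R := (stabW M χ).comap R.subtype with hS'
      have hS'inv : ∀ x ∈ S', σ x ∈ S' := by
        intro x hx
        show c₁ * (x : Γ) * c₁⁻¹ ∈ stabW M χ
        exact Subgroup.mul_mem _ (Subgroup.mul_mem _ hc₁st hx) (Subgroup.inv_mem _ hc₁st)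
      have hmem := SG.mem_of_inv_mul_map_mem σ hfpfR S' hS'inv ⟨y, hy⟩ (by
        show (⟨y, hy⟩ : R)⁻¹ * σ ⟨y, hy⟩ ∈ S'
        show y⁻¹ * (c₁ * y * c₁⁻¹) ∈ stabW M χ
        exact hust)
      exact (show y ∈ stabW M χ from hmem).2
  intro x hx y hy
  apply hS.inj
  rw [map_mul, map_mul]
  apply ext_of_wtS ρ htop
  intro χ w hw
  by_cases hw0 : w = 0
  · rw [hw0, map_zero, map_zero]
  have hyst := key χ w hw hw0 y hy
  have hyw := map_wtS_of_mem_stabW ρ hyst hw
  rw [Module.End.mul_apply, Module.End.mul_apply, (mem_wtS ρ).1 hyw x hx, (mem_wtS ρ).1 hw x hx,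
    map_smul]

end Abelian

end Cfsg.Agent.Lib.Helper56.Ward
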