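import Cfsg.Agent.Lib.Helper56.SGGroup

/-!
# Ward's theorem: group theoretic reductions for a group `B` of automorphisms

A group `B` acts on `G` through `φ : B →* MulAut G`.  Invariant normal subgroups, chief factors,
the chief centralizer (contained in the Fitting subgroup), the action on quotients, and the
persistence of fixed point freeness when `B` is a `p`-group.
-/

set_option autoImplicit false
set_option linter.unusedSectionVars false
set_option linter.style.haveILetI false

open scoped commutatorElement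

namespace Cfsg.Agent.Lib.Helper56.WardG

open Cfsg.Agent.Lib.Helper56

universe u w

variable {G : Type u} [Group G] {B : Type w} [Group B]

/-! ### Invariant normal subgroups -/

/-- `B`-invariant normal subgroups. -/
structure BInv (φ : B →* MulAut G) (U : Subgroup G) : Prop where
  normal : U.Normal
  inv : ∀ b x, φ b x ∈ U ↔ x ∈ U

theorem BInv.bot (φ : B →* MulAut G) : BInv φ (⊥ : Subgroup G) :=
  ⟨inferInstance, fun b x => by simp⟩

theorem BInv.top (φ : B →* MulAut G) : BInv φ (⊤ : Subgroup G) :=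
  ⟨inferInstance, fun b x => by simp⟩

theorem binv_of_forall [Finite G] (φ : B →* MulAut G) (U : Subgroup G) (hn : U.Normal)
    (h : ∀ b, ∀ x ∈ U, φ b x ∈ U) : BInv φ U :=
  ⟨hn, fun b => SG.map_mem_iff (φ b) U (h b)⟩

theorem binv_of_characteristic (φ : B →* MulAut G) (U : Subgroup G) (hc : U.Characteristic) :
    BInv φ U :=
  ⟨inferInstance, fun b x => SG.char_mem_iff hc (φ b) x⟩

/-- A `B`-chief factor `U / V`. -/
def IsChiefB (φ : B →* MulAut G) (U V : Subgroup G) : Prop :=
  BInv φ U ∧ BInv φ V ∧ V < U ∧ ∀ W, BInv φ W → V ≤ W → W ≤ U → W = V ∨ W = U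

/-- The elements centralizing every `B`-chief factor. -/
def chiefCentB (φ : B →* MulAut G) : Subgroup G where
  carrier := {x | ∀ U V, IsChiefB φ U V → ∀ u ∈ U, ⁅u, x⁆ ∈ V}
  one_mem' := by
    intro U V _ u _
    have : ⁅u, (1 : G)⁆ = 1 := by simp [commutatorElement_def]
    rw [this]; exact V.one_mem
  mul_mem' := by
    intro x y hx hy U V h u hu
    haveI := h.2.1.normal
    have h1 : ⁅u, x * y⁆ = ⁅u, x⁆ * (x * ⁅u, y⁆ * x⁻¹) := by
      simp only [commutatorElement_def]; group
    rw [h1]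
    exact V.mul_mem (hx U V h u hu) (h.2.1.normal.conj_mem _ (hy U V h u hu) x)
  inv_mem' := by
    intro x hx U V h u hu
    have h1 : ⁅u, x⁻¹⁆ = x⁻¹ * (⁅u, x⁆)⁻¹ * x⁻¹⁻¹ := by
      simp only [commutatorElement_def]; group
    rw [h1]
    exact h.2.1.normal.conj_mem _ (V.inv_mem (hx U V h u hu)) x⁻¹

theorem mem_chiefCentB (φ : B →* MulAut G) (x : G) :
    x ∈ chiefCentB φ ↔ ∀ U V, IsChiefB φ U V → ∀ u ∈ U, ⁅u, x⁆ ∈ V := Iff.rfl

theorem chiefCentB_normal (φ : B →* MulAut G) : (chiefCentB φ).Normal := by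
  constructor
  intro x hx g U V h u hu
  have h1 : ⁅u, g * x * g⁻¹⁆ = g * ⁅g⁻¹ * u * g⁻¹⁻¹, x⁆ * g⁻¹ := by
    simp only [commutatorElement_def]; group
  rw [h1]
  exact h.2.1.normal.conj_mem _ (hx U V h _ (h.1.normal.conj_mem _ hu g⁻¹)) g

theorem commutator_chiefCentB_le (φ : B →* MulAut G) {U V : Subgroup G} (h : IsChiefB φ U V) :
    ⁅U, chiefCentB φ⁆ ≤ V := by
  rw [Subgroup.commutator_le]
  intro u hu x hx
  exact hx U V h u hu

theorem exists_chief_below [Finite G] (φ : B →* MulAut G) {U : Subgroup G} (hU : BInv φ U)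
    (hne : U ≠ ⊥) : ∃ V, IsChiefB φ U V := by
  obtain ⟨V, hV, hVmax⟩ := exists_maximal_of_wellFoundedGT
    (fun W : Subgroup G => BInv φ W ∧ W < U) ⟨⊥, BInv.bot φ, bot_lt_iff_ne_bot.mpr hne⟩
  refine ⟨V, hU, hV.1, hV.2, ?_⟩
  intro W hW hVW hWU
  by_cases hWU' : W = U
  · exact Or.inr hWU'
  · left
    have := hVmax ⟨hW, lt_of_le_of_ne hWU hWU'⟩ hVW
    exact le_antisymm this hVW

theorem iter_chiefCentB_eq_bot [Finite G] (φ : B →* MulAut G) :
    ∀ (c : ℕ) (U : Subgroup G), BInv φ U → Nat.card U ≤ c →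
      ∃ m, (fun X : Subgroup G => ⁅X, chiefCentB φ⁆)^[m] U = ⊥ := by
  intro c
  induction c with
  | zero =>
    intro U _ hc
    have : 0 < Nat.card U := Nat.card_pos
    omega
  | succ c ih =>
    intro U hU hc
    by_cases hne : U = ⊥
    · exact ⟨0, hne⟩
    · obtain ⟨V, hV⟩ := exists_chief_below φ hU hne
      have hlt : Nat.card V < Nat.card U :=
        Set.Finite.card_lt_card (Set.toFinite _) (SetLike.coe_ssubset_coe.2 hV.2.2.1)
      obtain ⟨m, hm⟩ := ih V hV.2.1 (by omega)
      refine ⟨m + 1, ?_⟩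
      rw [Function.iterate_succ_apply]
      have hmono : Monotone (fun X : Subgroup G => ⁅X, chiefCentB φ⁆) :=
        fun X Y hXY => Subgroup.commutator_mono hXY le_rfl
      have := (hmono.iterate m) (commutator_chiefCentB_le φ hV)
      rw [eq_bot_iff, ← hm]
      exact this

theorem chiefCentB_isNilpotent [Finite G] (φ : B →* MulAut G) :
    Group.IsNilpotent (chiefCentB φ) := by
  rw [Subgroup.isNilpotent_iff_lowerCentralSeries]
  obtain ⟨m, hm⟩ := iter_chiefCentB_eq_bot φ (Nat.card (⊤ : Subgroup G)) ⊤ (BInv.top φ) le_rfl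
  refine ⟨m, ?_⟩
  have key : ∀ k, (chiefCentB φ).lowerCentralSeries k ≤
      (fun X : Subgroup G => ⁅X, chiefCentB φ⁆)^[k] ⊤ := by
    intro k
    induction k with
    | zero => exact le_top
    | succ k ih =>
      rw [Subgroup.lowerCentralSeries_succ, Function.iterate_succ_apply']
      exact Subgroup.commutator_mono ih le_rfl
  rw [eq_bot_iff, ← hm]
  exact key m

theorem chiefCentB_le_fitting [Finite G] (φ : B →* MulAut G) :
    chiefCentB φ ≤ Cfsg.fittingSubgroup G :=
  Cfsg.Agent.Lib.Helper13.le_fittingSubgroup _ (chiefCentB_normal φ) (chiefCentB_isNilpotent φ)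

/-! ### The action on a quotient -/

/-- The action induced on the quotient by an invariant normal subgroup. -/
noncomputable def quotAutHom (φ : B →* MulAut G) (N : Subgroup G) [N.Normal]
    (hN : ∀ b x, φ b x ∈ N ↔ x ∈ N) : B →* MulAut (G ⧸ N) where
  toFun b := SG.quotAut (φ b) N (hN b)
  map_one' := by
    ext x
    induction x using QuotientGroup.induction_on with
    | H g =>
      rw [SG.quotAut_mk, map_one]
      rfl
  map_mul' := by
    intro b b'
    ext x
    induction x using QuotientGroup.induction_on with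
    | H g =>
      rw [SG.quotAut_mk, map_mul]
      rfl

@[simp] theorem quotAutHom_mk (φ : B →* MulAut G) (N : Subgroup G) [N.Normal]
    (hN : ∀ b x, φ b x ∈ N ↔ x ∈ N) (b : B) (g : G) :
    quotAutHom φ N hN b (QuotientGroup.mk g) = QuotientGroup.mk (φ b g) := rfl

/-! ### Fixed point freeness for a `p`-group of automorphisms -/

section PGroup

variable [Finite G] {p : ℕ} [Fact p.Prime]

/-- a `p`-group acting without nontrivial fixed points acts on a `p'`-group -/
theorem not_dvd_card_of_fpf (hB : IsPGroup p B) (φ : B →* MulAut G)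
    (hfpf : ∀ g : G, (∀ b, φ b g = g) → g = 1) : ¬ p ∣ Nat.card G := by
  letI : MulAction B G := MulAction.compHom G φ
  have hsmul : ∀ (b : B) (g : G), b • g = φ b g := fun b g => rfl
  have h1 := hB.card_modEq_card_fixedPoints G
  have h2 : MulAction.fixedPoints B G = {1} := by
    ext g
    simp only [MulAction.mem_fixedPoints, Set.mem_singleton_iff]
    constructor
    · intro h
      exact hfpf g (fun b => by rw [← hsmul]; exact h b)
    · rintro rfl b
      rw [hsmul, map_one]
  rw [h2] at h1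
  have h3 : Nat.card ({1} : Set G) = 1 := by simp
  rw [h3] at h1
  intro hdvd
  have h4 : Nat.card G ≡ 0 [MOD p] := Nat.modEq_zero_iff_dvd.mpr hdvd
  have h5 : 1 ≡ 0 [MOD p] := h1.symm.trans h4
  have h6 : p ∣ 1 := Nat.modEq_zero_iff_dvd.mp h5
  have hp : p.Prime := Fact.out
  exact hp.one_lt.ne' (Nat.dvd_one.mp h6)

/-- an invariant coset of an invariant subgroup contains a fixed point -/
theorem mem_of_coset_invariant (hB : IsPGroup p B) (φ : B →* MulAut G)
    (hfpf : ∀ g : G, (∀ b, φ b g = g) → g = 1) (N : Subgroup G)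
    (hN : ∀ b, ∀ x ∈ N, φ b x ∈ N) (g : G) (hg : ∀ b, g⁻¹ * φ b g ∈ N) : g ∈ N := by
  have hpG := not_dvd_card_of_fpf hB φ hfpf
  let S : Type u := {x : G // g⁻¹ * x ∈ N}
  have hmem : ∀ (b : B) (x : S), g⁻¹ * φ b x.1 ∈ N := by
    intro b x
    have h1 : g⁻¹ * φ b x.1 = (g⁻¹ * φ b g) * φ b (g⁻¹ * x.1) := by
      rw [map_mul, map_inv]; group
    rw [h1]
    exact N.mul_mem (hg b) (hN b _ x.2)
  letI : MulAction B S :=
    { smul := fun b x => ⟨φ b x.1, hmem b x⟩
      one_smul := by
        intro x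
        apply Subtype.ext
        show φ 1 x.1 = x.1
        rw [map_one]; rfl
      mul_smul := by
        intro b b' x
        apply Subtype.ext
        show φ (b * b') x.1 = φ b (φ b' x.1)
        rw [map_mul]; rfl }
  have hsmul : ∀ (b : B) (x : S), (b • x).1 = φ b x.1 := fun b x => rfl
  let e : N ≃ S :=
    { toFun := fun n => ⟨g * n, by rw [inv_mul_cancel_left]; exact n.2⟩
      invFun := fun x => ⟨g⁻¹ * x.1, x.2⟩
      left_inv := by intro n; apply Subtype.ext; simp
      right_inv := by intro x; apply Subtype.ext; simp }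
  haveI : Finite S := Finite.of_equiv _ e
  have hcard : Nat.card S = Nat.card N := (Nat.card_congr e).symm
  have hpS : ¬ p ∣ Nat.card S := by
    rw [hcard]
    intro h
    exact hpG (h.trans (Subgroup.card_subgroup_dvd_card N))
  obtain ⟨a, ha⟩ := hB.nonempty_fixed_point_of_prime_not_dvd_card S hpS
  have ha1 : a.1 = 1 := by
    apply hfpf
    intro b
    have := ha b
    rw [← hsmul, this]
  have h2 := a.2
  rw [ha1, mul_one] at h2
  have h3 := N.inv_mem h2
  rwa [inv_inv] at h3

theorem quotAutHom_fpf (hB : IsPGroup p B) (φ : B →* MulAut G)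
    (hfpf : ∀ g : G, (∀ b, φ b g = g) → g = 1) (N : Subgroup G) [N.Normal]
    (hN : ∀ b x, φ b x ∈ N ↔ x ∈ N) :
    ∀ x : G ⧸ N, (∀ b, quotAutHom φ N hN b x = x) → x = 1 := by
  intro x
  induction x using QuotientGroup.induction_on with
  | H g =>
    intro h
    rw [QuotientGroup.eq_one_iff]
    apply mem_of_coset_invariant hB φ hfpf N (fun b x hx => (hN b x).mpr hx)
    intro b
    have h1 := h b
    rw [quotAutHom_mk] at h1
    exact QuotientGroup.eq.mp h1.symm

end PGroup

/-! ### Chief factors and quotients -/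

/-- A `B`-chief factor `U / V` gives a minimal invariant normal subgroup of `G / V`. -/
theorem chief_quot [Finite G] (φ : B →* MulAut G) {U V : Subgroup G} (h : IsChiefB φ U V) :
    haveI := h.2.1.normal
    IsChiefB (quotAutHom φ V h.2.1.inv) (U.map (QuotientGroup.mk' V)) ⊥ := by
  haveI := h.2.1.normal
  set φ' := quotAutHom φ V h.2.1.inv with hφ'
  have hsurj := QuotientGroup.mk'_surjective V
  have hM : BInv φ' (U.map (QuotientGroup.mk' V)) := by
    apply binv_of_forall φ' _ (h.1.normal.map _ hsurj)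
    rintro b _ ⟨u, hu, rfl⟩
    exact ⟨φ b u, (h.1.inv b u).mpr hu, rfl⟩
  refine ⟨hM, BInv.bot φ', ?_, ?_⟩
  · rw [bot_lt_iff_ne_bot]
    intro hbot
    obtain ⟨u, huU, huV⟩ := SetLike.exists_of_lt h.2.2.1
    have h1 : QuotientGroup.mk' V u ∈ U.map (QuotientGroup.mk' V) := ⟨u, huU, rfl⟩
    rw [hbot, Subgroup.mem_bot] at h1
    exact huV ((QuotientGroup.eq_one_iff u).mp h1)
  · intro W' hW' _ hW'U
    set W : Subgroup G := W'.comap (QuotientGroup.mk' V) with hW
    have hWS : BInv φ W := by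
      refine ⟨hW'.normal.comap _, ?_⟩
      intro b x
      rw [hW, Subgroup.mem_comap, Subgroup.mem_comap]
      exact hW'.inv b (QuotientGroup.mk x)
    have hVW : V ≤ W := by
      intro x hx
      rw [hW, Subgroup.mem_comap]
      have : QuotientGroup.mk' V x = 1 := (QuotientGroup.eq_one_iff x).mpr hx
      rw [this]; exact W'.one_mem
    have hWU : W ≤ U := by
      intro x hx
      rw [hW, Subgroup.mem_comap] at hx
      obtain ⟨u, hu, hux⟩ := hW'U hx
      have h1 : u⁻¹ * x ∈ V := QuotientGroup.eq.mp hux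
      have h2 : x = u * (u⁻¹ * x) := by group
      rw [h2]
      exact U.mul_mem hu (h.2.2.1.le h1)
    have hW'eq : W' = W.map (QuotientGroup.mk' V) :=
      (Subgroup.map_comap_eq_self_of_surjective hsurj W').symm
    rcases h.2.2.2 W hWS hVW hWU with h1 | h1
    · left
      rw [hW'eq, h1, QuotientGroup.map_mk'_self]
    · right
      rw [hW'eq, h1]

/-! ### Minimal invariant normal subgroups -/

theorem BInv.commutator [Finite G] {φ : B →* MulAut G} {M : Subgroup G} (hM : BInv φ M) :
    BInv φ ⁅M, M⁆ := by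
  haveI := hM.normal
  apply binv_of_forall φ _ (Subgroup.commutator_normal M M)
  intro b x hx
  have h1 : (⁅M, M⁆).map ((φ b : G ≃* G) : G →* G) = ⁅M, M⁆ := by
    rw [Subgroup.map_commutator, SG.map_eq_of_mem_iff (φ b) M (hM.inv b)]
  rw [← h1]
  exact ⟨x, hx, rfl⟩

/-- A minimal invariant normal subgroup of a solvable group is abelian. -/
theorem chief_bot_comm [Finite G] [Group.IsSolvable G] {φ : B →* MulAut G} {M : Subgroup G}
    (hM : IsChiefB φ M ⊥) : ∀ a ∈ M, ∀ b ∈ M, a * b = b * a := by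
  have hne : M ≠ ⊥ := (bot_lt_iff_ne_bot.mp hM.2.2.1)
  have hlt : ⁅M, M⁆ < M := Group.IsSolvable.commutator_lt_of_ne_bot hne
  have h0 : ⁅M, M⁆ = ⊥ := by
    rcases hM.2.2.2 _ hM.1.commutator bot_le hlt.le with h | h
    · exact h
    · exact absurd h hlt.ne
  intro a ha b hb
  have h1 : ⁅a, b⁆ ∈ ⁅M, M⁆ := Subgroup.commutator_mem_commutator ha hb
  rw [h0, Subgroup.mem_bot] at h1
  exact commutatorElement_eq_one_iff_mul_comm.mp h1

/-- A minimal invariant normal subgroup of a solvable group has prime exponent. -/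
theorem chief_bot_exp [Finite G] [Group.IsSolvable G] {φ : B →* MulAut G} {M : Subgroup G}
    (hM : IsChiefB φ M ⊥) : ∃ v : ℕ, v.Prime ∧ v ∣ Nat.card M ∧ ∀ a ∈ M, a ^ v = 1 := by
  have hcomm := chief_bot_comm hM
  have hne : M ≠ ⊥ := (bot_lt_iff_ne_bot.mp hM.2.2.1)
  have hcard : Nat.card M ≠ 1 := by
    intro h
    exact hne (Subgroup.card_eq_one.mp h)
  obtain ⟨v, hv, hvd⟩ := Nat.exists_prime_and_dvd hcard
  haveI : Fact v.Prime := ⟨hv⟩
  obtain ⟨x, hx⟩ := exists_prime_orderOf_dvd_card' (G := M) v hvd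
  refine ⟨v, hv, hvd, ?_⟩
  let Mv : Subgroup G :=
    { carrier := {a | a ∈ M ∧ a ^ v = 1}
      one_mem' := ⟨M.one_mem, one_pow _⟩
      mul_mem' := by
        rintro a b ⟨ha, hav⟩ ⟨hb, hbv⟩
        refine ⟨M.mul_mem ha hb, ?_⟩
        have : Commute a b := hcomm a ha b hb
        rw [this.mul_pow, hav, hbv, one_mul]
      inv_mem' := by
        rintro a ⟨ha, hav⟩
        exact ⟨M.inv_mem ha, by rw [inv_pow, hav, inv_one]⟩ }
  have hMv : BInv φ Mv := by
    apply binv_of_forall φ Mv
    · constructor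
      rintro a ⟨ha, hav⟩ g
      exact ⟨hM.1.normal.conj_mem a ha g, by rw [conj_pow, hav]; group⟩
    · rintro b a ⟨ha, hav⟩
      exact ⟨(hM.1.inv b a).mpr ha, by rw [← map_pow, hav, map_one]⟩
  have hle : Mv ≤ M := fun a ha => ha.1
  rcases hM.2.2.2 Mv hMv bot_le hle with h | h
  · exfalso
    have hxm : (x : G) ∈ Mv := by
      refine ⟨x.2, ?_⟩
      have := pow_orderOf_eq_one x
      rw [hx] at this
      have := congrArg Subtype.val this
      simpa using this
    rw [h, Subgroup.mem_bot] at hxm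
    have hx1 : x = 1 := Subtype.ext hxm
    rw [hx1, orderOf_one] at hx
    exact hv.one_lt.ne hx
  · intro a ha
    have : a ∈ Mv := by rw [h]; exact ha
    exact this.2

end Cfsg.Agent.Lib.Helper56.WardG
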