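import Cfsg.Agent.Lib.Helper56.SGGroup

/-!
# Ward's theorem: linear tools

* weight spaces of an abelian subgroup `Z` of a finite group `Γ` acting on a vector space by
  `ρ : Γ →* Module.End K W`, indexed by total functions `χ : Γ → K` (only the values on `Z`
  matter), with the conjugation action `cj` of `Γ` on such functions;
* a "linear Thompson lemma": an `s`-group with a fixed point free automorphism of prime order
  `p`, acting on a space in characteristic prime to `s` compatibly with an operator `D` of order `p`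
  having no nonzero fixed vector, acts trivially.
-/

set_option autoImplicit false
set_option linter.unusedSectionVars false
set_option linter.style.haveILetI false

namespace Cfsg.Agent.Lib.Helper56.Ward

open Module
open Cfsg.Agent.Lib.Helper56.HH
open Cfsg.Agent.Lib.Helper56.HHB
open Cfsg.Agent.Lib.Helper56.HHS
open scoped commutatorElement

universe u uK uW

section Basic

variable {K : Type uK} [Field K] {W : Type uW} [AddCommGroup W] [Module K W]
variable {Γ : Type u} [Group Γ]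
variable (ρ : Γ →* Module.End K W)

theorem rho_inv_apply (g : Γ) (w : W) : ρ g⁻¹ (ρ g w) = w := by
  rw [← Module.End.mul_apply, rho_inv_mul]
  rfl

theorem rho_apply_inv (g : Γ) (w : W) : ρ g (ρ g⁻¹ w) = w := by
  rw [← Module.End.mul_apply, rho_mul_inv]
  rfl

theorem rho_injective (g : Γ) {w w' : W} (h : ρ g w = ρ g w') : w = w' := by
  rw [← rho_inv_apply ρ g w, h, rho_inv_apply]

theorem rho_mul_apply (g h : Γ) (w : W) : ρ (g * h) w = ρ g (ρ h w) := by
  rw [map_mul]; rfl

theorem rho_one_apply (w : W) : ρ 1 w = w := by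
  rw [map_one]; rfl

theorem rho_pow_apply (g : Γ) (n : ℕ) (w : W) : ρ (g ^ n) w = ((ρ g) ^ n) w := by
  rw [map_pow]

theorem conj_mem_of_normalizer {Z : Subgroup Γ} {g : Γ}
    (hg : g ∈ Subgroup.normalizer (Z : Set Γ)) {z : Γ} (hz : z ∈ Z) : g * z * g⁻¹ ∈ Z :=
  (Subgroup.mem_normalizer_iff.1 hg z).1 hz

theorem conj_inv_mem_of_normalizer {Z : Subgroup Γ} {g : Γ}
    (hg : g ∈ Subgroup.normalizer (Z : Set Γ)) {z : Γ} (hz : z ∈ Z) : g⁻¹ * z * g ∈ Z := by
  have h := (Subgroup.mem_normalizer_iff.1 (Subgroup.inv_mem _ hg) z).1 hz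
  simpa using h

/-- the weight space of the subgroup `Z` for the function `χ` -/
def wtS (Z : Subgroup Γ) (χ : Γ → K) : Submodule K W :=
  wt (fun z : Z => ρ (z : Γ)) (fun z : Z => χ (z : Γ))

theorem mem_wtS {Z : Subgroup Γ} {χ : Γ → K} {w : W} :
    w ∈ wtS ρ Z χ ↔ ∀ z ∈ Z, ρ z w = χ z • w := by
  unfold wtS
  rw [mem_wt]
  constructor
  · intro h z hz
    exact h ⟨z, hz⟩
  · intro h z
    exact h z z.2

/-- conjugation action on functions -/
def cj (g : Γ) (χ : Γ → K) : Γ → K := fun x => χ (g⁻¹ * x * g)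

theorem cj_apply (g : Γ) (χ : Γ → K) (x : Γ) : cj g χ x = χ (g⁻¹ * x * g) := rfl

theorem cj_mul (g h : Γ) (χ : Γ → K) : cj (g * h) χ = cj g (cj h χ) := by
  funext x
  simp only [cj_apply]
  congr 1
  group

theorem cj_one (χ : Γ → K) : cj (1 : Γ) χ = χ := by
  funext x
  simp [cj_apply]

theorem map_wtS {Z : Subgroup Γ} {g : Γ} (hg : g ∈ Subgroup.normalizer (Z : Set Γ))
    {χ : Γ → K} {w : W} (hw : w ∈ wtS ρ Z χ) : ρ g w ∈ wtS ρ Z (cj g χ) := by
  rw [mem_wtS] at hw ⊢
  intro z hz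
  have h1 := hw _ (conj_inv_mem_of_normalizer hg hz)
  have h2 : z * g = g * (g⁻¹ * z * g) := by group
  rw [← rho_mul_apply, h2, rho_mul_apply, h1, map_smul]
  rfl

/-- a subgroup element fixing the weight `χ` of `Z` -/
def FixW (Z : Subgroup Γ) (g : Γ) (χ : Γ → K) : Prop := ∀ z ∈ Z, χ (g⁻¹ * z * g) = χ z

/-- the stabilizer of a weight inside the normalizer -/
def stabW (Z : Subgroup Γ) (χ : Γ → K) : Subgroup Γ where
  carrier := {g | g ∈ Subgroup.normalizer (Z : Set Γ) ∧ FixW Z g χ}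
  one_mem' := ⟨Subgroup.one_mem _, fun z _ => by simp⟩
  mul_mem' := by
    rintro g h ⟨hg, hg'⟩ ⟨hh, hh'⟩
    refine ⟨Subgroup.mul_mem _ hg hh, ?_⟩
    intro z hz
    have h1 : (g * h)⁻¹ * z * (g * h) = h⁻¹ * (g⁻¹ * z * g) * h := by group
    rw [h1, hh' _ (conj_inv_mem_of_normalizer hg hz), hg' z hz]
  inv_mem' := by
    rintro g ⟨hg, hg'⟩
    refine ⟨Subgroup.inv_mem _ hg, ?_⟩
    intro z hz
    have h1 := hg' _ (conj_mem_of_normalizer hg hz)
    have h2 : g⁻¹ * (g * z * g⁻¹) * g = z := by group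
    rw [h2] at h1
    rw [inv_inv]
    exact h1.symm

theorem mem_stabW {Z : Subgroup Γ} {χ : Γ → K} {g : Γ} :
    g ∈ stabW Z χ ↔ g ∈ Subgroup.normalizer (Z : Set Γ) ∧ FixW Z g χ := Iff.rfl

theorem wtS_congr {Z : Subgroup Γ} {χ χ' : Γ → K} (h : ∀ z ∈ Z, χ z = χ' z) :
    wtS ρ Z χ = wtS ρ Z χ' := by
  ext w
  rw [mem_wtS, mem_wtS]
  constructor
  · intro hw z hz
    rw [hw z hz, h z hz]
  · intro hw z hz
    rw [hw z hz, h z hz]

theorem map_wtS_of_mem_stabW {Z : Subgroup Γ} {g : Γ} {χ : Γ → K} (hg : g ∈ stabW Z χ)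
    {w : W} (hw : w ∈ wtS ρ Z χ) : ρ g w ∈ wtS ρ Z χ := by
  have h1 := map_wtS ρ hg.1 hw
  rwa [wtS_congr ρ (χ := cj g χ) (χ' := χ) (fun z hz => hg.2 z hz)] at h1

/-- multiplicativity of an occurring weight -/
theorem chi_mul {Z : Subgroup Γ} {χ : Γ → K} {w : W} (hw : w ∈ wtS ρ Z χ) (hw0 : w ≠ 0)
    {z z' : Γ} (hz : z ∈ Z) (hz' : z' ∈ Z) : χ (z * z') = χ z * χ z' := by
  rw [mem_wtS] at hw
  have h1 := hw _ (Z.mul_mem hz hz')
  rw [rho_mul_apply, hw z' hz', map_smul, hw z hz, smul_smul] at h1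
  have h2 : (χ z' * χ z - χ (z * z')) • w = 0 := by rw [sub_smul, h1, sub_self]
  rcases smul_eq_zero.1 h2 with h3 | h3
  · rw [mul_comm]; exact (sub_eq_zero.1 h3).symm
  · exact absurd h3 hw0

theorem chi_one {Z : Subgroup Γ} {χ : Γ → K} {w : W} (hw : w ∈ wtS ρ Z χ) (hw0 : w ≠ 0) :
    χ 1 = 1 := by
  rw [mem_wtS] at hw
  have h1 := hw 1 Z.one_mem
  rw [rho_one_apply] at h1
  have h2 : (1 - χ 1) • w = 0 := by rw [sub_smul, one_smul, ← h1, sub_self]
  rcases smul_eq_zero.1 h2 with h3 | h3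
  · exact (sub_eq_zero.1 h3).symm
  · exact absurd h3 hw0

theorem chi_pow {Z : Subgroup Γ} {χ : Γ → K} {w : W} (hw : w ∈ wtS ρ Z χ) (hw0 : w ≠ 0)
    {z : Γ} (hz : z ∈ Z) (n : ℕ) : χ (z ^ n) = χ z ^ n := by
  induction n with
  | zero => rw [pow_zero, pow_zero]; exact chi_one ρ hw hw0
  | succ n ih =>
    rw [pow_succ, chi_mul ρ hw hw0 (Z.pow_mem hz n) hz, ih, pow_succ]

end Basic

section Decomp

variable {K : Type uK} [Field K] {W : Type uW} [AddCommGroup W] [Module K W]
variable {Γ : Type u} [Group Γ]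
variable (ρ : Γ →* Module.End K W)

theorem famS_commute (Z : Subgroup Γ) (hZ : ∀ a ∈ Z, ∀ b ∈ Z, a * b = b * a) :
    ∀ i j : Z, Commute (ρ (i : Γ)) (ρ (j : Γ)) := by
  intro i j
  show ρ (i : Γ) * ρ (j : Γ) = ρ (j : Γ) * ρ (i : Γ)
  rw [← map_mul, ← map_mul, hZ i i.2 j j.2]

theorem famS_semisimple [FiniteDimensional K W] [Finite Γ] (Z : Subgroup Γ) (s : ℕ)
    [Fact s.Prime] (hZ : IsPGroup s Z) (hsK : (s : K) ≠ 0) :
    ∀ i : Z, (ρ (i : Γ)).IsSemisimple := by
  intro i
  obtain ⟨k, hk⟩ := hZ i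
  have hk' : (i : Γ) ^ (s ^ k) = 1 := by
    have := congrArg Subtype.val hk
    simpa using this
  apply isSemisimple_of_pow_eq_one (ρ (i : Γ)) (s ^ k)
  · rw [Nat.cast_pow]; exact pow_ne_zero _ hsK
  · rw [← map_pow, hk', map_one]

theorem iSup_wtS_eq_top [IsAlgClosed K] [FiniteDimensional K W] (Z : Subgroup Γ)
    (hcomm : ∀ i j : Z, Commute (ρ (i : Γ)) (ρ (j : Γ)))
    (hss : ∀ i : Z, (ρ (i : Γ)).IsSemisimple) :
    ⨆ χ : Γ → K, wtS ρ Z χ = ⊤ := by
  classical
  have h := iSup_wt_eq_top (fun z : Z => ρ (z : Γ)) hcomm hss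
  rw [eq_top_iff, ← h]
  apply iSup_le
  intro χ₀
  refine le_trans ?_ (le_iSup (fun χ : Γ → K => wtS ρ Z χ)
    (fun x => if hx : x ∈ Z then χ₀ ⟨x, hx⟩ else 0))
  intro w hw
  rw [mem_wtS]
  rw [mem_wt] at hw
  intro z hz
  rw [dif_pos hz]
  exact hw ⟨z, hz⟩

theorem ext_of_wtS {Z : Subgroup Γ} (htop : ⨆ χ : Γ → K, wtS ρ Z χ = ⊤) {A B : Module.End K W}
    (h : ∀ χ : Γ → K, ∀ w ∈ wtS ρ Z χ, A w = B w) : A = B := by
  have h1 : (⊤ : Submodule K W) ≤ LinearMap.eqLocus A B := by
    rw [← htop]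
    apply iSup_le
    intro χ w hw
    exact h χ w hw
  apply LinearMap.ext
  intro w
  exact h1 (Submodule.mem_top : w ∈ ⊤)

/-- the twisting relation for a normalizing element -/
theorem rho_twist {Z : Subgroup Γ} {g : Γ} (hg : g ∈ Subgroup.normalizer (Z : Set Γ)) (i : Z) :
    ρ g * ρ (i : Γ) = ρ ((conjPerm Z g hg i : Z) : Γ) * ρ g := by
  rw [conjPerm_apply, ← map_mul, ← map_mul]
  congr 1
  group

theorem twist_conjPerm {Z : Subgroup Γ} {g : Γ} (hg : g ∈ Subgroup.normalizer (Z : Set Γ))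
    (χ : Γ → K) :
    twist (conjPerm Z g hg) (fun z : Z => χ (z : Γ)) = fun z : Z => cj g χ (z : Γ) := by
  funext z
  rfl

/-- a weight vector moved by an element `g` of prime order `p`: the sum over the orbit
vanishes only if the vector does -/
theorem sum_pow_eq_zero_of_moved {Z : Subgroup Γ}
    (hcomm : ∀ i j : Z, Commute (ρ (i : Γ)) (ρ (j : Γ))) {g : Γ}
    (hg : g ∈ Subgroup.normalizer (Z : Set Γ)) (p : ℕ) (hp : p.Prime) (hgp : g ^ p = 1)
    {χ : Γ → K} (hmoved : ¬ FixW Z g χ) {v : W} (hv : v ∈ wtS ρ Z χ)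
    (hsum : ∑ i ∈ Finset.range p, ((ρ g) ^ i) v = 0) : v = 0 := by
  set σ := conjPerm Z g hg with hσ
  set χ₀ : Z → K := fun z : Z => χ (z : Γ) with hχ₀
  have hσp : σ ^ p = 1 := by
    apply Equiv.ext
    intro a
    apply Subtype.ext
    rw [hσ, conjPerm_pow_apply, hgp]
    simp
  have hπp : (twist (K := K) σ)^[p] χ₀ = χ₀ := by
    rw [twist_iterate, hσp]
    rfl
  have hπ1 : twist (K := K) σ χ₀ ≠ χ₀ := by
    intro h
    apply hmoved
    intro z hz
    have h1 := congrFun h ⟨z, hz⟩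
    rw [hσ, hχ₀, twist_conjPerm] at h1
    exact h1
  have hmp : Function.minimalPeriod (twist (K := K) σ) χ₀ = p := by
    have h1 : Function.minimalPeriod (twist (K := K) σ) χ₀ ∣ p :=
      Function.IsPeriodicPt.minimalPeriod_dvd hπp
    rcases (Nat.dvd_prime hp).1 h1 with h2 | h2
    · exfalso
      apply hπ1
      have := Function.isPeriodicPt_minimalPeriod (twist (K := K) σ) χ₀
      rw [h2] at this
      exact this
    · exact h2
  have hinj : ∀ i < p, ∀ j < p, (twist (K := K) σ)^[i] χ₀ = (twist (K := K) σ)^[j] χ₀ → i = j := by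
    intro i hi j hj hij
    have := Function.iterate_injOn_Iio_minimalPeriod (f := twist (K := K) σ) (x := χ₀)
    rw [hmp] at this
    exact this (Set.mem_Iio.2 hi) (Set.mem_Iio.2 hj) hij
  exact sum_pow_eq_zero_imp hcomm (ρ g) σ (fun i => rho_twist ρ hg i) χ₀ p hp.pos hinj v hv hsum

/-- the orbit sum of a vector under an element of order dividing `p` is fixed -/
theorem rho_sum_pow_fixed {g : Γ} (p : ℕ) (hp : 0 < p) (hgp : g ^ p = 1) (v : W) :
    ρ g (∑ i ∈ Finset.range p, ((ρ g) ^ i) v) = ∑ i ∈ Finset.range p, ((ρ g) ^ i) v := by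
  rw [map_sum]
  have h1 : ∀ i, ρ g (((ρ g) ^ i) v) = ((ρ g) ^ (i + 1)) v := by
    intro i
    rw [pow_succ', Module.End.mul_apply]
  simp only [h1]
  obtain ⟨t', rfl⟩ : ∃ t', p = t' + 1 := ⟨p - 1, by omega⟩
  have hXt : ((ρ g) ^ (t' + 1)) v = v := by
    rw [← map_pow, hgp, map_one]; rfl
  rw [Finset.sum_range_succ (fun i => ((ρ g) ^ (i + 1)) v) t', hXt,
    Finset.sum_range_succ' (fun i => ((ρ g) ^ i) v) t']
  simp

end Decomp

section LT

variable {K : Type uK} [Field K] [IsAlgClosed K] {W : Type uW} [AddCommGroup W] [Module K W]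
  [FiniteDimensional K W]

/-- **Linear Thompson lemma.** -/
theorem linThompson (s p : ℕ) [Fact s.Prime] (hp : p.Prime) (hsK : (s : K) ≠ 0) :
    ∀ (n : ℕ) (Q : Type u) [Group Q] [Finite Q], Nat.card Q ≤ n → IsPGroup s Q →
      ∀ (ρ : Q →* Module.End K W) (τ : MulAut Q) (D : Module.End K W), D ^ p = 1 → τ ^ p = 1 →
        (∀ x, D * ρ x = ρ (τ x) * D) → (∀ x, τ x = x → x = 1) → (∀ w, D w = w → w = 0) →
        ∀ x, ρ x = 1 := by
  intro n
  induction n with
  | zero =>
    intro Q _ _ hcard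
    have : 0 < Nat.card Q := Nat.card_pos
    omega
  | succ n ih =>
    intro Q _ _ hcard hQ ρ τ D hDp hτp hX hfpf hfix
    by_cases hsub : Subsingleton Q
    · intro x
      rw [Subsingleton.elim x 1, map_one]
    rw [not_subsingleton_iff_nontrivial] at hsub
    haveI := hsub
    set Z : Subgroup Q := Subgroup.center Q with hZ
    haveI hZnt : Nontrivial Z := hQ.center_nontrivial
    have hZc : Z.Characteristic := inferInstance
    have hM : ∀ x, τ x ∈ Z ↔ x ∈ Z := fun x => SG.char_mem_iff hZc τ x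
    set σm : MulAut Z := SG.restrictAut τ Z hM with hσm
    set σ : Equiv.Perm Z := σm.toEquiv with hσ
    have hσapp : ∀ y : Z, ((σ y : Z) : Q) = τ y := fun y => rfl
    have hcomm : ∀ i j : Z, Commute (ρ (i : Q)) (ρ (j : Q)) := by
      intro i j
      show ρ (i : Q) * ρ (j : Q) = ρ (j : Q) * ρ (i : Q)
      rw [← map_mul, ← map_mul, (Subgroup.mem_center_iff.1 j.2 (i : Q)).symm]
    have hss : ∀ i : Z, (ρ (i : Q)).IsSemisimple := by
      intro i
      obtain ⟨k, hk⟩ := hQ (i : Q)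
      apply isSemisimple_of_pow_eq_one (ρ (i : Q)) (s ^ k)
      · rw [Nat.cast_pow]; exact pow_ne_zero _ hsK
      · rw [← map_pow, hk, map_one]
    have htop := iSup_wt_eq_top (fun z : Z => ρ (z : Q)) hcomm hss
    have hXf : ∀ i : Z, D * ρ (i : Q) = ρ ((σ i : Z) : Q) * D := fun i => hX i
    have hσp : σ ^ p = 1 := by
      apply Equiv.ext
      intro a
      apply Subtype.ext
      have h0 : ∀ (k : ℕ) (a : Z), ((σ ^ k) a : Z) = ((σm ^ k) a : Z) := by
        intro k
        induction k with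
        | zero => intro a; rfl
        | succ k ihk =>
          intro a
          rw [pow_succ, pow_succ, Equiv.Perm.mul_apply, MulAut.mul_apply]
          exact ihk (σm a)
      rw [h0 p a, hσm, SG.restrictAut_pow_apply, hτp]
      rfl
    -- the fixed point free map on the centre is onto
    have hsurj : ∀ z : Z, ∃ y : Z, z = y⁻¹ * σm y := by
      have hfpfZ : ∀ y : Z, σm y = y → y = 1 := by
        intro y hy
        have h1 : τ y = y := congrArg Subtype.val hy
        exact Subtype.ext (hfpf _ h1)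
      have hinj := SG.fpf_inj σm hfpfZ
      have hs := Finite.surjective_of_injective hinj
      intro z
      obtain ⟨y, hy⟩ := hs z
      exact ⟨y, hy.symm⟩
    -- the centre acts trivially
    have hZtriv : ∀ z : Z, ρ (z : Q) = 1 := by
      intro z
      apply ext_of_wt htop
      intro χ₀ w hw
      rw [Module.End.one_apply]
      by_cases hw0 : w = 0
      · rw [hw0, map_zero]
      have hfixχ : twist (K := K) σ χ₀ = χ₀ := by
        by_contra hne
        have hπp : (twist (K := K) σ)^[p] χ₀ = χ₀ := by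
          rw [twist_iterate, hσp]
          rfl
        have hmp : Function.minimalPeriod (twist (K := K) σ) χ₀ = p := by
          have h1 : Function.minimalPeriod (twist (K := K) σ) χ₀ ∣ p :=
            Function.IsPeriodicPt.minimalPeriod_dvd hπp
          rcases (Nat.dvd_prime hp).1 h1 with h2 | h2
          · exfalso
            apply hne
            have := Function.isPeriodicPt_minimalPeriod (twist (K := K) σ) χ₀
            rw [h2] at this
            exact this
          · exact h2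
        have hinj : ∀ i < p, ∀ j < p,
            (twist (K := K) σ)^[i] χ₀ = (twist (K := K) σ)^[j] χ₀ → i = j := by
          intro i hi j hj hij
          have := Function.iterate_injOn_Iio_minimalPeriod (f := twist (K := K) σ) (x := χ₀)
          rw [hmp] at this
          exact this (Set.mem_Iio.2 hi) (Set.mem_Iio.2 hj) hij
        obtain ⟨w', hw'0, hw'⟩ := exists_fixed_of_orbit hcomm D σ hXf χ₀ p hp.pos hinj w hw hw0
          (by rw [hDp]; rfl)
        exact hw'0 (hfix w' hw')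
      have hχσ : ∀ y : Z, χ₀ (σ y) = χ₀ y := by
        intro y
        have h1 := congrFun hfixχ (σ y)
        simp only [twist, Function.comp_apply, Equiv.symm_apply_apply] at h1
        exact h1.symm
      obtain ⟨y, hy⟩ := hsurj z
      have hyz : (y : Q) * (z : Q) = τ y := by
        have h1 : (z : Q) = ((y⁻¹ * σm y : Z) : Q) := congrArg Subtype.val hy
        rw [h1]
        show (y : Q) * ((y : Q)⁻¹ * τ y) = τ y
        group
      rw [mem_wt] at hw
      have h2 : ρ (y : Q) (ρ (z : Q) w) = ρ (y : Q) w := by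
        rw [← Module.End.mul_apply, ← map_mul, hyz]
        have h3 := hw (σ y)
        rw [hσapp] at h3
        rw [h3, hχσ y, ← hw y]
      exact rho_injective ρ _ h2
    -- pass to the quotient by the centre
    have hker : Z ≤ ρ.ker := by
      intro z hz
      rw [MonoidHom.mem_ker]
      exact hZtriv ⟨z, hz⟩
    set ρ' : Q ⧸ Z →* Module.End K W := QuotientGroup.lift Z ρ hker with hρ'
    set τ' : MulAut (Q ⧸ Z) := SG.quotAut τ Z hM with hτ'
    have hcardZ : 2 ≤ Nat.card Z := by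
      have := (Finite.one_lt_card_iff_nontrivial (α := Z)).2 hZnt
      omega
    have hcard' : Nat.card (Q ⧸ Z) ≤ n := by
      have h1 := Subgroup.card_eq_card_quotient_mul_card_subgroup Z
      have h2 : 0 < Nat.card (Q ⧸ Z) := Nat.card_pos
      nlinarith
    have hQ' : IsPGroup s (Q ⧸ Z) := hQ.to_quotient Z
    have hτ'p : τ' ^ p = 1 := by
      apply SG.quotAut_pow_eq_one
      intro x
      rw [hτp, MulAut.one_apply, inv_mul_cancel]
      exact Z.one_mem
    have hX' : ∀ x, D * ρ' x = ρ' (τ' x) * D := by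
      intro x
      induction x using QuotientGroup.induction_on with
      | H g => exact hX g
    have hfpf' : ∀ x, τ' x = x → x = 1 := SG.quotAut_fpf τ hfpf Z hM
    have hres := ih (Q ⧸ Z) hcard' hQ' ρ' τ' D hDp hτ'p hX' hfpf' hfix
    intro x
    exact hres (QuotientGroup.mk x)

end LT

end Cfsg.Agent.Lib.Helper56.Ward
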