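import Cfsg.Prelude
import Cfsg.Agent.Lib.Helper54.SylowLib

set_option autoImplicit false

namespace Cfsg.Agent.Lib.Helper56

open Cfsg
open Cfsg.Agent.Lib.Helper54

theorem map_conj_map_conj {G : Type*} [Group G] (a b : G) (K : Subgroup G) :
    (K.map (MulAut.conj b).toMonoidHom).map (MulAut.conj a).toMonoidHom
      = K.map (MulAut.conj (a * b)).toMonoidHom := by
  rw [Subgroup.map_map]
  congr 1
  ext y
  simp [MulAut.conj_apply, mul_assoc]

theorem mem_map_conj_iff {G : Type*} [Group G] (g x : G) (K : Subgroup G) :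
    x ∈ K.map (MulAut.conj g).toMonoidHom ↔ g⁻¹ * x * g ∈ K := by
  constructor
  · rintro ⟨k, hk, rfl⟩
    simpa [MulAut.conj_apply, mul_assoc] using hk
  · intro h
    exact ⟨g⁻¹ * x * g, h, by simp [MulAut.conj_apply, mul_assoc]⟩

/-- If `Q.map (conj g) = Q` then `g` normalizes `Q`. -/
theorem mem_normalizer_of_map_conj_eq {G : Type*} [Group G] (g : G) (Q : Subgroup G)
    (h : Q.map (MulAut.conj g).toMonoidHom = Q) : g ∈ Subgroup.normalizer (Q : Set G) := by
  rw [Subgroup.mem_normalizer_iff]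
  intro x
  constructor
  · intro hx
    rw [← h]
    exact ⟨x, hx, by simp [MulAut.conj_apply]⟩
  · intro hx
    rw [← h, mem_map_conj_iff] at hx
    have e : g⁻¹ * (g * x * g⁻¹) * g = x := by group
    rwa [e] at hx

/-- A weakly closed subgroup `Q` is the only conjugate of itself inside any `p`-subgroup
containing it. -/
theorem weaklyClosed_conj_eq {H : Type*} [Group H] [Finite H] {p : ℕ} [Fact p.Prime]
    (Q : Subgroup H) (hwc : Cfsg.IsWeaklyClosedSubgroup p Q) (Y : Subgroup H)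
    (hY : IsPGroup p ↥Y) (hQY : Q ≤ Y) (g : H)
    (hg : Q.map (MulAut.conj g).toMonoidHom ≤ Y) :
    Q.map (MulAut.conj g).toMonoidHom = Q := by
  obtain ⟨T, hQT, hT⟩ := hwc
  obtain ⟨T', hYT'⟩ := hY.exists_le_sylow
  obtain ⟨h, hh⟩ := sylow_exists_conj T T'
  have hA : Q.map (MulAut.conj h⁻¹).toMonoidHom = Q := by
    apply hT
    intro x hx
    rw [mem_map_conj_iff] at hx
    have h1 : h⁻¹⁻¹ * x * h⁻¹ ∈ (T' : Subgroup H) := hYT' (hQY hx)
    rw [hh, mem_map_conj_iff] at h1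
    have e : h⁻¹ * (h⁻¹⁻¹ * x * h⁻¹) * h = x := by group
    rwa [e] at h1
  have hB : Q.map (MulAut.conj (h⁻¹ * g)).toMonoidHom = Q := by
    apply hT
    intro x hx
    rw [mem_map_conj_iff] at hx
    have h1 : g * ((h⁻¹ * g)⁻¹ * x * (h⁻¹ * g)) * g⁻¹ ∈ (T' : Subgroup H) := by
      apply hYT'
      apply hg
      exact ⟨_, hx, by simp [MulAut.conj_apply]⟩
    rw [hh, mem_map_conj_iff] at h1
    have e : h⁻¹ * (g * ((h⁻¹ * g)⁻¹ * x * (h⁻¹ * g)) * g⁻¹) * h = x := by group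
    rwa [e] at h1
  rw [← map_conj_map_conj] at hB
  have hinj : Function.Injective (MulAut.conj h⁻¹).toMonoidHom := (MulAut.conj h⁻¹).injective
  apply Subgroup.map_injective hinj
  rw [hB, hA]

/-- A weakly closed `p`-subgroup `Q` is normalized by every `p`-subgroup that it normalizes. -/
theorem le_normalizer_of_weaklyClosed {H : Type*} [Group H] [Finite H] {p : ℕ} [Fact p.Prime]
    (Q : Subgroup H) (hQp : IsPGroup p ↥Q) (hwc : Cfsg.IsWeaklyClosedSubgroup p Q)
    (B : Subgroup H) (hB : IsPGroup p ↥B) (hQB : Q ≤ Subgroup.normalizer (B : Set H)) :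
    B ≤ Subgroup.normalizer (Q : Set H) := by
  have hY : IsPGroup p ↥(Q ⊔ B : Subgroup H) := IsPGroup.to_sup_of_normal_right' hQp hB hQB
  intro b hb
  apply mem_normalizer_of_map_conj_eq
  apply weaklyClosed_conj_eq Q hwc (Q ⊔ B) hY le_sup_left
  intro x hx
  rw [mem_map_conj_iff] at hx
  have hbY : b ∈ Q ⊔ B := (le_sup_right : B ≤ Q ⊔ B) hb
  have hxY : b⁻¹ * x * b ∈ Q ⊔ B := (le_sup_left : Q ≤ Q ⊔ B) hx
  have e : x = b * (b⁻¹ * x * b) * b⁻¹ := by group
  rw [e]
  exact (Q ⊔ B).mul_mem ((Q ⊔ B).mul_mem hbY hxY) ((Q ⊔ B).inv_mem hbY)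

end Cfsg.Agent.Lib.Helper56
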